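import Cfsg.Statements.S3224
import Cfsg.Agent.Lib.H58.MaxCent
import Cfsg.Agent.Lib.H76.MaxClass
-- import your own Cfsg.Agent.* helpers here

set_option autoImplicit false
open Cfsg

namespace Cfsg.Agent.S3224

/-- A finite 2-group containing an involution whose centralizer has order 4 is dihedral, quasi-dihedral (semidihedral), or of order 4. -/
theorem result {S : Type*} [Group S] [Finite S] (hS : IsPGroup 2 S)
    (x : S) (hx : orderOf x = 2) (hC : Nat.card ↥(Subgroup.centralizer ({x} : Set S)) = 4) :
    (∃ n : ℕ, Nonempty (S ≃* DihedralGroup n)) ∨ Cfsg.IsQuasiDihedral S ∨ Nat.card S = 4 := by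
  have h2 : Fact (Nat.Prime 2) := ⟨Nat.prime_two⟩
  by_cases h4 : Nat.card S = 4
  · exact Or.inr (Or.inr h4)
  have hidx : (commutator S).index = 4 := H58.MaxCent.commutator_index (p := 2) hS x (by rw [hC]; norm_num)
  rcases H76.MaxClass.trichotomy hS hidx h4 with ⟨k, hk⟩ | ⟨k, hk, a, b, ha, hb, hab, hbn, hi⟩ | ⟨k, ⟨e⟩⟩
  · exact Or.inl ⟨_, hk⟩
  · refine Or.inr (Or.inl ⟨k + 3, by omega, hk, a, b, ha, hb, ?_⟩)
    rw [hab]
    congr 1
  · -- quaternion: the involution is central
    exfalso
    have hyx : orderOf (e x) = 2 := by rw [MulEquiv.orderOf_eq, hx]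
    have hcen : ∀ y : QuaternionGroup (2 ^ (k + 1)), orderOf y = 2 → ∀ g, g * y = y * g := by
      intro y hy g
      have hy2 : y * y = 1 := by
        have h8 := pow_orderOf_eq_one y
        rwa [hy, pow_two] at h8
      rcases y with i | i
      · rw [QuaternionGroup.a_mul_a, QuaternionGroup.one_def, QuaternionGroup.a.injEq] at hy2
        rcases g with j | j
        · rw [QuaternionGroup.a_mul_a, QuaternionGroup.a_mul_a]
          exact congrArg QuaternionGroup.a (add_comm _ _)
        · rw [QuaternionGroup.xa_mul_a, QuaternionGroup.a_mul_xa]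
          congr 1
          have : i = -i := eq_neg_of_add_eq_zero_left hy2
          rw [sub_eq_add_neg, ← this]
      · exfalso
        rw [QuaternionGroup.xa_mul_xa, QuaternionGroup.one_def, QuaternionGroup.a.injEq] at hy2
        rw [add_sub_cancel_right] at hy2
        have h5 : ((2 ^ (k + 1) : ℕ) : ZMod (2 * 2 ^ (k + 1))) = 0 := hy2
        rw [ZMod.natCast_eq_zero_iff] at h5
        have h6 := Nat.le_of_dvd (by positivity) h5
        have h7 : 0 < 2 ^ (k + 1) := by positivity
        omega
    have h5 : Subgroup.centralizer ({x} : Set S) = ⊤ := by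
      rw [eq_top_iff]
      intro g _
      rw [Subgroup.mem_centralizer_singleton_iff]
      apply e.injective
      rw [map_mul, map_mul]
      exact hcen (e x) hyx (e g)
    rw [h5, Subgroup.card_top] at hC
    exact h4 hC


end Cfsg.Agent.S3224
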