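import Cfsg.Statements.S3225
import Cfsg.Agent.Lib.H58.TransferTwo

set_option autoImplicit false
open Cfsg

namespace Cfsg.Agent.S3225

/-- Let G be a finite group of even order with no subgroup of index 2, S a Sylow 2-subgroup of G and M a subgroup of index 2 in S such that, for some n ≥ 1, every element of S outside M has order greater than 2^(n−1). Then every element of S of order 2ⁿ is conjugate in G to an element of M. -/
theorem result {G : Type*} [Group G] [Finite G] (hev : Even (Nat.card G))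
    (hG : ∀ H : Subgroup G, H.index ≠ 2) (S : Sylow 2 G) (M : Subgroup G) (hMS : M ≤ (S : Subgroup G)) (hM : M.relIndex (S : Subgroup G) = 2)
    (n : ℕ) (hn : 1 ≤ n) (hord : ∀ y ∈ (S : Subgroup G), y ∉ M → 2 ^ (n - 1) < orderOf y)
    (x : G) (hx : x ∈ (S : Subgroup G)) (hxn : orderOf x = 2 ^ n) :
    ∃ g : G, g * x * g⁻¹ ∈ M := by
  by_contra hcon
  push Not at hcon
  suffices hkey : ∀ r : ℕ, 2 ∣ r → ∀ g : G, g⁻¹ * x ^ r * g ∈ (S : Subgroup G) → g⁻¹ * x ^ r * g ∈ M by
    obtain ⟨H, -, hH⟩ := H58.TransferTwo.exists_index_two S M hM x hx hkey hcon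
    exact hG H hH
  intro r hr g hg
  by_contra hgM
  have h1 := hord _ hg hgM
  have h2 : (g⁻¹ * x ^ r * g) ^ (2 ^ (n - 1)) = 1 := by
    have h3 : (g⁻¹ * x ^ r * g) ^ (2 ^ (n - 1)) = g⁻¹ * (x ^ r) ^ (2 ^ (n - 1)) * g := by
      have := conj_pow (i := 2 ^ (n - 1)) (a := g⁻¹) (b := x ^ r)
      simpa using this
    rw [h3, ← pow_mul]
    obtain ⟨k, rfl⟩ := hr
    have h4 : 2 * k * 2 ^ (n - 1) = 2 ^ n * k := by
      obtain ⟨m, rfl⟩ : ∃ m, n = m + 1 := ⟨n - 1, by omega⟩
      rw [Nat.add_sub_cancel, pow_succ]; ring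
    rw [h4, pow_mul, ← hxn, pow_orderOf_eq_one, one_pow]
    group
  have h5 := Nat.le_of_dvd (by positivity) (orderOf_dvd_of_pow_eq_one h2)
  omega

end Cfsg.Agent.S3225
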