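import Cfsg.Statements.S0056
import Cfsg.Agent.S0055
import Mathlib.GroupTheory.Perm.Cycle.Type

set_option autoImplicit false
open Cfsg
open scoped commutatorElement

namespace Cfsg.Agent.S0056

/-- A coprime action on an abelian group that fixes all elements of prime order is trivial. -/
theorem result {G : Type*} [Group G] [Finite G] (A V : Subgroup G) [IsMulCommutative V]
    (hAV : A ≤ Subgroup.normalizer (V : Set G)) (hcop : (Nat.card A).Coprime (Nat.card V))
    (hΩ : ∀ v ∈ V, (orderOf v).Prime → ∀ a ∈ A, a * v = v * a) : A ≤ Subgroup.centralizer (V : Set G) := by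
  obtain ⟨h1, -⟩ := Cfsg.Agent.S0055.result A V hAV hcop
  have hVA : ⁅V, A⁆ ≤ V := by
    rw [Subgroup.commutator_le]
    intro v hv a ha
    have h1 := (Subgroup.mem_normalizer_iff.1 (hAV ha) v⁻¹).1 (V.inv_mem hv)
    have : ⁅v, a⁆ = v * (a * v⁻¹ * a⁻¹) := by rw [commutatorElement_def]; group
    rw [this]
    exact V.mul_mem hv h1
  have h2 : ⁅V, A⁆ = ⊥ := by
    by_contra hne
    have hcard : Nat.card (⁅V, A⁆ : Subgroup G) ≠ 1 := fun h => hne (Subgroup.card_eq_one.1 h)
    obtain ⟨p, hp, hpd⟩ := Nat.exists_prime_and_dvd hcard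
    haveI : Fact p.Prime := ⟨hp⟩
    obtain ⟨x, hx⟩ := exists_prime_orderOf_dvd_card' p hpd
    have hxo : orderOf (x : G) = p := by rw [Subgroup.orderOf_coe]; exact hx
    have hxV : (x : G) ∈ V := hVA x.2
    have hxC : (x : G) ∈ Subgroup.centralizer (A : Set G) := by
      rw [Subgroup.mem_centralizer_iff]
      intro a ha
      exact hΩ x hxV (by rw [hxo]; exact hp) a ha
    have : (x : G) ∈ (⊥ : Subgroup G) := by
      rw [← h1]; exact ⟨⟨hxV, hxC⟩, x.2⟩
    rw [Subgroup.mem_bot] at this
    rw [this, orderOf_one] at hxo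
    exact hp.one_lt.ne hxo
  rw [Subgroup.commutator_eq_bot_iff_le_centralizer] at h2
  intro a ha
  rw [Subgroup.mem_centralizer_iff]
  intro v hv
  exact (Subgroup.mem_centralizer_iff.1 (h2 hv) a ha).symm

end Cfsg.Agent.S0056
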