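import Cfsg.Statements.S0068
import Mathlib.GroupTheory.Perm.Cycle.Type

set_option autoImplicit false
open Cfsg

namespace Cfsg.Agent.S0068

/-- Frobenius complements of even order: if H complements a nontrivial normal subgroup K, each nonidentity element of H has trivial centraliser in K, and H has even order, then H contains a unique involution s, K is abelian, and s inverts every element of K. -/
theorem result {G : Type*} [Group G] [Finite G] (K H : Subgroup G) [K.Normal]
    (hc : Subgroup.IsComplement' K H) (hK : K ≠ ⊥) (hfpf : ∀ h ∈ H, h ≠ 1 → K ⊓ Subgroup.centralizer {h} = ⊥)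
    (heven : 2 ∣ Nat.card H) :
    (∃ s ∈ H, orderOf s = 2 ∧ (∀ t ∈ H, orderOf t = 2 → t = s) ∧ ∀ k ∈ K, s * k * s⁻¹ = k⁻¹) ∧ IsMulCommutative K := by
  have hinv : ∀ s ∈ H, orderOf s = 2 → ∀ k ∈ K, s * k * s⁻¹ = k⁻¹ := by
    intro s hs hso
    have hs2 : s * s = 1 := by rw [← pow_two, ← hso, pow_orderOf_eq_one]
    have hs1 : s ≠ 1 := by rintro rfl; simp at hso
    have hbot := hfpf s hs hs1
    let f : K → K := fun k => ⟨(k : G)⁻¹ * (s * k * s⁻¹),
      K.mul_mem (K.inv_mem k.2) ((inferInstance : K.Normal).conj_mem _ k.2 s)⟩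
    have hf : Function.Injective f := by
      intro k l hkl
      have h1 : (k : G)⁻¹ * (s * k * s⁻¹) = (l : G)⁻¹ * (s * l * s⁻¹) := congrArg Subtype.val hkl
      have h2 : (l : G) * (k : G)⁻¹ ∈ K ⊓ Subgroup.centralizer {s} := by
        refine Subgroup.mem_inf.2 ⟨K.mul_mem l.2 (K.inv_mem k.2), ?_⟩
        rw [Subgroup.mem_centralizer_singleton_iff]
        have h3 : (l : G) * (k : G)⁻¹ * s = (l * ((k : G)⁻¹ * (s * k * s⁻¹))) * s * (k : G)⁻¹ := by group
        rw [h3, h1]; group
      rw [hbot, Subgroup.mem_bot, mul_inv_eq_one] at h2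
      exact Subtype.ext h2.symm
    have hsurj := Finite.surjective_of_injective hf
    intro k hk
    obtain ⟨l, hl⟩ := hsurj ⟨k, hk⟩
    have hl' : (l : G)⁻¹ * (s * l * s⁻¹) = k := congrArg Subtype.val hl
    have hsi : s⁻¹ = s := inv_eq_of_mul_eq_one_right hs2
    rw [← hl', hsi]
    calc s * ((l : G)⁻¹ * (s * l * s)) * s = s * (l : G)⁻¹ * s * l * (s * s) := by group
      _ = s * (l : G)⁻¹ * s * l := by rw [hs2, mul_one]
      _ = ((l : G)⁻¹ * (s * l * s))⁻¹ := by
        rw [mul_inv_rev, mul_inv_rev, mul_inv_rev, hsi, inv_inv]; group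
  haveI : Fact (Nat.Prime 2) := ⟨Nat.prime_two⟩
  obtain ⟨s, hs⟩ := exists_prime_orderOf_dvd_card' 2 heven
  have hso : orderOf (s : G) = 2 := by rw [Subgroup.orderOf_coe]; exact hs
  have hsK := hinv s s.2 hso
  refine ⟨⟨s, s.2, hso, ?_, hsK⟩, ?_⟩
  · intro t ht hto
    have htK := hinv t ht hto
    by_contra hne
    have hst : (s : G) * t ≠ 1 := by
      intro h
      apply hne
      have hs2 : (s : G) * s = 1 := by rw [← pow_two, ← hso, pow_orderOf_eq_one]
      have : (s : G) * t = s * s := by rw [h, hs2]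
      exact mul_left_cancel this
    apply hK
    rw [eq_bot_iff, ← hfpf ((s : G) * t) (H.mul_mem s.2 ht) hst]
    intro k hk
    refine Subgroup.mem_inf.2 ⟨hk, ?_⟩
    rw [Subgroup.mem_centralizer_singleton_iff]
    have h1 : (s : G) * t * k = (s * (t * k * t⁻¹) * (s : G)⁻¹) * (s * t) := by group
    rw [h1, htK k hk, hsK _ (K.inv_mem hk), inv_inv]
  · refine ⟨⟨fun a b => ?_⟩⟩
    apply Subtype.ext
    have h1 := hsK _ (K.mul_mem a.2 b.2)
    have h2 : (s : G) * (a * b) * (s : G)⁻¹ = (s * a * (s : G)⁻¹) * (s * b * (s : G)⁻¹) := by group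
    rw [h2, hsK a a.2, hsK b b.2, ← mul_inv_rev, inv_inj] at h1
    exact h1.symm

end Cfsg.Agent.S0068
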