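import Cfsg.Statements.S0069
import Cfsg.Agent.S0040
import Cfsg.Agent.S0056
import Cfsg.Agent.S0068
import Cfsg.Agent.Lib.H2.FrobComp
-- import your own Cfsg.Agent.* helpers here

set_option autoImplicit false
open Cfsg

namespace Cfsg.Agent.S0069

/-- A Frobenius complement has nontrivial centre: if H ≠ 1 complements a nontrivial normal subgroup K and every nonidentity element of H has trivial centraliser in K, then the centre of H is nontrivial. -/
theorem result {G : Type*} [Group G] [Finite G] (K H : Subgroup G) [K.Normal]
    (hc : Subgroup.IsComplement' K H) (hK : K ≠ ⊥) (hH : H ≠ ⊥) (hfpf : ∀ h ∈ H, h ≠ 1 → K ⊓ Subgroup.centralizer {h} = ⊥) :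
    Subgroup.center H ≠ ⊥ := by
  haveI : Nontrivial H := (Subgroup.nontrivial_iff_ne_bot H).2 hH
  by_cases heven : 2 ∣ Nat.card H
  · obtain ⟨⟨s, hs, hso, huniq, -⟩, -⟩ := Cfsg.Agent.S0068.result K H hc hK hfpf heven
    intro hbot
    have hmem : (⟨s, hs⟩ : H) ∈ Subgroup.center H := by
      rw [Subgroup.mem_center_iff]
      rintro ⟨g, hg⟩
      apply Subtype.ext
      show g * s = s * g
      have h1 : orderOf (g * s * g⁻¹) = 2 := by
        have := MulEquiv.orderOf_eq (MulAut.conj g) s
        rw [MulAut.conj_apply] at this
        rw [this, hso]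
      have h2 := huniq _ (H.mul_mem (H.mul_mem hg hs) (H.inv_mem hg)) h1
      exact mul_inv_eq_iff_eq_mul.1 h2
    rw [hbot, Subgroup.mem_bot] at hmem
    have h3 : s = 1 := congrArg Subtype.val hmem
    rw [h3, orderOf_one] at hso
    exact absurd hso (by norm_num)
  · haveI : IsZGroup H := by
      refine ⟨fun p hp P => ?_⟩
      haveI := Fact.mk hp
      rcases Cfsg.Agent.S0040.result K H hc hK hfpf p P with h | ⟨n, ⟨e⟩⟩
      · exact h
      · exfalso
        apply heven
        have h1 : Nat.card P ∣ Nat.card H := Subgroup.card_subgroup_dvd_card _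
        rw [Nat.card_congr e.toEquiv] at h1
        haveI : NeZero (2 ^ n) := ⟨by positivity⟩
        rw [Nat.card_eq_fintype_card, QuaternionGroup.card] at h1
        exact dvd_trans (by rw [show (4 : ℕ) = 2 * 2 from rfl, mul_assoc]; exact dvd_mul_right _ _) h1
    apply H2.FrobComp.center_ne_bot_of_zgroup
    · intro A V _ hAV hcop hΩ
      exact Cfsg.Agent.S0056.result A V hAV hcop hΩ
    · intro A p q hp hq hcard
      have e := A.equivMapOfInjective H.subtype H.subtype_injective
      have hsol : Group.IsSolvable (A.map H.subtype) := by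
        haveI : Group.IsSolvable A := inferInstance
        exact Group.isSolvable_of_surjective (f := e.toMonoidHom) e.surjective
      have h1 : IsCyclic (A.map H.subtype) := by
        apply H2.FrobComp.isCyclic_of_card_eq_mul (A.map H.subtype) K hK _ _ hsol hp hq
        · rw [← hcard]
          exact Nat.card_congr e.symm.toEquiv
        · rw [Subgroup.normalizer_eq_top]; exact le_top
        · intro a ha ha1
          exact hfpf a (Subgroup.map_subtype_le _ ha) ha1
      exact isCyclic_of_surjective e.symm e.symm.surjective

end Cfsg.Agent.S0069
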