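import Cfsg.Statements.S1475
import Cfsg.Agent.Lib.H30.CN2
import Cfsg.Agent.Lib.H2.FrobComp
import Cfsg.Agent.S0041

set_option autoImplicit false
open Cfsg

namespace Cfsg.Agent.S1475

open Subgroup H28.RelSyl H28.RelHall

theorem not_isPrimePow_mul {p q : ℕ} (hp : p.Prime) (hq : q.Prime) (hpq : p ≠ q) : ¬ IsPrimePow (p * q) := by
  intro h
  obtain ⟨r, k, hr, hk, hrk⟩ := h
  have hr' : r.Prime := hr.nat_prime
  have h1 : p ∣ r ^ k := by rw [hrk]; exact dvd_mul_right _ _
  have h2 : q ∣ r ^ k := by rw [hrk]; exact dvd_mul_left _ _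
  have h3 := (Nat.prime_dvd_prime_iff_eq hp hr').1 (hp.dvd_of_dvd_pow h1)
  have h4 := (Nat.prime_dvd_prime_iff_eq hq hr').1 (hq.dvd_of_dvd_pow h2)
  exact hpq (h3.trans h4.symm)

theorem orderOf_ne_mul {G : Type*} [Group G] (h : ∀ g : G, IsPrimePow (orderOf g) ∨ g = 1) {p q : ℕ} (hp : p.Prime) (hq : q.Prime)
    (hpq : p ≠ q) (g : G) : orderOf g ≠ p * q := by
  intro ho
  rcases h g with h1 | h1
  · rw [ho] at h1
    exact not_isPrimePow_mul hp hq hpq h1
  · rw [h1, orderOf_one] at ho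
    have := hp.one_lt
    have := hq.one_lt
    nlinarith

/-- Let G be a finite solvable group such that the order of every element is a prime power (1 included). Then at most two distinct primes divide the order of G. -/
theorem result {G : Type*} [Group G] [Finite G] [Group.IsSolvable G] (h : ∀ g : G, IsPrimePow (orderOf g) ∨ g = 1) :
    (Nat.card G).primeFactors.card ≤ 2 := by
  classical
  by_contra hcon
  push Not at hcon
  have hcard1 : Nat.card G ≠ 1 := by
    intro h1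
    rw [h1, Nat.primeFactors_one, Finset.card_empty] at hcon
    omega
  have hbot : (⊤ : Subgroup G) ≠ ⊥ := by
    intro h1
    apply hcard1
    rw [← Subgroup.card_top, h1, Subgroup.card_bot]
  obtain ⟨N, ⟨hNn, hNbot⟩, hNmin'⟩ := (Set.toFinite {N : Subgroup G | N.Normal ∧ N ≠ ⊥}).exists_minimal
    ⟨⊤, inferInstance, hbot⟩
  have hNmin : ∀ M : Subgroup G, M.Normal → M ≤ N → M = ⊥ ∨ M = N := by
    intro M hM hMN
    by_cases h : M = ⊥
    · exact Or.inl h
    · exact Or.inr (le_antisymm hMN (hNmin' ⟨hM, h⟩ hMN))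
  obtain ⟨p, hp, hNel⟩ := H30.FrobAct.min_elem N inferInstance hNbot hNmin
  have := Fact.mk hp
  have hNab := hNel.1
  -- two further primes
  have h2 : 1 < ((Nat.card G).primeFactors.erase p).card := by
    have := Finset.pred_card_le_card_erase (s := (Nat.card G).primeFactors) (a := p)
    omega
  obtain ⟨q, hq, r, hr, hqr⟩ := Finset.one_lt_card.1 h2
  rw [Finset.mem_erase, Nat.mem_primeFactors] at hq hr
  obtain ⟨K, hK⟩ := exists_isPiHallOf {p}ᶜ (H := (⊤ : Subgroup G)) inferInstance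
  have hKp : ∀ s : ℕ, s.Prime → s ∣ Nat.card K → s ≠ p := fun s hs hd => hK.2.1 s hs hd
  have hdK : ∀ s : ℕ, s.Prime → s ≠ p → s ∣ Nat.card G → s ∣ Nat.card K := by
    intro s hs hsp hd
    have h3 := relIndex_mul_card hK.1
    rw [Subgroup.card_top] at h3
    rw [← h3, hs.dvd_mul] at hd
    exact hd.resolve_left (hK.2.2 s hs hsp)
  have hqK := hdK q hq.2.1 hq.1 hq.2.2.1
  have hrK := hdK r hr.2.1 hr.1 hr.2.2.1
  have hKN : K ≤ normalizer (N : Set G) := by rw [Subgroup.normalizer_eq_top]; exact le_top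
  -- `K` acts fixed point freely on `N`
  have hfpf : ∀ a ∈ K, a ≠ 1 → N ⊓ Subgroup.centralizer {a} = ⊥ := by
    intro a ha ha1
    rw [Subgroup.eq_bot_iff_forall]
    rintro n ⟨hn, hna⟩
    by_contra hn1
    obtain ⟨s, m, hs, hsm⟩ := H30.CN.exists_prime_power ha1
    have hsK : s ∣ Nat.card K := by
      rw [← hsm]
      have := orderOf_dvd_natCard (⟨a ^ m, K.pow_mem ha m⟩ : K)
      rwa [Subgroup.orderOf_mk] at this
    have hsp := hKp s hs hsK
    have hno : orderOf n = p := orderOf_eq_prime (hNel.2 n hn) hn1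
    have hc : Commute (a ^ m) n := ((show Commute n a from mem_centralizer_singleton_iff.1 hna).symm).pow_left m
    have h3 : orderOf (a ^ m * n) = s * p := by
      rw [hc.orderOf_mul_eq_mul_orderOf_of_coprime, hsm, hno]
      rw [hsm, hno]
      exact (Nat.coprime_primes hs hp).2 hsp
    exact orderOf_ne_mul h hs hp hsp _ h3
  -- a minimal normal subgroup of `K`
  have hKbot : K ≠ ⊥ := by
    rintro rfl
    rw [Subgroup.card_bot] at hqK
    exact hq.2.1.one_lt.ne' (Nat.dvd_one.1 hqK)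
  have hKnt : Nontrivial K := (Subgroup.nontrivial_iff_ne_bot K).2 hKbot
  obtain ⟨M, ⟨hMn, hMbot⟩, hMmin'⟩ := (Set.toFinite {M : Subgroup K | M.Normal ∧ M ≠ ⊥}).exists_minimal
    ⟨⊤, inferInstance, top_ne_bot⟩
  have hMmin : ∀ M' : Subgroup K, M'.Normal → M' ≤ M → M' = ⊥ ∨ M' = M := by
    intro M' hM' hMM
    by_cases h : M' = ⊥
    · exact Or.inl h
    · exact Or.inr (le_antisymm hMM (hMmin' ⟨hM', h⟩ hMM))
  obtain ⟨s, hs, hMel⟩ := H30.FrobAct.min_elem M inferInstance hMbot hMmin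
  have := Fact.mk hs
  set M₁ := M.map K.subtype with hM₁
  have hM₁K : M₁ ≤ K := Subgroup.map_subtype_le _
  have hM₁bot : M₁ ≠ ⊥ := by
    intro h0
    exact hMbot ((Subgroup.map_eq_bot_iff_of_injective _ K.subtype_injective).1 h0)
  have hM₁pow : ∀ x ∈ M₁, x ^ s = 1 := by
    rintro _ ⟨x, hx, rfl⟩
    have := hMel.2 x hx
    exact congrArg Subtype.val this
  have hM₁ab : IsMulCommutative M₁ := by
    constructor; constructor
    rintro ⟨_, ⟨x, hx, rfl⟩⟩ ⟨_, ⟨y, hy, rfl⟩⟩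
    have := hMel.1
    have h3 : x * y = y * x := congrArg Subtype.val (mul_comm' (⟨x, hx⟩ : M) ⟨y, hy⟩)
    apply Subtype.ext
    show (x : G) * (y : G) = (y : G) * (x : G)
    exact congrArg Subtype.val h3
  have hM₁N : M₁ ≤ normalizer (N : Set G) := hM₁K.trans hKN
  have hM₁cyc : IsCyclic M₁ := Cfsg.Agent.S0041.result M₁ N hNbot hM₁N (fun a ha ha1 => hfpf a (hM₁K ha) ha1) (Or.inl hM₁ab)
  have hM₁card : Nat.card M₁ = s := by
    obtain ⟨g, hg⟩ := hM₁cyc.exists_generator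
    have h3 : orderOf g = Nat.card M₁ := orderOf_eq_card_of_forall_mem_zpowers hg
    have h4 : g ^ s = 1 := Subtype.ext (hM₁pow g g.2)
    have h5 : Nat.card M₁ ∣ s := by rw [← h3]; exact orderOf_dvd_of_pow_eq_one h4
    rcases (Nat.dvd_prime hs).1 h5 with h6 | h6
    · exact absurd (Subgroup.card_eq_one.1 h6) hM₁bot
    · exact h6
  have hsK : s ∣ Nat.card K := by rw [← hM₁card]; exact Subgroup.card_dvd_of_le hM₁K
  have hsp := hKp s hs hsK
  -- an element of order `t ≠ s`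
  obtain ⟨t, ht, hts, htK⟩ : ∃ t : ℕ, t.Prime ∧ t ≠ s ∧ t ∣ Nat.card K := by
    by_cases hqs : q = s
    · exact ⟨r, hr.2.1, fun h0 => hqr (hqs.trans h0.symm), hrK⟩
    · exact ⟨q, hq.2.1, hqs, hqK⟩
  have := Fact.mk ht
  obtain ⟨y, hy⟩ := exists_prime_orderOf_dvd_card' (G := K) t htK
  have hyo : orderOf (y : G) = t := by rw [Subgroup.orderOf_coe]; exact hy
  have hYM : Subgroup.zpowers (y : G) ≤ normalizer (M₁ : Set G) := by
    rw [Subgroup.zpowers_le]
    have h3 : K ≤ normalizer (M₁ : Set G) := by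
      apply H1.Coprime.le_normalizer_of_conj_mem
      rintro k hk _ ⟨w, hw, rfl⟩
      exact ⟨⟨k, hk⟩ * w * ⟨k, hk⟩⁻¹, hMn.conj_mem w hw _, rfl⟩
    exact h3 y.2
  have hcardY : Nat.card (Subgroup.zpowers (y : G)) = t := by rw [Nat.card_zpowers, hyo]
  have hinf : Subgroup.zpowers (y : G) ⊓ M₁ = ⊥ := by
    apply H1.Coprime.inf_eq_bot_of_coprime_card
    rw [hcardY, hM₁card]
    exact (Nat.coprime_primes ht hs).2 hts
  have hcardA : Nat.card (Subgroup.zpowers (y : G) ⊔ M₁ : Subgroup G) = t * s := by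
    have h3 := card_sup_mul_card_inf hYM
    rw [hinf, Subgroup.card_bot, mul_one, hcardY, hM₁card] at h3
    exact h3
  have hAK : Subgroup.zpowers (y : G) ⊔ M₁ ≤ K := sup_le ((Subgroup.zpowers_le).2 y.2) hM₁K
  have hcyc := H2.FrobComp.isCyclic_of_card_eq_mul (Subgroup.zpowers (y : G) ⊔ M₁) N hNbot (hAK.trans hKN)
    (fun a ha ha1 => hfpf a (hAK ha) ha1) inferInstance ht hs hcardA
  obtain ⟨g, hg⟩ := hcyc.exists_generator
  have h3 : orderOf g = t * s := by rw [← hcardA]; exact orderOf_eq_card_of_forall_mem_zpowers hg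
  rw [← Subgroup.orderOf_coe] at h3
  exact orderOf_ne_mul h ht hs hts _ h3

end Cfsg.Agent.S1475
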