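import Cfsg.Statements.S3992
import Cfsg.Agent.Lib.H69.ThreePrimes
import Cfsg.Agent.Lib.H63.MinNormalFactor
import Cfsg.Agent.Lib.H73.SolvSmall
import Cfsg.Agent.Lib.H4.Burnside

set_option autoImplicit false
open Cfsg

namespace Cfsg.Agent.S3992

open Subgroup
open scoped commutatorElement

/-- no mixed orders -/
theorem no_mixed {G : Type*} [Group G] [Finite G] (hpp : ∀ g : G, g ≠ 1 → IsPrimePow (orderOf g))
    {p q : ℕ} (hp : p.Prime) (hq : q.Prime) (hpq : p ≠ q) (g : G) : orderOf g ≠ p * q := by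
  intro h
  have hg : g ≠ 1 := by
    rintro rfl
    rw [orderOf_one] at h
    exact hp.one_lt.ne' (Nat.dvd_one.1 ⟨q, h⟩)
  obtain ⟨r, k, hr, -, hk⟩ := hpp g hg
  have hr' : r.Prime := hr.nat_prime
  have h1 : p ∣ r ^ k := by rw [hk, h]; exact dvd_mul_right _ _
  have h2 : q ∣ r ^ k := by rw [hk, h]; exact dvd_mul_left _ _
  exact hpq (((Nat.prime_dvd_prime_iff_eq hp hr').1 (hp.dvd_of_dvd_pow h1)).trans
    ((Nat.prime_dvd_prime_iff_eq hq hr').1 (hq.dvd_of_dvd_pow h2)).symm)

theorem not_commute {G : Type*} [Group G] [Finite G] (hpp : ∀ g : G, g ≠ 1 → IsPrimePow (orderOf g))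
    {p q : ℕ} (hp : p.Prime) (hq : q.Prime) (hpq : p ≠ q) {x y : G} (hx : orderOf x = p)
    (hy : orderOf y = q) : ¬ x * y = y * x := by
  intro h
  apply no_mixed hpp hp hq hpq (x * y)
  have h1 : Commute x y := h
  rw [h1.orderOf_mul_eq_mul_orderOf_of_coprime, hx, hy]
  rw [hx, hy]
  exact (Nat.coprime_primes hp hq).2 hpq

theorem le_two {G : Type*} [Group G] [Finite G] (hpp : ∀ g : G, g ≠ 1 → IsPrimePow (orderOf g))
    (H : Subgroup G) (hH : Group.IsSolvable ↥H) : (Nat.card ↥H).primeFactors.card ≤ 2 := by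
  by_contra hcon
  rw [not_le, Finset.two_lt_card] at hcon
  obtain ⟨p, hp, q, hq, r, hr, hpq, hpr, hqr⟩ := hcon
  have hp' := Nat.prime_of_mem_primeFactors hp
  have hq' := Nat.prime_of_mem_primeFactors hq
  have hr' := Nat.prime_of_mem_primeFactors hr
  obtain ⟨g, hg⟩ := H69.ThreePrimes.three_primes hH hp' hq' hr' hpq hpr hqr (Nat.dvd_of_mem_primeFactors hp)
    (Nat.dvd_of_mem_primeFactors hq) (Nat.dvd_of_mem_primeFactors hr)
  rw [← Subgroup.orderOf_coe] at hg
  rcases hg with h | h | h
  · exact no_mixed hpp hp' hq' hpq _ h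
  · exact no_mixed hpp hp' hr' hpr _ h
  · exact no_mixed hpp hq' hr' hqr _ h

/-- the preimage of a solvable subgroup -/
theorem solvable_comap {G : Type*} [Group G] (R : Subgroup G) [R.Normal] (hR : Group.IsSolvable R)
    (K : Subgroup (G ⧸ R)) (hK : Group.IsSolvable K) :
    Group.IsSolvable (K.comap (QuotientGroup.mk' R)) := by
  have hle : R ≤ K.comap (QuotientGroup.mk' R) := by
    intro x hx
    rw [mem_comap]
    have : QuotientGroup.mk' R x = 1 := (QuotientGroup.eq_one_iff x).2 hx
    rw [this]; exact one_mem _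
  let g : (K.comap (QuotientGroup.mk' R)) →* K :=
    { toFun := fun x => ⟨QuotientGroup.mk' R x, x.2⟩
      map_one' := rfl
      map_mul' := fun x y => rfl }
  apply Group.isSolvable_of_ker_le_range (Subgroup.inclusion hle) g
  intro x hx
  have h1 : QuotientGroup.mk' R (x : G) = 1 := congrArg Subtype.val (MonoidHom.mem_ker.1 hx)
  have h2 : (x : G) ∈ R := (QuotientGroup.eq_one_iff (x : G)).1 h1
  exact ⟨⟨x, h2⟩, rfl⟩

/-- Let G be a finite non-solvable group in which every element has prime-power order, and let R be its largest solvable normal subgroup. Then R is a p-group for some prime p; G/R has a non-abelian simple normal subgroup contained in every nontrivial normal subgroup of G/R (its unique minimal normal subgroup); and the order of every solvable subgroup of G has at most two prime divisors. -/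
theorem result {G : Type*} [Group G] [Finite G] (hns : ¬ Group.IsSolvable G) (hpp : ∀ g : G, g ≠ 1 → IsPrimePow (orderOf g))
    (R : Subgroup G) [R.Normal] (hRs : Group.IsSolvable ↥R) (hRmax : ∀ N : Subgroup G, N.Normal → Group.IsSolvable ↥N → N ≤ R) :
    (∃ p : ℕ, p.Prime ∧ IsPGroup p ↥R) ∧
      (∃ M : Subgroup (G ⧸ R), M.Normal ∧ IsSimpleGroup ↥M ∧ ¬ IsMulCommutative ↥M ∧
        ∀ N : Subgroup (G ⧸ R), N.Normal → N ≠ ⊥ → M ≤ N) ∧
      ∀ H : Subgroup G, Group.IsSolvable ↥H → (Nat.card ↥H).primeFactors.card ≤ 2 := by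
  refine ⟨?_, ?_, fun H hH => le_two hpp H hH⟩
  · by_cases hR1 : Nat.card R = 1
    · exact ⟨2, Nat.prime_two, IsPGroup.of_card (n := 0) (by rw [hR1, pow_zero])⟩
    obtain ⟨p, hp, hpR⟩ := Nat.exists_prime_and_dvd hR1
    refine ⟨p, hp, ?_⟩
    have := Fact.mk hp
    have h0 : Nat.card R ≠ 0 := Nat.card_pos.ne'
    rw [IsPGroup.iff_card]
    refine ⟨_, Nat.eq_prime_pow_of_unique_prime_dvd h0 ?_⟩
    intro q hq hqR
    by_contra hqp
    apply hns
    apply H4.Burnside.isSolvable_of_card_eq p q hp hq (Nat.card G) G rfl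
    have hG0 : Nat.card G ≠ 0 := Nat.card_pos.ne'
    have hprimes : (Nat.card G).primeFactors ⊆ {p, q} := by
      intro r hr
      have hr' := Nat.prime_of_mem_primeFactors hr
      have := Fact.mk hr'
      obtain ⟨x, hx⟩ := exists_prime_orderOf_dvd_card' r (Nat.dvd_of_mem_primeFactors hr)
      have hH := solvable_comap R hRs (zpowers (QuotientGroup.mk' R x)) inferInstance
      set H := (zpowers (QuotientGroup.mk' R x)).comap (QuotientGroup.mk' R) with hHdef
      have hRH : R ≤ H := by
        intro x hx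
        rw [mem_comap]
        have : QuotientGroup.mk' R x = 1 := (QuotientGroup.eq_one_iff x).2 hx
        rw [this]; exact one_mem _
      have hxH : x ∈ H := by
        rw [mem_comap]; exact mem_zpowers _
      have h2 := le_two hpp H hH
      have hH0 : Nat.card H ≠ 0 := Nat.card_pos.ne'
      have hpH : p ∈ (Nat.card H).primeFactors :=
        Nat.mem_primeFactors.2 ⟨hp, hpR.trans (Subgroup.card_dvd_of_le hRH), hH0⟩
      have hqH : q ∈ (Nat.card H).primeFactors :=
        Nat.mem_primeFactors.2 ⟨hq, hqR.trans (Subgroup.card_dvd_of_le hRH), hH0⟩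
      have hrH : r ∈ (Nat.card H).primeFactors := by
        refine Nat.mem_primeFactors.2 ⟨hr', ?_, hH0⟩
        rw [← hx, ← Subgroup.orderOf_mk x hxH]; exact orderOf_dvd_natCard _
      by_contra hrn
      rw [Finset.mem_insert, Finset.mem_singleton, not_or] at hrn
      have h3 : 2 < (Nat.card H).primeFactors.card :=
        Finset.two_lt_card.2 ⟨p, hpH, q, hqH, r, hrH, fun h => hqp h.symm, fun h => hrn.1 h.symm,
          fun h => hrn.2 h.symm⟩
      omega
    refine ⟨(Nat.card G).factorization p, (Nat.card G).factorization q, ?_⟩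
    conv_lhs => rw [← Nat.prod_factorization_pow_eq_self hG0]
    rw [Finsupp.prod_of_support_subset _ (by exact hprimes) _ (by simp),
      Finset.prod_pair (fun h => hqp h.symm)]
  · -- the quotient
    have hppQ : ∀ x : G ⧸ R, x ≠ 1 → IsPrimePow (orderOf x) := by
      intro x hx
      obtain ⟨g, rfl⟩ := QuotientGroup.mk'_surjective R x
      have hg : g ≠ 1 := by rintro rfl; exact hx (map_one _)
      exact (hpp g hg).dvd (orderOf_map_dvd _ g) (fun h => hx (orderOf_eq_one_iff.1 h))
    have htop : (⊤ : Subgroup (G ⧸ R)) ≠ ⊥ := by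
      intro h
      apply hns
      have : R = ⊤ := by
        rw [eq_top_iff]
        intro x _
        have h1 : (x : G ⧸ R) ∈ (⊤ : Subgroup (G ⧸ R)) := mem_top _
        rw [h, mem_bot] at h1
        exact (QuotientGroup.eq_one_iff x).1 h1
      subst this
      exact Group.isSolvable_of_surjective (f := (⊤ : Subgroup G).subtype)
        (fun x => ⟨⟨x, mem_top _⟩, rfl⟩)
    obtain ⟨M, -, hM, hMb, hMmin⟩ := H73.SolvSmall.exists_minimal_normal
      (inferInstance : (⊤ : Subgroup (G ⧸ R)).Normal) htop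
    have hmin : ∀ K : Subgroup (G ⧸ R), K.Normal → K ≤ M → K ≠ ⊥ → K = M :=
      fun K hK hKM hKb => (hMmin K hK hKM).resolve_left hKb
    have hMc : ¬ ∀ a ∈ M, ∀ b ∈ M, a * b = b * a := by
      intro hc
      apply hMb
      have hs : Group.IsSolvable M :=
        Group.isSolvable_of_comm (fun a b => Subtype.ext (hc a a.2 b b.2))
      have h1 := hRmax (M.comap (QuotientGroup.mk' R)) (hM.comap _) (solvable_comap R hRs M hs)
      rw [eq_bot_iff]
      intro x hx
      obtain ⟨g, rfl⟩ := QuotientGroup.mk'_surjective R x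
      rw [mem_bot]
      exact (QuotientGroup.eq_one_iff g).2 (h1 (mem_comap.2 hx))
    obtain ⟨T, hTM, hTb, hTn, hTmin⟩ := H63.MinNormalFactor.exists_min M hMb
    have hF : H63.MinNormalFactor.Factor M T := ⟨hTM, hTb, hTn, hTmin⟩
    -- nothing nontrivial commutes with `T`
    have hcc : ∀ K : Subgroup (G ⧸ R), (∀ k ∈ K, ∀ t ∈ T, k * t = t * k) → K = ⊥ := by
      intro K hK
      by_contra hKb
      have h1 : Nat.card K ≠ 1 := fun h => hKb (Subgroup.card_eq_one.1 h)
      obtain ⟨p, hp, hpK⟩ := Nat.exists_prime_and_dvd h1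
      have := Fact.mk hp
      obtain ⟨x, hx⟩ := exists_prime_orderOf_dvd_card' p hpK
      obtain ⟨q, hq, hqp, s, hs, hsq⟩ :=
        H63.MinNormalFactor.exists_orderOf_prime_ne hM hmin hF hMc p hp
      exact not_commute hppQ hp hq (fun h => hqp h.symm) (x := (x : G ⧸ R)) (y := s)
        (by rw [Subgroup.orderOf_coe, hx]) hsq (hK x x.2 s hs)
    have hTeq : T = M := by
      have h1 : H63.MinNormalFactor.cc M T = ⊥ :=
        hcc _ (fun k hk t ht => ((H63.MinNormalFactor.mem_cc.1 hk).2 t ht).symm)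
      have h2 := H63.MinNormalFactor.sup_cc hM hmin hF
      rwa [h1, sup_bot_eq] at h2
    refine ⟨M, hM, ?_, ?_, ?_⟩
    · have := H63.MinNormalFactor.isSimpleGroup hM hmin hF
      rw [hTeq] at this
      exact this
    · intro hc
      apply hMc
      intro a ha b hb
      have := hc.is_comm.comm (⟨a, ha⟩ : M) ⟨b, hb⟩
      exact congrArg Subtype.val this
    · intro N hN hNb
      have h1 : (N ⊓ M).Normal := inferInstance
      rcases hMmin (N ⊓ M) h1 inf_le_right with h | h
      · exfalso
        apply hNb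
        apply hcc
        intro k hk t ht
        have h2 : ⁅k, t⁆ ∈ N ⊓ M := by
          refine mem_inf.2 ⟨?_, ?_⟩
          · rw [commutatorElement_def, mul_assoc, mul_assoc, ← mul_assoc t]
            exact mul_mem hk (hN.conj_mem _ (inv_mem hk) t)
          · rw [commutatorElement_def]
            exact mul_mem (hM.conj_mem _ (hTM ht) k) (inv_mem (hTM ht))
        rw [h, mem_bot, commutatorElement_eq_one_iff_mul_comm] at h2
        exact h2
      · rw [← h]; exact inf_le_left

end Cfsg.Agent.S3992
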