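import Cfsg.Statements.S0599
import Cfsg.Agent.Lib.H13.Replace
import Cfsg.Agent.Lib.H13.Nil

set_option autoImplicit false
open Cfsg

namespace Cfsg.Agent.S0599

/-- The Timmesfeld replacement Theorem: replacing a best offender A by C_A([U, A]) gives a best offender with fixed points [U, A]C_V(A), still nontrivial on V if A was. -/
theorem result {G : Type*} [Group G] [Finite G] {p : ℕ} [Fact p.Prime] (V A : Subgroup G) (hV : Cfsg.IsElementaryAbelian p V) (hAV : A ≤ Subgroup.normalizer (V : Set G)) (hA : Cfsg.IsBestOffenderOn p V A) (U : Subgroup G) (hU : U ≤ V) : Cfsg.IsBestOffenderOn p V (A ⊓ Subgroup.centralizer ((⁅U, A⁆ : Subgroup G) : Set G)) ∧ V ⊓ Subgroup.centralizer ((A ⊓ Subgroup.centralizer ((⁅U, A⁆ : Subgroup G) : Set G) : Subgroup G) : Set G) = ⁅U, A⁆ ⊔ (V ⊓ Subgroup.centralizer (A : Set G)) ∧ (⁅V, A⁆ ≠ ⊥ → ⁅V, A ⊓ Subgroup.centralizer ((⁅U, A⁆ : Subgroup G) : Set G)⁆ ≠ ⊥) := by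
  have hc := H13.ElemAb.le_centralizer hV
  have hmax : ∀ B ≤ A, H13.Replace.val V B ≤ H13.Replace.val V A := hA.1
  have hg := H13.Replace.good_of_max hc hAV hA.2.1 hmax hU
  refine ⟨⟨fun B hB => ?_, ?_, ?_⟩, hg.1, ?_⟩
  · have h1 := hmax B (hB.trans inf_le_left)
    rw [hg.2] at h1
    exact h1
  · exact (Subgroup.commutator_mono inf_le_left inf_le_left).trans hA.2.1
  · intro a ha
    exact hA.2.2 a ha.1
  · intro h0 h1
    have h2 : V ≤ Subgroup.centralizer
        ((A ⊓ Subgroup.centralizer ((⁅U, A⁆ : Subgroup G) : Set G) : Subgroup G) : Set G) :=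
      Subgroup.commutator_eq_bot_iff_le_centralizer.1 h1
    have h3 : V = ⁅U, A⁆ ⊔ (V ⊓ Subgroup.centralizer (A : Set G)) := by
      rw [← hg.1, inf_eq_left.2 h2]
    have h4 : ⁅V, A⁆ ≤ ⁅⁅V, A⁆, A⁆ := by
      conv_lhs => rw [h3]
      rw [H13.Act.sup_comm hc hAV (H13.Act.comm_le hAV hU) inf_le_left,
        Subgroup.commutator_eq_bot_iff_le_centralizer.2
          (inf_le_right : V ⊓ Subgroup.centralizer (A : Set G) ≤ _), sup_bot_eq]
      exact Subgroup.commutator_mono (Subgroup.commutator_mono hU le_rfl) le_rfl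
    apply h0
    exact H13.Nil.eq_bot_of_le_commutator_of_pow (k := 1) (H13.ElemAb.isPGroup hV)
      (H13.Act.comm_le hAV le_rfl) hAV (Subgroup.normalizer_commutator_ge_right V A)
      (by simpa using hA.2.2) h4

end Cfsg.Agent.S0599
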