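import Cfsg.Statements.S0606
import Cfsg.Agent.Lib.H13.Thompson

set_option autoImplicit false
open Cfsg

namespace Cfsg.Agent.S0606

/-- Elementary abelian p-subgroups of maximal order are best offenders on any normal elementary abelian p-subgroup. -/
theorem result {G : Type*} [Group G] [Finite G] {p : ℕ} [Fact p.Prime] (V : Subgroup G) [V.Normal] (hV : Cfsg.IsElementaryAbelian p V) (A : Subgroup G) (hA : A ∈ Cfsg.maxElementaryAbelianSubgroups p G) : Cfsg.IsBestOffenderOn p V A := by
  have hAc := H13.ElemAb.le_centralizer hA.1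
  refine ⟨fun B hB => ?_, ?_, ?_⟩
  · have h1 : B ≤ Subgroup.centralizer ((V ⊓ Subgroup.centralizer (B : Set G) : Subgroup G) : Set G) :=
      Subgroup.le_centralizer_iff.1 inf_le_right
    have h2 : Cfsg.IsElementaryAbelian p (B ⊔ (V ⊓ Subgroup.centralizer (B : Set G))) :=
      H13.ElemAb.sup (H13.ElemAb.of_le hA.1 hB) (H13.ElemAb.of_le hV inf_le_left) h1
    have h3 := hA.2 _ h2
    have h4 := H13.Thompson.card_sup_mul_card_inf (A := B) (B := V ⊓ Subgroup.centralizer (B : Set G))
      (h1.trans (Subgroup.centralizer_le_normalizer _))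
    have h5 : Nat.card ↥(B ⊓ (V ⊓ Subgroup.centralizer (B : Set G))) ≤
        Nat.card ↥(V ⊓ Subgroup.centralizer (A : Set G)) := by
      apply Subgroup.card_le_of_le
      refine le_inf (inf_le_right.trans inf_le_left) ?_
      exact inf_le_left.trans (hB.trans hAc)
    rw [← h4]
    exact Nat.mul_le_mul h3 h5
  · rw [(Subgroup.commutator_eq_bot_iff_le_centralizer).2 hAc]
    exact bot_le
  · intro a ha
    rw [hA.1.2 a ha]
    exact one_mem _

end Cfsg.Agent.S0606
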