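import Cfsg.Statements.S0607
import Cfsg.Agent.S0599
import Cfsg.Agent.S0606

set_option autoImplicit false
open Cfsg
open scoped commutatorElement

namespace Cfsg.Agent.S0607

/-- The replacement Theorem for the Thompson subgroup: from A of maximal order among elementary abelian p-subgroups one obtains A₀ = [V, A] C_A([V, A]) of the same kind, quadratic on V and nontrivial on V when A is. -/
theorem result {G : Type*} [Group G] [Finite G] {p : ℕ} [Fact p.Prime] (V : Subgroup G) [V.Normal] (hV : Cfsg.IsElementaryAbelian p V) (A : Subgroup G) (hA : A ∈ Cfsg.maxElementaryAbelianSubgroups p G) : (⁅V, A⁆ ⊔ (A ⊓ Subgroup.centralizer ((⁅V, A⁆ : Subgroup G) : Set G))) ∈ Cfsg.maxElementaryAbelianSubgroups p G ∧ ⁅⁅V, ⁅V, A⁆ ⊔ (A ⊓ Subgroup.centralizer ((⁅V, A⁆ : Subgroup G) : Set G))⁆, ⁅V, A⁆ ⊔ (A ⊓ Subgroup.centralizer ((⁅V, A⁆ : Subgroup G) : Set G))⁆ = ⊥ ∧ (⁅V, A⁆ ≠ ⊥ → ⁅V, ⁅V, A⁆ ⊔ (A ⊓ Subgroup.centralizer ((⁅V, A⁆ : Subgroup G) : Set G))⁆ ≠ ⊥) := by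
  have hc := H13.ElemAb.le_centralizer hV
  have hAV : A ≤ Subgroup.normalizer (V : Set G) := Subgroup.le_normalizer_of_normal
  have hbo : Cfsg.IsBestOffenderOn p V A := S0606.result V hV A hA
  obtain ⟨h1, h2, h3⟩ := S0599.result V A hV hAV hbo V le_rfl
  have hval := (H13.Replace.good_of_max hc hAV hbo.2.1 hbo.1 (le_refl V)).2
  set B := A ⊓ Subgroup.centralizer ((⁅V, A⁆ : Subgroup G) : Set G) with hB
  have hVA : ⁅V, A⁆ ≤ V := H13.Act.comm_le hAV le_rfl
  have hcomm : ⁅V, A⁆ ≤ Subgroup.centralizer (B : Set G) := Subgroup.le_centralizer_iff.1 inf_le_right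
  have hea : Cfsg.IsElementaryAbelian p (⁅V, A⁆ ⊔ B) :=
    H13.ElemAb.sup (H13.ElemAb.of_le hV hVA) (H13.ElemAb.of_le hA.1 inf_le_left) hcomm
  have hCVA : V ⊓ Subgroup.centralizer (A : Set G) ≤ V ⊓ A := by
    refine le_inf inf_le_left ?_
    intro x hx
    exact H13.Thompson.mem_of_centralizes_max hA hx.2 (hV.2 x hx.1)
  have hCB : V ⊓ Subgroup.centralizer (A : Set G) ≤ B := by
    refine le_inf (hCVA.trans inf_le_right) ?_
    exact inf_le_left.trans (hc.trans (Subgroup.centralizer_le (SetLike.coe_subset_coe.2 hVA)))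
  have heq : ⁅V, A⁆ ⊔ B = B ⊔ (V ⊓ Subgroup.centralizer (B : Set G)) := by
    rw [h2]
    refine le_antisymm (sup_le (le_sup_left.trans le_sup_right) le_sup_left) ?_
    exact sup_le le_sup_right (sup_le le_sup_left (hCB.trans le_sup_right))
  have hcard := H13.Thompson.card_sup_mul_card_inf (A := B)
    (B := V ⊓ Subgroup.centralizer (B : Set G))
    ((Subgroup.le_centralizer_iff.1 inf_le_right).trans (Subgroup.centralizer_le_normalizer _))
  have hle : Nat.card ↥(B ⊓ (V ⊓ Subgroup.centralizer (B : Set G))) ≤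
      Nat.card ↥(V ⊓ Subgroup.centralizer (A : Set G)) := by
    apply Subgroup.card_le_of_le
    refine le_inf (inf_le_right.trans inf_le_left) ?_
    exact inf_le_left.trans (inf_le_left.trans (H13.ElemAb.le_centralizer hA.1))
  have hmem : (⁅V, A⁆ ⊔ B) ∈ Cfsg.maxElementaryAbelianSubgroups p G := by
    refine H13.Thompson.mem_max_of_card_le hA hea ?_
    rw [heq]
    have h5 : Nat.card A * Nat.card ↥(V ⊓ Subgroup.centralizer (A : Set G)) ≤
        Nat.card ↥(B ⊔ (V ⊓ Subgroup.centralizer (B : Set G))) *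
          Nat.card ↥(V ⊓ Subgroup.centralizer (A : Set G)) := by
      have h6 : Nat.card A * Nat.card ↥(V ⊓ Subgroup.centralizer (A : Set G)) =
        Nat.card B * Nat.card ↥(V ⊓ Subgroup.centralizer (B : Set G)) := hval
      rw [h6, ← hcard]
      exact Nat.mul_le_mul_left _ hle
    exact Nat.le_of_mul_le_mul_right h5 Nat.card_pos
  refine ⟨hmem, ?_, ?_⟩
  · rw [Subgroup.commutator_eq_bot_iff_le_centralizer]
    have h7 : ⁅V, ⁅V, A⁆ ⊔ B⁆ ≤ ⁅V, A⁆ := by
      rw [Subgroup.commutator_le]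
      intro v hv x hx
      obtain ⟨w, hw, b, hb, rfl⟩ := (H13.Norm.mem_sup_of_le_normalizer
        (hcomm.trans (Subgroup.centralizer_le_normalizer _))).1 hx
      rw [commutatorElement_mul_right_eq_mul_conj]
      have h8 : ⁅v, w⁆ = 1 := by
        rw [commutatorElement_eq_one_iff_mul_comm]
        exact H13.Act.mul_comm_of_mem hc hv (hVA hw)
      rw [h8, one_mul]
      exact mul_mem (mul_mem hw (Subgroup.commutator_mem_commutator hv hb.1)) (inv_mem hw)
    refine h7.trans ?_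
    rw [H13.Norm.centralizer_sup]
    exact le_inf (hVA.trans (hc.trans (Subgroup.centralizer_le (SetLike.coe_subset_coe.2 hVA))))
      hcomm
  · intro h0 h8
    apply h3 h0
    rw [eq_bot_iff, ← h8]
    exact Subgroup.commutator_mono le_rfl le_sup_right

end Cfsg.Agent.S0607
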