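import Cfsg.Statements.S5191
import Mathlib.GroupTheory.Sylow
-- import your own Cfsg.Agent.* helpers here

set_option autoImplicit false
open Cfsg

namespace Cfsg.Agent.S5191

/-- Fusion in a finite group G and in its quotient by O_{p'}(G) agree. Let S be a Sylow p-subgroup of G, N = O_{p'}(G) and P ≤ S. If an element of G/N conjugates the image of P into the image of S, then some element g of G conjugates P into S and induces the same map on P modulo N. (Together with the injectivity of S → G/N this says that g ↦ gN induces an isomorphism of the fusion system of G on S with that of G/N on SN/N.) -/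
theorem result {G : Type*} [Group G] [Finite G] {p : ℕ} [Fact p.Prime]
    [hN : (Cfsg.pPrimeCore p G).Normal] (S : Sylow p G) (P : Subgroup G) (hP : P ≤ (S : Subgroup G))
    (γ : G ⧸ Cfsg.pPrimeCore p G)
    (hγ : ∀ x ∈ P, γ * QuotientGroup.mk x * γ⁻¹ ∈ ((S : Subgroup G).map (QuotientGroup.mk' (Cfsg.pPrimeCore p G)))) :
    ∃ g : G, ∀ x ∈ P, g * x * g⁻¹ ∈ S ∧
      (QuotientGroup.mk (g * x * g⁻¹) : G ⧸ Cfsg.pPrimeCore p G) = γ * QuotientGroup.mk x * γ⁻¹ := by
  classical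
  obtain ⟨h, rfl⟩ := QuotientGroup.mk_surjective γ
  set N := Cfsg.pPrimeCore p G with hNdef
  set K : Subgroup G := (S : Subgroup G) ⊔ N with hK
  have hSK : (S : Subgroup G) ≤ K := le_sup_left
  -- `h P h⁻¹ ≤ S N`
  have hP1 : P.map (MulAut.conj h).toMonoidHom ≤ K := by
    rintro _ ⟨x, hx, rfl⟩
    obtain ⟨s, hs, hsx⟩ := hγ x hx
    have h1 : (QuotientGroup.mk' N s : G ⧸ N) = QuotientGroup.mk' N (h * x * h⁻¹) := hsx
    rw [QuotientGroup.mk'_eq_mk'] at h1
    obtain ⟨z, hz, hz2⟩ := h1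
    show h * x * h⁻¹ ∈ K
    rw [← hz2]
    exact K.mul_mem (hSK hs) (le_sup_right (a := (S : Subgroup G)) hz)
  have hpg : IsPGroup p ((P.map (MulAut.conj h).toMonoidHom).subgroupOf K) := by
    have h0 : IsPGroup p P := S.isPGroup'.to_le hP
    have h2 : IsPGroup p (P.map (MulAut.conj h).toMonoidHom) := h0.map _
    exact h2.comap_of_injective K.subtype K.subtype_injective
  obtain ⟨Q, hQ⟩ := hpg.exists_le_sylow
  obtain ⟨k, hk⟩ := MulAction.exists_smul_eq K Q (S.subtype hSK)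
  -- write `k = s n`
  obtain ⟨s, hs, n, hn, hsn⟩ := Subgroup.mem_sup_of_normal_right.1 k.2
  refine ⟨n * h, fun x hx => ⟨?_, ?_⟩⟩
  · have h1 : (⟨h * x * h⁻¹, hP1 ⟨x, hx, rfl⟩⟩ : K) ∈ (Q : Subgroup K) := by
      apply hQ
      exact Subgroup.mem_subgroupOf.2 ⟨x, hx, rfl⟩
    have h2 : k * (⟨h * x * h⁻¹, hP1 ⟨x, hx, rfl⟩⟩ : K) * k⁻¹ ∈ ((S.subtype hSK : Sylow p K) : Subgroup K) := by
      rw [← hk]
      exact ⟨_, h1, rfl⟩
    have h3 : (k : G) * (h * x * h⁻¹) * (k : G)⁻¹ ∈ (S : Subgroup G) := h2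
    rw [← hsn] at h3
    have h4 := (S : Subgroup G).mul_mem ((S : Subgroup G).mul_mem ((S : Subgroup G).inv_mem hs) h3) hs
    have h5 : s⁻¹ * (s * n * (h * x * h⁻¹) * (s * n)⁻¹) * s = n * h * x * (n * h)⁻¹ := by group
    rw [h5] at h4
    exact h4
  · have hn1 : QuotientGroup.mk' (Cfsg.pPrimeCore p G) n = 1 := (QuotientGroup.eq_one_iff n).2 hn
    show QuotientGroup.mk' (Cfsg.pPrimeCore p G) (n * h * x * (n * h)⁻¹) =
      QuotientGroup.mk' (Cfsg.pPrimeCore p G) h * QuotientGroup.mk' (Cfsg.pPrimeCore p G) x *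
        (QuotientGroup.mk' (Cfsg.pPrimeCore p G) h)⁻¹
    rw [map_mul, map_mul, map_mul, map_inv, map_mul, hn1, one_mul]

end Cfsg.Agent.S5191
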