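import Cfsg.Statements.S4249
import Mathlib
import Cfsg.Agent.Lib.H73.Hughes2

set_option autoImplicit false
open Cfsg

namespace Cfsg.Agent.S4249

open H73.Bas H73.Split H73.Hughes
open scoped IsMulCommutative commutatorElement

theorem closure_normal {G : Type*} [Group G] (p : ℕ) : (Subgroup.closure {g : G | g ^ p ≠ 1}).Normal := by
  constructor
  intro x hx g
  have h1 : (Subgroup.closure {g : G | g ^ p ≠ 1}).map (MulAut.conj g).toMonoidHom ≤ Subgroup.closure {g : G | g ^ p ≠ 1} := by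
    rw [MonoidHom.map_closure, Subgroup.closure_le]
    rintro _ ⟨y, hy, rfl⟩
    apply Subgroup.subset_closure
    intro h2
    apply hy
    have h3 : (MulAut.conj g) (y ^ p) = 1 := by
      rw [map_pow]; exact h2
    exact (MulEquiv.map_eq_one_iff _).mp h3
  exact h1 ⟨x, hx, rfl⟩

theorem nilp_part {G : Type*} [Group G] [Finite G] {p : ℕ} (hp : p.Prime) {H : Subgroup G} [hHn : H.Normal]
    (hpow : ∀ g, g ∉ H → g ^ p = 1) (hH : H ≠ ⊤) : Group.IsNilpotent H := by
  have := Fact.mk hp
  obtain ⟨y, hy⟩ : ∃ y : G, y ∉ H := by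
    by_contra hc
    push Not at hc
    exact hH (eq_top_iff.mpr (fun x _ => hc x))
  have hyp : y ^ p = 1 := hpow y hy
  have hyo : orderOf y = p := orderOf_eq_prime hyp (fun h1 => hy (h1 ▸ one_mem H))
  set K := Subgroup.zpowers y ⊔ H with hK
  have hsp : Sp p K (H.subgroupOf K) := by
    refine ⟨inferInstance, ?_, ?_⟩
    · have h1 : H.relIndex K = H.relIndex (Subgroup.zpowers y) := Subgroup.relIndex_sup_right _ _
      have h2 : H.relIndex (Subgroup.zpowers y) ∣ p := by
        rw [← hyo, ← Nat.card_zpowers]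
        exact ⟨_, ((H.subgroupOf (Subgroup.zpowers y)).index_mul_card).symm⟩
      rcases (Nat.dvd_prime hp).mp h2 with h3 | h3
      · exact absurd (Subgroup.relIndex_eq_one.mp h3 (Subgroup.mem_zpowers y)) hy
      · exact h1.trans h3
    · intro g hg
      exact Subtype.ext (hpow g hg)
  have h1 := nilp_congr_subgroupOf (main hp _ K (H.subgroupOf K) rfl hsp)
  rwa [inf_eq_left.mpr (le_sup_right : H ≤ K)] at h1

theorem index_part {G : Type*} [Group G] [Finite G] {p : ℕ} (hp : p.Prime) (hG : ¬ IsPGroup p G) {H : Subgroup G} [hHn : H.Normal]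
    (hpow : ∀ g, g ∉ H → g ^ p = 1) (hH : H ≠ ⊤) (hnil : Group.IsNilpotent H) : H.index = p := by
  have := Fact.mk hp
  have hq : IsPGroup p (G ⧸ H) := by
    intro x
    obtain ⟨g, rfl⟩ := QuotientGroup.mk_surjective x
    refine ⟨1, ?_⟩
    rw [pow_one, ← QuotientGroup.mk_pow, QuotientGroup.eq_one_iff]
    by_cases hg : g ∈ H
    · exact pow_mem hg p
    · rw [hpow g hg]; exact one_mem H
  have hnt : Nontrivial (G ⧸ H) := by
    rw [← Finite.one_lt_card_iff_nontrivial, ← Subgroup.index_eq_card]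
    have h0 : H.index ≠ 0 := Subgroup.index_ne_zero_of_finite
    have h1 : H.index ≠ 1 := fun h => hH (Subgroup.index_eq_one.mp h)
    omega
  -- a central element of order `p`
  obtain ⟨zb, -, hzc, hzo⟩ := H76.PG.exists_center_of_normal hq (⊤ : Subgroup (G ⧸ H)) (by
    intro h; exact top_ne_bot h)
  obtain ⟨z, rfl⟩ := QuotientGroup.mk_surjective zb
  by_contra hne
  -- `y` outside of `H ⟨z⟩`
  obtain ⟨y, hy⟩ : ∃ y : G, (y : G ⧸ H) ∉ Subgroup.zpowers (z : G ⧸ H) := by
    by_contra hc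
    push Not at hc
    apply hne
    have h1 : Subgroup.zpowers (z : G ⧸ H) = ⊤ := by
      rw [eq_top_iff]
      intro x _
      obtain ⟨g, rfl⟩ := QuotientGroup.mk_surjective x
      exact hc g
    rw [Subgroup.index_eq_card, ← hzo, ← Nat.card_zpowers, h1, Subgroup.card_top]
  have hzH : z ∉ H := by
    intro h
    rw [← QuotientGroup.eq_one_iff] at h
    rw [h, orderOf_one] at hzo
    exact hp.one_lt.ne hzo
  have hyH : ∀ j : ℕ, y * z ^ j ∉ H := by
    intro j h
    rw [← QuotientGroup.eq_one_iff, QuotientGroup.mk_mul, QuotientGroup.mk_pow] at h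
    apply hy
    rw [eq_inv_of_mul_eq_one_left h]
    exact inv_mem (pow_mem (Subgroup.mem_zpowers _) _)
  set V : Subgroup G := H ⊓ Subgroup.centralizer (H : Set G) with hV
  have hVn : V.Normal := by
    have : (Subgroup.centralizer (H : Set G)).Normal := Subgroup.normal_centralizer
    exact Subgroup.normal_inf_normal _ _
  have hVc : ∀ x y : V, x * y = y * x := by
    intro a b
    apply Subtype.ext
    have h1 : (b : G) ∈ Subgroup.centralizer (H : Set G) := b.2.2
    exact (Subgroup.mem_centralizer_iff.mp h1 a a.2.1)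
  have hVcomm : IsMulCommutative V := ⟨⟨hVc⟩⟩
  have hHV : ∀ g ∈ H, act V g = 1 := by
    intro g hg
    apply act_eq_one_of_mem_centralizer
    rw [Subgroup.mem_centralizer_iff]
    intro v hv
    have h1 : v ∈ Subgroup.centralizer (H : Set G) := hv.2
    exact (Subgroup.mem_centralizer_iff.mp h1 g hg).symm
  have hactz : ∀ g : G, g ∉ H → ∑ i ∈ Finset.range p, act V g ^ i = 0 := by
    intro g hg
    apply sum_act_eq_zero V g (hpow g hg)
    intro v hv
    apply hpow
    intro hm
    exact hg ((Subgroup.mul_mem_cancel_left H hv.1).mp hm)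
  have hmul : ((p : ℕ) : AddMonoid.End (Additive V)) * act V z = p := by
    apply card_mul_eq (Y := act V y) (Z := act V z)
    · change act V y * act V z = act V z * act V y
      rw [← map_mul, ← map_mul]
      have h1 : (z * y)⁻¹ * (y * z) ∈ H := by
        rw [← QuotientGroup.eq_one_iff]
        have h2 := Subgroup.mem_center_iff.mp hzc (y : G ⧸ H)
        rw [QuotientGroup.mk_mul, QuotientGroup.mk_inv, QuotientGroup.mk_mul, QuotientGroup.mk_mul, h2, inv_mul_cancel]
      have h2 := hHV _ h1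
      have h3 : y * z = (z * y) * ((z * y)⁻¹ * (y * z)) := by group
      rw [h3, map_mul, h2, mul_one]
    · rw [← map_pow, hpow z hzH, map_one]
    · intro j _
      have h2 : act V y * act V z ^ j = act V (y * z ^ j) := by rw [map_mul, map_pow]
      rw [h2]
      exact hactz _ (hyH j)
  -- a prime `q ≠ p` dividing `|H|`
  obtain ⟨q, hq', hqH, hqp⟩ : ∃ q : ℕ, q.Prime ∧ q ∣ Nat.card H ∧ q ≠ p := by
    by_contra hc
    push Not at hc
    have h1 : IsPGroup p H := isPGroup_of_prime_dvd (fun q' hq' hqd => hc q' hq' hqd)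
    apply hG
    obtain ⟨a, ha⟩ := h1.exists_card_eq
    obtain ⟨b, hb⟩ := hq.exists_card_eq
    apply IsPGroup.of_card (n := b + a)
    rw [Subgroup.card_eq_card_quotient_mul_card_subgroup H, ha, hb, pow_add]
  have := Fact.mk hq'
  obtain ⟨Q⟩ : Nonempty (Sylow q H) := inferInstance
  have hQn := H73.Nilp.sylow_normal Q
  have hQb : (Q : Subgroup H) ≠ ⊥ := Q.ne_bot_of_dvd_card hqH
  have hint := H30.Nil.inf_center_ne_bot (Q : Subgroup H) hQb
  obtain ⟨⟨v, hvQ, hvc⟩, hv1⟩ := Subgroup.ne_bot_iff_exists_ne_one.mp hint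
  have hv1' : v ≠ 1 := fun h => hv1 (Subtype.ext h)
  obtain ⟨k, hk⟩ := (IsPGroup.iff_orderOf.mp Q.isPGroup') ⟨v, hvQ⟩
  rw [Subgroup.orderOf_mk] at hk
  have hvV : (v : G) ∈ V := by
    refine ⟨v.2, ?_⟩
    change (v : G) ∈ Subgroup.centralizer (H : Set G)
    rw [Subgroup.mem_centralizer_iff]
    intro x hx
    exact congrArg Subtype.val (Subgroup.mem_center_iff.mp hvc ⟨x, hx⟩)
  have hvo : (orderOf (v : G)) = q ^ k := by rw [Subgroup.orderOf_coe]; exact hk
  have hcop : Nat.Coprime (orderOf (v : G)) p := by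
    rw [hvo]; exact Nat.Coprime.pow_left k ((Nat.coprime_primes hq' hp).mpr hqp)
  -- the action of `z` on `v`
  have e1 : (MulAut.conjNormal z (⟨v, hvV⟩ : V) : V) ^ p = (⟨v, hvV⟩ : V) ^ p := by
    have h2 := DFunLike.congr_fun hmul (Additive.ofMul (⟨v, hvV⟩ : V))
    have h3 : (((p : ℕ) : AddMonoid.End (Additive V)) * act V z) (Additive.ofMul (⟨v, hvV⟩ : V)) =
        p • (act V z (Additive.ofMul (⟨v, hvV⟩ : V))) := AddMonoid.End.natCast_apply p _
    have h4 : ((p : ℕ) : AddMonoid.End (Additive V)) (Additive.ofMul (⟨v, hvV⟩ : V)) =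
        p • (Additive.ofMul (⟨v, hvV⟩ : V)) := AddMonoid.End.natCast_apply p _
    rw [h3, h4] at h2
    exact congrArg Additive.toMul h2
  have e2 : (MulAut.conjNormal z (⟨v, hvV⟩ : V) : V) = (⟨v, hvV⟩ : V) := by
    have h5 : ((⟨v, hvV⟩ : V)⁻¹ * (MulAut.conjNormal z (⟨v, hvV⟩ : V) : V)) ^ p = 1 := by
      rw [(Commute.all _ _).mul_pow, e1, inv_pow, inv_mul_cancel]
    have hm : (⟨v, hvV⟩ : V) ^ (orderOf (v : G)) = 1 := Subtype.ext (pow_orderOf_eq_one (v : G))
    have h6 : ((⟨v, hvV⟩ : V)⁻¹ * (MulAut.conjNormal z (⟨v, hvV⟩ : V) : V)) ^ (orderOf (v : G)) = 1 := by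
      rw [(Commute.all _ _).mul_pow, ← map_pow, inv_pow, hm, map_one, inv_one, one_mul]
    have h7 := Nat.eq_one_of_dvd_coprimes hcop (orderOf_dvd_of_pow_eq_one h6) (orderOf_dvd_of_pow_eq_one h5)
    rw [orderOf_eq_one_iff] at h7
    exact (inv_mul_eq_one.mp h7).symm
  have e3 : z * (v : G) = v * z := by
    have h8 := congrArg Subtype.val e2
    rw [MulAut.conjNormal_apply] at h8
    exact mul_inv_eq_iff_eq_mul.mp h8
  have e4 : (z * (v : G)) ^ p = 1 := by
    apply hpow
    intro hm
    exact hzH ((Subgroup.mul_mem_cancel_right H v.2).mp hm)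
  have e5 : Commute z (v : G) := e3
  rw [e5.mul_pow, hpow z hzH, one_mul] at e4
  have e6 := Nat.eq_one_of_dvd_coprimes hcop dvd_rfl (orderOf_dvd_of_pow_eq_one e4)
  rw [orderOf_eq_one_iff] at e6
  exact hv1' (Subtype.ext e6)

/-- Let G be a finite group and p a prime such that G is not a p-group, and suppose the Hughes subgroup H_p(G), generated by all elements g with g^p ≠ 1, is a proper subgroup. Then H_p(G) is nilpotent and has index p in G. -/
theorem result {G : Type*} [Group G] [Finite G] (p : ℕ) (hp : p.Prime) (hG : ¬ IsPGroup p G)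
    (hH : Subgroup.closure {g : G | g ^ p ≠ 1} ≠ ⊤) :
    Group.IsNilpotent (Subgroup.closure {g : G | g ^ p ≠ 1}) ∧ (Subgroup.closure {g : G | g ^ p ≠ 1}).index = p := by
  have hn : (Subgroup.closure {g : G | g ^ p ≠ 1}).Normal := closure_normal p
  have hpow : ∀ g, g ∉ Subgroup.closure {g : G | g ^ p ≠ 1} → g ^ p = 1 := by
    intro g hg
    by_contra h
    exact hg (Subgroup.subset_closure h)
  have h1 := nilp_part hp hpow hH
  exact ⟨h1, index_part hp hG hpow hH h1⟩

end Cfsg.Agent.S4249
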