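import Cfsg.Statements.S5914
import Cfsg.Agent.Lib.H98.CharSimple

set_option autoImplicit false
open Cfsg

namespace Cfsg.Agent.S5914

theorem result {G : Type*} [Group G] [Finite G] [Nontrivial G] :
    (∀ H : Subgroup G, H.Characteristic → H = ⊥ ∨ H = ⊤) ↔
    ∃ (S : Type) (_ : Group S) (_ : IsSimpleGroup S) (n : ℕ), 1 ≤ n ∧ Nonempty (G ≃* (Fin n → S)) := by
  constructor
  · intro h
    obtain ⟨N, ι, hι, _, hNs, hne, ⟨e⟩⟩ := H98.CharSimple.exists_power h
    cases nonempty_fintype ι
    let f : Fin (Fintype.card ι) ≃ ι := (Fintype.equivFin ι).symm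
    let ms : N ≃* Shrink.{0} N := Shrink.mulEquiv.symm
    haveI : IsSimpleGroup (Shrink.{0} N) := ms.symm.isSimpleGroup
    refine ⟨Shrink.{0} N, inferInstance, inferInstance, Fintype.card ι, Fintype.card_pos, ⟨e.trans ?_⟩⟩
    exact
      { toFun := fun v i => ms (v (f i))
        invFun := fun w i => ms.symm (w (f.symm i))
        left_inv := fun v => by ext i; simp
        right_inv := fun w => by funext i; simp
        map_mul' := fun v w => by funext i; exact map_mul ms _ _ }
  · rintro ⟨S, _, hS, n, hn, ⟨e⟩⟩ H hH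
    have h1 : (H.map e.toMonoidHom).Characteristic := by
      rw [Subgroup.characteristic_iff_map_le]
      rintro α _ ⟨_, ⟨x, hx, rfl⟩, rfl⟩
      have h2 := (Subgroup.characteristic_iff_map_le.mp hH ((e.trans α).trans e.symm)) ⟨x, hx, rfl⟩
      exact ⟨_, h2, by simp⟩
    rcases H98.CharSimple.char_of_power _ h1 with h | h
    · left
      rwa [Subgroup.map_eq_bot_iff_of_injective _ e.injective] at h
    · right
      rw [eq_top_iff]
      intro x _
      have : e x ∈ H.map e.toMonoidHom := h ▸ Subgroup.mem_top _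
      obtain ⟨y, hy, hyx⟩ := this
      exact e.injective hyx ▸ hy

end Cfsg.Agent.S5914
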