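import Cfsg.Statements.S0088
import Mathlib.GroupTheory.Transfer
import Mathlib.GroupTheory.Abelianization.Defs

set_option autoImplicit false
open Cfsg

namespace Cfsg.Agent.S0088

open scoped IsMulCommutative in
/-- An abelian Hall subgroup meets G' ∩ Z(G) trivially. -/
theorem result {G : Type*} [Group G] [Finite G] (H : Subgroup G) (hc : IsMulCommutative H) (hHall : Nat.Coprime (Nat.card H) H.index) : H ⊓ commutator G ⊓ Subgroup.center G = ⊥ := by
  rw [eq_bot_iff]
  intro x hx
  obtain ⟨hx1, hxZ⟩ := Subgroup.mem_inf.1 hx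
  obtain ⟨hxH, hxC⟩ := Subgroup.mem_inf.1 hx1
  have key : ∀ (k : ℕ) (g₀ : G), g₀⁻¹ * x ^ k * g₀ ∈ H → g₀⁻¹ * x ^ k * g₀ = x ^ k := by
    intro k g₀ _
    have : x ^ k ∈ Subgroup.center G := Subgroup.pow_mem _ hxZ k
    rw [Subgroup.mem_center_iff] at this
    rw [mul_assoc, ← this g₀, inv_mul_cancel_left]
  have h1 := MonoidHom.transfer_eq_pow (MonoidHom.id H) x key
  have h2 : MonoidHom.transfer (MonoidHom.id H) x = 1 := by
    have := Abelianization.commutator_subset_ker (MonoidHom.transfer (MonoidHom.id H)) hxC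
    exact this
  rw [h2] at h1
  have h3 : x ^ H.index = 1 := by
    have := congrArg Subtype.val h1
    exact this.symm
  have h4 : x ^ Nat.card H = 1 := by
    have : (⟨x, hxH⟩ : H) ^ Nat.card H = 1 := pow_card_eq_one'
    exact congrArg Subtype.val this
  have h5 := pow_gcd_eq_one.2 ⟨h4, h3⟩
  rw [hHall, pow_one] at h5
  exact Subgroup.mem_bot.2 h5

end Cfsg.Agent.S0088
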