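import Cfsg.Statements.S0089
import Cfsg.Agent.S0088
import Mathlib.GroupTheory.Perm.Cycle.Type

set_option autoImplicit false
open Cfsg

namespace Cfsg.Agent.S0089

/-- When all Sylow subgroups are abelian, the derived subgroup meets the centre trivially. -/
theorem result {G : Type*} [Group G] [Finite G] (h : ∀ p : ℕ, p.Prime → ∀ P : Sylow p G, IsMulCommutative P) : commutator G ⊓ Subgroup.center G = ⊥ := by
  by_contra hne
  have hcard : Nat.card (commutator G ⊓ Subgroup.center G : Subgroup G) ≠ 1 :=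
    fun h => hne (Subgroup.card_eq_one.1 h)
  obtain ⟨p, hp, hpd⟩ := Nat.exists_prime_and_dvd hcard
  haveI : Fact p.Prime := ⟨hp⟩
  obtain ⟨x, hx⟩ := exists_prime_orderOf_dvd_card' p hpd
  have hxo : orderOf (x : G) = p := by rw [Subgroup.orderOf_coe]; exact hx
  have hxp : IsPGroup p (Subgroup.zpowers (x : G)) := by
    apply IsPGroup.of_card (n := 1)
    rw [Nat.card_zpowers, hxo, pow_one]
  obtain ⟨P, hP⟩ := hxp.exists_le_sylow
  have h1 := S0088.result (P : Subgroup G) (h p hp P) P.card_coprime_index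
  have h2 : (x : G) ∈ (P : Subgroup G) ⊓ commutator G ⊓ Subgroup.center G := by
    obtain ⟨a, b⟩ := Subgroup.mem_inf.1 x.2
    exact Subgroup.mem_inf.2 ⟨Subgroup.mem_inf.2 ⟨hP (Subgroup.mem_zpowers _), a⟩, b⟩
  rw [h1, Subgroup.mem_bot] at h2
  rw [h2, orderOf_one] at hxo
  exact hp.one_lt.ne hxo

end Cfsg.Agent.S0089
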