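import Cfsg.Statements.S2202
import Cfsg.Agent.Lib.H2.CI.Main
import Cfsg.Agent.Lib.H1.Cyc

set_option autoImplicit false
open Cfsg

namespace Cfsg.Agent.S2202

open Subgroup in
/-- Finite groups in which the centralizer of every involution is abelian. Let G be a finite group of even order in which the centralizer of every element of order 2 is abelian. Then the Sylow 2-subgroups of G are cyclic, or a Sylow 2-subgroup of G is normal, or G is isomorphic to the direct product of SL₂(F) for a finite field F of characteristic two and an abelian group of odd order. -/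
theorem result {G : Type*} [Group G] [Finite G] (heven : Even (Nat.card G)) (h : ∀ t : G, orderOf t = 2 → IsMulCommutative ↥(Subgroup.centralizer ({t} : Set G))) :
    (∀ P : Sylow 2 G, IsCyclic ↥P) ∨ (∀ P : Sylow 2 G, (P : Subgroup G).Normal) ∨
    (∃ (F : Type) (_ : Field F) (_ : Fintype F) (A : Type) (_ : CommGroup A) (_ : Finite A), CharP F 2 ∧ Odd (Nat.card A) ∧ Nonempty (G ≃* Matrix.SpecialLinearGroup (Fin 2) F × A)) := by
  have hCI : H2.CI.CI G := by
    intro t ht x y hx hy
    have := (h t ht).1.comm ⟨x, H2.CI.mem_cent.2 hx⟩ ⟨y, H2.CI.mem_cent.2 hy⟩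
    exact congrArg Subtype.val this
  by_cases h1 : ∀ P : Sylow 2 G, IsCyclic ↥P
  · exact Or.inl h1
  right
  by_cases h2 : ∀ P : Sylow 2 G, (P : Subgroup G).Normal
  · exact Or.inl h2
  right
  push Not at h1 h2
  obtain ⟨P, hP⟩ := h1
  obtain ⟨Q, hQ⟩ := h2
  have hcomm : ∀ a b : P, a * b = b * a := fun a b =>
    Subtype.ext (H2.CI.comm_of_isPGroup hCI P.isPGroup' a.2 b.2)
  obtain ⟨p, a, b, hp, ha, hb, hab⟩ := H1.Cyc.exists_of_not_isCyclic hcomm hP
  have hp2 : p = 2 := by
    obtain ⟨k, hk⟩ := P.isPGroup' a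
    have h3 : p ∣ 2 ^ k := by rw [← ha]; exact orderOf_dvd_of_pow_eq_one hk
    exact (Nat.prime_dvd_prime_iff_eq hp Nat.prime_two).1 (hp.dvd_of_dvd_pow h3)
  subst hp2
  have hne : (b : G) ≠ a := by
    intro h3
    apply hab
    rw [Subtype.ext h3]
    exact mem_zpowers a
  have ha' : orderOf (a : G) = 2 := by rw [Subgroup.orderOf_coe]; exact ha
  have hb' : orderOf (b : G) = 2 := by rw [Subgroup.orderOf_coe]; exact hb
  refine H2.CI.main_aux (Nat.card G) G le_rfl hCI a b ha' hb' hne (congrArg Subtype.val (hcomm b a)) ?_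
  intro hM
  apply hQ
  -- `P` is normal
  have hPA : (P : Subgroup G) ≤ centralizer ({(a : G)} : Set G) := by
    intro x hx
    rw [H2.CI.mem_cent]
    exact congrArg Subtype.val (hcomm ⟨x, hx⟩ a)
  have hPn : (P : Subgroup G).Normal := by
    constructor
    intro x hx g
    -- all 2-elements of the centralizer lie in `P`
    have hgx : g * x * g⁻¹ ∈ centralizer ({(a : G)} : Set G) := by
      have hg : g ∈ normalizer (centralizer ({(a : G)} : Set G) : Set G) := by rw [hM]; trivial
      exact (mem_normalizer_iff.1 hg x).1 (hPA hx)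
    have hab' : ∀ y z : G, y ∈ centralizer ({(a : G)} : Set G) → z ∈ centralizer ({(a : G)} : Set G) →
        y * z = z * y := fun y z hy hz => H2.CI.comm_of_mem hCI ha' hy hz
    have h3 : IsPGroup 2 (zpowers (g * x * g⁻¹)) := by
      obtain ⟨k, hk⟩ := P.isPGroup' ⟨x, hx⟩
      have hk' : x ^ 2 ^ k = 1 := congrArg Subtype.val hk
      rintro ⟨y, hy⟩
      obtain ⟨m, rfl⟩ := hy
      refine ⟨k, ?_⟩
      apply Subtype.ext
      show ((g * x * g⁻¹) ^ m) ^ 2 ^ k = 1
      rw [← zpow_natCast, ← zpow_mul, mul_comm, zpow_mul, zpow_natCast, conj_pow, hk']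
      simp
    have h4 : IsPGroup 2 ((P : Subgroup G) ⊔ zpowers (g * x * g⁻¹) : Subgroup G) := by
      apply IsPGroup.to_sup_of_normal_right' P.isPGroup' h3
      intro y hy
      rw [mem_normalizer_iff]
      have hyc : y ∈ centralizer ({(a : G)} : Set G) := hPA hy
      have key : ∀ z ∈ zpowers (g * x * g⁻¹), y * z * y⁻¹ = z := by
        intro z hz
        have hzc : z ∈ centralizer ({(a : G)} : Set G) := by
          have : zpowers (g * x * g⁻¹) ≤ centralizer ({(a : G)} : Set G) := by
            rw [zpowers_le]; exact hgx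
          exact this hz
        rw [hab' y z hyc hzc]; group
      intro z
      constructor
      · intro hz
        have h5 := key z hz
        show y * z * y⁻¹ ∈ zpowers (g * x * g⁻¹)
        rw [h5]; exact hz
      · intro hz
        have hyi : y⁻¹ ∈ centralizer ({(a : G)} : Set G) := inv_mem hyc
        have hzc : y * z * y⁻¹ ∈ centralizer ({(a : G)} : Set G) := by
          have : zpowers (g * x * g⁻¹) ≤ centralizer ({(a : G)} : Set G) := by
            rw [zpowers_le]; exact hgx
          exact this hz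
        have h5 : z = y⁻¹ * (y * z * y⁻¹) * y := by group
        have h6 : y⁻¹ * (y * z * y⁻¹) * y = y * z * y⁻¹ := by
          rw [hab' y⁻¹ _ hyi hzc]; group
        show z ∈ zpowers (g * x * g⁻¹)
        rw [h5, h6]; exact hz
    have h5 : (P : Subgroup G) ⊔ zpowers (g * x * g⁻¹) = P := (P.is_maximal' h4 le_sup_left)
    rw [← h5]
    exact (le_sup_right : zpowers (g * x * g⁻¹) ≤ _) (mem_zpowers _)
  have := Fact.mk Nat.prime_two
  obtain ⟨g, hg⟩ := MulAction.exists_smul_eq G P Q
  rw [← hg, Sylow.smul_eq_of_normal]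
  exact hPn

end Cfsg.Agent.S2202
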