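import Cfsg.Statements.S3377
import Cfsg.Agent.Lib.H60.Tri235

set_option autoImplicit false
open Cfsg

namespace Cfsg.Agent.S3377

theorem card_alt5 : Nat.card (alternatingGroup (Fin 5)) = 60 := by
  have h1 := two_mul_nat_card_alternatingGroup (α := Fin 5)
  rw [Nat.card_perm, Nat.card_eq_fintype_card (α := Fin 5), Fintype.card_fin] at h1
  have : (5 : ℕ).factorial = 120 := by decide
  omega

theorem top_of_orders (K : Subgroup (alternatingGroup (Fin 5))) (h2 : 2 ∣ Nat.card K) (h3 : 3 ∣ Nat.card K)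
    (h5 : 5 ∣ Nat.card K) : K = ⊤ := by
  have h30 : 30 ∣ Nat.card K := by
    have h6 : 2 * 3 ∣ Nat.card K := Nat.Coprime.mul_dvd_of_dvd_of_dvd (by norm_num) h2 h3
    exact Nat.Coprime.mul_dvd_of_dvd_of_dvd (m := 6) (n := 5) (by norm_num) h6 h5
  have hmul := K.card_mul_index
  rw [card_alt5] at hmul
  obtain ⟨c, hc⟩ := h30
  rw [hc] at hmul
  have hidx : c * K.index = 2 := by nlinarith
  have hdvd : K.index ∣ 2 := ⟨c, by rw [mul_comm]; exact hidx.symm⟩
  have hs : IsSimpleGroup (alternatingGroup (Fin 5)) := alternatingGroup.isSimpleGroup_five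
  rcases (Nat.dvd_prime Nat.prime_two).mp hdvd with h | h
  · exact Subgroup.index_eq_one.mp h
  · have hn : K.Normal := Subgroup.normal_of_index_eq_two h
    rcases hn.eq_bot_or_eq_top with hb | ht
    · rw [hb] at hc
      rw [Nat.card_eq_one_iff_unique.mpr ⟨inferInstance, inferInstance⟩] at hc
      omega
    · exact ht

/-- The alternating group of degree 5 has the presentation ⟨x, y | x³ = 1, y⁵ = 1, (xy)² = 1⟩: the group so presented is isomorphic to Alt(5). -/
theorem result :
    Nonempty (PresentedGroup ({FreeGroup.of (0 : Fin 2) ^ 3, FreeGroup.of (1 : Fin 2) ^ 5,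
        (FreeGroup.of (0 : Fin 2) * FreeGroup.of 1) ^ 2} : Set (FreeGroup (Fin 2))) ≃* alternatingGroup (Fin 5)) := by
  set rels : Set (FreeGroup (Fin 2)) := {FreeGroup.of (0 : Fin 2) ^ 3, FreeGroup.of (1 : Fin 2) ^ 5,
        (FreeGroup.of (0 : Fin 2) * FreeGroup.of 1) ^ 2} with hrels
  let a : alternatingGroup (Fin 5) := ⟨Equiv.swap 1 4 * Equiv.swap 4 2, Equiv.Perm.mem_alternatingGroup.mpr (by decide)⟩
  let b : alternatingGroup (Fin 5) := ⟨finRotate 5, Equiv.Perm.mem_alternatingGroup.mpr (by decide)⟩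
  have ha3 : a ^ 3 = 1 := by decide
  have hb5 : b ^ 5 = 1 := by decide
  have hab2 : (a * b) ^ 2 = 1 := by decide
  have ha1 : a ≠ 1 := by decide
  have hb1 : b ≠ 1 := by decide
  have hab1 : a * b ≠ 1 := by decide
  have hker : ∀ r ∈ rels, FreeGroup.lift (![a, b]) r = 1 := by
    rintro r (rfl | rfl | hr)
    · simp only [map_pow, FreeGroup.lift_apply_of]; exact ha3
    · simp only [map_pow, FreeGroup.lift_apply_of]; exact hb5
    · rw [Set.mem_singleton_iff.mp hr]
      simp only [map_pow, map_mul, FreeGroup.lift_apply_of]; exact hab2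
  let φ : PresentedGroup rels →* alternatingGroup (Fin 5) := PresentedGroup.toGroup hker
  have hφ0 : φ (PresentedGroup.of 0) = a := by simp only [φ, PresentedGroup.toGroup.of]; rfl
  have hφ1 : φ (PresentedGroup.of 1) = b := by simp only [φ, PresentedGroup.toGroup.of]; rfl
  have hsurj : Function.Surjective φ := by
    rw [← MonoidHom.range_eq_top]
    have hma : a ∈ φ.range := ⟨_, hφ0⟩
    have hmb : b ∈ φ.range := ⟨_, hφ1⟩
    have hd : ∀ g ∈ φ.range, orderOf g ∣ Nat.card φ.range := fun g hg => Subgroup.orderOf_dvd_natCard _ hg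
    have e2 : orderOf (a * b) = 2 := orderOf_eq_prime hab2 hab1
    have : Fact (Nat.Prime 3) := ⟨by norm_num⟩
    have : Fact (Nat.Prime 5) := ⟨by norm_num⟩
    have e3 : orderOf a = 3 := orderOf_eq_prime ha3 ha1
    have e5 : orderOf b = 5 := orderOf_eq_prime hb5 hb1
    apply top_of_orders
    · exact (dvd_of_eq e2.symm).trans (hd _ (φ.range.mul_mem hma hmb))
    · exact (dvd_of_eq e3.symm).trans (hd _ hma)
    · exact (dvd_of_eq e5.symm).trans (hd _ hmb)
  have r0 : (PresentedGroup.of 0 : PresentedGroup rels) ^ 3 = 1 := by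
    have : PresentedGroup.mk rels (FreeGroup.of 0 ^ 3) = 1 := PresentedGroup.one_of_mem (by left; rfl)
    rwa [map_pow] at this
  have r1 : (PresentedGroup.of 1 : PresentedGroup rels) ^ 5 = 1 := by
    have : PresentedGroup.mk rels (FreeGroup.of 1 ^ 5) = 1 := PresentedGroup.one_of_mem (by right; left; rfl)
    rwa [map_pow] at this
  have r2 : (PresentedGroup.of 0 * PresentedGroup.of 1 : PresentedGroup rels) ^ 2 = 1 := by
    have : PresentedGroup.mk rels ((FreeGroup.of 0 * FreeGroup.of 1) ^ 2) = 1 :=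
      PresentedGroup.one_of_mem (by right; right; rfl)
    rwa [map_pow, map_mul] at this
  have htop : Subgroup.closure {PresentedGroup.of (0 : Fin 2), (PresentedGroup.of 1 : PresentedGroup rels)} = ⊤ := by
    rw [← PresentedGroup.closure_range_of]
    congr 1
    ext y
    constructor
    · rintro (rfl | hy)
      · exact ⟨0, rfl⟩
      · exact ⟨1, (Set.mem_singleton_iff.mp hy).symm⟩
    · rintro ⟨i, rfl⟩
      fin_cases i
      · left; rfl
      · right; rfl
  obtain ⟨hfin, hcard⟩ := H60.Tri235.card_closure_le (PresentedGroup.of (0 : Fin 2) : PresentedGroup rels)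
    (PresentedGroup.of 1) 1 r0 r1 r2 (one_pow 2) (by simp) (by simp) htop
  rw [orderOf_one] at hcard
  have hbij : Function.Bijective φ := by
    apply hsurj.bijective_of_nat_card_le
    rw [card_alt5]
    exact hcard
  exact ⟨MulEquiv.ofBijective φ hbij⟩

end Cfsg.Agent.S3377
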