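import Cfsg.Statements.S3378
import Cfsg.Agent.Lib.H60.Tri235
import Cfsg.Agent.Lib.H60.Ord60
import Cfsg.Agent.Lib.H85.SL2
import Cfsg.Agent.Lib.H25.SL2Card
import Cfsg.Agent.S3377

set_option autoImplicit false
open Cfsg

namespace Cfsg.Agent.S3378

open Subgroup

abbrev rels : Set (FreeGroup (Fin 3)) := {FreeGroup.of (0 : Fin 3) ^ 3, FreeGroup.of (1 : Fin 3) ^ 5, FreeGroup.of (2 : Fin 3) ^ 2,
        (FreeGroup.of (2 : Fin 3))⁻¹ * FreeGroup.of 0 * FreeGroup.of 2 * (FreeGroup.of (0 : Fin 3))⁻¹,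
        (FreeGroup.of (2 : Fin 3))⁻¹ * FreeGroup.of 1 * FreeGroup.of 2 * (FreeGroup.of (1 : Fin 3))⁻¹,
        (FreeGroup.of (0 : Fin 3) * FreeGroup.of 1) ^ 2 * (FreeGroup.of (2 : Fin 3))⁻¹}

theorem comm_iff {G : Type*} [Group G] (x z : G) : z⁻¹ * x * z * x⁻¹ = 1 ↔ z * x = x * z := by
  constructor
  · intro h
    have h1 : z⁻¹ * (x * z) = x := by
      have := mul_inv_eq_one.mp h
      rwa [mul_assoc] at this
    calc z * x = z * (z⁻¹ * (x * z)) := by rw [h1]
      _ = x * z := by group
  · intro h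
    rw [mul_inv_eq_one, mul_assoc, ← h]; group

theorem iso_of_gens {G : Type*} [Group G] (hc : 120 ≤ Nat.card G) (x y z : G) (hx : x ^ 3 = 1) (hy : y ^ 5 = 1)
    (hz : z ^ 2 = 1) (hzx : z * x = x * z) (hzy : z * y = y * z) (hxy : (x * y) ^ 2 = z)
    (hcl : Subgroup.closure {x, y} = ⊤) : Nonempty (PresentedGroup rels ≃* G) := by
  have hker : ∀ r ∈ rels, FreeGroup.lift (![x, y, z]) r = 1 := by
    rintro r (rfl | rfl | rfl | rfl | rfl | hr)
    · simp only [map_pow, FreeGroup.lift_apply_of]; exact hx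
    · simp only [map_pow, FreeGroup.lift_apply_of]; exact hy
    · simp only [map_pow, FreeGroup.lift_apply_of]; exact hz
    · simp only [map_mul, map_inv, FreeGroup.lift_apply_of]; exact (comm_iff x z).mpr hzx
    · simp only [map_mul, map_inv, FreeGroup.lift_apply_of]; exact (comm_iff y z).mpr hzy
    · rw [Set.mem_singleton_iff.mp hr]
      simp only [map_pow, map_mul, map_inv, FreeGroup.lift_apply_of]; exact mul_inv_eq_one.mpr hxy
  let φ : PresentedGroup rels →* G := PresentedGroup.toGroup hker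
  have hφ0 : φ (PresentedGroup.of 0) = x := by simp only [φ, PresentedGroup.toGroup.of]; rfl
  have hφ1 : φ (PresentedGroup.of 1) = y := by simp only [φ, PresentedGroup.toGroup.of]; rfl
  have hsurj : Function.Surjective φ := by
    rw [← MonoidHom.range_eq_top, ← top_le_iff, ← hcl, closure_le]
    rintro w (rfl | hw)
    · exact ⟨_, hφ0⟩
    · rw [Set.mem_singleton_iff.mp hw]; exact ⟨_, hφ1⟩
  have hmk : ∀ r ∈ rels, PresentedGroup.mk rels r = 1 := fun r hr => PresentedGroup.one_of_mem hr
  let X : PresentedGroup rels := PresentedGroup.of 0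
  let Y : PresentedGroup rels := PresentedGroup.of 1
  let Z : PresentedGroup rels := PresentedGroup.of 2
  have r0 : X ^ 3 = 1 := by
    have := hmk (FreeGroup.of 0 ^ 3) (by left; rfl)
    rwa [map_pow] at this
  have r1 : Y ^ 5 = 1 := by
    have := hmk (FreeGroup.of 1 ^ 5) (by right; left; rfl)
    rwa [map_pow] at this
  have r2 : Z ^ 2 = 1 := by
    have := hmk (FreeGroup.of 2 ^ 2) (by right; right; left; rfl)
    rwa [map_pow] at this
  have r3 : Z * X = X * Z := by
    have := hmk ((FreeGroup.of (2 : Fin 3))⁻¹ * FreeGroup.of 0 * FreeGroup.of 2 * (FreeGroup.of (0 : Fin 3))⁻¹)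
      (by right; right; right; left; rfl)
    rw [map_mul, map_mul, map_mul, map_inv, map_inv] at this
    exact (comm_iff X Z).mp this
  have r4 : Z * Y = Y * Z := by
    have := hmk ((FreeGroup.of (2 : Fin 3))⁻¹ * FreeGroup.of 1 * FreeGroup.of 2 * (FreeGroup.of (1 : Fin 3))⁻¹)
      (by right; right; right; right; left; rfl)
    rw [map_mul, map_mul, map_mul, map_inv, map_inv] at this
    exact (comm_iff Y Z).mp this
  have r5 : (X * Y) ^ 2 = Z := by
    have := hmk ((FreeGroup.of (0 : Fin 3) * FreeGroup.of 1) ^ 2 * (FreeGroup.of (2 : Fin 3))⁻¹)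
      (by right; right; right; right; right; rfl)
    rw [map_mul, map_pow, map_mul, map_inv] at this
    exact mul_inv_eq_one.mp this
  have htop : Subgroup.closure {X, Y} = ⊤ := by
    rw [eq_top_iff, ← PresentedGroup.closure_range_of, closure_le]
    have hX : X ∈ Subgroup.closure {X, Y} := subset_closure (by left; rfl)
    have hY : Y ∈ Subgroup.closure {X, Y} := subset_closure (by right; rfl)
    rintro _ ⟨i, rfl⟩
    fin_cases i
    · exact hX
    · exact hY
    · change Z ∈ Subgroup.closure {X, Y}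
      rw [← r5]
      exact pow_mem (mul_mem hX hY) 2
  obtain ⟨hfin, hcard⟩ := H60.Tri235.card_closure_le X Y Z r0 r1 r5 r2 r3 r4 htop
  have ho : orderOf Z ≤ 2 := Nat.le_of_dvd (by norm_num) (orderOf_dvd_of_pow_eq_one r2)
  have hbij : Function.Bijective φ := by
    apply hsurj.bijective_of_nat_card_le
    omega
  exact ⟨MulEquiv.ofBijective φ hbij⟩

instance : Fact (Nat.Prime 5) := ⟨by norm_num⟩

theorem sl_iso : Nonempty (PresentedGroup rels ≃* Matrix.SpecialLinearGroup (Fin 2) (ZMod 5)) := by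
  let x : Matrix.SpecialLinearGroup (Fin 2) (ZMod 5) := ⟨!![0, -1; 1, -1], by simp⟩
  let y : Matrix.SpecialLinearGroup (Fin 2) (ZMod 5) := ⟨!![1, 1; 0, 1], by simp⟩
  let z : Matrix.SpecialLinearGroup (Fin 2) (ZMod 5) := ⟨!![-1, 0; 0, -1], by simp⟩
  refine iso_of_gens ?_ x y z (Subtype.ext (by decide +kernel)) (Subtype.ext (by decide +kernel))
    (Subtype.ext (by decide +kernel)) (Subtype.ext (by decide +kernel)) (Subtype.ext (by decide +kernel))
    (Subtype.ext (by decide +kernel)) ?_
  · have := H25.SL2Card.card_SL2 (K := ZMod 5)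
    rw [this, ZMod.card]; norm_num
  · have hy : ∀ t : ZMod 5, H85.SL2.up t ∈ Subgroup.closure {x, y} := by
      intro t
      have : H85.SL2.up t = y ^ t.val := by
        have : y = H85.SL2.up 1 := rfl
        rw [this, H85.SL2.up_pow, ZMod.natCast_zmod_val, mul_one]
      rw [this]
      exact pow_mem (subset_closure (by right; rfl)) _
    have hxy : x * y ∈ Subgroup.closure {x, y} := mul_mem (subset_closure (by left; rfl)) (subset_closure (by right; rfl))
    have hl : ∀ t : ZMod 5, H85.SL2.lo t ∈ Subgroup.closure {x, y} := by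
      intro t
      have h1 : H85.SL2.lo 1 = ((x * y) * y * (x * y)⁻¹)⁻¹ := Subtype.ext (by decide +kernel)
      have : H85.SL2.lo t = (((x * y) * y * (x * y)⁻¹)⁻¹) ^ t.val := by
        rw [← h1, H85.SL2.lo_pow, ZMod.natCast_zmod_val, mul_one]
      rw [this]
      exact pow_mem (inv_mem (mul_mem (mul_mem hxy (subset_closure (by right; rfl))) (inv_mem hxy))) _
    rw [← top_le_iff, ← H85.SL2.sup_eq_top, sup_le_iff]
    constructor
    · intro g hg
      obtain ⟨t, rfl⟩ := H85.SL2.mem_lower.1 hg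
      exact hl t
    · intro g hg
      obtain ⟨t, rfl⟩ := H85.SL2.mem_upper.1 hg
      exact hy t

theorem quat_inv : ∀ a b : QuaternionGroup 2, a ≠ 1 → a * a = 1 → b ≠ 1 → b * b = 1 → a = b := by decide

theorem quat_pow : ∀ a : QuaternionGroup 2, a ≠ 1 → a * a = 1 ∨ (a * a ≠ 1 ∧ (a * a) * (a * a) = 1) := by decide

theorem solv_of_quot {G : Type*} [Group G] (N : Subgroup G) [N.Normal] (h1 : Group.IsSolvable N)
    (h2 : Group.IsSolvable (G ⧸ N)) : Group.IsSolvable G :=
  Group.isSolvable_of_ker_le_range N.subtype (QuotientGroup.mk' N) (by simp)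

theorem part1 {G : Type*} [Group G] [Finite G] (h : Nat.card G = 120) (hs : ¬ Group.IsSolvable G)
    (hQ : ∀ P : Sylow 2 G, Nonempty ((P : Subgroup G) ≃* QuaternionGroup 2)) :
    Nonempty (PresentedGroup rels ≃* G) := by
  have : Fact (Nat.Prime 2) := ⟨by norm_num⟩
  obtain ⟨Q0⟩ : Nonempty (Sylow 5 G) := inferInstance
  have hcard5 : Nat.card G = 5 ^ 1 * 24 := by rw [h]; norm_num
  have hn5 : Nat.card (Sylow 5 G) ∣ 24 := H21.SylowTools.card_sylow_dvd_of_card hcard5
  have hmod := card_sylow_modEq_one 5 G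
  have hcQ : ∀ Q : Sylow 5 G, Nat.card (Q : Subgroup G) = 5 := by
    intro Q
    have := H21.SylowTools.card_sylow_eq_pow hcard5 (by norm_num) Q
    simpa using this
  have hn1 : Nat.card (Sylow 5 G) ≠ 1 := by
    intro h1
    have hidx : Nat.card (Sylow 5 G) = (Subgroup.normalizer ((Q0 : Subgroup G) : Set G)).index :=
      Q0.card_eq_index_normalizer
    rw [h1] at hidx
    have hN : (Q0 : Subgroup G).Normal := Subgroup.normalizer_eq_top_iff.mp (Subgroup.index_eq_one.mp hidx.symm)
    apply hs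
    apply solv_of_quot (Q0 : Subgroup G)
    · exact H4.Burnside.isSolvable_of_card_eq 2 5 (by norm_num) (by norm_num) _ _ rfl ⟨0, 1, by rw [hcQ]; norm_num⟩
    · apply H4.Burnside.isSolvable_of_card_eq 2 3 (by norm_num) (by norm_num) _ _ rfl
      refine ⟨3, 1, ?_⟩
      have h2 := (Q0 : Subgroup G).card_mul_index
      rw [h, hcQ] at h2
      have h3 : Nat.card (G ⧸ (Q0 : Subgroup G)) = (Q0 : Subgroup G).index := rfl
      rw [h3]; omega
  have hn6 : Nat.card (Sylow 5 G) = 6 := by
    have h24 : Nat.card (Sylow 5 G) ≤ 24 := Nat.le_of_dvd (by norm_num) hn5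
    generalize Nat.card (Sylow 5 G) = n at *
    unfold Nat.ModEq at hmod
    interval_cases n <;> first | rfl | omega | (exfalso; revert hn5; decide)
  let K : Subgroup G := (MulAction.toPermHom G (Sylow 5 G)).ker
  have hK : ∀ g : G, g ∈ K ↔ ∀ Q : Sylow 5 G, g • Q = Q := by
    intro g
    rw [MonoidHom.mem_ker]
    constructor
    · intro hg Q
      have := congrArg (fun f : Equiv.Perm (Sylow 5 G) => f Q) hg
      simpa using this
    · intro hg
      ext Q : 1
      simpa using hg Q
  -- involutions are in K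
  have hinv : ∀ s : G, s ≠ 1 → s * s = 1 → s ∈ K := by
    intro s hs1 hs2
    rw [hK]
    intro Q
    have hp : IsPGroup 2 (Subgroup.zpowers s) := by
      have ho : orderOf s = 2 := orderOf_eq_prime (by rw [pow_two]; exact hs2) hs1
      exact IsPGroup.of_card (n := 1) (by rw [Nat.card_zpowers, ho, pow_one])
    obtain ⟨P, hP⟩ := hp.exists_le_sylow
    have hsP : s ∈ (P : Subgroup G) := hP (Subgroup.mem_zpowers s)
    obtain ⟨e⟩ := hQ P
    have hcP : Nat.card (P : Subgroup G) = 8 := by
      rw [Nat.card_congr e.toEquiv, Nat.card_eq_fintype_card]; decide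
    obtain ⟨r, hr1, hr⟩ : ∃ r : (P : Subgroup G), r ≠ 1 ∧ (r : G) • Q = Q := by
      by_contra hcon
      push Not at hcon
      have hinj : Function.Injective (fun r : (P : Subgroup G) => (r : G) • Q) := by
        intro a b hab
        simp only at hab
        by_contra hne
        apply hcon (a⁻¹ * b) (fun h1 => hne (inv_mul_eq_one.mp h1))
        rw [Subgroup.coe_mul, Subgroup.coe_inv, mul_smul, ← hab, inv_smul_smul]
      have := Nat.card_le_card_of_injective _ hinj
      omega
    have hsP1 : (⟨s, hsP⟩ : (P : Subgroup G)) ≠ 1 := fun h1 => hs1 (congrArg Subtype.val h1)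
    have hsP2 : (⟨s, hsP⟩ : (P : Subgroup G)) * ⟨s, hsP⟩ = 1 := Subtype.ext hs2
    have huniq : ∀ u : (P : Subgroup G), u ≠ 1 → u * u = 1 → (u : G) = s := by
      intro u hu1 hu2
      have := quat_inv (e u) (e ⟨s, hsP⟩) (by simpa using hu1) (by rw [← map_mul, hu2, map_one])
        (by simpa using hsP1) (by rw [← map_mul, hsP2, map_one])
      exact congrArg Subtype.val (e.injective this)
    rcases quat_pow (e r) (by simpa using hr1) with h1 | ⟨h1, h2⟩
    · rw [← map_mul] at h1
      have h3 : r * r = 1 := (map_eq_one_iff e e.injective).mp h1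
      rw [← huniq r hr1 h3]; exact hr
    · rw [← map_mul] at h1 h2
      rw [← map_mul] at h2
      have h3 : r * r ≠ 1 := fun h5 => h1 ((map_eq_one_iff e e.injective).mpr h5)
      have h4 : r * r * (r * r) = 1 := (map_eq_one_iff e e.injective).mp h2
      rw [← huniq (r * r) h3 h4, Subgroup.coe_mul, mul_smul, hr, hr]
  -- order of K
  have hKn : ∀ Q : Sylow 5 G, K ≤ Subgroup.normalizer ((Q : Subgroup G) : Set G) := by
    intro Q g hg
    exact (Sylow.smul_eq_iff_mem_normalizer).mp ((hK g).mp hg Q)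
  have hK20 : Nat.card K ∣ 20 := by
    have h1 := Subgroup.card_dvd_of_le (hKn Q0)
    have h2 := H21.SylowTools.card_normalizer_mul_card_sylow Q0
    rw [hn6, h] at h2
    have h3 : Nat.card (Subgroup.normalizer ((Q0 : Subgroup G) : Set G)) = 20 := by omega
    rwa [h3] at h1
  have hK5 : ¬ 5 ∣ Nat.card K := by
    intro hd
    obtain ⟨g, hg⟩ := exists_prime_orderOf_dvd_card' 5 hd
    have ho : orderOf (g : G) = 5 := by rw [Subgroup.orderOf_coe]; exact hg
    have hz : ∀ Q : Sylow 5 G, Subgroup.zpowers (g : G) = (Q : Subgroup G) := by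
      intro Q
      have hp : IsPGroup 5 (Subgroup.zpowers (g : G)) :=
        IsPGroup.of_card (n := 1) (by rw [Nat.card_zpowers, ho, pow_one])
      have h1 := hp.inf_normalizer_sylow Q
      have h2 : Subgroup.zpowers (g : G) ≤ Subgroup.normalizer ((Q : Subgroup G) : Set G) := by
        rw [Subgroup.zpowers_le]; exact hKn Q g.2
      have h3 : Subgroup.zpowers (g : G) ≤ Q := by
        have h4 : Subgroup.zpowers (g : G) ⊓ Subgroup.normalizer ((Q : Subgroup G) : Set G) = Subgroup.zpowers (g : G) :=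
          inf_eq_left.mpr h2
        rw [← h4]
        exact h1.le.trans inf_le_right
      apply Subgroup.eq_of_le_of_card_ge h3
      rw [Nat.card_zpowers, ho, hcQ]
    apply hn1
    have : Subsingleton (Sylow 5 G) := ⟨fun A B => Sylow.ext ((hz A).symm.trans (hz B))⟩
    exact Nat.card_eq_one_iff_unique.mpr ⟨this, ⟨Q0⟩⟩
  obtain ⟨P0⟩ : Nonempty (Sylow 2 G) := inferInstance
  obtain ⟨t, ht1, ht2⟩ : ∃ t : G, t ≠ 1 ∧ t * t = 1 := by
    obtain ⟨g, hg⟩ := exists_prime_orderOf_dvd_card' (G := G) 2 (by rw [h]; norm_num)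
    refine ⟨g, ?_, ?_⟩
    · rintro rfl; rw [orderOf_one] at hg; omega
    · rw [← pow_two, ← hg, pow_orderOf_eq_one]
  have htK := hinv t ht1 ht2
  have hKc : Nat.card K = 2 := by
    have h1 : Nat.card K ≠ 1 := by
      intro h1
      have := Subgroup.eq_bot_of_card_eq K h1
      rw [this, Subgroup.mem_bot] at htK
      exact ht1 htK
    have h4 : Nat.card K ≠ 4 := by
      intro h4
      apply hs
      apply solv_of_quot K
      · exact H4.Burnside.isSolvable_of_card_eq 2 5 (by norm_num) (by norm_num) _ _ rfl ⟨2, 0, by rw [h4]; norm_num⟩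
      · apply H60.Ord60.solvable_of_dvd
        · have h3 : Nat.card (G ⧸ K) = K.index := rfl
          have h5 := K.card_mul_index
          rw [h, h4] at h5
          rw [h3]
          have : K.index = 30 := by omega
          rw [this]; norm_num
        · have h3 : Nat.card (G ⧸ K) = K.index := rfl
          have h5 := K.card_mul_index
          rw [h, h4] at h5
          rw [h3]
          omega
    have h20 : Nat.card K ≤ 20 := Nat.le_of_dvd (by norm_num) hK20
    generalize Nat.card K = n at *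
    interval_cases n <;> first | rfl | omega | (exfalso; revert hK20; decide) | (exfalso; revert hK5; decide)
  have hKt : ∀ g ∈ K, g = 1 ∨ g = t := by
    intro g hg
    by_contra hcon
    push Not at hcon
    have hinj : Function.Injective (![⟨1, K.one_mem⟩, ⟨t, htK⟩, ⟨g, hg⟩] : Fin 3 → K) := by
      intro i j hij
      have := congrArg Subtype.val hij
      fin_cases i <;> fin_cases j <;> simp at this <;> first | rfl | (exfalso; first | exact ht1 this | exact ht1 this.symm | exact hcon.1 this | exact hcon.1 this.symm | exact hcon.2 this | exact hcon.2 this.symm)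
    have := Nat.card_le_card_of_injective _ hinj
    rw [hKc, Nat.card_eq_fintype_card, Fintype.card_fin] at this
    omega
  have hKN : K.Normal := MonoidHom.normal_ker _
  have htc : ∀ g : G, t * g = g * t := by
    intro g
    rcases hKt _ (hKN.conj_mem t htK g) with h1 | h1
    · exfalso; apply ht1
      have : t = g⁻¹ * (g * t * g⁻¹) * g := by group
      rw [this, h1]; group
    · have : g * t = (g * t * g⁻¹) * g := by group
      rw [this, h1]
  -- the quotient
  have hqc : Nat.card (G ⧸ K) = 60 := by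
    have h5 := K.card_mul_index
    rw [h, hKc] at h5
    have h3 : Nat.card (G ⧸ K) = K.index := rfl
    omega
  have hqs : ¬ Group.IsSolvable (G ⧸ K) := by
    intro hsq
    apply hs
    apply solv_of_quot K _ hsq
    exact H4.Burnside.isSolvable_of_card_eq 2 5 (by norm_num) (by norm_num) _ _ rfl ⟨1, 0, by rw [hKc]; norm_num⟩
  have := H60.Ord60.isSimple_of_not_solvable hqc hqs
  obtain ⟨e⟩ := H60.Ord60.iso_alt5 hqc
  let π : G →* alternatingGroup (Fin 5) := e.toMonoidHom.comp (QuotientGroup.mk' K)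
  have hπs : Function.Surjective π := e.surjective.comp (QuotientGroup.mk'_surjective K)
  have hπk : ∀ g, π g = 1 ↔ g ∈ K := by
    intro g
    change e (QuotientGroup.mk' K g) = 1 ↔ _
    rw [map_eq_one_iff e e.injective]
    exact QuotientGroup.eq_one_iff g
  let a : alternatingGroup (Fin 5) := ⟨Equiv.swap 1 4 * Equiv.swap 4 2, Equiv.Perm.mem_alternatingGroup.mpr (by decide)⟩
  let b : alternatingGroup (Fin 5) := ⟨finRotate 5, Equiv.Perm.mem_alternatingGroup.mpr (by decide)⟩
  have ha3 : a ^ 3 = 1 := by decide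
  have hb5 : b ^ 5 = 1 := by decide
  have hab2 : (a * b) ^ 2 = 1 := by decide
  have ha1 : a ≠ 1 := by decide
  have hb1 : b ≠ 1 := by decide
  have hab1 : a * b ≠ 1 := by decide
  have hπt : π t = 1 := (hπk t).mpr htK
  have hlift : ∀ (c : alternatingGroup (Fin 5)) (n : ℕ), c ^ n = 1 → Odd n → ∃ x, π x = c ∧ x ^ n = 1 := by
    intro c n hc hn
    obtain ⟨x, hx⟩ := hπs c
    rcases hKt (x ^ n) ((hπk _).mp (by rw [map_pow, hx, hc])) with h1 | h1
    · exact ⟨x, hx, h1⟩
    · refine ⟨x * t, by rw [map_mul, hx, hπt, mul_one], ?_⟩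
      have hcm : Commute x t := (htc x).symm
      rw [hcm.mul_pow, h1]
      obtain ⟨k, rfl⟩ := hn
      rw [pow_succ, pow_mul, pow_two, ht2, one_pow, one_mul, ht2]
  obtain ⟨x, hxa, hx3⟩ := hlift a 3 ha3 (by decide)
  obtain ⟨y, hyb, hy5⟩ := hlift b 5 hb5 (by decide)
  have hxy : (x * y) ^ 2 = t := by
    rcases hKt ((x * y) ^ 2) ((hπk _).mp (by rw [map_pow, map_mul, hxa, hyb, hab2])) with h1 | h1
    · exfalso
      have hne : x * y ≠ 1 := by
        intro h2
        apply hab1
        rw [← hxa, ← hyb, ← map_mul, h2, map_one]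
      have h2 := hinv (x * y) hne (by rw [← pow_two]; exact h1)
      rw [← hπk, map_mul, hxa, hyb] at h2
      exact hab1 h2
    · exact h1
  have hcl : Subgroup.closure {x, y} = ⊤ := by
    set H := Subgroup.closure {x, y} with hH
    have hx : x ∈ H := Subgroup.subset_closure (by left; rfl)
    have hy : y ∈ H := Subgroup.subset_closure (by right; rfl)
    have htH : t ∈ H := by rw [← hxy]; exact pow_mem (mul_mem hx hy) 2
    have hKH : K ≤ H := by
      intro g hg
      rcases hKt g hg with rfl | rfl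
      · exact H.one_mem
      · exact htH
    have hma : a ∈ H.map π := ⟨x, hx, hxa⟩
    have hmb : b ∈ H.map π := ⟨y, hy, hyb⟩
    have e2 : orderOf (a * b) = 2 := orderOf_eq_prime hab2 hab1
    have : Fact (Nat.Prime 3) := ⟨by norm_num⟩
    have e3 : orderOf a = 3 := orderOf_eq_prime ha3 ha1
    have e5 : orderOf b = 5 := orderOf_eq_prime hb5 hb1
    have htop : H.map π = ⊤ := by
      apply Cfsg.Agent.S3377.top_of_orders
      · exact (dvd_of_eq e2.symm).trans (Subgroup.orderOf_dvd_natCard _ (mul_mem hma hmb))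
      · exact (dvd_of_eq e3.symm).trans (Subgroup.orderOf_dvd_natCard _ hma)
      · exact (dvd_of_eq e5.symm).trans (Subgroup.orderOf_dvd_natCard _ hmb)
    rw [eq_top_iff]
    intro g _
    obtain ⟨u, hu, hug⟩ : π g ∈ H.map π := by rw [htop]; trivial
    have h1 : g * u⁻¹ ∈ H := hKH ((hπk _).mp (by rw [map_mul, map_inv, hug, mul_inv_cancel]))
    have h2 := H.mul_mem h1 hu
    rwa [inv_mul_cancel_right] at h2
  exact iso_of_gens (by omega) x y t hx3 hy5 (by rw [pow_two]; exact ht2) (htc x) (htc y) hxy hcl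

/-- Every non-solvable group of order 120 whose Sylow 2-subgroups are quaternion of order 8 is isomorphic to SL(2,5), and SL(2,5) has the presentation ⟨x, y, z | x³ = y⁵ = z² = 1, z⁻¹xz = x, z⁻¹yz = y, (xy)² = z⟩. -/
theorem result :
    (∀ (G : Type*) [Group G] [Finite G], Nat.card G = 120 → ¬ Group.IsSolvable G →
      (∀ P : Sylow 2 G, Nonempty ((P : Subgroup G) ≃* QuaternionGroup 2)) →
      Nonempty (G ≃* Matrix.SpecialLinearGroup (Fin 2) (ZMod 5))) ∧
    Nonempty (PresentedGroup ({FreeGroup.of (0 : Fin 3) ^ 3, FreeGroup.of (1 : Fin 3) ^ 5, FreeGroup.of (2 : Fin 3) ^ 2,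
        (FreeGroup.of (2 : Fin 3))⁻¹ * FreeGroup.of 0 * FreeGroup.of 2 * (FreeGroup.of (0 : Fin 3))⁻¹,
        (FreeGroup.of (2 : Fin 3))⁻¹ * FreeGroup.of 1 * FreeGroup.of 2 * (FreeGroup.of (1 : Fin 3))⁻¹,
        (FreeGroup.of (0 : Fin 3) * FreeGroup.of 1) ^ 2 * (FreeGroup.of (2 : Fin 3))⁻¹} : Set (FreeGroup (Fin 3)))
      ≃* Matrix.SpecialLinearGroup (Fin 2) (ZMod 5)) := by
  refine ⟨?_, sl_iso⟩
  intro G _ _ h hs hQ
  obtain ⟨e1⟩ := part1 h hs hQ
  obtain ⟨e2⟩ := sl_iso
  exact ⟨e1.symm.trans e2⟩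

end Cfsg.Agent.S3378
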