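import Cfsg.Statements.S0346
import Cfsg.Agent.Lib.H8.ZassFeit
import Cfsg.Agent.Lib.H8.ZassEvenS
import Cfsg.Agent.Lib.H8.ZassPSL2

set_option autoImplicit false
open Cfsg

namespace Cfsg.Agent.S0346

/-- The number of points of a finite simple Zassenhaus group is `p^k + 1` for some prime power `p^k` (the regular normal
subgroup of a point stabiliser is a `p`-group). -/
theorem result {G Ω : Type*} [Group G] [Finite G] [MulAction G Ω] [Fintype Ω]
    (hZ : Cfsg.IsZassenhausGroup G Ω) [IsSimpleGroup G] :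
    IsPrimePow (Fintype.card Ω - 1) := by
  classical
  obtain ⟨g, hg, a, b, hab, -, -⟩ := hZ.2.2.2.1
  rcases Nat.even_or_odd (Nat.card (H8.Zass.E2 G a b)) with he | ho
  · obtain ⟨F, iF, iFf, hcard, -, -⟩ := H8.ZassSimp.even_main hZ hab he
    rw [hcard, Nat.add_sub_cancel]
    exact FiniteField.isPrimePow_card F
  · obtain ⟨K, hK⟩ := H8.Zass.exists_isKer hZ hab
    have hcardK := hK.card hZ hab
    rcases H8.ZassFeit.gen_case _ rfl hZ hab hK ho with h | ⟨⟨n, hn⟩, -, -⟩
    · obtain ⟨F, iF, iFf, hcard, -⟩ := H8.ZassPSL2.main hZ hab ho (by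
        change Fintype.card Ω - 2 ≤ 2 * Nat.card (H8.Zass.E2 G a b)
        omega)
      rw [hcard, Nat.add_sub_cancel]
      exact FiniteField.isPrimePow_card F
    · have h3 := H16.ZassFrob.three_le_card hZ hab
      have h4 : Fintype.card Ω - 1 = 2 ^ n := by omega
      rw [h4]
      apply Nat.prime_two.isPrimePow.pow
      rintro rfl
      rw [pow_zero] at h4
      omega

end Cfsg.Agent.S0346
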