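import Cfsg.Statements.S0633
import Cfsg.Agent.Lib.H1.ThmB
import Cfsg.Agent.Lib.H66.PRed
import Cfsg.Agent.Lib.H30.BaseCh

set_option autoImplicit false
open Cfsg

namespace Cfsg.Agent.S0633

/-- Theorem B of Hall and Higman on the minimal polynomial of a p-element of order p^n in a p-solvable linear group on a nonzero vector space in characteristic p with no nontrivial normal p-subgroup: its degree is p^n, except when some p^n₀ - 1 (n₀ ≤ n) is a power of a prime q for which the Sylow q-subgroups are non-abelian, in which case the degree is at least p^(n-n₀)(p^n₀ - 1). -/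
theorem result {F : Type*} [Field F] {p : ℕ} [Fact p.Prime] [CharP F p] {V : Type*} [AddCommGroup V] [Module F V] [FiniteDimensional F V] [Nontrivial V] (H : Subgroup (V ≃ₗ[F] V)) [Finite H] (hsol : Cfsg.IsPSolvable p H) (hOp : Cfsg.pCore p H = ⊥) (x : V ≃ₗ[F] V) (hx : x ∈ H) (n : ℕ) (hn : orderOf x = p ^ n) (r : ℕ) (hr : minpoly F (x : Module.End F V) = (Polynomial.X - 1) ^ r) : r = p ^ n ∨ ∃ n₀ q m : ℕ, 1 ≤ n₀ ∧ n₀ ≤ n ∧ q.Prime ∧ 1 ≤ m ∧ p ^ n₀ - 1 = q ^ m ∧ (∀ Q : Sylow q H, ¬ IsMulCommutative Q) ∧ p ^ (n - n₀) * (p ^ n₀ - 1) ≤ r := by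
  classical
  have hpp : p.Prime := Fact.out
  by_cases hrn : r = p ^ n
  · exact Or.inl hrn
  right
  let T : Module.End F V := (x : Module.End F V)
  have hTx : ∀ v, T v = x v := fun v => rfl
  have hTpow : ∀ k : ℕ, T ^ k = ((x ^ k : V ≃ₗ[F] V) : Module.End F V) := by
    intro k
    induction k with
    | zero => ext v; rfl
    | succ k ih => rw [pow_succ, ih, pow_succ]; rfl
  have hTn : (T - 1) ^ (p ^ n) = 0 := by
    rw [H1.Crit.sub_one_pow' p n, hTpow, ← hn, pow_orderOf_eq_one]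
    exact sub_self (1 : Module.End F V)
  have hTr : (T - 1) ^ r = 0 := by
    have h1 := minpoly.aeval F T
    have h2 : minpoly F T = (Polynomial.X - 1) ^ r := hr
    rw [h2] at h1
    simpa using h1
  have hrle : r ≤ p ^ n := by
    have h1 : (Polynomial.X - 1 : Polynomial F) ^ r ∣ (Polynomial.X - 1) ^ (p ^ n) := by
      rw [← hr]
      apply minpoly.dvd
      have : (Polynomial.aeval T) ((Polynomial.X - 1 : Polynomial F) ^ (p ^ n)) = (T - 1) ^ (p ^ n) := by simp
      exact this.trans hTn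
    have hX : (Polynomial.X - 1 : Polynomial F) = Polynomial.X - Polynomial.C 1 := by simp
    have hX0 : (Polynomial.X - 1 : Polynomial F) ≠ 0 := by rw [hX]; exact Polynomial.X_sub_C_ne_zero 1
    have hXu : ¬ IsUnit (Polynomial.X - 1 : Polynomial F) := by rw [hX]; exact Polynomial.not_isUnit_X_sub_C 1
    exact (pow_dvd_pow_iff hX0 hXu).1 h1
  have hr0 : r ≠ 0 := by
    rintro rfl
    rw [pow_zero] at hTr
    exact one_ne_zero hTr
  have hn0 : n ≠ 0 := by
    rintro rfl
    rw [pow_zero] at hrle hrn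
    omega
  obtain ⟨n', rfl⟩ : ∃ n', n = n' + 1 := ⟨n - 1, by omega⟩
  have hsum : (T - 1) ^ (p ^ (n' + 1) - 1) = 0 := by
    obtain ⟨d, hd⟩ := Nat.exists_eq_add_of_le (show r ≤ p ^ (n' + 1) - 1 by omega)
    rw [hd, pow_add, hTr, zero_mul]
  -- group data
  let x' : H := ⟨x, hx⟩
  have hx' : orderOf x' = p ^ (n' + 1) := by rw [← hn]; exact Subgroup.orderOf_mk x hx
  set y := x' ^ (p ^ n') with hy
  have hyord : orderOf y = p := H1.ThmB.orderOf_y hx'
  have hycent : y ∉ Subgroup.centralizer (Cfsg.pPrimeCore p H : Set H) := by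
    intro h
    have h1 := H66.PRed.centralizer_pPrimeCore_le hsol hOp h
    have h2 : orderOf y ∣ Nat.card (Cfsg.pPrimeCore p H) := by
      have := orderOf_dvd_natCard (⟨y, h1⟩ : Cfsg.pPrimeCore p H)
      rwa [Subgroup.orderOf_mk] at this
    rw [hyord] at h2
    have h3 : (Nat.card (Cfsg.pPrimeCore p H)).Coprime p := H1.Cores.coprime_card_pPrimeCore p
    have := Nat.dvd_gcd h2 (dvd_refl p)
    rw [h3.gcd_eq_one] at this
    exact hpp.one_lt.ne' (Nat.dvd_one.1 this)
  haveI : (Cfsg.pPrimeCore p H).Normal := by infer_instance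
  obtain ⟨q, hq, hqp, Q, hQM, hQ, hxQ, hyQ⟩ := H66.PRed.exists_invariant_qgroup (Subgroup.zpowers x') (Cfsg.pPrimeCore p H)
    (by
      rw [IsPGroup.iff_card]
      exact ⟨n' + 1, by rw [Nat.card_zpowers, hx']⟩)
    (by rw [Subgroup.normalizer_eq_top]; exact le_top) (H1.Cores.coprime_card_pPrimeCore p) y hycent
  haveI : Fact q.Prime := ⟨hq⟩
  -- the representation over the algebraic closure
  let ρ₀ : H →* Module.End F V :=
    { toFun := fun g => ((g : V ≃ₗ[F] V) : Module.End F V)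
      map_one' := rfl
      map_mul' := fun _ _ => rfl }
  let K := AlgebraicClosure F
  let ρ : H →* Module.End K (TensorProduct F K V) := H30.BaseCh.bc K ρ₀
  haveI : CharP K p := charP_of_injective_algebraMap (algebraMap F K).injective p
  have hqK : (q : K) ≠ 0 := by
    intro h
    rw [CharP.cast_eq_zero_iff K p] at h
    exact hqp ((Nat.prime_dvd_prime_iff_eq hpp hq).1 h).symm
  have hpK : (p : K) = 0 := CharP.cast_eq_zero K p
  have hρ : ∀ m : ℕ, (T - 1) ^ m = 0 → ∀ v, ((ρ x' - 1) ^ m) v = 0 := by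
    intro m hm v
    have h1 : (ρ x' - 1) ^ m = LinearMap.baseChange K ((T - 1) ^ m) := by
      have h2 : ρ x' - 1 = LinearMap.baseChange K (T - 1) := by
        rw [LinearMap.baseChange_sub]
        congr 1
        exact LinearMap.baseChange_id.symm
      rw [h2]
      rw [LinearMap.baseChange_pow]
    rw [h1, hm, LinearMap.baseChange_zero]
    rfl
  have hT : ∀ v, ∑ j ∈ Finset.range (p ^ (n' + 1)), ρ (x' ^ j) v = 0 := by
    intro v
    have h1 := hρ _ hsum v
    rw [H1.Crit.sub_one_pow p (n' + 1), LinearMap.sum_apply] at h1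
    rw [← h1]
    exact Finset.sum_congr rfl fun i _ => by rw [map_pow]
  obtain ⟨⟨a, ha, b, hb, hab⟩, k, hk, ⟨m, hm, hm'⟩, h5⟩ := H1.ThmB.exceptional ρ (Ne.symm hqp) hqK hx' Q hQ
    (hxQ (Subgroup.mem_zpowers x')) hyQ (by
      intro g _ hg
      rw [H30.BaseCh.bc_eq_one_iff] at hg
      apply Subtype.ext
      ext v
      exact LinearMap.congr_fun hg v) hT
  refine ⟨n' + 1 - k, q, m, by omega, by omega, hq, hm, hm', ?_, ?_⟩
  · intro S hS
    obtain ⟨S', hS'⟩ := hQ.exists_le_sylow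
    obtain ⟨g, hg⟩ := MulAction.exists_smul_eq H S S'
    apply hab
    have key : ∀ c ∈ (S' : Subgroup H), ∀ d ∈ (S' : Subgroup H), c * d = d * c := by
      rw [← hg]
      rintro _ ⟨c, hc, rfl⟩ _ ⟨d, hd, rfl⟩
      have h1 := hS.is_comm.comm (⟨c, hc⟩ : S) ⟨d, hd⟩
      have h2 : c * d = d * c := congrArg Subtype.val h1
      show (g * c * g⁻¹) * (g * d * g⁻¹) = (g * d * g⁻¹) * (g * c * g⁻¹)
      have e1 : (g * c * g⁻¹) * (g * d * g⁻¹) = g * (c * d) * g⁻¹ := by group
      have e2 : (g * d * g⁻¹) * (g * c * g⁻¹) = g * (d * c) * g⁻¹ := by group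
      rw [e1, e2, h2]
    exact key a (hS' ha) b (hS' hb)
  · obtain ⟨v, hv⟩ := h5 hpK
    have hk' : n' + 1 - (n' + 1 - k) = k := by omega
    rw [hk']
    by_contra hcon
    push Not at hcon
    apply hv
    obtain ⟨d, hd⟩ := Nat.exists_eq_add_of_le (show r ≤ p ^ k * (p ^ (n' + 1 - k) - 1) - 1 by omega)
    apply hρ
    rw [hd, pow_add, hTr, zero_mul]

end Cfsg.Agent.S0633
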