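import Cfsg.Statements.S4730
import Cfsg.Agent.Lib.H81.DegreeCount
import Cfsg.Agent.Lib.H20.Blk
import Cfsg.Agent.Lib.H4.Integral
import Cfsg.Agent.Lib.H18.CharQuot

set_option autoImplicit false
set_option linter.unusedVariables false
open Cfsg H20.Loc H20.Blk
open scoped ComplexConjugate

namespace Cfsg.Agent.S4730

/-- Let p be a prime, M a maximal ideal of the algebraic integers containing p, and G a finite group with trivial centre, Sylow p-subgroup P of order p^a and centre Z(P) of order p^b. If χ is a faithful irreducible character of G whose degree is a power of p, then the p-block of χ has defect at most a − b; in particular, if P is abelian then χ lies in a block of defect zero. -/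
theorem result {G : Type*} [Group G] [Finite G] (p : ℕ) [Fact p.Prime] (M : Ideal Cfsg.AlgInt) (hM : Cfsg.IsPModular p M) (hZ : Subgroup.center G = ⊥) (P : Sylow p G) (a b : ℕ) (ha : Nat.card P = p ^ a) (hb : Nat.card (Subgroup.center ↥(P : Subgroup G)) = p ^ b) (χ : Cfsg.IrrCharacter G) (hfaith : ∀ g : G, (χ : G → ℂ) g = (χ : G → ℂ) 1 → g = 1) (n : ℕ) (hdeg : Cfsg.charDegree (χ : G → ℂ) = p ^ n) : Cfsg.blockDefect p (Cfsg.blockOf M (χ : G → ℂ)) ≤ a - b ∧ (IsMulCommutative ↥(P : Subgroup G) → Cfsg.blockDefect p (Cfsg.blockOf M (χ : G → ℂ)) = 0) := by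
  classical
  have hp : p.Prime := Fact.out
  have hMm : M.IsMaximal := hM.2.1
  have hMp : M.IsPrime := hMm.isPrime
  have := Fintype.ofFinite G
  -- χ vanishes on Z(P)#
  have hidx : ∀ z : Subgroup.center ↥(P : Subgroup G),
      ¬ p ∣ (Subgroup.centralizer ({((z : ↥(P : Subgroup G)) : G)} : Set G)).index := by
    intro z h
    have h2 : (P : Subgroup G) ≤ Subgroup.centralizer ({((z : ↥(P : Subgroup G)) : G)} : Set G) := by
      intro x hx
      rw [Subgroup.mem_centralizer_singleton_iff]
      exact congrArg Subtype.val (Subgroup.mem_center_iff.1 z.2 ⟨x, hx⟩)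
    exact P.not_dvd_index (h.trans (Subgroup.index_dvd_of_le h2))
  have hvan : ∀ z : Subgroup.center ↥(P : Subgroup G), z ≠ 1 →
      (χ : G → ℂ) ((z : ↥(P : Subgroup G)) : G) = 0 := by
    intro z hz
    obtain ⟨m, ρ, hρ, hρχ⟩ := χ.2
    have hfr : Module.finrank ℂ (Fin m → ℂ) = p ^ n := by
      rw [← hdeg]
      have : (Module.finrank ℂ (Fin m → ℂ) : ℂ) = (charDegree (χ : G → ℂ) : ℂ) := by
        rw [← H81.DegreeCount.irr_one_eq, ← hρχ, Representation.char_one]
      exact_mod_cast this
    have h1 := H4.Integral.char_eq_zero_or_norm_eq ρ hρ ((z : ↥(P : Subgroup G)) : G) (by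
      rw [hfr]
      exact Nat.Coprime.pow_left _ ((Nat.Prime.coprime_iff_not_dvd hp).2 (hidx z)))
    rcases h1 with h1 | h1
    · rw [← hρχ]; exact h1
    · exfalso
      rw [H4.Eigen.norm_char_eq_iff] at h1
      obtain ⟨ω, hω⟩ := h1
      set z' : G := ((z : ↥(P : Subgroup G)) : G) with hz'
      have hzc : z' ∈ Subgroup.center G := by
        rw [Subgroup.mem_center_iff]
        intro g
        have h2 : ρ (g * z') = ρ (z' * g) := by
          rw [map_mul, map_mul, hω]
          ext v; simp
        have h3 : (z' * g)⁻¹ * (g * z') = 1 := by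
          apply hfaith
          rw [← hρχ]
          have h4 : ρ ((z' * g)⁻¹ * (g * z')) = ρ 1 := by
            rw [map_mul, h2, ← map_mul, inv_mul_cancel]
          simp only [Representation.character, h4]
        rw [inv_mul_eq_one] at h3
        exact h3.symm
      rw [hZ, Subgroup.mem_bot] at hzc
      apply hz
      apply Subtype.ext
      apply Subtype.ext
      exact hzc
  -- values of members of the block
  have hval : ∀ ψ ∈ blockOf M (χ : G → ℂ), ∀ z : Subgroup.center ↥(P : Subgroup G), z ≠ 1 →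
      MemLocalIdeal M ((ψ : G → ℂ) ((z : ↥(P : Subgroup G)) : G) / (ψ : G → ℂ) 1) := by
    intro ψ hψ z hz
    have h1 := hψ ((z : ↥(P : Subgroup G)) : G)
    unfold centralChar at h1
    rw [hvan z hz, mul_zero, zero_div, zero_sub] at h1
    have h2 := locI_mul_left (locR_natCast_inv hM (hidx z)) (locI_neg h1)
    have hn0 : ((Subgroup.centralizer ({((z : ↥(P : Subgroup G)) : G)} : Set G)).index : ℂ) ≠ 0 := by
      exact_mod_cast Subgroup.index_ne_zero_of_finite
    rw [neg_neg, mul_div_assoc, ← mul_assoc, inv_mul_cancel₀ hn0, one_mul] at h2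
    exact h2
  -- p ^ b divides all degrees
  have hdvd : ∀ ψ ∈ blockOf M (χ : G → ℂ), b ≤ (charDegree (ψ : G → ℂ)).factorization p := by
    intro ψ hψ
    by_contra hlt
    push Not at hlt
    set k := (charDegree (ψ : G → ℂ)).factorization p with hk
    have hd0 := (H81.DegreeCount.charDegree_pos ψ).ne'
    obtain ⟨u, hu⟩ := Nat.ordProj_dvd (charDegree (ψ : G → ℂ)) p
    have hup : ¬ p ∣ u := by
      have h1 : u = charDegree (ψ : G → ℂ) / p ^ k := by
        rw [hu, ← hk, Nat.mul_div_cancel_left _ (pow_pos hp.pos _)]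
      rw [h1]
      exact Nat.not_dvd_ordCompl hp hd0
    -- the multiplicity
    have hchar : IsCharacter (Subgroup.center ↥(P : Subgroup G))
        (fun z => (ψ : G → ℂ) ((z : ↥(P : Subgroup G)) : G)) :=
      H18.CharBasic.isCharacter_restrict _ (H18.CharBasic.isCharacter_restrict _
        (H18.CharBasic.isCharacter_of_isIrr ψ.2))
    obtain ⟨m, hm⟩ := H18.CharOrtho.inner_char_natCast hchar
      (H18.CharBasic.isCharacter_one (G := Subgroup.center ↥(P : Subgroup G)))
    rw [classInner, hb] at hm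
    simp only [map_one, mul_one] at hm
    have hpb : ((p ^ b : ℕ) : ℂ) ≠ 0 := by exact_mod_cast (pow_pos hp.pos b).ne'
    have hsum : ∑ z : Subgroup.center ↥(P : Subgroup G),
        (ψ : G → ℂ) ((z : ↥(P : Subgroup G)) : G) = (m : ℂ) * ((p ^ b : ℕ) : ℂ) := by
      rw [← hm]; field_simp
    have hψ1 : (ψ : G → ℂ) 1 ≠ 0 := H18.CharBasic.irr_one_ne_zero ψ.2
    have h2 : (m : ℂ) * ((p ^ b : ℕ) : ℂ) / (ψ : G → ℂ) 1 - 1 =
        ∑ z ∈ Finset.univ.erase (1 : Subgroup.center ↥(P : Subgroup G)),
          (ψ : G → ℂ) ((z : ↥(P : Subgroup G)) : G) / (ψ : G → ℂ) 1 := by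
      rw [← hsum, ← Finset.add_sum_erase _ _ (Finset.mem_univ (1 : Subgroup.center ↥(P : Subgroup G))),
        add_div, Finset.sum_div]
      have h3 : (ψ : G → ℂ) (((1 : Subgroup.center ↥(P : Subgroup G)) : ↥(P : Subgroup G)) : G) =
          (ψ : G → ℂ) 1 := rfl
      rw [h3, div_self hψ1]; ring
    have h3 : MemLocalIdeal M ((m : ℂ) * ((p ^ b : ℕ) : ℂ) / (ψ : G → ℂ) 1 - 1) := by
      rw [h2]
      exact locI_sum fun z hz => hval ψ hψ z (Finset.ne_of_mem_erase hz)
    have h4 : MemLocalIdeal M ((m : ℂ) * ((p ^ b : ℕ) : ℂ) / (ψ : G → ℂ) 1) := by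
      have hpk : ((p ^ k : ℕ) : ℂ) ≠ 0 := by exact_mod_cast (pow_pos hp.pos k).ne'
      have hu0 : (u : ℂ) ≠ 0 := by
        have : u ≠ 0 := fun h => hup (h ▸ dvd_zero p)
        exact_mod_cast this
      have h5 : (m : ℂ) * ((p ^ b : ℕ) : ℂ) / (ψ : G → ℂ) 1 =
          ((m : ℂ) * (u : ℂ)⁻¹) * ((p ^ (b - k) : ℕ) : ℂ) := by
        have h6 : p ^ b = p ^ k * p ^ (b - k) := by rw [← pow_add]; congr 1; omega
        rw [H81.DegreeCount.irr_one_eq ψ, hu, ← hk, h6]
        push_cast
        push_cast at hpk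
        field_simp
      rw [h5]
      refine locI_mul_left (locR_mul (locR_natCast _) (locR_natCast_inv hM hup)) ?_
      rw [locI_natCast_iff hM]
      exact dvd_pow_self p (by omega)
    have h5 := locI_sub h4 h3
    rw [sub_sub_cancel] at h5
    exact not_locI_one h5
  have hmain : blockDefect p (blockOf M (χ : G → ℂ)) ≤ a - b := by
    unfold blockDefect
    have h1 : (Nat.card G).factorization p = a := by
      have h2 := P.card_eq_multiplicity
      rw [ha] at h2
      exact (Nat.pow_right_injective hp.two_le h2).symm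
    rw [h1]
    apply Nat.sub_le_sub_left
    refine le_csInf ⟨_, χ, mem_blockOf_self χ, rfl⟩ ?_
    rintro _ ⟨ψ, hψ, rfl⟩
    exact hdvd ψ hψ
  refine ⟨hmain, fun hcomm => ?_⟩
  have h1 : a = b := by
    have h2 : Nat.card (Subgroup.center ↥(P : Subgroup G)) = Nat.card P := by
      have h3 : Subgroup.center ↥(P : Subgroup G) = ⊤ := by
        rw [eq_top_iff]
        intro x _
        rw [Subgroup.mem_center_iff]
        intro g
        exact hcomm.is_comm.comm g x
      rw [h3, Subgroup.card_top]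
    rw [ha, hb] at h2
    exact (Nat.pow_right_injective hp.two_le h2).symm
  rw [h1, Nat.sub_self, Nat.le_zero] at hmain
  exact hmain

end Cfsg.Agent.S4730
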