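import Cfsg.Statements.S4729
import Cfsg.Agent.Lib.H81.EigenCount
import Cfsg.Agent.Lib.H20.Blk
import Cfsg.Agent.Lib.H2.Nilp
import Cfsg.Agent.Lib.H81.DegreeCount

set_option autoImplicit false
set_option linter.unusedVariables false
open Cfsg H20.Loc H20.Blk
open scoped ComplexConjugate

namespace Cfsg.Agent.S4729

/-- Let p be a prime, M a maximal ideal of the algebraic integers containing p, G a finite perfect group and P a Sylow p-subgroup. If the principal p-block of G contains a faithful irreducible character of degree less than 2p, then the centralizer of P is a p-group. -/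
theorem result {G : Type*} [Group G] [Finite G] (p : ℕ) [Fact p.Prime] (M : Ideal Cfsg.AlgInt) (hM : Cfsg.IsPModular p M) (hperf : commutator G = ⊤) (P : Sylow p G) (χ : Cfsg.IrrCharacter G) (hχ : χ ∈ Cfsg.principalBlock M G) (hfaith : ∀ g : G, (χ : G → ℂ) g = (χ : G → ℂ) 1 → g = 1) (hdeg : Cfsg.charDegree (χ : G → ℂ) < 2 * p) : IsPGroup p ↥(Subgroup.centralizer ((P : Subgroup G) : Set G)) := by
  classical
  have hp : p.Prime := Fact.out
  have hMm : M.IsMaximal := hM.2.1
  have hMp : M.IsPrime := hMm.isPrime
  set d := charDegree (χ : G → ℂ) with hd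
  have hχ1 : (χ : G → ℂ) 1 = (d : ℂ) := H81.DegreeCount.irr_one_eq χ
  have hd0 : (d : ℂ) ≠ 0 := by exact_mod_cast (H81.DegreeCount.charDegree_pos χ).ne'
  -- congruence
  have hcong : ∀ w ∈ Subgroup.centralizer ((P : Subgroup G) : Set G),
      MemLocalIdeal M ((χ : G → ℂ) w - (d : ℂ)) := by
    intro w hw
    have h1 := hχ w
    unfold centralChar at h1
    set n := (Subgroup.centralizer ({w} : Set G)).index with hn
    have hpn : ¬ p ∣ n := by
      have h2 : (P : Subgroup G) ≤ Subgroup.centralizer ({w} : Set G) := by
        intro x hx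
        rw [Subgroup.mem_centralizer_singleton_iff]
        exact (Subgroup.mem_centralizer_iff.1 hw x hx)
      intro h3
      exact P.not_dvd_index (h3.trans (Subgroup.index_dvd_of_le h2))
    have hn0 : (n : ℂ) ≠ 0 := by
      rw [hn]; exact_mod_cast Subgroup.index_ne_zero_of_finite
    have h4 := locI_mul_left (locR_natCast (M := M) d) (locI_mul_left (locR_natCast_inv hM hpn)
      (locI_neg h1))
    have h5 : (d : ℂ) * ((n : ℂ)⁻¹ * -((n : ℂ) * 1 / 1 - (n : ℂ) * (χ : G → ℂ) w / (χ : G → ℂ) 1)) =
        (χ : G → ℂ) w - (d : ℂ) := by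
      rw [hχ1]; field_simp; ring
    rwa [h5] at h4
  -- key claim
  have key : ∀ v ∈ Subgroup.centralizer ((P : Subgroup G) : Set G), ¬ p ∣ orderOf v → v = 1 := by
    intro v hv hpv
    set n := orderOf v with hn
    have hn0 : n ≠ 0 := (orderOf_pos v).ne'
    obtain ⟨m, ρ, hρ, hρχ⟩ := χ.2
    obtain ⟨b, μ, h1, h2, h3⟩ := H4.Eigen.exists_eigen_of_finite ρ v
    have hfr : Module.finrank ℂ (Fin m → ℂ) = d := by
      have : (Module.finrank ℂ (Fin m → ℂ) : ℂ) = (d : ℂ) := by
        rw [← hχ1, ← hρχ, Representation.char_one]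
      exact_mod_cast this
    have hmult : ∀ ζ : ℂ, ζ ^ n = 1 → ζ ≠ 1 →
        p ∣ (Finset.univ.filter (fun i => μ i = ζ)).card := by
      intro ζ hζ hζ1
      have hζ0 : ζ ≠ 0 := by
        rintro rfl
        rw [zero_pow hn0] at hζ
        exact zero_ne_one hζ
      have h4 := H81.EigenCount.card_eigen hn0 μ h2 hζ
      have h5 : ∑ k ∈ Finset.range n, (ζ⁻¹) ^ k * (d : ℂ) = 0 := by
        rw [← Finset.sum_mul, H81.EigenCount.geom_sum_root hn0 (by rw [inv_pow, hζ, inv_one]),
          if_neg (fun h => hζ1 (inv_eq_one.1 h)), zero_mul]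
      have h6 : MemLocalIdeal M
          (((n * (Finset.univ.filter (fun i => μ i = ζ)).card : ℕ) : ℂ)) := by
        push_cast
        rw [h4, ← sub_zero (∑ k ∈ Finset.range n, (ζ⁻¹) ^ k * ∑ i, μ i ^ k), ← h5,
          ← Finset.sum_sub_distrib]
        refine locI_sum fun k _ => ?_
        rw [← mul_sub]
        refine locI_mul_left (locR_pow (isIntegral_mem ?_) k) ?_
        · exact H4.Eigen.isIntegral_of_pow_eq_one hn0 (by rw [inv_pow, hζ, inv_one])
        · rw [← h3 k, hρχ]
          exact hcong _ (pow_mem hv k)
      rw [locI_natCast_iff hM] at h6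
      exact (hp.dvd_mul.1 h6).resolve_left hpv
    -- all eigenvalues are one
    have hall : ∀ i, μ i = 1 := by
      intro i
      by_contra hi
      have hge : ∀ j, μ j ≠ 1 → p ≤ (Finset.univ.filter (fun k => μ k = μ j)).card := by
        intro j hj
        refine Nat.le_of_dvd ?_ (hmult (μ j) (h2 j) hj)
        exact Finset.card_pos.2 ⟨j, Finset.mem_filter.2 ⟨Finset.mem_univ _, rfl⟩⟩
      have hsame : ∀ j, μ j ≠ 1 → μ j = μ i := by
        intro j hj
        by_contra hne
        have hdisj : Disjoint (Finset.univ.filter (fun k => μ k = μ i))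
            (Finset.univ.filter (fun k => μ k = μ j)) := by
          rw [Finset.disjoint_filter]
          intro k _ h4 h5
          exact hne (h5.symm.trans h4)
        have h6 := Finset.card_le_univ (Finset.univ.filter (fun k => μ k = μ i) ∪
          Finset.univ.filter (fun k => μ k = μ j))
        rw [Finset.card_union_of_disjoint hdisj, Fintype.card_fin] at h6
        replace h6 := h6.trans hfr.le
        have h7 := hge i hi
        have h8 := hge j hj
        omega
      have hcard : (Finset.univ.filter (fun k => μ k = μ i)).card = p := by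
        obtain ⟨c, hc⟩ := hmult (μ i) (h2 i) hi
        have h4 := hge i hi
        have h5 := Finset.card_le_univ (Finset.univ.filter (fun k => μ k = μ i))
        rw [Fintype.card_fin] at h5
        replace h5 := h5.trans hfr.le
        have hc1 : c = 1 := by
          have hp0 := hp.pos
          rw [hc] at h4 h5
          have h6 : p * c < 2 * p := lt_of_le_of_lt h5 hdeg
          have h7 : c < 2 := by
            by_contra h8
            push Not at h8
            have : p * 2 ≤ p * c := Nat.mul_le_mul_left p h8
            omega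
          have h9 : c ≠ 0 := by
            rintro rfl
            omega
          omega
        rw [hc, hc1, mul_one]
      have hdet : ∏ j, μ j = 1 := by
        rw [← H81.EigenCount.det_eq_prod (ρ v) b μ h1]
        exact H81.EigenCount.det_eq_one_of_perfect ρ hperf v
      have hprod : ∏ j, μ j = μ i ^ p := by
        rw [← Finset.prod_filter_mul_prod_filter_not Finset.univ (fun j => μ j = μ i)]
        rw [Finset.prod_congr rfl (g := fun _ => μ i) (fun j hj => (Finset.mem_filter.1 hj).2),
          Finset.prod_const, hcard]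
        rw [Finset.prod_eq_one, mul_one]
        intro j hj
        by_contra hj1
        exact (Finset.mem_filter.1 hj).2 (hsame j hj1)
      rw [hprod] at hdet
      have hcop : Nat.Coprime p n := (Nat.Prime.coprime_iff_not_dvd hp).2 hpv
      apply hi
      have h10 : orderOf (μ i) ∣ Nat.gcd p n :=
        Nat.dvd_gcd (orderOf_dvd_of_pow_eq_one hdet) (orderOf_dvd_of_pow_eq_one (h2 i))
      rw [hcop, Nat.dvd_one, orderOf_eq_one_iff] at h10
      exact h10
    apply hfaith
    have h4 := h3 1
    rw [pow_one, hρχ] at h4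
    rw [h4, hχ1]
    simp [hall, hfr]
  refine H2.Nilp.isPGroup_of_primeFactors fun q hq hqd => ?_
  by_contra hne
  have := Fact.mk hq
  obtain ⟨v, hv⟩ := exists_prime_orderOf_dvd_card' q hqd
  have hv' : orderOf (v : G) = q := by rw [Subgroup.orderOf_coe]; exact hv
  have h1 := key v v.2 (by
    rw [hv']
    intro h; exact hne ((Nat.prime_dvd_prime_iff_eq hp hq).1 h).symm)
  rw [h1, orderOf_one] at hv'
  exact hq.one_lt.ne hv'

end Cfsg.Agent.S4729
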