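import Cfsg.Statements.S0105
import Cfsg.Agent.Lib.H3.AbelianCoprime
import Cfsg.Agent.Lib.H3.PBasic

set_option autoImplicit false
set_option linter.all false
open Cfsg

namespace Cfsg.Agent.S0105

open scoped commutatorElement

/-- With an abelian Sylow p-subgroup P, some quotient of G is isomorphic to the part of P central in N_G(P). -/
theorem result {G : Type*} [Group G] [Finite G] {p : ℕ} [Fact p.Prime] (P : Sylow p G) (hP : IsMulCommutative P) : ∃ (N : Subgroup G) (hN : N.Normal), Nonempty (G ⧸ N ≃* ((P : Subgroup G) ⊓ Subgroup.centralizer (Subgroup.normalizer (P : Set G) : Set G) : Subgroup G)) := by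
  classical
  letI : CommGroup P := { (inferInstance : Group P) with mul_comm := hP.is_comm.comm }
  let N := Subgroup.normalizer ((P : Subgroup G) : Set G)
  let c : N →* MulAut P := Subgroup.normalizerMonoidHom (P : Subgroup G)
  have hcapp : ∀ (n : N) (x : P), ((c n x : P) : G) = n * x * (n : G)⁻¹ := fun _ _ => rfl
  let A : Subgroup (MulAut P) := c.range
  have hPC : (P : Subgroup G) ≤ Subgroup.centralizer ((P : Subgroup G) : Set G) := by
    intro x hx
    rw [Subgroup.mem_centralizer_iff]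
    intro y hy
    exact congrArg Subtype.val (mul_comm (⟨y, hy⟩ : P) ⟨x, hx⟩)
  have hcop : Nat.Coprime (Nat.card A) (Nat.card P) := by
    have h1 : Nat.card A = c.ker.index := (Subgroup.index_ker c).symm
    have h2 : c.ker = (Subgroup.centralizer ((P : Subgroup G) : Set G)).subgroupOf N :=
      Subgroup.normalizerMonoidHom_ker (P : Subgroup G)
    have h3 : Nat.card A ∣ (P : Subgroup G).index := by
      rw [h1, h2]
      calc (Subgroup.centralizer ((P : Subgroup G) : Set G)).relIndex N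
          ∣ (P : Subgroup G).relIndex N := Subgroup.relIndex_dvd_of_le_left _ hPC
        _ ∣ (P : Subgroup G).index := Subgroup.relIndex_dvd_index_of_le Subgroup.le_normalizer
    exact Nat.Coprime.coprime_dvd_left h3 P.card_coprime_index.symm
  obtain ⟨ν, h1, h2⟩ := H3.AbelianCoprime.exists_norm A hcop
  have h3 : (P : Subgroup G).focalSubgroupOf = ν.ker := by
    rw [h2]
    apply le_antisymm
    · rw [Subgroup.focalSubgroupOf_eq_closure, Subgroup.closure_le]
      rintro g ⟨x, hx, u, hg⟩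
      -- `u x⁻¹ u⁻¹ ∈ P`
      have h4 : u * x⁻¹ * u⁻¹ ∈ (P : Subgroup G) := by
        have : u * x⁻¹ * u⁻¹ = x⁻¹ * (g : G) := by rw [hg, commutatorElement_def]; group
        rw [this]
        exact Subgroup.mul_mem _ (Subgroup.inv_mem _ hx) g.2
      obtain ⟨n, hn, hn2⟩ := P.conj_eq_normalizer_conj_of_mem x⁻¹ u⁻¹ (Subgroup.inv_mem _ hx)
        (by rw [inv_inv]; exact h4)
      have hn' : n⁻¹ ∈ N := Subgroup.inv_mem _ hn
      refine Subgroup.subset_closure ⟨(⟨x, hx⟩ : P)⁻¹, c ⟨n⁻¹, hn'⟩, ⟨_, rfl⟩, ?_⟩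
      apply Subtype.ext
      rw [hg, commutatorElement_def]
      show x * u * x⁻¹ * u⁻¹ = ((⟨x, hx⟩ : P)⁻¹⁻¹ : P) * (c ⟨n⁻¹, hn'⟩ (⟨x, hx⟩ : P)⁻¹ : P)
      rw [hcapp]
      simp only [inv_inv] at hn2 ⊢
      have h5 : x * u * x⁻¹ * u⁻¹ = x * (u * x⁻¹ * u⁻¹) := by group
      rw [h5, hn2]
      simp
    · rw [Subgroup.closure_le]
      rintro y ⟨x, a, ⟨n, rfl⟩, rfl⟩
      rw [Subgroup.focalSubgroupOf_eq_closure]
      apply Subgroup.subset_closure
      refine ⟨(x : G)⁻¹, Subgroup.inv_mem _ x.2, n, ?_⟩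
      show (x : G)⁻¹ * (c n x : P) = ⁅(x : G)⁻¹, (n : G)⁆
      rw [hcapp, commutatorElement_def]
      group
  -- the range of `ν`
  have h4 : ∀ x : P, x ∈ ν.range ↔
      (x : G) ∈ Subgroup.centralizer (Subgroup.normalizer (P : Set G) : Set G) := by
    intro x
    rw [h1, Subgroup.mem_centralizer_iff]
    constructor
    · intro h n hn
      have h5 := congrArg Subtype.val (h (c ⟨n, hn⟩) ⟨_, rfl⟩)
      rw [hcapp] at h5
      have h6 : n * (x : G) * n⁻¹ = x := h5
      calc n * (x : G) = n * x * n⁻¹ * n := by group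
        _ = x * n := by rw [h6]
    · rintro h a ⟨n, rfl⟩
      apply Subtype.ext
      rw [hcapp, h n n.2]
      group
  let e1 : (G ⧸ (P : Subgroup G).transferFocal.ker) ≃* P ⧸ (P : Subgroup G).focalSubgroupOf :=
    Subgroup.transferFocal.quotientKerMulEquivQuotientFocalSubroupOf P
  let e2 : (P ⧸ (P : Subgroup G).focalSubgroupOf) ≃* P ⧸ ν.ker := QuotientGroup.quotientMulEquivOfEq h3
  let e3 : (P ⧸ ν.ker) ≃* ν.range := QuotientGroup.quotientKerEquivRange ν
  let e4 : ν.range ≃* ((P : Subgroup G) ⊓ Subgroup.centralizer (Subgroup.normalizer (P : Set G) : Set G) : Subgroup G) :=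
    { toFun := fun x => ⟨(x : P), (x : P).2, (h4 x).1 x.2⟩
      invFun := fun y => ⟨⟨y, y.2.1⟩, (h4 _).2 y.2.2⟩
      left_inv := fun x => rfl
      right_inv := fun y => rfl
      map_mul' := fun x y => rfl }
  exact ⟨_, inferInstance, ⟨((e1.trans e2).trans e3).trans e4⟩⟩

end Cfsg.Agent.S0105
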