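import Cfsg.Statements.S0995
import Mathlib
import Cfsg.Agent.Lib.H21.CountPrime

set_option autoImplicit false
open Cfsg

namespace Cfsg.Agent.S0995

open Subgroup H21.SimpleBasic H21.SylowTools H21.CountPrime

/-- An element of prime order with self-centralizing cyclic group generates a Sylow subgroup. -/
theorem sylow_of_self_centralizing {G : Type*} [Group G] [Finite G] (p : ℕ) [hp : Fact p.Prime] (z : G) (hz : orderOf z = p) (hC : Subgroup.centralizer ({z} : Set G) = Subgroup.zpowers z) (Q : Sylow p G) (hQ : z ∈ (Q : Subgroup G)) : (Q : Subgroup G) = Subgroup.zpowers z := by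
  have hz1 : z ≠ 1 := by
    intro h; rw [h, orderOf_one] at hz; exact hp.out.ne_one hz.symm
  have hnt : Nontrivial (Q : Subgroup G) := ⟨⟨⟨z, hQ⟩, 1, fun h => hz1 (congrArg Subtype.val h)⟩⟩
  have h1 := Q.2.center_nontrivial
  obtain ⟨⟨w, hw⟩, hw1⟩ := exists_ne (1 : Subgroup.center (Q : Subgroup G))
  have hw1' : (w : G) ≠ 1 := by
    intro h; apply hw1; apply Subtype.ext; apply Subtype.ext; exact h
  have hcomm : ∀ y : (Q : Subgroup G), (y : G) * w = w * y := by
    intro y
    have := (Subgroup.mem_center_iff.1 hw y)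
    exact congrArg Subtype.val this
  have hwz : (w : G) ∈ Subgroup.zpowers z := by
    rw [← hC, mem_centralizer_iff]
    intro y hy
    rw [Set.mem_singleton_iff] at hy
    rw [hy]
    exact hcomm ⟨z, hQ⟩
  have hcardz : Nat.card (Subgroup.zpowers z) = p := by rw [Nat.card_zpowers, hz]
  have hwgen : Subgroup.zpowers (w : G) = Subgroup.zpowers z := zpowers_eq_of_card_prime hcardz hwz hw1'
  apply le_antisymm
  · intro y hy
    rw [← hC, mem_centralizer_iff]
    intro x hx
    rw [Set.mem_singleton_iff] at hx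
    have hzw : z ∈ Subgroup.zpowers (w : G) := by rw [hwgen]; exact mem_zpowers z
    obtain ⟨i, hi⟩ := hzw
    simp only at hi
    rw [hx, ← hi]
    exact ((show Commute y (w : G) from hcomm ⟨y, hy⟩).zpow_right i).eq.symm
  · rw [Subgroup.zpowers_le]; exact hQ

/-- Let G be a finite perfect group containing an element z of prime order p whose centralizer is the cyclic group it generates. Let t be the number of conjugacy classes of elements of order p. Then t divides p - 1, the number of Sylow p-subgroups has the form 1 + n * p, and |G| * t = (p - 1) * p * (1 + n * p). -/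
theorem result {G : Type*} [Group G] [Finite G] (hperf : commutator G = ⊤) (p : ℕ) [Fact p.Prime] (z : G) (hz : orderOf z = p) (hC : Subgroup.centralizer ({z} : Set G) = Subgroup.zpowers z) : ∃ n t : ℕ, t = Nat.card {c : ConjClasses G // ∃ g : G, ConjClasses.mk g = c ∧ orderOf g = p} ∧ t ∣ p - 1 ∧ Nat.card (Sylow p G) = 1 + n * p ∧ Nat.card G * t = (p - 1) * p * (1 + n * p) := by
  have hpf : Fact p.Prime := inferInstance
  have hp := hpf.out
  have h0 : IsPGroup p (Subgroup.zpowers z) := by
    rw [IsPGroup.iff_card]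
    exact ⟨1, by rw [Nat.card_zpowers, hz, pow_one]⟩
  obtain ⟨Q, hQ⟩ := h0.exists_le_sylow
  have hzQ : z ∈ (Q : Subgroup G) := hQ (mem_zpowers z)
  have hQz := sylow_of_self_centralizing p z hz hC Q hzQ
  have hQcard : Nat.card (Q : Subgroup G) = p := by rw [hQz, Nat.card_zpowers, hz]
  have hPcard : ∀ P : Sylow p G, Nat.card (P : Subgroup G) = p := by
    intro P
    exact (Nat.card_congr (Sylow.equiv P Q).toEquiv).trans hQcard
  have hcount := card_orderOf_eq_prime hPcard
  -- centralizer order of an element of order p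
  have hcent : ∀ g : G, orderOf g = p → Nat.card (centralizer ({g} : Set G)) = p := by
    intro g hg
    have h1 : IsPGroup p (Subgroup.zpowers g) := by
      rw [IsPGroup.iff_card]
      exact ⟨1, by rw [Nat.card_zpowers, hg, pow_one]⟩
    obtain ⟨R, hR⟩ := h1.exists_le_sylow
    obtain ⟨a, ha⟩ := MulAction.exists_smul_eq G R Q
    -- a g a⁻¹ ∈ Q
    have hg1 : g ≠ 1 := by
      intro h; rw [h, orderOf_one] at hg; exact hp.ne_one hg.symm
    have h2 : a * g * a⁻¹ ∈ (Q : Subgroup G) := by
      rw [← ha, Sylow.coe_subgroup_smul, Subgroup.mem_pointwise_smul_iff_inv_smul_mem]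
      have := hR (mem_zpowers g)
      simpa [MulAut.smul_def, mul_assoc] using this
    have h3 : a * g * a⁻¹ ≠ 1 := by
      intro h
      apply hg1
      rw [mul_inv_eq_one, mul_eq_left] at h
      exact h
    have h4 : Subgroup.zpowers (a * g * a⁻¹) = Subgroup.zpowers z := by
      rw [← hQz]; exact zpowers_eq_of_card_prime hQcard h2 h3
    have h5 : centralizer ({a * g * a⁻¹} : Set G) = centralizer ({z} : Set G) := by
      rw [← Subgroup.centralizer_closure, ← Subgroup.centralizer_closure ({z} : Set G),
        ← Subgroup.zpowers_eq_closure, ← Subgroup.zpowers_eq_closure, h4]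
    have h6 : Nat.card (centralizer ({g} : Set G)) = Nat.card (centralizer ({a * g * a⁻¹} : Set G)) := by
      apply Nat.card_congr
      refine Equiv.subtypeEquiv (MulAut.conj a).toEquiv ?_
      intro x
      rw [mem_centralizer_iff, mem_centralizer_iff]
      simp only [Set.mem_singleton_iff, forall_eq]
      change g * x = x * g ↔ a * g * a⁻¹ * (a * x * a⁻¹) = (a * x * a⁻¹) * (a * g * a⁻¹)
      constructor
      · intro h
        calc a * g * a⁻¹ * (a * x * a⁻¹) = a * (g * x) * a⁻¹ := by group
          _ = a * (x * g) * a⁻¹ := by rw [h]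
          _ = _ := by group
      · intro h
        calc g * x = a⁻¹ * (a * g * a⁻¹ * (a * x * a⁻¹)) * a := by group
          _ = a⁻¹ * ((a * x * a⁻¹) * (a * g * a⁻¹)) * a := by rw [h]
          _ = _ := by group
    rw [h6, h5, hC, Nat.card_zpowers, hz]
  have hcls := card_classes_mul_card p p hcent
  rw [hcount] at hcls
  set t := Nat.card {c : ConjClasses G // ∃ g : G, ConjClasses.mk g = c ∧ orderOf g = p} with ht
  -- n_p = 1 + n p
  have hmod : Nat.card (Sylow p G) ≡ 1 [MOD p] := card_sylow_modEq_one p G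
  have hpos : 1 ≤ Nat.card (Sylow p G) := Nat.card_pos
  obtain ⟨n, hn⟩ := (Nat.modEq_iff_dvd' hpos).1 hmod.symm
  have hnp : Nat.card (Sylow p G) = 1 + n * p := by
    have : Nat.card (Sylow p G) = Nat.card (Sylow p G) - 1 + 1 := by omega
    rw [this, hn]; ring
  refine ⟨n, t, rfl, ?_, hnp, ?_⟩
  · -- t ∣ p - 1
    obtain ⟨e, he⟩ : p * Nat.card (Sylow p G) ∣ Nat.card G := by
      have h1 := card_normalizer_mul_card_sylow Q
      rw [← h1]
      refine Nat.mul_dvd_mul ?_ dvd_rfl
      exact (dvd_of_eq hQcard.symm).trans (Subgroup.card_dvd_of_le Subgroup.le_normalizer)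
    rw [he] at hcls
    have h2 : (p * Nat.card (Sylow p G)) * (t * e) = (p * Nat.card (Sylow p G)) * (p - 1) := by
      rw [mul_assoc p (Nat.card (Sylow p G)) (p - 1), ← hcls]; ring
    have h3 := Nat.eq_of_mul_eq_mul_left (Nat.mul_pos hp.pos hpos) h2
    exact ⟨e, h3.symm⟩
  · rw [mul_comm (Nat.card G) t, hcls, hnp]; ring

end Cfsg.Agent.S0995
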