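import Cfsg.Statements.S4364
import Cfsg.Agent.Lib.H70.Kazarin
import Cfsg.Agent.Lib.H1.Cores
import Cfsg.Agent.Lib.H26.GenFitting
import Cfsg.Agent.Lib.H75.PCentral

set_option autoImplicit false
set_option linter.all false
open Cfsg

namespace Cfsg.Agent.S4364

open Subgroup

theorem core_case {G : Type*} [Group G] [Finite G] (p : ℕ) [hp : Fact p.Prime] (hcore : Cfsg.pCore p G = ⊥)
    (x : G) (hx : ∃ a : ℕ, (Subgroup.centralizer ({x} : Set G)).index = p ^ a) (g h : G) :
    (g * x * g⁻¹) * (h * x * h⁻¹) = (h * x * h⁻¹) * (g * x * g⁻¹) := by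
  obtain ⟨a, ha⟩ := hx
  have hFx : fittingSubgroup G ≤ centralizer ({x} : Set G) := by
    rw [H1.Cores.fittingSubgroup_eq_iSup_pCore]
    refine iSup_le fun r => ?_
    by_cases hrp : (r : ℕ) = p
    · rw [hrp, hcore]; exact bot_le
    · haveI : Fact (r : ℕ).Prime := ⟨r.2⟩
      have hnd : ¬ (r : ℕ) ∣ (centralizer ({x} : Set G)).index := by
        rw [ha]
        intro h1
        exact hrp ((Nat.prime_dvd_prime_iff_eq r.2 hp.out).1 (r.2.dvd_of_dvd_pow h1))
      obtain ⟨Q, -, hQ⟩ := H75.PCentral.exists_sylow_between (p := (r : ℕ)) _ ⊥ hnd IsPGroup.of_bot bot_le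
      exact (H1.Cores.pCore_le_sylow Q).trans hQ
  have hFn : (fittingSubgroup G).Normal := by
    rw [H1.Cores.fittingSubgroup_eq_iSup_pCore]
    infer_instance
  have hxF : x ∈ centralizer (fittingSubgroup G : Set G) := by
    rw [mem_centralizer_iff]
    intro y hy
    have := mem_centralizer_singleton_iff.1 (hFx hy)
    exact this
  have hN : normalClosure ({x} : Set G) ≤ centralizer (fittingSubgroup G : Set G) := by
    apply normalClosure_le_normal
    intro y hy
    rw [Set.mem_singleton_iff] at hy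
    subst hy
    exact hxF
  have hsolv : Group.IsSolvable (normalClosure ({x} : Set G)) :=
    H70.SolvRad.normalClosure_le_srad (H70.Kazarin.mem_srad _ G rfl x p a hp.out ha)
  have hNF : normalClosure ({x} : Set G) ≤ fittingSubgroup G :=
    H26.GenFitting.le_fitting_of_isSolvable hN
      (by rw [Subgroup.normalizer_eq_top]; exact le_top) hsolv
  have hmem : ∀ g : G, g * x * g⁻¹ ∈ normalClosure ({x} : Set G) := fun g =>
    normalClosure_normal.conj_mem _ (subset_normalClosure (Set.mem_singleton x)) g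
  have h1 := hN (hmem h)
  rw [mem_centralizer_iff] at h1
  exact h1 _ (hNF (hmem g))

/-- Let G be a finite group, p a prime and x an element whose conjugacy class has p-power size. Then for any two conjugates y and z of x, the commutator y z y⁻¹ z⁻¹ lies in O_p(G), the largest normal p-subgroup of G. -/
theorem result {G : Type*} [Group G] [Finite G] (p : ℕ) [Fact p.Prime]
    (x : G) (hx : ∃ a : ℕ, (Subgroup.centralizer ({x} : Set G)).index = p ^ a) (g h : G) :
    (g * x * g⁻¹) * (h * x * h⁻¹) * (g * x * g⁻¹)⁻¹ * (h * x * h⁻¹)⁻¹ ∈ Cfsg.pCore p G := by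
  obtain ⟨a, ha⟩ := hx
  have hcore : Cfsg.pCore p (G ⧸ Cfsg.pCore p G) = ⊥ := H1.Cores.pCore_quotient_pCore p
  have h1 : ∃ b : ℕ, (centralizer ({QuotientGroup.mk' (Cfsg.pCore p G) x} : Set (G ⧸ Cfsg.pCore p G))).index = p ^ b := by
    have h2 : (centralizer ({QuotientGroup.mk' (Cfsg.pCore p G) x} : Set (G ⧸ Cfsg.pCore p G))).index ∣ p ^ a := by
      rw [← ha]
      have h3 : (centralizer ({x} : Set G)).map (QuotientGroup.mk' (Cfsg.pCore p G)) ≤
          centralizer ({QuotientGroup.mk' (Cfsg.pCore p G) x} : Set (G ⧸ Cfsg.pCore p G)) := by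
        rintro _ ⟨y, hy, rfl⟩
        rw [mem_centralizer_singleton_iff, ← map_mul, ← map_mul]
        exact congrArg _ (mem_centralizer_singleton_iff.1 hy)
      exact (Subgroup.index_dvd_of_le h3).trans
        (Subgroup.index_map_dvd _ (QuotientGroup.mk'_surjective _))
    obtain ⟨b, -, hb⟩ := (Nat.dvd_prime_pow (Fact.out : p.Prime)).1 h2
    exact ⟨b, hb⟩
  have h4 := core_case p hcore (QuotientGroup.mk' (Cfsg.pCore p G) x) h1 (QuotientGroup.mk' _ g)
    (QuotientGroup.mk' _ h)
  rw [← QuotientGroup.eq_one_iff]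
  show QuotientGroup.mk' (Cfsg.pCore p G) _ = 1
  simp only [map_mul, map_inv] at h4 ⊢
  rw [h4]
  group

end Cfsg.Agent.S4364
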