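import Cfsg.Statements.S2540
import Mathlib
import Cfsg.Agent.Lib.H6.SLGen

set_option autoImplicit false
set_option linter.unusedVariables false
open Cfsg

namespace Cfsg.Agent.S2540

open Matrix
open scoped commutatorElement

theorem normal_dichotomy {S : Type*} [Group S] (hperf : commutator S = ⊤)
    (hsimple : IsSimpleGroup (S ⧸ Subgroup.center S)) (H : Subgroup S) (hH : H.Normal) :
    H ≤ Subgroup.center S ∨ H = ⊤ := by
  have hn : (H.map (QuotientGroup.mk' (Subgroup.center S))).Normal :=
    hH.map _ (QuotientGroup.mk'_surjective _)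
  rcases hn.eq_bot_or_eq_top with h | h
  · left
    rw [Subgroup.map_eq_bot_iff, QuotientGroup.ker_mk'] at h
    exact h
  · right
    rw [eq_top_iff, ← hperf, commutator_def, Subgroup.commutator_le]
    intro a _ b _
    have key : ∀ x : S, ∃ z ∈ Subgroup.center S, x * z ∈ H := by
      intro x
      have : QuotientGroup.mk' (Subgroup.center S) x ∈ H.map (QuotientGroup.mk' (Subgroup.center S)) := by
        rw [h]; exact Subgroup.mem_top _
      obtain ⟨y, hy, hxy⟩ := this
      refine ⟨x⁻¹ * y, ?_, ?_⟩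
      · rw [← QuotientGroup.eq]
        exact hxy.symm
      · rw [mul_inv_cancel_left]; exact hy
    obtain ⟨z, hz, haz⟩ := key a
    obtain ⟨w, hw, hbw⟩ := key b
    have e : ⁅a, b⁆ = ⁅a * z, b * w⁆ := by
      have hz' := Subgroup.mem_center_iff.1 hz
      have hw' := Subgroup.mem_center_iff.1 hw
      rw [commutatorElement_def, commutatorElement_def, _root_.mul_inv_rev, _root_.mul_inv_rev]
      have h1 : a * z * (b * w) * (z⁻¹ * a⁻¹) * (w⁻¹ * b⁻¹) = a * (z * (b * w)) * z⁻¹ * a⁻¹ * (w⁻¹ * b⁻¹) := by group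
      rw [h1, ← hz' (b * w)]
      have h2 : a * (b * w * z) * z⁻¹ * a⁻¹ * (w⁻¹ * b⁻¹) = a * b * (w * a⁻¹) * w⁻¹ * b⁻¹ := by group
      rw [h2, ← hw' a⁻¹]
      group
    rw [e, commutatorElement_def]
    exact H.mul_mem (H.mul_mem (H.mul_mem haz hbw) (H.inv_mem haz)) (H.inv_mem hbw)

theorem perfect_simple {F : Type*} [Field F] [Fintype F] (n : ℕ) (hn : 2 ≤ n)
    (hex : ¬ (n = 2 ∧ Fintype.card F ≤ 3)) :
    commutator (SpecialLinearGroup (Fin n) F) = ⊤ ∧
      IsSimpleGroup (ProjectiveSpecialLinearGroup (Fin n) F) := by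
  rcases Nat.lt_or_ge 2 n with h | h
  · have h3 : 3 ≤ Fintype.card (Fin n) := by rw [Fintype.card_fin]; omega
    exact ⟨H6.SLGen.commutator_eq_top h3, H6.SLGen.psl_isSimpleGroup h3⟩
  · obtain rfl : n = 2 := le_antisymm h hn
    have h4 : 4 ≤ Nat.card F := by
      rw [Nat.card_eq_fintype_card]
      by_contra hcon
      exact hex ⟨rfl, by omega⟩
    refine ⟨?_, Matrix.ProjectiveSpecialLinearGroup.rank_two_simple h4⟩
    obtain ⟨a, ha, ha2⟩ : ∃ a : F, a ≠ 0 ∧ a ^ 2 ≠ 1 := by
      obtain ⟨x, hx⟩ : IsCyclic Fˣ := by infer_instance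
      refine ⟨x, Units.ne_zero x, fun h ↦ ?_⟩
      have h1 := Nat.card_eq_card_units_add_one F
      have h2 := orderOf_eq_card_of_forall_mem_zpowers hx
      have h3 : orderOf x ≤ 2 := orderOf_le_of_pow_eq_one zero_lt_two (Units.ext <| by simpa using h)
      omega
    exact SL2.commutator_eq_top ha ha2

/-- Let F be a finite field and n ≥ 1, excluding the case n = 2 with #F ≤ 3. A subgroup of GL_n(F) that is normalized by every element of SL_n(F) either consists of scalar matrices or contains SL_n(F). -/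
theorem result {F : Type*} [Field F] [Fintype F] (n : ℕ) (hn : 1 ≤ n) (hex : ¬ (n = 2 ∧ Fintype.card F ≤ 3)) (G : Subgroup (Matrix.GeneralLinearGroup (Fin n) F)) (hG : ∀ s : Matrix.SpecialLinearGroup (Fin n) F, ∀ g ∈ G, (Matrix.SpecialLinearGroup.toGL s) * g * (Matrix.SpecialLinearGroup.toGL s)⁻¹ ∈ G) : (∀ g ∈ G, ∃ c : F, (g : Matrix (Fin n) (Fin n) F) = c • (1 : Matrix (Fin n) (Fin n) F)) ∨ (Matrix.SpecialLinearGroup.toGL : Matrix.SpecialLinearGroup (Fin n) F →* _).range ≤ G := by
  rcases Nat.lt_or_ge n 2 with hn1 | hn2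
  · left
    obtain rfl : n = 1 := by omega
    intro g _
    refine ⟨(g : Matrix (Fin 1) (Fin 1) F) 0 0, ?_⟩
    ext i j
    fin_cases i; fin_cases j
    simp
  obtain ⟨hperf, hsimple⟩ := perfect_simple n hn2 hex
  set T : Matrix.SpecialLinearGroup (Fin n) F →* Matrix.GeneralLinearGroup (Fin n) F :=
    Matrix.SpecialLinearGroup.toGL with hT
  have hHn : (G.comap T).Normal := by
    constructor
    intro h hh s
    rw [Subgroup.mem_comap] at hh ⊢
    rw [map_mul, map_mul, map_inv]
    exact hG s _ hh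
  rcases normal_dichotomy hperf hsimple (G.comap T) hHn with h | h
  · left
    intro g hg
    -- commutators are central
    have hcen : ∀ s, T s * g * (T s)⁻¹ * g⁻¹ ∈ Subgroup.center (GL (Fin n) F) := by
      intro s
      have hdet : ((T s * g * (T s)⁻¹ * g⁻¹ : GL (Fin n) F) : Matrix (Fin n) (Fin n) F).det = 1 := by
        have h1 : Matrix.GeneralLinearGroup.det (T s) = 1 := Matrix.SpecialLinearGroup.coeToGL_det s
        have h2 : Matrix.GeneralLinearGroup.det (T s * g * (T s)⁻¹ * g⁻¹) = 1 := by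
          rw [map_mul, map_mul, map_mul, map_inv, map_inv, h1]
          simp
        have := congrArg Units.val h2
        exact this
      set s' : SpecialLinearGroup (Fin n) F := ⟨_, hdet⟩ with hs'
      have e : T s' = T s * g * (T s)⁻¹ * g⁻¹ := by
        apply Units.ext
        rfl
      have hmem : s' ∈ G.comap T := by
        rw [Subgroup.mem_comap, e]
        exact G.mul_mem (hG s g hg) (G.inv_mem hg)
      rw [← e]
      exact (Matrix.SpecialLinearGroup.toGL_mem_center_iff s').2 (h hmem)
    let φ : SpecialLinearGroup (Fin n) F →* Subgroup.center (GL (Fin n) F) :=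
      { toFun := fun s => ⟨T s * g * (T s)⁻¹ * g⁻¹, hcen s⟩
        map_one' := by
          apply Subtype.ext
          simp
        map_mul' := by
          intro s t
          apply Subtype.ext
          show T (s * t) * g * (T (s * t))⁻¹ * g⁻¹ = (T s * g * (T s)⁻¹ * g⁻¹) * (T t * g * (T t)⁻¹ * g⁻¹)
          have h1 := Subgroup.mem_center_iff.1 (hcen t)
          rw [map_mul, _root_.mul_inv_rev]
          have h2 : T s * T t * g * ((T t)⁻¹ * (T s)⁻¹) * g⁻¹ =
              T s * (T t * g * (T t)⁻¹ * g⁻¹) * (g * (T s)⁻¹ * g⁻¹) := by group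
          rw [h2, h1 (T s), mul_assoc, ← h1]
          group }
    have hker : commutator (SpecialLinearGroup (Fin n) F) ≤ φ.ker := by
      rw [commutator_def, Subgroup.commutator_le]
      intro a _ b _
      rw [MonoidHom.mem_ker, map_commutatorElement, commutatorElement_eq_one_iff_mul_comm]
      apply Subtype.ext
      exact (Subgroup.mem_center_iff.1 (φ a).2 (φ b)).symm
    rw [hperf] at hker
    have hcomm : ∀ s, T s * g = g * T s := by
      intro s
      have h1 : φ s = 1 := hker (Subgroup.mem_top s)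
      have h2 : T s * g * (T s)⁻¹ * g⁻¹ = 1 := congrArg Subtype.val h1
      have h3 : T s * g * (T s)⁻¹ = g := mul_inv_eq_one.1 h2
      exact mul_inv_eq_iff_eq_mul.1 h3
    have : (g : Matrix (Fin n) (Fin n) F) ∈ Set.range (Matrix.scalar (Fin n)) := by
      apply Matrix.mem_range_scalar_of_commute_transvectionStruct
      intro t
      have h1 := hcomm ⟨t.toMatrix, t.det⟩
      have h2 := congrArg Units.val h1
      exact h2
    obtain ⟨c, hc⟩ := this
    refine ⟨c, ?_⟩
    rw [← hc, Matrix.scalar_apply, Matrix.smul_one_eq_diagonal]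
  · right
    rintro _ ⟨s, rfl⟩
    have : s ∈ G.comap T := by rw [h]; exact Subgroup.mem_top s
    exact this

end Cfsg.Agent.S2540
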