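import Cfsg.Statements.S0118
import Cfsg.Agent.Lib.H3.SL2Free

set_option autoImplicit false
set_option linter.all false
open Cfsg

namespace Cfsg.Agent.S0118

open H3.CFun H3.SL2Free

/-- Glauberman's ZJ-Theorem, in the case of groups with no section isomorphic to SL(2,p), p odd: conjugation of subsets of a Sylow p-subgroup P inside P is always induced from the normalizer of Z(J(P)). -/
theorem result {G : Type*} [Group G] [Finite G] {p : ℕ} [Fact p.Prime] (hp : p ≠ 2) (hfree : ¬ ∃ (H K : Subgroup G) (hK : (K.subgroupOf H).Normal), Nonempty ((H ⧸ K.subgroupOf H) ≃* Matrix.SpecialLinearGroup (Fin 2) (ZMod p))) (P : Sylow p G) (A : Set G) (hA : A ⊆ (P : Set G)) (g : G) (hAg : (fun a => g⁻¹ * a * g) '' A ⊆ (P : Set G)) : ∃ n ∈ Subgroup.normalizer (Cfsg.centerThompsonOf p (P : Subgroup G) : Set G), ∀ a ∈ A, n⁻¹ * a * n = g⁻¹ * a * g := by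
  have h0 : Cfsg.centerThompsonOf p (P : Subgroup G) = (zeFun p).W (P : Subgroup G) :=
    H3.ZE.centerThompsonOf_eq p _
  rw [h0]
  have hc := controls_sl2 hp (zeFun p) (hasZJ_zeFun hp) (G := G) hfree P
  obtain ⟨n, hn, h1⟩ := set_form hc hA g⁻¹ (by
    intro a ha
    have h2 : g⁻¹ * a * g ∈ (P : Subgroup G) := hAg ⟨a, ha, rfl⟩
    rw [inv_inv]; exact h2)
  refine ⟨n⁻¹, inv_mem hn, ?_⟩
  intro a ha
  have := h1 a ha
  simpa using this

end Cfsg.Agent.S0118
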