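import Cfsg.Statements.S1279
import Cfsg.Agent.Lib.H26.SolvBal

set_option autoImplicit false
open Cfsg

namespace Cfsg.Agent.S1279

/-- Let A be a noncyclic elementary abelian p-subgroup of the finite group G such that C_G(a) is solvable for every non-identity a ∈ A. Then a ↦ O_{p'}(C_G(a)) is a solvable A-signalizer functor on G. -/
theorem result {G : Type*} [Group G] [Finite G] (p : ℕ) [Fact p.Prime] (A : Subgroup G) (hA : Cfsg.IsElementaryAbelian p A) (hA2 : p ^ 2 ≤ Nat.card ↥A) (hsolv : ∀ a ∈ A, a ≠ 1 → Group.IsSolvable ↥(Subgroup.centralizer ({a} : Set G))) : Cfsg.IsSolvableSignalizerFunctor p A (fun a => Cfsg.centralizerPPrimeCore p a) := by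
  have hle : ∀ a ∈ A, ∀ b ∈ A, b ∈ Subgroup.centralizer ({a} : Set G) := by
    intro a ha b hb
    rw [Subgroup.mem_centralizer_iff]
    intro x hx
    rw [Set.mem_singleton_iff.mp hx]
    exact congrArg Subtype.val (hA.1.is_comm.comm (⟨a, ha⟩ : A) ⟨b, hb⟩)
  have hθ : ∀ a : G, Cfsg.centralizerPPrimeCore p a ≤ Subgroup.centralizer {a} := fun a =>
    Subgroup.map_subtype_le _
  have hcop : ∀ a : G, (Nat.card (Cfsg.centralizerPPrimeCore p a)).Coprime p := fun a =>
    H26.LocalFitting.card_ppc p _
  have hnorm : ∀ a : G, Subgroup.centralizer ({a} : Set G) ≤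
      Subgroup.normalizer (Cfsg.centralizerPPrimeCore p a : Set G) := fun a =>
    H26.LocalFitting.le_normalizer_ppc p _
  refine ⟨⟨fun a _ _ => hθ a, ?_, ?_, ?_⟩, ?_⟩
  · intro a _ _ h
    exact (Nat.Prime.coprime_iff_not_dvd Fact.out).mp (hcop a).symm h
  · intro a ha _ b hb x hx
    exact (Subgroup.mem_normalizer_iff.mp (hnorm a (hle a ha b hb)) x).mp hx
  · intro a ha ha1 b hb hb1
    set H := Subgroup.centralizer ({b} : Set G) with hH
    have haH : a ∈ H := hle b hb a ha
    set X : Subgroup G := Cfsg.centralizerPPrimeCore p a ⊓ H with hX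
    have hXH : X ≤ H := inf_le_right
    have hap : a ^ p = 1 := hA.2 a ha
    set a' : H := ⟨a, haH⟩ with ha'
    set P : Subgroup H := Subgroup.zpowers a' with hP
    have hPp : IsPGroup p P := by
      rw [isPGroup_iff_pow_pow_eq_one]
      rintro ⟨x, hx⟩
      obtain ⟨k, rfl⟩ := Subgroup.mem_zpowers_iff.mp hx
      refine ⟨1, ?_⟩
      apply Subtype.ext
      apply Subtype.ext
      change ((a' ^ k) ^ (p ^ 1) : H).1 = 1
      have : ((a' ^ k) ^ (p ^ 1) : H) = 1 := by
        rw [pow_one, ← zpow_natCast, ← zpow_mul, mul_comm, zpow_mul, zpow_natCast]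
        have : a' ^ p = 1 := Subtype.ext hap
        rw [this, one_zpow]
      rw [this]
      rfl
    have hC : ∀ y : H, y ∈ Subgroup.centralizer (P : Set H) →
        (y : G) ∈ Subgroup.centralizer ({a} : Set G) := by
      intro y hy
      rw [Subgroup.mem_centralizer_iff]
      intro x hx
      rw [Set.mem_singleton_iff.mp hx]
      exact congrArg Subtype.val (Subgroup.mem_centralizer_iff.mp hy a' (Subgroup.mem_zpowers a'))
    have key : X.subgroupOf H ≤ Cfsg.pPrimeCore p H := by
      refine H26.SolvBal.le_pPrimeCore_of_isSolvable (hsolv b hb hb1) hPp ?_ ?_ ?_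
      · rw [Nat.card_congr (Subgroup.subgroupOfEquivOfLe hXH).toEquiv]
        exact Nat.Coprime.coprime_dvd_left (Subgroup.card_dvd_of_le inf_le_left) (hcop a)
      · intro x hx
        rw [hP, Subgroup.zpowers_eq_closure, Subgroup.centralizer_closure, Subgroup.mem_centralizer_iff]
        intro y hy
        rw [Set.mem_singleton_iff.mp hy]
        apply Subtype.ext
        exact Subgroup.mem_centralizer_iff.mp (hθ a (Subgroup.mem_inf.mp
          (Subgroup.mem_subgroupOf.mp hx)).1) a rfl
      · intro y hy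
        rw [Subgroup.mem_normalizer_iff]
        intro x
        rw [Subgroup.mem_subgroupOf, Subgroup.mem_subgroupOf, hX, Subgroup.mem_inf, Subgroup.mem_inf]
        have h1 := Subgroup.mem_normalizer_iff.mp (hnorm a (hC y hy)) (x : G)
        constructor
        · rintro ⟨h2, h3⟩
          exact ⟨h1.mp h2, (y * x * y⁻¹ : H).2⟩
        · rintro ⟨h2, h3⟩
          exact ⟨h1.mpr h2, x.2⟩
    intro x hx
    have hxH : x ∈ H := (Subgroup.mem_inf.mp hx).2
    exact ⟨⟨x, hxH⟩, key (Subgroup.mem_subgroupOf.mpr hx), rfl⟩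
  · intro a ha ha1
    have := hsolv a ha ha1
    exact Group.isSolvable_of_isSolvable_injective (f := Subgroup.inclusion (hθ a))
      (Subgroup.inclusion_injective _)

end Cfsg.Agent.S1279
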