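import Cfsg.Statements.S2247
import Mathlib
import Cfsg.Agent.Lib.H8.SuzTorus2

set_option autoImplicit false
open Cfsg

namespace Cfsg.Agent.S2247

open H8.SuzOvoid H8.SuzField H8.SuzMat H8.SuzStab H8.SuzGroup H8.SuzSylow H8.SuzCent H8.TICount H8.SuzTorus

variable {F : Type*} [Field F] [Fintype F] {m : ℕ}

theorem stab_isCoatom (hm : 1 ≤ m) (hF : Fintype.card F = 2 ^ (2 * m + 1)) :
    IsCoatom (Subgroup.normalizer ((TT (m := m) hF : Subgroup (Cfsg.Sz F m)) : Set (Cfsg.Sz F m))) := by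
  rw [normalizer_TT hm hF]
  have h2 := two_transitive (m := m) hF
  have hp : MulAction.IsPreprimitive (Cfsg.Sz F m) (suzukiOvoid F m) := MulAction.isPreprimitive_of_is_two_pretransitive h2
  have hnt : Nontrivial (suzukiOvoid F m) := by
    refine ⟨⟨_, inf_mem m⟩, ⟨_, pnt_mem m 0 0⟩, fun h => ?_⟩
    exact pnt_ne_inf (m := m) (0 : F) 0 (congrArg Subtype.val h).symm
  have h3 := (MulAction.isCoatom_stabilizer_iff_preprimitive (Cfsg.Sz F m) (⟨_, inf_mem m⟩ : suzukiOvoid F m)).2 hp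
  have h4 : MulAction.stabilizer (Cfsg.Sz F m) (⟨_, inf_mem m⟩ : suzukiOvoid F m) = MulAction.stabilizer (Cfsg.Sz F m) (suzukiPointInfinity F) := by
    ext g
    rw [MulAction.mem_stabilizer_iff, MulAction.mem_stabilizer_iff]
    exact Subtype.ext_iff
  rwa [h4] at h3

theorem unique_TT (hm : 1 ≤ m) (hF : Fintype.card F = 2 ^ (2 * m + 1)) (M : Subgroup (Cfsg.Sz F m)) (hM : IsCoatom M)
    (hTM : TT (m := m) hF ≤ M) :
    M = Subgroup.normalizer ((TT (m := m) hF : Subgroup (Cfsg.Sz F m)) : Set (Cfsg.Sz F m)) := by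
  by_cases hle : M ≤ Subgroup.normalizer ((TT (m := m) hF : Subgroup (Cfsg.Sz F m)) : Set (Cfsg.Sz F m))
  · rcases hle.eq_or_lt with h | h
    · exact h
    · exact absurd (hM.2 _ h) (stab_isCoatom hm hF).1
  · exfalso
    obtain ⟨g, hgM, hg⟩ := Set.not_subset.1 hle
    have hginf : (g : SL F) • suzukiPointInfinity F ≠ suzukiPointInfinity F := by
      intro h
      exact hg (mem_normalizer_TT hm hF h)
    have hconj : ∀ x : Cfsg.Sz F m, ∀ t ∈ TT (m := m) hF, x * t * x⁻¹ ∈ M := by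
      intro x t ht
      by_cases hx : (x : SL F) • suzukiPointInfinity F = suzukiPointInfinity F
      · have := mem_normalizer_TT hm hF hx
        exact hTM ((Subgroup.mem_normalizer_iff.1 this t).1 ht)
      · obtain ⟨a, b, hab⟩ := (mem_ovoid_iff.1 (smul_mem x.2 (inf_mem m))).resolve_left hx
        obtain ⟨c, d, hcd⟩ := (mem_ovoid_iff.1 (smul_mem g.2 (inf_mem m))).resolve_left hginf
        -- translation taking pnt c d to pnt a b
        let s : Cfsg.Sz F m := tG hF a b * (tG hF c d)⁻¹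
        have hs : s ∈ TT (m := m) hF := mul_mem ⟨a, b, rfl⟩ (inv_mem ⟨c, d, rfl⟩)
        have h1 : ((s * g : Cfsg.Sz F m) : SL F) • suzukiPointInfinity F = (x : SL F) • suzukiPointInfinity F := by
          show ((T m a b * (T m c d)⁻¹) * (g : SL F)) • suzukiPointInfinity F = _
          rw [mul_smul, hcd, hab, mul_smul, ← T_smul_zero hF c d, inv_smul_smul, T_smul_zero hF]
        have h2 : (((s * g)⁻¹ * x : Cfsg.Sz F m) : SL F) • suzukiPointInfinity F = suzukiPointInfinity F := by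
          show (((s * g : Cfsg.Sz F m) : SL F)⁻¹ * (x : SL F)) • suzukiPointInfinity F = _
          rw [mul_smul, ← h1, inv_smul_smul]
        have h3 := (Subgroup.mem_normalizer_iff.1 (mem_normalizer_TT hm hF h2) t).1 ht
        have h4 : s * g ∈ M := mul_mem (hTM hs) hgM
        have h5 : x * t * x⁻¹ = (s * g) * ((s * g)⁻¹ * x * t * ((s * g)⁻¹ * x)⁻¹) * (s * g)⁻¹ := by group
        rw [h5]
        exact mul_mem (mul_mem h4 (hTM h3)) (inv_mem h4)
    have hs := H8.SuzSimple.isSimple hm hF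
    have hnc : Subgroup.normalClosure (TT (m := m) hF : Set (Cfsg.Sz F m)) ≤ M := by
      rw [Subgroup.normalClosure, Subgroup.closure_le]
      intro y hy
      obtain ⟨t, ht, hty⟩ := Group.mem_conjugatesOfSet_iff.1 hy
      obtain ⟨x, hx⟩ := isConj_iff.1 hty
      rw [← hx]
      exact hconj x t ht
    rcases hs.eq_bot_or_eq_top_of_normal _ (Subgroup.normalClosure_normal (s := (TT (m := m) hF : Set (Cfsg.Sz F m)))) with h | h
    · have h1 : tG hF 0 1 ∈ Subgroup.normalClosure (TT (m := m) hF : Set (Cfsg.Sz F m)) :=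
        Subgroup.subset_normalClosure ⟨0, 1, rfl⟩
      rw [h, Subgroup.mem_bot, ← tG_one hF] at h1
      exact one_ne_zero (tG_inj hF h1).2
    · rw [h, top_le_iff] at hnc
      exact hM.1 hnc

/-- In the Suzuki group with q = 2^(2m+1), m ≥ 1 (realised as the stabiliser in SL₄ of the Suzuki–Tits ovoid), the normalizer of a Sylow 2-subgroup P is a maximal subgroup and is the only maximal subgroup containing P. -/
theorem result {F : Type*} [Field F] [Fintype F] {m : ℕ} (hm : 1 ≤ m) (hF : Fintype.card F = 2 ^ (2 * m + 1)) (P : Sylow 2 ↥(Cfsg.Sz F m)) :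
    IsCoatom (Subgroup.normalizer ((P : Subgroup ↥(Cfsg.Sz F m)) : Set ↥(Cfsg.Sz F m))) ∧
    ∀ M : Subgroup ↥(Cfsg.Sz F m), IsCoatom M → (P : Subgroup ↥(Cfsg.Sz F m)) ≤ M → M = Subgroup.normalizer ((P : Subgroup ↥(Cfsg.Sz F m)) : Set ↥(Cfsg.Sz F m)) := by
  have hfact : Fact (Nat.Prime 2) := ⟨Nat.prime_two⟩
  obtain ⟨y, hy⟩ := MulAction.exists_smul_eq (Cfsg.Sz F m) (PT hm hF) P
  have hP : (P : Subgroup (Cfsg.Sz F m)) = (TT (m := m) hF).map (MulAut.conj y).toMonoidHom := by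
    rw [← hy]; rfl
  have hN : Subgroup.normalizer ((P : Subgroup (Cfsg.Sz F m)) : Set (Cfsg.Sz F m)) =
      (Subgroup.normalizer ((TT (m := m) hF : Subgroup (Cfsg.Sz F m)) : Set (Cfsg.Sz F m))).map (MulAut.conj y).toMonoidHom := by
    rw [hP]
    exact (Subgroup.map_equiv_normalizer_eq (TT (m := m) hF) (MulAut.conj y)).symm
  have hco : ∀ M : Subgroup (Cfsg.Sz F m), IsCoatom (M.map (MulAut.conj y).toMonoidHom) ↔ IsCoatom M := by
    intro M
    exact (MulAut.conj y).mapSubgroup.isCoatom_iff M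
  rw [hN]
  refine ⟨(hco _).2 (stab_isCoatom hm hF), ?_⟩
  intro M hM hPM
  obtain ⟨M', rfl⟩ : ∃ M' : Subgroup (Cfsg.Sz F m), M = M'.map (MulAut.conj y).toMonoidHom := by
    refine ⟨M.map (MulAut.conj y⁻¹).toMonoidHom, ?_⟩
    rw [Subgroup.map_map]
    have : (MulAut.conj y).toMonoidHom.comp (MulAut.conj y⁻¹).toMonoidHom = MonoidHom.id _ := by
      apply MonoidHom.ext
      intro z
      change y * (y⁻¹ * z * y⁻¹⁻¹) * y⁻¹ = z
      group
    rw [this, Subgroup.map_id]
  rw [hP, Subgroup.map_le_map_iff_of_injective (MulAut.conj y).injective] at hPM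
  rw [unique_TT hm hF M' ((hco M').1 hM) hPM]

end Cfsg.Agent.S2247
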