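import Cfsg.Statements.S4018
import Cfsg.Agent.Lib.H70.Friendship
import Cfsg.Agent.Lib.H70.Real
import Cfsg.Agent.Lib.H70.Basic

set_option autoImplicit false
open Cfsg

namespace Cfsg.Agent.S4018

open Subgroup

universe u

/-- order two facts -/
theorem ord2 {G : Type*} [Group G] {t : G} (h : orderOf t = 2) : t * t = 1 ∧ t ≠ 1 ∧ t⁻¹ = t := by
  have h1 : t * t = 1 := by rw [← pow_two, ← h]; exact pow_orderOf_eq_one t
  refine ⟨h1, ?_, ?_⟩
  · rintro rfl; simp at h
  · exact inv_eq_of_mul_eq_one_left h1

theorem ord2_conj {G : Type*} [Group G] {t : G} (h : orderOf t = 2) (g : G) :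
    orderOf (g * t * g⁻¹) = 2 := by
  rw [← h]; exact (MulAut.conj g).orderOf_eq t

theorem commute_of_sq {G : Type*} [Group G] [Finite G] {g x : G} (hodd : Odd (orderOf g))
    (h : Commute (g ^ 2) x) : Commute g x := by
  obtain ⟨m, hm⟩ := exists_pow_eq_self_of_coprime (n := 2) (x := g)
    ((Nat.coprime_two_left).mpr hodd)
  rw [← hm]
  exact h.pow_left m

theorem four {G : Type*} [Group G] [Finite G] (S : Subgroup G) (hS : Nat.card S = 4) {z y : G}
    (hzS : z ∈ S) (hyS : y ∈ S) (hz1 : z ≠ 1) (hy1 : y ≠ 1) (hyz : y ≠ z) (hzy : z * y ≠ 1) :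
    ∀ w ∈ S, w = 1 ∨ w = z ∨ w = y ∨ w = z * y := by
  intro w hw
  by_contra hcon
  push Not at hcon
  obtain ⟨h1, h2, h3, h4⟩ := hcon
  classical
  have hsub : ({1, z, y, z * y, w} : Finset G) ⊆ (Set.toFinite (S : Set G)).toFinset := by
    intro v hv
    simp only [Finset.mem_insert, Finset.mem_singleton] at hv
    rw [Set.Finite.mem_toFinset]
    rcases hv with rfl | rfl | rfl | rfl | rfl
    · exact one_mem _
    · exact hzS
    · exact hyS
    · exact mul_mem hzS hyS
    · exact hw
  have hc5 : ({1, z, y, z * y, w} : Finset G).card = 5 := by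
    rw [Finset.card_insert_of_notMem, Finset.card_insert_of_notMem,
      Finset.card_insert_of_notMem, Finset.card_insert_of_notMem, Finset.card_singleton]
    · simp only [Finset.mem_singleton]; exact fun h => h4 h.symm
    · simp only [Finset.mem_insert, Finset.mem_singleton]
      rintro (h | h)
      · exact hz1 (by simpa using h.symm)
      · exact h3 h.symm
    · simp only [Finset.mem_insert, Finset.mem_singleton]
      rintro (h | h | h)
      · exact hyz h.symm
      · exact hy1 (by simpa using h.symm)
      · exact h2 h.symm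
    · simp only [Finset.mem_insert, Finset.mem_singleton]
      rintro (h | h | h | h)
      · exact hz1 h.symm
      · exact hy1 h.symm
      · exact hzy h.symm
      · exact h1 h.symm
  have h6 := Finset.card_le_card hsub
  rw [hc5, ← Set.ncard_eq_toFinset_card] at h6
  have h7 : Set.ncard (S : Set G) = 4 := hS
  omega

theorem no_simple {G : Type u} [Group G] [Finite G] [IsSimpleGroup G]
    (P : Sylow 3 G) (hab : IsMulCommutative P)
    (hN : Nat.card (Subgroup.normalizer ((P : Subgroup G) : Set G)) = 4 * Nat.card P)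
    (hC : Nat.card (Subgroup.centralizer (P : Set G)) = 2 * Nat.card P)
    (hTI : Cfsg.IsTISubset (Subgroup.centralizer (P : Set G) : Set G))
    (heven : ∀ H : Subgroup G, H ≠ ⊤ → 2 ∣ Nat.card H → Nat.card H ∣ 4 * Nat.card P) :
    False := by
  haveI : Fact (Nat.Prime 3) := ⟨Nat.prime_three⟩
  haveI : Fact (Nat.Prime 2) := ⟨Nat.prime_two⟩
  have hPab : ∀ x ∈ P, ∀ y ∈ P, x * y = y * x := by
    intro x hx y hy
    have := hab.is_comm.comm (⟨x, hx⟩ : P) ⟨y, hy⟩
    exact congrArg Subtype.val this
  set n := Nat.card P with hn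
  have hnpos : 0 < n := Nat.card_pos
  obtain ⟨a, ha⟩ := P.isPGroup'.exists_card_eq
  have ha : n = 3 ^ a := ha
  have hnodd : Odd n := by rw [ha]; exact Odd.pow (by decide)
  set C := centralizer (P : Set G) with hCdef
  set N := normalizer ((P : Subgroup G) : Set G) with hNdef
  have hnc : ¬ ∀ x y : G, x * y = y * x := by
    intro hall
    have h1 : C = ⊤ := by
      rw [eq_top_iff]; intro x _
      rw [hCdef, mem_centralizer_iff]
      intro y _; exact hall y x
    have h2 : N = ⊤ := by
      rw [eq_top_iff, ← h1]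
      exact centralizer_le_normalizer _
    rw [h2] at hN
    rw [h1] at hC
    omega
  have hPC : (P : Subgroup G) ≤ C := by
    intro x hx
    rw [hCdef, mem_centralizer_iff]
    intro y hy
    exact hPab y hy x hx
  have hCN : C ≤ N := centralizer_le_normalizer _
  have hPN : (P : Subgroup G) ≤ N := hPC.trans hCN
  -- P nontrivial
  have ha0 : a ≠ 0 := by
    rintro rfl
    rw [pow_zero] at ha
    have h1 : (P : Subgroup G) = ⊥ := Subgroup.card_eq_one.mp ha
    have h2 : C = ⊤ := by
      rw [eq_top_iff]; intro x _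
      rw [hCdef, mem_centralizer_iff]
      intro y hy
      have : y ∈ (P : Subgroup G) := hy
      rw [h1, mem_bot] at this
      rw [this]; simp
    have h3 : N = ⊤ := by rw [eq_top_iff, ← h2]; exact hCN
    rw [h3] at hN
    rw [h2] at hC
    omega
  have h3n : 3 ∣ n := by rw [ha]; exact dvd_pow_self 3 ha0
  have h3G : 3 ∣ Nat.card G := h3n.trans (Subgroup.card_subgroup_dvd_card (P : Subgroup G))
  -- the involution z
  obtain ⟨z', hz'⟩ := exists_prime_orderOf_dvd_card' (G := C) 2 (by rw [hC]; exact dvd_mul_right _ _)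
  obtain ⟨z, hzC⟩ := z'
  rw [Subgroup.orderOf_mk] at hz'
  rename' hz' => hz
  obtain ⟨hzz, hz1, hzinv⟩ := ord2 hz
  have hoddP : ∀ x ∈ P, Odd (orderOf x) := fun x hx =>
    hnodd.of_dvd_nat (orderOf_dvd_natCard (P : Subgroup G) hx)
  have hzP : z ∉ P := by
    intro h
    have := hoddP z h
    rw [hz] at this
    exact absurd this (by decide)
  have hzcomm : ∀ x ∈ P, z * x = x * z := by
    intro x hx
    exact (mem_centralizer_iff.mp hzC x hx).symm
  have hPiC : (P : Subgroup G).relIndex C = 2 := by
    have h2 : (P : Subgroup G).relIndex C * n = 2 * n := by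
      have e := Subgroup.card_mul_index ((P : Subgroup G).subgroupOf C)
      have e2 : Nat.card ((P : Subgroup G).subgroupOf C) = n :=
        Nat.card_congr (Subgroup.subgroupOfEquivOfLe hPC).toEquiv
      rw [e2] at e
      rw [Subgroup.relIndex, mul_comm, e, hC]
    exact Nat.eq_of_mul_eq_mul_right hnpos h2
  have hCelt : ∀ c ∈ C, c ∈ P ∨ z * c ∈ P := by
    intro c hc
    by_cases h : c ∈ P
    · left; exact h
    · right
      have h1 := Subgroup.mul_mem_iff_of_index_two (H := (P : Subgroup G).subgroupOf C) hPiC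
        (a := ⟨z, hzC⟩) (b := ⟨c, hc⟩)
      simp only [mem_subgroupOf] at h1
      exact h1.mpr (by
        constructor
        · intro h'; exact absurd h' hzP
        · intro h'; exact absurd h' h)
  have hCab : ∀ x ∈ C, ∀ y ∈ C, x * y = y * x := by
    have key : ∀ x ∈ P, ∀ y ∈ C, x * y = y * x := fun x hx y hy =>
      mem_centralizer_iff.mp hy x hx
    intro x hx y hy
    rcases hCelt x hx with h | h
    · exact key x h y hy
    · rcases hCelt y hy with h' | h'
      · exact (key y h' x hx).symm
      · have e1 : x = z * (z * x) := by rw [← mul_assoc, hzz, one_mul]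
        have e2 : y = z * (z * y) := by rw [← mul_assoc, hzz, one_mul]
        rw [e1, e2]
        have c1 := hzcomm _ h
        have c2 := hzcomm _ h'
        have c3 := hPab _ h _ h'
        generalize z * x = p at *
        generalize z * y = q at *
        calc z * p * (z * q) = z * (p * z) * q := by group
          _ = z * (z * p) * q := by rw [c1]
          _ = z * z * (p * q) := by group
          _ = z * z * (q * p) := by rw [c3]
          _ = z * (z * q) * p := by group
          _ = z * (q * z) * p := by rw [c2]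
          _ = z * q * (z * p) := by group
  have hCinv : ∀ t ∈ C, orderOf t = 2 → t = z := by
    intro t htC ht
    obtain ⟨htt, ht1, -⟩ := ord2 ht
    rcases hCelt t htC with h | h
    · exfalso
      have := hoddP t h
      rw [ht] at this
      exact absurd this (by decide)
    · have h1 : (z * t) ^ 2 = 1 := by
        rw [pow_two]
        have := hCab z hzC t htC
        calc z * t * (z * t) = z * (t * z) * t := by group
          _ = z * (z * t) * t := by rw [this]
          _ = (z * z) * (t * t) := by group
          _ = 1 := by rw [hzz, htt, one_mul]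
      have h2 : z * t = 1 := by
        have h3 := hoddP _ h
        have h4 : orderOf (z * t) ∣ 2 := orderOf_dvd_of_pow_eq_one h1
        rcases (Nat.dvd_prime Nat.prime_two).mp h4 with h5 | h5
        · exact orderOf_eq_one_iff.mp h5
        · rw [h5] at h3; exact absurd h3 (by decide)
      rw [← hzinv]
      exact eq_inv_of_mul_eq_one_right h2
  -- centre is trivial
  have hcent : center G = ⊥ := by
    rcases (IsSimpleGroup.eq_bot_or_eq_top_of_normal (center G) inferInstance) with h | h
    · exact h
    · exfalso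
      apply hnc
      intro x y
      have : x ∈ center G := by rw [h]; exact mem_top x
      exact (mem_center_iff.mp this y).symm
  have hcnt : ∀ t : G, t ≠ 1 → centralizer ({t} : Set G) ≠ ⊤ := by
    intro t ht h
    apply ht
    have : t ∈ center G := by
      rw [mem_center_iff]
      intro g
      have : g ∈ centralizer ({t} : Set G) := by rw [h]; exact mem_top g
      exact mem_centralizer_singleton_iff.mp this
    rw [hcent] at this
    exact mem_bot.mp this
  -- TI consequences
  have hTIc : ∀ g y : G, y ∈ C → g * y * g⁻¹ ∈ C → y ≠ 1 → g ∈ normalizer (C : Set G) := by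
    intro g y hy hgy hy1
    by_contra hg
    exact hy1 (hTI g hg y hy hgy)
  have hNC_le : normalizer (C : Set G) ≤ centralizer ({z} : Set G) := by
    intro g hg
    have h1 : g * z * g⁻¹ ∈ C := (mem_normalizer_iff.mp hg z).mp hzC
    have h2 := hCinv _ h1 (ord2_conj hz g)
    rw [mem_centralizer_singleton_iff]
    exact mul_inv_eq_iff_eq_mul.mp h2
  have hle_NC : ∀ y ∈ C, y ≠ 1 → centralizer ({y} : Set G) ≤ normalizer (C : Set G) := by
    intro y hy hy1 g hg
    apply hTIc g y hy ?_ hy1
    have : g * y * g⁻¹ = y := by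
      rw [mem_centralizer_singleton_iff.mp hg]; group
    rw [this]; exact hy
  have hN_le : N ≤ normalizer (C : Set G) := by
    intro g hg
    have key : ∀ g ∈ N, ∀ c ∈ C, g * c * g⁻¹ ∈ C := by
      intro g hg c hc
      rw [hCdef, mem_centralizer_iff]
      intro x hx
      have h1 : g⁻¹ * x * g ∈ P := by
        have := (mem_normalizer_iff.mp (inv_mem hg) x).mp hx
        rw [inv_inv] at this
        exact this
      have h2 := mem_centralizer_iff.mp hc _ h1
      calc x * (g * c * g⁻¹) = g * ((g⁻¹ * x * g) * c) * g⁻¹ := by group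
        _ = g * (c * (g⁻¹ * x * g)) * g⁻¹ := by rw [h2]
        _ = g * c * g⁻¹ * x := by group
    exact H70.Basic.le_normalizer_of_conj N C key hg
  have hNcz : N = centralizer ({z} : Set G) := by
    apply Subgroup.eq_of_le_of_card_ge (hN_le.trans hNC_le)
    rw [hN]
    apply Nat.le_of_dvd (by omega)
    apply heven _ (hcnt z hz1)
    have h1 : Nat.card N ∣ Nat.card (centralizer ({z} : Set G)) :=
      Subgroup.card_dvd_of_le (hN_le.trans hNC_le)
    rw [hN] at h1
    exact (dvd_trans ⟨2 * n, by ring⟩ h1)
  have hNNC : N = normalizer (C : Set G) :=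
    le_antisymm hN_le (hNC_le.trans hNcz.ge)
  -- 3-elements of N lie in P
  have h3el : ∀ y ∈ N, (∃ k, orderOf y = 3 ^ k) → y ∈ P := by
    rintro y hy ⟨k, hk⟩
    apply H70.Real.mem_of_mem_normalizer_of_coprime (P : Subgroup G) hy
    rw [hk]
    apply Nat.Coprime.pow_left
    rw [Nat.Prime.coprime_iff_not_dvd Nat.prime_three]
    intro h
    exact P.not_dvd_index (h.trans (relIndex_dvd_index_of_le le_normalizer))
  -- Sylow 2-subgroups have order 4
  have hS4 : ∀ S : Sylow 2 G, Nat.card S = 4 := by
    intro S
    have h4 : 2 ^ 2 ∣ Nat.card G := by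
      have : Nat.card N ∣ Nat.card G := Subgroup.card_subgroup_dvd_card N
      rw [hN] at this
      exact (dvd_trans ⟨n, by ring⟩ this)
    have h4S : 2 ^ 2 ∣ Nat.card S := S.pow_dvd_card_of_pow_dvd_card h4
    obtain ⟨b, hb⟩ := S.isPGroup'.exists_card_eq
    have hb : Nat.card S = 2 ^ b := hb
    have hne : (S : Subgroup G) ≠ ⊤ := by
      intro h
      have : Nat.card S = Nat.card G := by
        have e : Nat.card (S : Subgroup G) = Nat.card (⊤ : Subgroup G) := by rw [h]
        rw [Subgroup.card_top] at e
        exact e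
      rw [← this, hb] at h3G
      exact absurd (Nat.prime_three.dvd_of_dvd_pow h3G) (by decide)
    have h2 : Nat.card S ∣ 4 * n := heven _ hne (dvd_trans (by decide) h4S)
    have hcop : (Nat.card S).Coprime n := by
      rw [hb, ha]
      exact Nat.Coprime.pow b a (by decide)
    have h5 : Nat.card S ∣ 4 := hcop.dvd_of_dvd_mul_right h2
    exact Nat.dvd_antisymm h5 h4S
  -- a Sylow 2-subgroup containing z
  have hzp : IsPGroup 2 (zpowers z) := by
    apply IsPGroup.of_card (n := 1)
    rw [Nat.card_zpowers, hz, pow_one]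
  obtain ⟨S, hzS'⟩ := hzp.exists_le_sylow
  have hzS : z ∈ S := hzS' (mem_zpowers z)
  have hSab : ∀ S : Sylow 2 G, ∀ x ∈ S, ∀ y ∈ S, x * y = y * x := by
    intro S x hx y hy
    have : Nat.card S = 2 ^ 2 := hS4 S
    have := IsPGroup.commutative_of_card_eq_prime_sq this ⟨x, hx⟩ ⟨y, hy⟩
    exact congrArg Subtype.val this
  -- 2-elements normalizing a Sylow 2-subgroup
  have h2el : ∀ S : Sylow 2 G, ∀ y ∈ normalizer ((S : Subgroup G) : Set G),
      (∃ k, orderOf y = 2 ^ k) → y ∈ S := by
    rintro S y hy ⟨k, hk⟩
    apply H70.Real.mem_of_mem_normalizer_of_coprime (S : Subgroup G) hy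
    rw [hk]
    apply Nat.Coprime.pow_left
    rw [Nat.Prime.coprime_iff_not_dvd Nat.prime_two]
    intro h
    exact S.not_dvd_index (h.trans (relIndex_dvd_index_of_le le_normalizer))
  -- an element of odd order normalizing S, not centralizing it
  obtain ⟨g, hgN, hgodd, hgC⟩ : ∃ g ∈ normalizer ((S : Subgroup G) : Set G), Odd (orderOf g) ∧
      g ∉ centralizer ((S : Subgroup G) : Set G) := by
    by_contra hcon
    push Not at hcon
    have hle : normalizer ((S : Subgroup G) : Set G) ≤ centralizer ((S : Subgroup G) : Set G) := by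
      intro x hx
      obtain ⟨i, j, hij, hi, hj⟩ := H70.Real.exists_decomp 2 Nat.prime_two x
      rw [← hij]
      apply mul_mem
      · have := h2el S _ (pow_mem hx i) hi
        rw [mem_centralizer_iff]
        intro s hs
        exact hSab S s hs _ this
      · apply hcon _ (pow_mem hx j)
        rw [← Nat.not_even_iff_odd, even_iff_two_dvd]
        exact hj
    have hcomp := MonoidHom.ker_transferSylow_isComplement' S hle
    have hcard := hcomp.card_mul
    rw [show Nat.card (S : Subgroup G) = 4 from hS4 S] at hcard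
    rcases (IsSimpleGroup.eq_bot_or_eq_top_of_normal
      (MonoidHom.transferSylow S hle).ker inferInstance) with h | h
    · rw [h, Subgroup.card_bot] at hcard
      rw [← hcard] at h3G
      exact absurd h3G (by decide)
    · rw [h, Subgroup.card_top] at hcard
      have : 0 < Nat.card G := Nat.card_pos
      omega
  have hgS : ∀ x ∈ S, g * x * g⁻¹ ∈ S := fun x hx => (mem_normalizer_iff.mp hgN x).mp hx
  -- g does not commute with z
  have hcz : ¬ Commute g z := by
    intro hc
    apply hgC
    rw [mem_centralizer_iff]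
    intro x hx
    by_cases hxz : x = 1 ∨ x = z
    · rcases hxz with rfl | rfl
      · simp
      · exact hc.symm
    push Not at hxz
    have hzx : z * x ≠ 1 := by
      intro h
      apply hxz.2
      rw [← hzinv]; exact eq_inv_of_mul_eq_one_right h
    have hS := four (S : Subgroup G) (hS4 S) hzS hx hz1 hxz.1 hxz.2 hzx
    have h1 := hS _ (hgS x hx)
    have h' : g * z * g⁻¹ = z := by rw [hc.eq]; group
    have h2 : g * x * g⁻¹ = x ∨ g * x * g⁻¹ = z * x := by
      rcases h1 with h | h | h | h
      · exfalso
        apply hxz.1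
        have : g * x * g⁻¹ = g * 1 * g⁻¹ := by rw [h]; group
        exact mul_left_cancel (mul_right_cancel this)
      · exfalso
        apply hxz.2
        have : g * x * g⁻¹ = g * z * g⁻¹ := by rw [h, h']
        exact mul_left_cancel (mul_right_cancel this)
      · left; exact h
      · right; exact h
    have h3 : Commute (g ^ 2) x := by
      have e : g ^ 2 * x * (g ^ 2)⁻¹ = x := by
        calc g ^ 2 * x * (g ^ 2)⁻¹ = g * (g * x * g⁻¹) * g⁻¹ := by rw [pow_two]; group
          _ = x := by
            rcases h2 with h | h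
            · rw [h, h]
            · rw [h]
              calc g * (z * x) * g⁻¹ = (g * z * g⁻¹) * (g * x * g⁻¹) := by group
                _ = z * (z * x) := by rw [h', h]
                _ = x := by rw [← mul_assoc, hzz, one_mul]
      exact mul_inv_eq_iff_eq_mul.mp e
    exact (commute_of_sq hgodd h3).eq.symm
  -- every element of S is 1, or conjugate to z
  have hSz : ∀ x ∈ S, x ≠ 1 → ∃ h : G, x = h * z * h⁻¹ := by
    -- now z, gzg⁻¹, g²zg⁻² are distinct
    set z1 := g * z * g⁻¹ with hz1d
    set z2 := g * z1 * g⁻¹ with hz2d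
    have hz1S : z1 ∈ S := hgS z hzS
    have hz2S : z2 ∈ S := hgS z1 hz1S
    have n1 : z1 ≠ z := by
      intro h
      exact hcz (mul_inv_eq_iff_eq_mul.mp h)
    have n2 : z2 ≠ z1 := by
      intro h
      apply n1
      have : g * z1 * g⁻¹ = g * z * g⁻¹ := h
      exact mul_left_cancel (mul_right_cancel this)
    have n3 : z2 ≠ z := by
      intro h
      apply hcz
      apply commute_of_sq hgodd
      have : g ^ 2 * z * (g ^ 2)⁻¹ = z := by
        rw [← h, hz2d, hz1d, pow_two] 
        have e : g * (g * z * g⁻¹) * g⁻¹ = z := by rw [← hz1d, ← hz2d]; exact h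
        rw [e, mul_inv_rev]
        calc g * g * z * (g⁻¹ * g⁻¹) = g * (g * z * g⁻¹) * g⁻¹ := by group
          _ = z := e
      exact mul_inv_eq_iff_eq_mul.mp this
    have m1 : z1 ≠ 1 := by
      intro h
      have := ord2_conj hz g
      rw [← hz1d, h, orderOf_one] at this
      exact absurd this (by decide)
    have m2 : z2 ≠ 1 := by
      intro h
      have := ord2_conj (ord2_conj hz g) g
      rw [← hz1d, ← hz2d, h, orderOf_one] at this
      exact absurd this (by decide)
    intro x hx hx1
    by_contra hcon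
    push Not at hcon
    have k0 : x ≠ z := fun h => hcon 1 (by simpa using h)
    have k1 : x ≠ z1 := fun h => hcon g (by rw [h, hz1d])
    have k2 : x ≠ z2 := fun h => hcon (g * g) (by rw [h, hz2d, hz1d]; group)
    have hzz1 : z * z1 ≠ 1 := by
      intro h
      apply n1
      rw [← hzinv]; exact eq_inv_of_mul_eq_one_right h
    have hS := four (S : Subgroup G) (hS4 S) hzS hz1S hz1 m1 n1 hzz1
    have e1 : z2 = z * z1 := by
      rcases hS z2 hz2S with h | h | h | h
      · exact absurd h m2
      · exact absurd h n3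
      · exact absurd h n2
      · exact h
    rcases hS x hx with h | h | h | h
    · exact hx1 h
    · exact k0 h
    · exact k1 h
    · exact k2 (by rw [h, e1])
  -- all involutions are conjugate to z
  have hall : ∀ t : G, orderOf t = 2 → ∃ h : G, t = h * z * h⁻¹ := by
    intro t ht
    have htp : IsPGroup 2 (zpowers t) := by
      apply IsPGroup.of_card (n := 1)
      rw [Nat.card_zpowers, ht, pow_one]
    obtain ⟨T, hT⟩ := htp.exists_le_sylow
    obtain ⟨k, hk⟩ := MulAction.exists_smul_eq G S T
    have htT : t ∈ (T : Subgroup G) := hT (mem_zpowers t)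
    rw [← hk, Sylow.coe_subgroup_smul] at htT
    obtain ⟨x, hx, hxt⟩ := htT
    have hxt : k * x * k⁻¹ = t := by simpa using hxt
    have hx1 : x ≠ 1 := by
      rintro rfl
      have : t = 1 := by rw [← hxt]; group
      rw [this, orderOf_one] at ht
      exact absurd ht (by decide)
    obtain ⟨h, hh⟩ := hSz x hx hx1
    refine ⟨k * h, ?_⟩
    rw [← hxt, hh]; group
  -- an involution s in N outside C
  have hSN : (S : Subgroup G) ≤ N := by
    intro x hx
    rw [hNcz, mem_centralizer_singleton_iff]
    exact hSab S x hx z hzS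
  obtain ⟨s, hsS, hs2, hsC⟩ : ∃ s ∈ S, orderOf s = 2 ∧ s ∉ C := by
    refine ⟨g * z * g⁻¹, hgS z hzS, ord2_conj hz g, ?_⟩
    intro h
    have h1 := hCinv _ h (ord2_conj hz g)
    exact hcz (mul_inv_eq_iff_eq_mul.mp h1)
  have hsN : s ∈ N := hSN hsS
  obtain ⟨hss, hs1, hsinv⟩ := ord2 hs2
  -- s acts fixed-point-freely on P
  have hsfpf : ∀ y ∈ P, s * y = y * s → y = 1 := by
    intro y hy hsy
    by_contra hy1
    obtain ⟨h, hh⟩ := hall s hs2
    have hyz : h⁻¹ * y * h ∈ N := by
      rw [hNcz, mem_centralizer_singleton_iff]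
      have e : h * z * h⁻¹ * y = y * (h * z * h⁻¹) := by rw [← hh]; exact hsy
      calc h⁻¹ * y * h * z = h⁻¹ * (y * (h * z * h⁻¹)) * h := by group
        _ = h⁻¹ * (h * z * h⁻¹ * y) * h := by rw [e]
        _ = z * (h⁻¹ * y * h) := by group
    have hyP : h⁻¹ * y * h ∈ P := by
      apply h3el _ hyz
      obtain ⟨k, hk⟩ := (IsPGroup.iff_orderOf.mp P.isPGroup') ⟨y, hy⟩
      rw [Subgroup.orderOf_mk] at hk
      refine ⟨k, ?_⟩
      rw [← hk]
      have := (MulAut.conj h⁻¹).orderOf_eq y
      simpa using this
    have h1 : h⁻¹ ∈ normalizer (C : Set G) := by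
      apply hTIc h⁻¹ y (hPC hy) ?_ hy1
      simpa using hPC hyP
    have h2 : h ∈ centralizer ({z} : Set G) := by
      have := inv_mem (hNC_le h1)
      simpa using this
    apply hsC
    rw [hh, mem_centralizer_singleton_iff.mp h2]
    simpa using hzC
  -- elements of N outside C invert P
  have hNinv : ∀ m ∈ N, m ∉ C → ∀ x ∈ P, m * x * m⁻¹ = x⁻¹ := by
    have hsx : ∀ x ∈ P, s * x * s⁻¹ = x⁻¹ := by
      intro x hx
      have h1 : s * x * s⁻¹ ∈ P := (mem_normalizer_iff.mp hsN x).mp hx
      have h2 : (s * x * s⁻¹) * x = 1 := by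
        apply hsfpf _ (mul_mem h1 hx)
        have h3 := hPab _ h1 _ hx
        calc s * (s * x * s⁻¹ * x) = (s * s) * x * s⁻¹ * x := by group
          _ = x * (s⁻¹ * x) := by rw [hss]; group
          _ = x * (s * x * s⁻¹) * s := by rw [hsinv]; simp only [mul_assoc, hss, mul_one]
          _ = (s * x * s⁻¹) * x * s := by rw [← h3]
      exact eq_inv_of_mul_eq_one_left h2
    have hidx : C.relIndex N = 2 := by
      have e := Subgroup.card_mul_index (C.subgroupOf N)
      have e2 : Nat.card (C.subgroupOf N) = Nat.card C :=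
        Nat.card_congr (Subgroup.subgroupOfEquivOfLe hCN).toEquiv
      rw [e2, hC, hN] at e
      rw [Subgroup.relIndex]
      have : 2 * n * (C.subgroupOf N).index = 2 * n * 2 := by rw [e]; ring
      exact Nat.eq_of_mul_eq_mul_left (by omega) this
    intro m hm hmC x hx
    have h1 := Subgroup.mul_mem_iff_of_index_two (H := C.subgroupOf N) hidx
        (a := ⟨s, hsN⟩) (b := ⟨m, hm⟩)
    simp only [mem_subgroupOf] at h1
    have h2 : s * m ∈ C := h1.mpr ⟨fun h => absurd h hsC, fun h => absurd h hmC⟩
    have h3 : m = s * (s * m) := by rw [← mul_assoc, hss, one_mul]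
    have h4 := mem_centralizer_iff.mp h2 x hx
    rw [h3]
    calc s * (s * m) * x * (s * (s * m))⁻¹ = s * ((s * m) * x * (s * m)⁻¹) * s⁻¹ := by group
      _ = s * x * s⁻¹ := by rw [← h4]; group
      _ = x⁻¹ := hsx x hx
  have hCP : ∀ y ∈ P, y ≠ 1 → centralizer ({y} : Set G) = C := by
    intro y hy hy1
    apply le_antisymm
    · intro w hw
      by_contra hwC
      have hwN : w ∈ N := by rw [hNNC]; exact hle_NC y (hPC hy) hy1 hw
      have h1 := hNinv w hwN hwC y hy
      have h2 : w * y * w⁻¹ = y := by rw [mem_centralizer_singleton_iff.mp hw]; group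
      rw [h2] at h1
      have h3 : y ^ 2 = 1 := by rw [pow_two]; nth_rewrite 1 [h1]; simp
      have h4 : orderOf y ∣ 2 := orderOf_dvd_of_pow_eq_one h3
      rcases (Nat.dvd_prime Nat.prime_two).mp h4 with h5 | h5
      · exact hy1 (orderOf_eq_one_iff.mp h5)
      · have := hoddP y hy
        rw [h5] at this; exact absurd this (by decide)
    · intro w hw
      rw [mem_centralizer_singleton_iff]
      exact (mem_centralizer_iff.mp hw y hy).symm
  -- 3-elements have a unique involution in the centralizer
  have hF3 : ∀ y : G, (∃ k, orderOf y = 3 ^ k) → y ≠ 1 → ∃ w : G, orderOf w = 2 ∧ Commute w y ∧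
      ∀ w' : G, orderOf w' = 2 → Commute w' y → w' = w := by
    rintro y ⟨k, hk⟩ hy1
    have hyp : IsPGroup 3 (zpowers y) := by
      apply IsPGroup.of_card (n := k)
      rw [Nat.card_zpowers, hk]
    obtain ⟨T, hT⟩ := hyp.exists_le_sylow
    obtain ⟨h, hh⟩ := MulAction.exists_smul_eq G P T
    have hyT : y ∈ (T : Subgroup G) := hT (mem_zpowers y)
    rw [← hh, Sylow.coe_subgroup_smul] at hyT
    obtain ⟨x, hx, hxy⟩ := hyT
    have hxy : h * x * h⁻¹ = y := by simpa using hxy
    have hx1 : x ≠ 1 := by
      rintro rfl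
      apply hy1; rw [← hxy]; group
    refine ⟨h * z * h⁻¹, ord2_conj hz h, ?_, ?_⟩
    · have e := hzcomm x hx
      change h * z * h⁻¹ * y = y * (h * z * h⁻¹)
      rw [← hxy]
      calc h * z * h⁻¹ * (h * x * h⁻¹) = h * (z * x) * h⁻¹ := by group
        _ = h * (x * z) * h⁻¹ := by rw [e]
        _ = h * x * h⁻¹ * (h * z * h⁻¹) := by group
    · intro w' hw' hc
      have h1 : h⁻¹ * w' * h ∈ C := by
        rw [← hCP x hx hx1, mem_centralizer_singleton_iff]
        have e : w' * (h * x * h⁻¹) = (h * x * h⁻¹) * w' := by rw [hxy]; exact hc.eq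
        calc h⁻¹ * w' * h * x = h⁻¹ * (w' * (h * x * h⁻¹)) * h := by group
          _ = h⁻¹ * ((h * x * h⁻¹) * w') * h := by rw [e]
          _ = x * (h⁻¹ * w' * h) := by group
      have h2 : orderOf (h⁻¹ * w' * h) = 2 := by
        have := ord2_conj hw' h⁻¹
        simpa using this
      have h3 := hCinv _ h1 h2
      rw [← h3]; group
  -- two non-commuting involutions
  have hB : ∀ t u : G, orderOf t = 2 → orderOf u = 2 → ¬ Commute t u → ∃ w : G, orderOf w = 2 ∧
      Commute w t ∧ Commute w u ∧ w ≠ t ∧ w ≠ u ∧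
      ∀ w' : G, orderOf w' = 2 → Commute w' t → Commute w' u → w' = w := by
    intro t u ht hu htu
    obtain ⟨htt, ht1, htinv⟩ := ord2 ht
    obtain ⟨huu, hu1, huinv⟩ := ord2 hu
    set y := t * u with hy
    have hty : t * y * t⁻¹ = y⁻¹ := by
      rw [hy, htinv, mul_inv_rev, huinv, htinv, ← mul_assoc, htt, one_mul]
    have huy : u * y * u⁻¹ = y⁻¹ := by
      rw [hy, huinv, mul_inv_rev, huinv, htinv, mul_assoc, mul_assoc, huu, mul_one]
    have hpow : ∀ (r : G), r * y * r⁻¹ = y⁻¹ → ∀ k : ℕ, r * y ^ k * r⁻¹ = (y ^ k)⁻¹ := by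
      intro r hr k
      rw [← conj_pow, hr, inv_pow]
    obtain ⟨i, j, hij, ⟨k, hk⟩, hj⟩ := H70.Real.exists_decomp 3 Nat.prime_three y
    have hy3 : y ^ i ≠ 1 := by
      intro hi1
      -- then y = y ^ j has order prime to 3
      have hyj : y ^ j = y := by
        have := hij
        rwa [hi1, one_mul] at this
      rw [hyj] at hj
      have htM := H70.Real.mem_normalizer_zpowers_of_inv hty
      have hM : normalizer ((zpowers y : Subgroup G) : Set G) ≠ ⊤ := by
        intro h
        rw [normalizer_eq_top_iff] at h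
        rcases IsSimpleGroup.eq_bot_or_eq_top_of_normal _ h with h' | h'
        · rw [zpowers_eq_bot] at h'
          apply htu
          have : u = t⁻¹ := eq_inv_of_mul_eq_one_right h'
          rw [this]
          exact (Commute.refl t).inv_right
        · apply hnc
          intro a b
          have ha : a ∈ zpowers y := by rw [h']; exact mem_top a
          have hb : b ∈ zpowers y := by rw [h']; exact mem_top b
          obtain ⟨k, rfl⟩ := mem_zpowers_iff.mp ha
          obtain ⟨l, rfl⟩ := mem_zpowers_iff.mp hb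
          rw [← zpow_add, ← zpow_add, add_comm]
      have h2M : 2 ∣ Nat.card (normalizer ((zpowers y : Subgroup G) : Set G)) := by
        rw [← ht]
        exact orderOf_dvd_natCard _ htM
      have h3M := heven _ hM h2M
      have h4M : orderOf y ∣ 4 * n := by
        rw [← Nat.card_zpowers]
        exact (Subgroup.card_dvd_of_le le_normalizer).trans h3M
      have h5M : orderOf y ∣ 2 ^ 2 := by
        apply Nat.Coprime.dvd_of_dvd_mul_right ?_ h4M
        rw [ha]
        apply Nat.Coprime.pow_right
        rw [Nat.coprime_comm, Nat.Prime.coprime_iff_not_dvd Nat.prime_three]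
        exact hj
      have hyp : IsPGroup 2 (zpowers y) := by
        apply IsPGroup.of_card_dvd_pow (n := 2)
        rw [Nat.card_zpowers]; exact h5M
      have htp : IsPGroup 2 (zpowers t) := by
        apply IsPGroup.of_card (n := 1)
        rw [Nat.card_zpowers, ht, pow_one]
      have hsup : IsPGroup 2 ((zpowers y ⊔ zpowers t : Subgroup G)) :=
        IsPGroup.to_sup_of_normal_left' hyp htp (by rw [zpowers_le]; exact htM)
      obtain ⟨T, hT⟩ := hsup.exists_le_sylow
      have hyT : y ∈ T := hT ((le_sup_left : zpowers y ≤ _) (mem_zpowers y))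
      have htT : t ∈ T := hT ((le_sup_right : zpowers t ≤ _) (mem_zpowers t))
      have hc := hSab T t htT y hyT
      apply htu
      have e1 : u = t⁻¹ * y := by rw [hy]; group
      have e2 : Commute t y := hc
      rw [e1]
      exact ((Commute.refl t).inv_right).mul_right e2
    obtain ⟨w, hw2, hwy, huniq⟩ := hF3 (y ^ i) ⟨k, hk⟩ hy3
    have hodd3 : Odd (orderOf (y ^ i)) := by rw [hk]; exact Odd.pow (by decide)
    have hne : y ^ i ≠ (y ^ i)⁻¹ := by
      intro h
      have h3 : (y ^ i) ^ 2 = 1 := by rw [pow_two]; nth_rewrite 1 [h]; simp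
      have h4 : orderOf (y ^ i) ∣ 2 := orderOf_dvd_of_pow_eq_one h3
      rcases (Nat.dvd_prime Nat.prime_two).mp h4 with h5 | h5
      · exact hy3 (orderOf_eq_one_iff.mp h5)
      · rw [h5] at hodd3; exact absurd hodd3 (by decide)
    have hcomm : ∀ r : G, r * y ^ i * r⁻¹ = (y ^ i)⁻¹ → Commute w r := by
      intro r hr
      have h1 : Commute (r⁻¹ * w * r) (y ^ i) := by
        have h2 : w * (y ^ i)⁻¹ = (y ^ i)⁻¹ * w := (hwy.inv_right).eq
        rw [← hr] at h2
        change r⁻¹ * w * r * y ^ i = y ^ i * (r⁻¹ * w * r)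
        calc r⁻¹ * w * r * y ^ i = r⁻¹ * (w * (r * y ^ i * r⁻¹)) * r := by group
          _ = r⁻¹ * (r * y ^ i * r⁻¹ * w) * r := by rw [h2]
          _ = y ^ i * (r⁻¹ * w * r) := by group
      have h2 : orderOf (r⁻¹ * w * r) = 2 := by
        have := ord2_conj hw2 r⁻¹
        simpa using this
      have h3 := huniq _ h2 h1
      change w * r = r * w
      calc w * r = r * (r⁻¹ * w * r) := by group
        _ = r * w := by rw [h3]
    refine ⟨w, hw2, hcomm t (hpow t hty i), hcomm u (hpow u huy i), ?_, ?_, ?_⟩
    · rintro rfl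
      apply hne
      have := hpow w hty i
      rw [hwy.eq] at this
      simpa using this
    · rintro rfl
      apply hne
      have := hpow w huy i
      rw [hwy.eq] at this
      simpa using this
    · intro w' hw' hwt hwu
      exact huniq w' hw' ((hwt.mul_right hwu).pow_right i)
  -- two commuting involutions
  have hA : ∀ t u : G, orderOf t = 2 → orderOf u = 2 → Commute t u → t ≠ u → 
      ∃ w : G, orderOf w = 2 ∧
      Commute w t ∧ Commute w u ∧ w ≠ t ∧ w ≠ u ∧
      ∀ w' : G, orderOf w' = 2 → Commute w' t → Commute w' u → w' ≠ t → w' ≠ u → w' = w := by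
    intro t u ht hu htu hne
    obtain ⟨htt, ht1, htinv⟩ := ord2 ht
    obtain ⟨huu, hu1, huinv⟩ := ord2 hu
    have htu1 : t * u ≠ 1 := by
      intro h
      apply hne
      rw [← huinv]; exact eq_inv_of_mul_eq_one_left h
    refine ⟨t * u, ?_, (Commute.refl t).mul_left htu.symm, htu.mul_left (Commute.refl u), ?_, ?_, ?_⟩
    · apply orderOf_eq_prime ?_ htu1
      rw [htu.mul_pow, pow_two, pow_two, htt, huu, one_mul]
    · intro h; exact hu1 (by simpa using h)
    · intro h; exact ht1 (by simpa using h)
    · intro w' hw' hwt hwu hwnt hwnu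
      have htp : IsPGroup 2 (zpowers t) := by
        apply IsPGroup.of_card (n := 1)
        rw [Nat.card_zpowers, ht, pow_one]
      have hup : IsPGroup 2 (zpowers u) := by
        apply IsPGroup.of_card (n := 1)
        rw [Nat.card_zpowers, hu, pow_one]
      have hsup : IsPGroup 2 ((zpowers t ⊔ zpowers u : Subgroup G)) :=
        IsPGroup.to_sup_of_normal_left' htp hup (by
          rw [zpowers_le, H70.Real.mem_normalizer_zpowers_iff]
          have : u * t * u⁻¹ = t := by rw [htu.symm.eq]; group
          rw [this]; exact mem_zpowers t)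
      obtain ⟨T, hT⟩ := hsup.exists_le_sylow
      have htT : t ∈ T := hT ((le_sup_left : zpowers t ≤ _) (mem_zpowers t))
      have huT : u ∈ T := hT ((le_sup_right : zpowers u ≤ _) (mem_zpowers u))
      have hTel := four (T : Subgroup G) (hS4 T) htT huT ht1 hu1 (fun h => hne h.symm) htu1
      have hwc : ∀ x ∈ T, Commute w' x := by
        intro x hx
        rcases hTel x hx with h | h | h | h
        · rw [h]; exact Commute.one_right w'
        · rw [h]; exact hwt
        · rw [h]; exact hwu
        · rw [h]; exact hwt.mul_right hwu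
      have hwT : w' ∈ T := by
        apply h2el T _ ?_ ⟨1, by rw [hw', pow_one]⟩
        apply centralizer_le_normalizer
        rw [mem_centralizer_iff]
        intro x hx
        exact (hwc x hx).eq.symm
      rcases hTel w' hwT with h | h | h | h
      · exact absurd h (ord2 hw').2.1
      · exact absurd h hwnt
      · exact absurd h hwnu
      · exact h
  -- the friendship graph
  classical
  let V := {t : G // orderOf t = 2}
  haveI : Fintype V := Fintype.ofFinite V
  haveI : Nonempty V := ⟨⟨z, hz⟩⟩
  let Γ : SimpleGraph V :=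
    { Adj := fun a b => a ≠ b ∧ Commute (a : G) (b : G)
      symm := ⟨fun a b h => ⟨h.1.symm, h.2.symm⟩⟩
      loopless := ⟨fun a h => h.1 rfl⟩ }
  have hΓ : H70.Friendship.IsFriendship Γ := by
    apply H70.Friendship.isFriendship_of
    intro v w hvw
    have hvw' : (v : G) ≠ (w : G) := fun h => hvw (Subtype.ext h)
    by_cases hc : Commute (v : G) (w : G)
    · obtain ⟨x, hx2, hxv, hxw, hxnv, hxnw, huniq⟩ := hA v w v.2 w.2 hc hvw'
      refine ⟨⟨x, hx2⟩, ⟨⟨fun h => hxnv (congrArg Subtype.val h).symm, hxv.symm⟩,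
          ⟨fun h => hxnw (congrArg Subtype.val h).symm, hxw.symm⟩⟩, ?_⟩
      rintro ⟨y, hy2⟩ hy1 hy3
      exact Subtype.ext (huniq y hy2 hy1.2.symm hy3.2.symm
          (fun h => hy1.1 (Subtype.ext h.symm)) (fun h => hy3.1 (Subtype.ext h.symm)))
    · obtain ⟨x, hx2, hxv, hxw, hxnv, hxnw, huniq⟩ := hB v w v.2 w.2 hc
      refine ⟨⟨x, hx2⟩, ⟨⟨fun h => hxnv (congrArg Subtype.val h).symm, hxv.symm⟩,
          ⟨fun h => hxnw (congrArg Subtype.val h).symm, hxw.symm⟩⟩, ?_⟩
      rintro ⟨y, hy2⟩ hy1 hy3
      exact Subtype.ext (huniq y hy2 hy1.2.symm hy3.2.symm)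
  obtain ⟨t0, ht0⟩ := H70.Friendship.friendship_theorem hΓ
  -- t0 commutes with all involutions
  have hcomm0 : ∀ u : G, orderOf u = 2 → Commute (t0 : G) u := by
    intro u hu
    by_cases h : t0 = ⟨u, hu⟩
    · have : (t0 : G) = u := congrArg Subtype.val h
      rw [this]
    · exact (ht0 ⟨u, hu⟩ h).2
  have hnormal : (Subgroup.closure {u : G | orderOf u = 2}).Normal := by
    apply H70.Basic.normal_closure'
    intro y a ha
    exact ord2_conj ha y
  rcases IsSimpleGroup.eq_bot_or_eq_top_of_normal _ hnormal with h | h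
  · have : (z : G) ∈ Subgroup.closure {u : G | orderOf u = 2} := Subgroup.subset_closure hz
    rw [h, mem_bot] at this
    exact hz1 this
  · apply hcnt (t0 : G) (ord2 t0.2).2.1
    rw [eq_top_iff, ← h, closure_le]
    intro u hu
    rw [SetLike.mem_coe, mem_centralizer_singleton_iff]
    exact (hcomm0 u hu).eq.symm

/-- Let G be a finite group with an abelian Sylow 3-subgroup P such that the normalizer of P has order 4·#P, the centralizer C of P has order 2·#P, C meets each of its conjugates by elements outside its normalizer trivially, and every proper subgroup of G of even order has order dividing 4·#P. Then G is not simple. -/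
theorem result {G : Type*} [Group G] [Finite G]
    (P : Sylow 3 G) (hab : IsMulCommutative P)
    (hN : Nat.card (Subgroup.normalizer ((P : Subgroup G) : Set G)) = 4 * Nat.card P)
    (hC : Nat.card (Subgroup.centralizer (P : Set G)) = 2 * Nat.card P)
    (hTI : Cfsg.IsTISubset (Subgroup.centralizer (P : Set G) : Set G))
    (heven : ∀ H : Subgroup G, H ≠ ⊤ → 2 ∣ Nat.card H → Nat.card H ∣ 4 * Nat.card P) :
    ¬ IsSimpleGroup G := fun _ => no_simple P hab hN hC hTI heven

end Cfsg.Agent.S4018
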