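import Cfsg.Statements.S2331
import Cfsg.Agent.Lib.H43.SL2Order

set_option autoImplicit false
open Cfsg

namespace Cfsg.Agent.S2331

open H43.GL2Basic H43.GL2Card H43.SL2Conj H43.SL2Order in
/-- Over a finite field with q elements, q even, the special linear group SL₂ has exactly q + 1 conjugacy classes. -/
theorem result {F : Type*} [Field F] [Fintype F] [CharP F 2] :
    Nat.card (ConjClasses (Matrix.SpecialLinearGroup (Fin 2) F)) = Fintype.card F + 1 := by
  classical
  have h2 : (2 : F) = 0 := by exact_mod_cast CharP.cast_eq_zero F 2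
  have hns : ∀ g : Matrix.SpecialLinearGroup (Fin 2) F, g ≠ 1 → ¬ IsScal (g : Matrix (Fin 2) (Fin 2) F) := by
    intro g hg1 hs
    rcases eq_one_or_neg_one_of_isScal g hs with h | h
    · exact hg1 h
    · apply hg1
      rw [h]
      ext i j
      have h3 : (-1 : F) = 1 := by linear_combination -h2
      fin_cases i <;> fin_cases j <;> simp [h3]
  let f : Option F → ConjClasses (Matrix.SpecialLinearGroup (Fin 2) F) := fun o =>
    match o with
    | none => ConjClasses.mk 1
    | some t => ConjClasses.mk (cSL t)
  have hf : Function.Bijective f := by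
    constructor
    · rintro (_ | t) (_ | t') htt
      · rfl
      · exfalso
        have h1 : IsConj (1 : Matrix.SpecialLinearGroup (Fin 2) F) (cSL t') := ConjClasses.mk_eq_mk_iff_isConj.1 htt
        exact not_isScal_cSL t' ((isScal_of_conj h1).1 (by simp [IsScal]))
      · exfalso
        have h1 : IsConj (cSL t) (1 : Matrix.SpecialLinearGroup (Fin 2) F) := ConjClasses.mk_eq_mk_iff_isConj.1 htt
        exact not_isScal_cSL t ((isScal_of_conj h1).2 (by simp [IsScal]))
      · have h1 : IsConj (cSL t) (cSL t') := ConjClasses.mk_eq_mk_iff_isConj.1 htt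
        have h3 := trace_of_conj h1
        rw [trace_cSL, trace_cSL] at h3
        rw [h3]
    · intro c
      obtain ⟨g, rfl⟩ := ConjClasses.mk_surjective c
      by_cases hg : g = 1
      · exact ⟨none, by rw [hg]⟩
      · exact ⟨some _, (ConjClasses.mk_eq_mk_iff_isConj.2 (conj_cSL_of_char_two h2 g (hns g hg))).symm⟩
  rw [← Nat.card_congr (Equiv.ofBijective f hf), Nat.card_eq_fintype_card, Fintype.card_option]

end Cfsg.Agent.S2331
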