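import Cfsg.Statements.S2430
import Cfsg.Agent.Lib.H45.SL2TorusConj

set_option autoImplicit false
open Cfsg

namespace Cfsg.Agent.S2430

open H45.SL2

variable {F : Type*} [Field F]

local notation "G₀" => Matrix.SpecialLinearGroup (Fin 2) F

/-- the main computation for a subgroup of a torus containing a nonscalar element and closed under torus
normalization -/
theorem torus_case {T : Subgroup G₀} (hT : TorusLike T) {P : Subgroup G₀} (hPT : P ≤ T) {t : G₀} (ht : t ∈ P)
    (hns : NonScalar t) :
    Subgroup.centralizer (P : Set G₀) = T ∧ Subgroup.normalizer (P : Set G₀) = Subgroup.normalizer (T : Set G₀) := by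
  have hcent : Subgroup.centralizer (P : Set G₀) = T := by
    apply le_antisymm
    · intro x hx
      rw [← hT.centralizer_eq t (hPT ht) hns, Subgroup.mem_centralizer_iff]
      intro y hy
      rw [Set.mem_singleton_iff] at hy
      rw [hy]
      exact (Subgroup.mem_centralizer_iff.1 hx) t ht
    · intro x hx
      rw [Subgroup.mem_centralizer_iff]
      intro y hy
      exact hT.comm y (hPT hy) x hx
  refine ⟨hcent, ?_⟩
  apply le_antisymm
  · intro g hg
    rw [hT.mem_normalizer_iff (hPT ht) hns]
    exact hPT ((Subgroup.mem_normalizer_iff.1 hg t).1 ht)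
  · intro g hg
    have key : ∀ s ∈ P, g * s * g⁻¹ ∈ P := by
      intro s hs
      by_cases hgT : g ∈ T
      · have : g * s * g⁻¹ = s := by
          rw [mul_inv_eq_iff_eq_mul]; exact hT.comm g hgT s (hPT hs)
        rw [this]; exact hs
      · have h3 := (hT.outside t (hPT ht) hns g hgT ((hT.mem_normalizer_iff (hPT ht) hns g).1 hg)).2
        rw [h3 s (hPT hs)]; exact P.inv_mem hs
    have key' : ∀ s ∈ P, g⁻¹ * s * g ∈ P := by
      intro s hs
      by_cases hgT : g ∈ T
      · have : g⁻¹ * s * g = s := by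
          rw [mul_assoc, hT.comm s (hPT hs) g hgT, inv_mul_cancel_left]
        rw [this]; exact hs
      · have h3 := (hT.outside t (hPT ht) hns g hgT ((hT.mem_normalizer_iff (hPT ht) hns g).1 hg)).2
        have : g⁻¹ * s * g = s⁻¹ := by
          have h4 := h3 (s⁻¹) (T.inv_mem (hPT hs))
          rw [inv_inv] at h4
          calc g⁻¹ * s * g = g⁻¹ * (g * s⁻¹ * g⁻¹) * g := by rw [h4]
            _ = s⁻¹ := by group
        rw [this]; exact P.inv_mem hs
    rw [Subgroup.mem_normalizer_iff]
    intro s
    constructor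
    · exact key s
    · intro hs
      have := key' _ hs
      have h5 : g⁻¹ * (g * s * g⁻¹) * g = s := by group
      rw [h5] at this
      exact this

theorem map_centralizer {G : Type*} [Group G] (φ : G ≃* G) (P : Subgroup G) :
    Subgroup.centralizer ((P.map φ.toMonoidHom : Subgroup G) : Set G) = (Subgroup.centralizer (P : Set G)).map φ.toMonoidHom := by
  ext x
  rw [Subgroup.mem_centralizer_iff, Subgroup.mem_map]
  constructor
  · intro h
    refine ⟨φ.symm x, ?_, by simp⟩
    rw [Subgroup.mem_centralizer_iff]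
    intro y hy
    have h3 := h (φ y) ⟨y, hy, rfl⟩
    apply φ.injective
    rw [map_mul, map_mul, φ.apply_symm_apply]
    exact h3
  · rintro ⟨y, hy, rfl⟩
    rintro z ⟨w, hw, rfl⟩
    rw [Subgroup.mem_centralizer_iff] at hy
    change φ w * φ y = φ y * φ w
    rw [← map_mul, hy w hw, map_mul]

theorem map_normalizer {G : Type*} [Group G] (φ : G ≃* G) (P : Subgroup G) :
    Subgroup.normalizer ((P.map φ.toMonoidHom : Subgroup G) : Set G) = (Subgroup.normalizer (P : Set G)).map φ.toMonoidHom := by
  ext x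
  rw [Subgroup.mem_normalizer_iff, Subgroup.mem_map]
  constructor
  · intro h
    refine ⟨φ.symm x, ?_, by simp⟩
    rw [Subgroup.mem_normalizer_iff]
    intro y
    have h3 := h (φ y)
    have e1 : φ y ∈ P.map φ.toMonoidHom ↔ y ∈ P := by
      constructor
      · rintro ⟨w, hw, hwy⟩
        have : w = y := φ.injective hwy
        rw [← this]; exact hw
      · intro hy; exact ⟨y, hy, rfl⟩
    have e2 : x * φ y * x⁻¹ ∈ P.map φ.toMonoidHom ↔ φ.symm x * y * (φ.symm x)⁻¹ ∈ P := by
      constructor
      · rintro ⟨w, hw, hwy⟩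
        have : w = φ.symm x * y * (φ.symm x)⁻¹ := by
          apply φ.injective
          rw [map_mul, map_mul, map_inv, φ.apply_symm_apply]; exact hwy
        rw [← this]; exact hw
      · intro hy
        refine ⟨_, hy, ?_⟩
        change φ (φ.symm x * y * (φ.symm x)⁻¹) = _
        rw [map_mul, map_mul, map_inv, φ.apply_symm_apply]
    rw [e1, e2] at h3
    exact h3
  · rintro ⟨y, hy, rfl⟩
    intro z
    rw [Subgroup.mem_normalizer_iff] at hy
    constructor
    · rintro ⟨w, hw, rfl⟩
      refine ⟨y * w * y⁻¹, (hy w).1 hw, ?_⟩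
      change φ (y * w * y⁻¹) = φ y * φ w * (φ y)⁻¹
      rw [map_mul, map_mul, map_inv]
    · rintro ⟨w, hw, hwz⟩
      refine ⟨φ.symm z, ?_, by simp⟩
      have : w = y * φ.symm z * y⁻¹ := by
        apply φ.injective
        rw [map_mul, map_mul, map_inv, φ.apply_symm_apply]; exact hwz
      rw [this] at hw
      exact (hy _).2 hw

/-- The result for a torus-like cyclic subgroup containing a Sylow `ℓ`-subgroup. -/
theorem sylow_case [Finite F] {T : Subgroup G₀} (hT : TorusLike T) (hcyc : IsCyclic T)
    {m : ℕ} (hcard : Nat.card T = m)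
    (ℓ : ℕ) [Fact ℓ.Prime] (hℓ : ℓ ≠ 2) (hdvd : ℓ ∣ m)
    (hfac : (Nat.card G₀).factorization ℓ = m.factorization ℓ)
    (P : Sylow ℓ G₀) :
    Nat.card (Subgroup.centralizer ((P : Subgroup G₀) : Set G₀)) = m ∧
      IsCyclic (Subgroup.centralizer ((P : Subgroup G₀) : Set G₀)) ∧
      Nat.card (Subgroup.normalizer ((P : Subgroup G₀) : Set G₀)) = 2 * m := by
  -- a Sylow subgroup of T
  obtain ⟨Q⟩ : Nonempty (Sylow ℓ T) := inferInstance
  have hQcard : Nat.card ((Q : Subgroup T).map T.subtype) = ℓ ^ (Nat.card G₀).factorization ℓ := by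
    rw [hfac, ← hcard, Subgroup.card_subtype]
    exact Q.card_eq_multiplicity
  let P0 : Sylow ℓ G₀ := Sylow.ofCard ((Q : Subgroup T).map T.subtype) hQcard
  have hP0 : (P0 : Subgroup G₀) = (Q : Subgroup T).map T.subtype := rfl
  have hP0T : (P0 : Subgroup G₀) ≤ T := by
    rw [hP0]; exact Subgroup.map_subtype_le _
  -- it contains a nonscalar element
  have hex : ∃ t ∈ (P0 : Subgroup G₀), NonScalar t := by
    have hc : ℓ ∣ Nat.card (P0 : Subgroup G₀) := by
      rw [hP0, hQcard, hfac]
      apply dvd_pow_self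
      have hm : m ≠ 0 := by rw [← hcard]; exact Nat.card_pos.ne'
      exact (((Fact.out : ℓ.Prime).factorization_pos_of_dvd hm hdvd)).ne'
    obtain ⟨x, hx⟩ := exists_prime_orderOf_dvd_card' ℓ hc
    refine ⟨x, x.2, ?_⟩
    have hx' : orderOf (x : G₀) = ℓ := by rw [Subgroup.orderOf_coe]; exact hx
    constructor
    · intro h
      rw [h, orderOf_one] at hx'
      exact (Fact.out : ℓ.Prime).one_lt.ne hx'
    · intro h
      have h3 : (x : G₀) ^ 2 = 1 := by rw [h, pow_two, neg_mul_neg, one_mul]
      have h4 := orderOf_dvd_of_pow_eq_one h3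
      rw [hx'] at h4
      rcases (Nat.dvd_prime Nat.prime_two).1 h4 with h5 | h5
      · exact (Fact.out : ℓ.Prime).one_lt.ne' h5
      · exact hℓ h5
  obtain ⟨t, ht, hns⟩ := hex
  obtain ⟨hc, hn⟩ := torus_case hT hP0T ht hns
  obtain ⟨g, hg⟩ := MulAction.exists_smul_eq G₀ P0 P
  have hP : (P : Subgroup G₀) = (P0 : Subgroup G₀).map (MulAut.conj g).toMonoidHom := by
    rw [← hg, Sylow.coe_subgroup_smul]; rfl
  rw [hP, map_centralizer, map_normalizer, hc, hn]
  refine ⟨?_, ?_, ?_⟩
  · rw [Subgroup.card_map_of_injective (MulAut.conj g).injective, hcard]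
  · have := hcyc
    exact isCyclic_of_surjective _ (T.equivMapOfInjective (MulAut.conj g).toMonoidHom (MulAut.conj g).injective).surjective
  · rw [Subgroup.card_map_of_injective (MulAut.conj g).injective, (hT.card_normalizer (hP0T ht) hns).1, hcard]

/-- Let F be a finite field with q elements, q odd, ℓ an odd prime, and P a Sylow ℓ-subgroup of SL₂ over F. If ℓ divides q − 1, the centraliser of P is cyclic of order q − 1 (a split torus) and the normaliser of P has order 2(q − 1); if ℓ divides q + 1, the centraliser of P is cyclic of order q + 1 (a non-split torus) and the normaliser of P has order 2(q + 1). -/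
theorem result {F : Type*} [Field F] [Fintype F] (hodd : Odd (Fintype.card F)) (ℓ : ℕ) [Fact ℓ.Prime] (hℓ : ℓ ≠ 2)
    (P : Sylow ℓ (Matrix.SpecialLinearGroup (Fin 2) F)) :
    (ℓ ∣ Fintype.card F - 1 →
      Nat.card (Subgroup.centralizer ((P : Subgroup (Matrix.SpecialLinearGroup (Fin 2) F)) : Set (Matrix.SpecialLinearGroup (Fin 2) F))) = Fintype.card F - 1 ∧
      IsCyclic (Subgroup.centralizer ((P : Subgroup (Matrix.SpecialLinearGroup (Fin 2) F)) : Set (Matrix.SpecialLinearGroup (Fin 2) F))) ∧
      Nat.card (Subgroup.normalizer ((P : Subgroup (Matrix.SpecialLinearGroup (Fin 2) F)) : Set (Matrix.SpecialLinearGroup (Fin 2) F))) = 2 * (Fintype.card F - 1)) ∧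
    (ℓ ∣ Fintype.card F + 1 →
      Nat.card (Subgroup.centralizer ((P : Subgroup (Matrix.SpecialLinearGroup (Fin 2) F)) : Set (Matrix.SpecialLinearGroup (Fin 2) F))) = Fintype.card F + 1 ∧
      IsCyclic (Subgroup.centralizer ((P : Subgroup (Matrix.SpecialLinearGroup (Fin 2) F)) : Set (Matrix.SpecialLinearGroup (Fin 2) F))) ∧
      Nat.card (Subgroup.normalizer ((P : Subgroup (Matrix.SpecialLinearGroup (Fin 2) F)) : Set (Matrix.SpecialLinearGroup (Fin 2) F))) = 2 * (Fintype.card F + 1)) := by
  have h2 : (2 : F) ≠ 0 := two_ne_zero_of_odd hodd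
  have hq : 1 < Fintype.card F := Fintype.one_lt_card
  have hlp : ℓ.Prime := Fact.out
  have hG := card_SL2 (F := F)
  have hq0 : Fintype.card F ≠ 0 := by omega
  have hq1 : Fintype.card F - 1 ≠ 0 := by omega
  have hq2 : Fintype.card F + 1 ≠ 0 := by omega
  constructor
  · intro hdvd
    have hT := torusLike_torus (F := F) (δ := 1 ^ 2) (by simp) h2
    have h3 : ¬ ℓ ∣ Fintype.card F := by
      intro h
      have := (Nat.dvd_sub h hdvd)
      have h4 : Fintype.card F - (Fintype.card F - 1) = 1 := by omega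
      rw [h4] at this
      exact hlp.one_lt.ne' (Nat.dvd_one.1 this)
    have h4 : ¬ ℓ ∣ Fintype.card F + 1 := by
      intro h
      have := (Nat.dvd_sub h hdvd)
      have h4 : Fintype.card F + 1 - (Fintype.card F - 1) = 2 := by omega
      rw [h4] at this
      rcases (Nat.dvd_prime Nat.prime_two).1 this with h5 | h5
      · exact hlp.one_lt.ne' h5
      · exact hℓ h5
    apply sylow_case hT (isCyclic_torus (by simp) h2) (card_torus_split one_ne_zero h2) ℓ hℓ hdvd
    rw [hG, Nat.factorization_mul (mul_ne_zero hq0 hq1) hq2, Nat.factorization_mul hq0 hq1,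
      Finsupp.add_apply, Finsupp.add_apply, Nat.factorization_eq_zero_of_not_dvd h3,
      Nat.factorization_eq_zero_of_not_dvd h4]
    ring
  · intro hdvd
    obtain ⟨δ, hδ⟩ := exists_nonsquare (F := F) hodd
    have hδ0 : δ ≠ 0 := by rintro rfl; exact hδ ⟨0, by ring⟩
    have hT := torusLike_torus hδ0 h2
    have h3 : ¬ ℓ ∣ Fintype.card F := by
      intro h
      have := (Nat.dvd_sub hdvd h)
      have h4 : Fintype.card F + 1 - Fintype.card F = 1 := by omega
      rw [h4] at this
      exact hlp.one_lt.ne' (Nat.dvd_one.1 this)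
    have h4 : ¬ ℓ ∣ Fintype.card F - 1 := by
      intro h
      have := (Nat.dvd_sub hdvd h)
      have h4 : Fintype.card F + 1 - (Fintype.card F - 1) = 2 := by omega
      rw [h4] at this
      rcases (Nat.dvd_prime Nat.prime_two).1 this with h5 | h5
      · exact hlp.one_lt.ne' h5
      · exact hℓ h5
    apply sylow_case hT (isCyclic_torus hδ0 h2) (card_torus_nonsplit hδ h2) ℓ hℓ hdvd
    rw [hG, Nat.factorization_mul (mul_ne_zero hq0 hq1) hq2, Nat.factorization_mul hq0 hq1,
      Finsupp.add_apply, Finsupp.add_apply, Nat.factorization_eq_zero_of_not_dvd h3,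
      Nat.factorization_eq_zero_of_not_dvd h4]
    ring

end Cfsg.Agent.S2430
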