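import Cfsg.Statements.S2431
import Cfsg.Agent.Lib.H45.SL2TorusConj
import Cfsg.Agent.S2430

set_option autoImplicit false
open Cfsg

namespace Cfsg.Agent.S2431

open H45.SL2

variable {F : Type*} [Field F]

local notation "G₀" => Matrix.SpecialLinearGroup (Fin 2) F

/-- product of two outside elements lies in the torus -/
theorem mul_mem_of_outside {T : Subgroup G₀} (hT : TorusLike T) {t : G₀} (ht : t ∈ T) (hns : NonScalar t)
    {b w : G₀} (hb : ∀ s ∈ T, b * s * b⁻¹ = s⁻¹) (hw : ∀ s ∈ T, w * s * w⁻¹ = s⁻¹) : b * w ∈ T := by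
  rw [← hT.centralizer_eq t ht hns, Subgroup.mem_centralizer_singleton_iff]
  have h4 : b * (w * t * w⁻¹) * b⁻¹ = t := by
    rw [hw t ht, hb _ (T.inv_mem ht), inv_inv]
  have h5 : b * w * t = (b * (w * t * w⁻¹) * b⁻¹) * (b * w) := by group
  rw [h5, h4]

/-- Setup: `S` is a subgroup of `N(T)` not contained in `T`, with `S ∩ T = ⟨t⟩`, containing all 2-elements of `T`. -/
structure Setup (S T : Subgroup G₀) (t w : G₀) : Prop where
  hT : TorusLike T
  hns : NonScalar t
  hSN : ∀ g ∈ S, g ∉ T → g * g = -1 ∧ ∀ s ∈ T, g * s * g⁻¹ = s⁻¹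
  hST : S ⊓ T = Subgroup.zpowers t
  htw : w ∈ S ∧ w ∉ T
  h2el : ∀ u ∈ T, u ^ 2 ∈ S → u ∈ S

variable {S T : Subgroup (Matrix.SpecialLinearGroup (Fin 2) F)} {t w : Matrix.SpecialLinearGroup (Fin 2) F}

theorem Setup.t_mem (h : Setup S T t w) : t ∈ S ∧ t ∈ T := by
  have : t ∈ S ⊓ T := by rw [h.hST]; exact Subgroup.mem_zpowers t
  exact this

theorem Setup.inv (h : Setup S T t w) : ∀ s ∈ T, w * s * w⁻¹ = s⁻¹ := (h.hSN w h.htw.1 h.htw.2).2

theorem Setup.sq (h : Setup S T t w) : w * w = -1 := (h.hSN w h.htw.1 h.htw.2).1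

theorem Setup.centralizer (h : Setup S T t w) :
    Subgroup.centralizer (S : Set G₀) = Subgroup.center G₀ := by
  apply le_antisymm
  · intro x hx
    rw [Subgroup.mem_centralizer_iff] at hx
    have hxT : x ∈ T := by
      rw [← h.hT.centralizer_eq t h.t_mem.2 h.hns, Subgroup.mem_centralizer_singleton_iff]
      exact (hx t h.t_mem.1).symm
    have h1 := hx w h.htw.1
    have h2 := h.inv x hxT
    rw [h1, mul_inv_cancel_right] at h2
    have h3 : x * x = 1 := by
      nth_rewrite 2 [h2]; rw [mul_inv_cancel]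
    rw [mem_center_iff]
    exact (h.hT.sq_iff x hxT).1 h3
  · exact Subgroup.center_le_centralizer _

theorem Setup.torus_normalizer (h : Setup S T t w) {g : G₀} (hg : g ∈ Subgroup.normalizer (S : Set G₀))
    (hgT : g ∈ T) : g ∈ S := by
  apply h.h2el g hgT
  have h1 := (Subgroup.mem_normalizer_iff.1 hg w).1 h.htw.1
  have h2 : g * w * g⁻¹ = g ^ 2 * w := by
    have h3 := h.inv g⁻¹ (T.inv_mem hgT)
    rw [inv_inv] at h3
    calc g * w * g⁻¹ = g * (w * g⁻¹ * w⁻¹) * w := by group
      _ = g ^ 2 * w := by rw [h3, pow_two]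
  rw [h2] at h1
  have := S.mul_mem h1 (S.inv_mem h.htw.1)
  rwa [mul_inv_cancel_right] at this

theorem Setup.normalizer_eq (h : Setup S T t w) (h8 : 4 < orderOf t) :
    Subgroup.normalizer (S : Set G₀) = S := by
  apply le_antisymm _ Subgroup.le_normalizer
  intro g hg
  have h1 := (Subgroup.mem_normalizer_iff.1 hg t).1 h.t_mem.1
  have hgtT : g * t * g⁻¹ ∈ T := by
    by_contra hcon
    have h2 := (h.hSN _ h1 hcon).1
    have h3 : (g * t * g⁻¹) ^ 4 = 1 := by
      have : (g * t * g⁻¹) ^ 4 = ((g * t * g⁻¹) * (g * t * g⁻¹)) * ((g * t * g⁻¹) * (g * t * g⁻¹)) := by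
        simp only [pow_succ, pow_zero, one_mul, mul_assoc]
      rw [this, h2, neg_mul_neg, one_mul]
    have h4 : orderOf (g * t * g⁻¹) = orderOf t := by
      have := orderOf_injective (MulAut.conj g).toMonoidHom (MulAut.conj g).injective t
      exact this
    have h5 := orderOf_le_of_pow_eq_one (by norm_num) h3
    omega
  have hgN := (h.hT.mem_normalizer_iff h.t_mem.2 h.hns g).2 hgtT
  by_cases hgT : g ∈ T
  · exact h.torus_normalizer hg hgT
  · have h2 := (h.hT.outside t h.t_mem.2 h.hns g hgT hgtT).2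
    have h3 : g * w ∈ T := mul_mem_of_outside h.hT h.t_mem.2 h.hns h2 h.inv
    have h4 : g * w ∈ Subgroup.normalizer (S : Set G₀) :=
      Subgroup.mul_mem _ hg (Subgroup.le_normalizer h.htw.1)
    have h5 := S.mul_mem (h.torus_normalizer h4 h3) (S.inv_mem h.htw.1)
    rwa [mul_inv_cancel_right] at h5

/-- quaternion matrix identity -/
theorem quat_mat {R : Type*} [Ring R] (I J : R) (hI : I * I = -1) (hJ : J * J = -1) (hJI : J * I = -(I * J)) :
    (1 + I) * (1 + J) * I = J * ((1 + I) * (1 + J)) ∧ (1 + I) * (1 + J) * J = (I * J) * ((1 + I) * (1 + J)) := by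
  constructor
  · have e1 : (1 + I) * (1 + J) * I = I + J * I + I * I + I * (J * I) := by noncomm_ring
    have e2 : J * ((1 + I) * (1 + J)) = J + J * I + J * J + (J * I) * J := by noncomm_ring
    have e3 : I * -(I * J) = -((I * I) * J) := by noncomm_ring
    have e4 : -(I * J) * J = -(I * (J * J)) := by noncomm_ring
    rw [e1, e2, hJI, e3, e4, hI, hJ]; noncomm_ring
  · have e1 : (1 + I) * (1 + J) * J = J + J * J + I * J + I * (J * J) := by noncomm_ring
    have e2 : (I * J) * ((1 + I) * (1 + J)) = I * J + I * (J * I) + I * (J * J) + I * (J * I) * J := by noncomm_ring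
    have e3 : I * -(I * J) = -((I * I) * J) := by noncomm_ring
    rw [e1, e2, hJI, e3, hI, hJ]
    have e4 : (-(-1 * J) * J : R) = J * J := by noncomm_ring
    rw [e4, hJ]; noncomm_ring

/-- The case of quaternion Sylow subgroups of order 8: the normalizer has order 24. -/
theorem Setup.card_normalizer [Finite F] (h : Setup S T t w) (h2 : (2 : F) ≠ 0) (h4 : orderOf t = 4)
    (hS : Nat.card S = 8) : Nat.card (Subgroup.normalizer (S : Set G₀)) = 24 := by
  classical
  have htS := h.t_mem.1
  have htT := h.t_mem.2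
  -- t² = -1
  have ht2 : t * t = -1 := by
    have h5 : (t * t) * (t * t) = 1 := by
      have : t ^ 4 = 1 := by rw [← h4]; exact pow_orderOf_eq_one t
      rw [← this]; simp only [pow_succ, pow_zero, one_mul, mul_assoc]
    rcases (h.hT.sq_iff (t * t) (T.mul_mem htT htT)).1 h5 with h6 | h6
    · exfalso
      have := orderOf_le_of_pow_eq_one (x := t) (n := 2) (by norm_num) (by rw [pow_two]; exact h6)
      omega
    · exact h6
  have hww := h.sq
  have hwt : w * t = -(t * w) := by
    have h5 := h.inv t htT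
    have h6 : t⁻¹ = -t := by
      rw [inv_eq_iff_mul_eq_one, mul_neg, ht2, neg_neg]
    rw [h6, mul_inv_eq_iff_eq_mul] at h5
    rw [h5, neg_mul]
  -- matrices
  set I : Matrix (Fin 2) (Fin 2) F := t.1 with hI
  set J : Matrix (Fin 2) (Fin 2) F := w.1 with hJ
  have hII : I * I = -1 := congrArg Subtype.val ht2
  have hJJ : J * J = -1 := congrArg Subtype.val hww
  have hJI : J * I = -(I * J) := congrArg Subtype.val hwt
  obtain ⟨q1, q2⟩ := quat_mat I J hII hJJ hJI
  -- trace zero
  have htr0 : ∀ g : G₀, g * g = -1 → NonScalar g → tr g = 0 := by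
    intro g hg _
    have e : g⁻¹ = -g := by rw [inv_eq_iff_mul_eq_one, mul_neg, hg, neg_neg]
    have h5 : g.1 1 1 = (-g).1 0 0 := by rw [← inv_00, e]
    rw [neg_ij] at h5
    unfold tr; rw [h5]; ring
  have hnsw : NonScalar w := by
    constructor
    · intro h5; apply h.htw.2; rw [h5]; exact T.one_mem
    · intro h5; apply h.htw.2; rw [h5]; exact h.hT.neg_one_mem
  have hdetI : ∀ g : G₀, tr g = 0 → (1 + g.1).det = 2 := by
    intro g hg
    have hd := det_eq g
    rw [Matrix.det_fin_two]
    simp only [Matrix.add_apply, Matrix.one_apply_eq, Matrix.one_apply_ne (show (0 : Fin 2) ≠ 1 by decide),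
      Matrix.one_apply_ne (show (1 : Fin 2) ≠ 0 by decide)]
    unfold tr at hg
    linear_combination hd + hg
  have hd1 : (1 + I).det = 2 := hdetI t (htr0 t ht2 h.hns)
  have hd2 : (1 + J).det = 2 := hdetI w (htr0 w hww hnsw)
  let W : Matrix (Fin 2) (Fin 2) F := (2⁻¹ : F) • ((1 + I) * (1 + J))
  have hWdet : W.det = 1 := by
    change ((2⁻¹ : F) • ((1 + I) * (1 + J))).det = 1
    rw [Matrix.det_smul, Matrix.det_mul, hd1, hd2, Fintype.card_fin]
    field_simp
  let o : G₀ := mkM W hWdet
  have ho : o.1 = (2⁻¹ : F) • ((1 + I) * (1 + J)) := rfl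
  have o1 : o * t = w * o := by
    apply Subtype.ext
    change o.1 * I = J * o.1
    rw [ho, Matrix.smul_mul, Matrix.mul_smul, q1]
  have o2 : o * w = (t * w) * o := by
    apply Subtype.ext
    change o.1 * J = (I * J) * o.1
    rw [ho, Matrix.smul_mul, Matrix.mul_smul, q2]
  have o1' : o * t * o⁻¹ = w := by rw [o1, mul_inv_cancel_right]
  have o2' : o * w * o⁻¹ = t * w := by rw [o2, mul_inv_cancel_right]
  -- elements of S
  have hSel : ∀ g ∈ S, (∃ n : ℤ, g = t ^ n) ∨ (∃ n : ℤ, g = t ^ n * w) := by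
    intro g hg
    by_cases hgT : g ∈ T
    · left
      have : g ∈ Subgroup.zpowers t := by rw [← h.hST]; exact ⟨hg, hgT⟩
      obtain ⟨n, hn⟩ := this
      exact ⟨n, hn.symm⟩
    · right
      have h5 := (h.hSN g hg hgT).2
      have h6 : g * w⁻¹ ∈ T := by
        have h7 := mul_mem_of_outside h.hT htT h.hns h5 (b := g) (w := w⁻¹) (by
          intro s hs
          have h8 := h.inv s⁻¹ (T.inv_mem hs)
          rw [inv_inv] at h8
          calc w⁻¹ * s * w⁻¹⁻¹ = w⁻¹ * (w * s⁻¹ * w⁻¹) * w := by rw [h8, inv_inv]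
            _ = s⁻¹ := by group)
        exact h7
      have : g * w⁻¹ ∈ Subgroup.zpowers t := by
        rw [← h.hST]; exact ⟨S.mul_mem hg (S.inv_mem h.htw.1), h6⟩
      obtain ⟨n, hn⟩ := this
      exact ⟨n, by rw [show t ^ n = g * w⁻¹ from hn]; group⟩
  have hoS : ∀ g ∈ S, o * g * o⁻¹ ∈ S := by
    intro g hg
    have hpow : ∀ n : ℤ, o * t ^ n * o⁻¹ = w ^ n := by
      intro n
      rw [← o1', conj_zpow]
    rcases hSel g hg with ⟨n, rfl⟩ | ⟨n, rfl⟩
    · rw [hpow]; exact S.zpow_mem h.htw.1 n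
    · have : o * (t ^ n * w) * o⁻¹ = (o * t ^ n * o⁻¹) * (o * w * o⁻¹) := by group
      rw [this, hpow, o2']
      exact S.mul_mem (S.zpow_mem h.htw.1 n) (S.mul_mem htS h.htw.1)
  have hoN : o ∈ Subgroup.normalizer (S : Set G₀) := by
    rw [Subgroup.mem_normalizer_iff]
    have hmap : S.map (MulAut.conj o).toMonoidHom = S := by
      apply Subgroup.eq_of_le_of_card_ge
      · rintro _ ⟨g, hg, rfl⟩
        exact hoS g hg
      · rw [Subgroup.card_map_of_injective (MulAut.conj o).injective]
    intro g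
    constructor
    · exact hoS g
    · intro hg
      rw [← hmap] at hg
      obtain ⟨g', hg', he⟩ := hg
      have : g' = g := (MulAut.conj o).injective he
      rw [← this]; exact hg'
  set N := Subgroup.normalizer (S : Set G₀) with hN
  -- 3 divides |N|
  have hdvd3 : 3 ∣ Nat.card N := by
    have h5 : 3 ∣ orderOf o := by
      by_contra hcon
      have hco : Nat.Coprime 3 (orderOf o) := (Nat.Prime.coprime_iff_not_dvd Nat.prime_three).2 hcon
      have hmem : o ∈ Subgroup.zpowers (o ^ 3) := by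
        obtain ⟨m, hm⟩ := exists_pow_eq_self_of_coprime hco
        rw [Subgroup.mem_zpowers_iff]
        exact ⟨m, by rw [zpow_natCast]; exact hm⟩
      have hc3 : Commute (o ^ 3) t := by
        have e1 : o ^ 3 * t * (o ^ 3)⁻¹ = t := by
          have : o ^ 3 * t * (o ^ 3)⁻¹ = o * (o * (o * t * o⁻¹) * o⁻¹) * o⁻¹ := by
            simp only [pow_succ, pow_zero, one_mul, mul_inv_rev, mul_assoc]
          rw [this, o1', o2']
          have : o * (t * w) * o⁻¹ = (o * t * o⁻¹) * (o * w * o⁻¹) := by group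
          rw [this, o1', o2', ← mul_assoc, hwt]
          rw [neg_mul, mul_assoc, hww, mul_neg, mul_one, neg_neg]
        rw [mul_inv_eq_iff_eq_mul] at e1
        exact e1
      obtain ⟨n, hn⟩ := hmem
      have hc : Commute o t := by
        have hn' : (o ^ 3) ^ n = o := hn
        have h6 := hc3.zpow_left n
        rw [hn'] at h6
        exact h6
      have : t = w := by
        rw [← o1', hc.eq, mul_inv_cancel_right]
      exact h.htw.2 (this ▸ htT)
    exact h5.trans (Subgroup.orderOf_dvd_natCard N hoN)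
  have hdvd8 : 8 ∣ Nat.card N := by
    rw [← hS]; exact Subgroup.card_dvd_of_le Subgroup.le_normalizer
  have hdvd24 : 24 ∣ Nat.card N := by
    have : (3 * 8) ∣ Nat.card N := Nat.Coprime.mul_dvd_of_dvd_of_dvd (by norm_num) hdvd3 hdvd8
    exact this
  -- upper bound via the map g ↦ g t g⁻¹
  have hub : Nat.card N ≤ 24 := by
    -- fibres
    have hfin : (N : Set G₀).Finite := Set.toFinite _
    have hcardN : Nat.card N = hfin.toFinset.card := by
      rw [← Set.ncard_eq_toFinset_card _ hfin]; rfl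
    rw [hcardN]
    have hSfin : (S : Set G₀).Finite := Set.toFinite _
    let target : Finset G₀ := hSfin.toFinset \ {1, -1}
    have hmaps : ∀ g ∈ hfin.toFinset, (fun g : G₀ => g * t * g⁻¹) g ∈ target := by
      intro g hg
      have hg' : g ∈ N := by simpa using hg
      have h5 := (Subgroup.mem_normalizer_iff.1 hg' t).1 htS
      simp only [target, Finset.mem_sdiff, Set.Finite.mem_toFinset, Finset.mem_insert, Finset.mem_singleton]
      refine ⟨h5, ?_⟩
      rintro (h6 | h6)
      · apply h.hns.1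
        rw [mul_inv_eq_one] at h6
        exact mul_left_cancel (a := g) (by rw [h6, mul_one])
      · apply h.hns.2
        rw [mul_inv_eq_iff_eq_mul] at h6
        apply mul_left_cancel (a := g)
        rw [h6, neg_mul, one_mul, mul_neg, mul_one]
    have hfib : ∀ b ∈ target, (hfin.toFinset.filter (fun g => g * t * g⁻¹ = b)).card ≤ 4 := by
      intro b _
      by_cases hne : (hfin.toFinset.filter (fun g => g * t * g⁻¹ = b)).Nonempty
      · obtain ⟨g0, hg0⟩ := hne
        rw [Finset.mem_filter] at hg0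
        have hg0N : g0 ∈ N := by simpa using hg0.1
        -- the fibre is contained in g0 * zpowers t
        have hzfin : ((Subgroup.zpowers t : Subgroup G₀) : Set G₀).Finite := Set.toFinite _
        have hcardz : hzfin.toFinset.card = 4 := by
          rw [← Set.ncard_eq_toFinset_card _ hzfin, ← h4, ← Nat.card_zpowers]; rfl
        rw [← hcardz]
        apply Finset.card_le_card_of_injOn (fun g => g0⁻¹ * g)
        · intro g hg
          rw [Finset.mem_coe, Finset.mem_filter] at hg
          have hgN : g ∈ N := by simpa using hg.1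
          have h5 : g0⁻¹ * g ∈ N := N.mul_mem (N.inv_mem hg0N) hgN
          have h6 : g0⁻¹ * g ∈ T := by
            rw [← h.hT.centralizer_eq t htT h.hns, Subgroup.mem_centralizer_singleton_iff]
            have e1 : g * t * g⁻¹ = g0 * t * g0⁻¹ := by rw [hg.2, hg0.2]
            calc g0⁻¹ * g * t = g0⁻¹ * (g * t * g⁻¹) * g := by group
              _ = g0⁻¹ * (g0 * t * g0⁻¹) * g := by rw [e1]
              _ = t * (g0⁻¹ * g) := by group
          have h7 : g0⁻¹ * g ∈ S := h.torus_normalizer h5 h6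
          have h8 : g0⁻¹ * g ∈ Subgroup.zpowers t := by rw [← h.hST]; exact ⟨h7, h6⟩
          simpa using h8
        · intro a _ b _ hab
          exact mul_left_cancel hab
      · rw [Finset.not_nonempty_iff_eq_empty] at hne
        rw [hne]; simp
    have h5 := Finset.card_le_mul_card_image_of_maps_to hmaps 4 hfib
    have h6 : target.card = 6 := by
      have h7 : ({1, -1} : Finset G₀) ⊆ hSfin.toFinset := by
        intro x hx
        simp only [Finset.mem_insert, Finset.mem_singleton] at hx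
        rw [Set.Finite.mem_toFinset]
        rcases hx with rfl | rfl
        · exact S.one_mem
        · rw [← ht2]; exact S.mul_mem htS htS
      rw [Finset.card_sdiff_of_subset h7, Finset.card_pair (one_ne_neg_one h2),
        ← Set.ncard_eq_toFinset_card _ hSfin]
      have : Set.ncard (S : Set G₀) = 8 := hS
      rw [this]
    rw [h6] at h5
    exact h5
  obtain ⟨k, hk⟩ := hdvd24
  have hpos : 0 < Nat.card N := Nat.card_pos
  rw [hk] at hub hpos ⊢
  have : k = 1 := by omega
  rw [this]

/-- Building the setup from a torus whose normalizer contains a Sylow 2-subgroup. -/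
theorem exists_setup [Finite F] {T : Subgroup G₀} (hT : TorusLike T) (hcyc : IsCyclic T)
    {m : ℕ} (hcard : Nat.card T = m) (h4m : 4 ∣ m)
    (hfac : (Nat.card G₀).factorization 2 = m.factorization 2 + 1) :
    ∃ (P0 : Sylow 2 G₀) (t w : G₀), Setup (P0 : Subgroup G₀) T t w ∧ orderOf t = 2 ^ m.factorization 2 ∧
      Nat.card P0 = 2 ^ (m.factorization 2 + 1) := by
  classical
  have hm0 : 0 < m := by rw [← hcard]; exact Nat.card_pos
  have hm : m ≠ 0 := hm0.ne'
  have h4le : 4 ≤ m := Nat.le_of_dvd hm0 h4m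
  have ha2 : 2 ≤ m.factorization 2 := by
    have : (2 : ℕ) ^ 2 ∣ m := h4m
    exact (Nat.Prime.pow_dvd_iff_le_factorization Nat.prime_two hm).1 this
  set a := m.factorization 2 with ha
  obtain ⟨t0, ht0, hns0⟩ := exists_nonscalar T (by rw [hcard]; omega)
  have hcardN := (hT.card_normalizer ht0 hns0).1
  rw [hcard] at hcardN
  set N := Subgroup.normalizer (T : Set G₀) with hN
  obtain ⟨P⟩ : Nonempty (Sylow 2 N) := inferInstance
  have hfac2 : (2 * m).factorization 2 = a + 1 := by
    rw [Nat.factorization_mul (by norm_num) hm, Finsupp.add_apply, Nat.Prime.factorization_self Nat.prime_two]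
    ring
  have hPcard : Nat.card ((P : Subgroup N).map N.subtype) = 2 ^ (Nat.card G₀).factorization 2 := by
    rw [hfac, Subgroup.card_subtype, ← hfac2, ← hcardN]
    exact P.card_eq_multiplicity
  let P0 : Sylow 2 G₀ := Sylow.ofCard ((P : Subgroup N).map N.subtype) hPcard
  have hP0 : (P0 : Subgroup G₀) = (P : Subgroup N).map N.subtype := rfl
  have hP0N : (P0 : Subgroup G₀) ≤ N := by
    rw [hP0]; exact Subgroup.map_subtype_le _
  have hP0card : Nat.card (P0 : Subgroup G₀) = 2 ^ (a + 1) := by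
    rw [hP0, hPcard, hfac]
  -- P0 is not contained in T
  have hnle : ¬ (P0 : Subgroup G₀) ≤ T := by
    intro hle
    have := Subgroup.card_dvd_of_le hle
    rw [hP0card, hcard] at this
    have h5 := (Nat.Prime.pow_dvd_iff_le_factorization Nat.prime_two hm).1 this
    omega
  obtain ⟨w, hw1, hw2⟩ : ∃ w ∈ (P0 : Subgroup G₀), w ∉ T := by
    by_contra hcon
    push Not at hcon
    exact hnle hcon
  have hSN : ∀ g ∈ (P0 : Subgroup G₀), g ∉ T → g * g = -1 ∧ ∀ s ∈ T, g * s * g⁻¹ = s⁻¹ := by
    intro g hg hgT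
    exact hT.outside t0 ht0 hns0 g hgT ((hT.mem_normalizer_iff ht0 hns0 g).1 (hP0N hg))
  have hidx : (T.subgroupOf (P0 : Subgroup G₀)).index = 2 := by
    rw [Subgroup.index_eq_two_iff]
    refine ⟨⟨w, hw1⟩, ?_⟩
    rintro ⟨b, hb⟩
    rw [Subgroup.mem_subgroupOf, Subgroup.mem_subgroupOf]
    change Xor (b * w ∈ T) (b ∈ T)
    by_cases hbT : b ∈ T
    · right
      refine ⟨hbT, fun h => hw2 ?_⟩
      have := T.mul_mem (T.inv_mem hbT) h
      simpa using this
    · left
      exact ⟨mul_mem_of_outside hT ht0 hns0 (hSN b hb hbT).2 (hSN w hw1 hw2).2, hbT⟩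
  have hcardA : Nat.card ((P0 : Subgroup G₀) ⊓ T : Subgroup G₀) = 2 ^ a := by
    have h1 := Subgroup.card_mul_index (T.subgroupOf (P0 : Subgroup G₀))
    rw [hidx, hP0card] at h1
    have h3 : Nat.card (T.subgroupOf (P0 : Subgroup G₀)) = Nat.card ((P0 : Subgroup G₀) ⊓ T : Subgroup G₀) := by
      rw [← Subgroup.card_subtype (P0 : Subgroup G₀) (T.subgroupOf (P0 : Subgroup G₀)),
        Subgroup.subgroupOf_map_subtype, inf_comm]
    rw [h3, pow_succ] at h1
    exact Nat.eq_of_mul_eq_mul_right (by norm_num) h1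
  -- generator of the intersection
  have hcycA : IsCyclic ((P0 : Subgroup G₀) ⊓ T : Subgroup G₀) := by
    have : IsCyclic ((((P0 : Subgroup G₀) ⊓ T).subgroupOf T)) := inferInstance
    exact isCyclic_of_surjective _ (Subgroup.subgroupOfEquivOfLe (inf_le_right : (P0 : Subgroup G₀) ⊓ T ≤ T)).surjective
  obtain ⟨⟨t, ht⟩, htgen⟩ := hcycA.exists_generator
  have hzp : (P0 : Subgroup G₀) ⊓ T = Subgroup.zpowers t := by
    apply le_antisymm
    · intro x hx
      obtain ⟨n, hn⟩ := htgen ⟨x, hx⟩
      exact ⟨n, congrArg Subtype.val hn⟩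
    · rw [Subgroup.zpowers_le]; exact ht
  have hordt : orderOf t = 2 ^ a := by
    rw [← Nat.card_zpowers, ← hzp, hcardA]
  have h4a : 4 ≤ 2 ^ a := by
    calc 4 = 2 ^ 2 := by norm_num
      _ ≤ 2 ^ a := Nat.pow_le_pow_right (by norm_num) ha2
  have hnst : NonScalar t := by
    constructor
    · rintro rfl
      rw [orderOf_one] at hordt; omega
    · intro h5
      have h6 : t ^ 2 = 1 := by rw [h5, pow_two, neg_mul_neg, one_mul]
      have := orderOf_le_of_pow_eq_one (by norm_num) h6
      omega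
  have h2el : ∀ u ∈ T, u ^ 2 ∈ (P0 : Subgroup G₀) → u ∈ (P0 : Subgroup G₀) := by
    intro u hu hu2
    have huA : u ^ 2 ∈ (P0 : Subgroup G₀) ⊓ T := ⟨hu2, T.pow_mem hu 2⟩
    have h5 : (u ^ 2) ^ (2 ^ a) = 1 := by
      have h6 : orderOf (u ^ 2) ∣ 2 ^ a := by
        rw [← hcardA]; exact Subgroup.orderOf_dvd_natCard _ huA
      exact orderOf_dvd_iff_pow_eq_one.1 h6
    have h6 : u ^ (2 ^ (a + 1)) = 1 := by
      rw [← pow_mul] at h5
      rw [pow_succ, mul_comm]; exact h5
    have h7 : orderOf u ∣ 2 ^ (a + 1) := orderOf_dvd_of_pow_eq_one h6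
    obtain ⟨j, hj, hj2⟩ := (Nat.dvd_prime_pow Nat.prime_two).1 h7
    have h8 : orderOf u ∣ m := by rw [← hcard]; exact Subgroup.orderOf_dvd_natCard T hu
    rw [hj2] at h8
    have h9 : j ≤ a := (Nat.Prime.pow_dvd_iff_le_factorization Nat.prime_two hm).1 h8
    have h10 : u ^ (2 ^ a) = 1 := by
      apply orderOf_dvd_iff_pow_eq_one.1
      rw [hj2]; exact pow_dvd_pow 2 h9
    -- count in T
    have : Fintype T := Fintype.ofFinite T
    have h11 := IsCyclic.card_pow_eq_one_le (α := T) (n := 2 ^ a) (by positivity)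
    let B : Finset T := Finset.univ.filter (fun x : T => (x : G₀) ∈ (P0 : Subgroup G₀))
    have hBcard : B.card = 2 ^ a := by
      rw [← hcardA, ← Fintype.card_subtype, ← Nat.card_eq_fintype_card]
      apply Nat.card_congr
      exact
        { toFun := fun x => ⟨x.1.1, x.2, x.1.2⟩
          invFun := fun x => ⟨⟨x.1, x.2.2⟩, x.2.1⟩
          left_inv := fun x => rfl
          right_inv := fun x => rfl }
    have hBsub : B ⊆ Finset.univ.filter (fun x : T => x ^ (2 ^ a) = 1) := by
      intro x hx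
      rw [Finset.mem_filter] at hx ⊢
      refine ⟨Finset.mem_univ _, ?_⟩
      apply Subtype.ext
      have h12 : (x : G₀) ∈ (P0 : Subgroup G₀) ⊓ T := ⟨hx.2, x.2⟩
      have h13 : orderOf (x : G₀) ∣ 2 ^ a := by
        rw [← hcardA]; exact Subgroup.orderOf_dvd_natCard _ h12
      exact orderOf_dvd_iff_pow_eq_one.1 h13
    have hBeq : B = Finset.univ.filter (fun x : T => x ^ (2 ^ a) = 1) := by
      apply Finset.eq_of_subset_of_card_le hBsub
      rw [hBcard]; exact h11
    have h14 : (⟨u, hu⟩ : T) ∈ B := by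
      rw [hBeq, Finset.mem_filter]
      exact ⟨Finset.mem_univ _, Subtype.ext h10⟩
    exact (Finset.mem_filter.1 h14).2
  refine ⟨P0, t, w, ⟨hT, hnst, hSN, hzp, ⟨hw1, hw2⟩, h2el⟩, hordt, hP0card⟩

/-- Let F be a finite field with q elements, q odd, and S a Sylow 2-subgroup of SL₂ over F. The centraliser of S is the centre of SL₂ (of order 2); S is its own normaliser when q ≡ ±1 mod 8, and has index 3 in its normaliser when q ≡ ±3 mod 8. -/
theorem result {F : Type*} [Field F] [Fintype F] (hodd : Odd (Fintype.card F)) (S : Sylow 2 (Matrix.SpecialLinearGroup (Fin 2) F)) :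
    Subgroup.centralizer ((S : Subgroup (Matrix.SpecialLinearGroup (Fin 2) F)) : Set (Matrix.SpecialLinearGroup (Fin 2) F)) = Subgroup.center (Matrix.SpecialLinearGroup (Fin 2) F) ∧
    ((Fintype.card F % 8 = 1 ∨ Fintype.card F % 8 = 7) →
      Subgroup.normalizer ((S : Subgroup (Matrix.SpecialLinearGroup (Fin 2) F)) : Set (Matrix.SpecialLinearGroup (Fin 2) F)) = (S : Subgroup (Matrix.SpecialLinearGroup (Fin 2) F))) ∧
    ((Fintype.card F % 8 = 3 ∨ Fintype.card F % 8 = 5) →
      Nat.card (Subgroup.normalizer ((S : Subgroup (Matrix.SpecialLinearGroup (Fin 2) F)) : Set (Matrix.SpecialLinearGroup (Fin 2) F))) = 3 * Nat.card S) := by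
  have h2 : (2 : F) ≠ 0 := two_ne_zero_of_odd hodd
  have hq : 1 < Fintype.card F := Fintype.one_lt_card
  have hG := card_SL2 (F := F)
  obtain ⟨k, hk⟩ := hodd
  have hodd : Odd (Fintype.card F) := ⟨k, hk⟩
  -- the torus
  have main : ∃ (T : Subgroup (Matrix.SpecialLinearGroup (Fin 2) F)) (m r : ℕ), TorusLike T ∧ IsCyclic T ∧ Nat.card T = m ∧
      4 ∣ m ∧ Nat.card (Matrix.SpecialLinearGroup (Fin 2) F) = m * (2 * r) ∧ r % 2 = 1 ∧
      ((Fintype.card F % 8 = 1 ∨ Fintype.card F % 8 = 7) → 8 ∣ m) ∧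
      ((Fintype.card F % 8 = 3 ∨ Fintype.card F % 8 = 5) → ¬ 8 ∣ m) := by
    by_cases h14 : Fintype.card F % 4 = 1
    · refine ⟨torus (1 ^ 2), Fintype.card F - 1, Fintype.card F * ((Fintype.card F + 1) / 2),
        torusLike_torus (by simp) h2, isCyclic_torus (by simp) h2, card_torus_split one_ne_zero h2, by omega, ?_, ?_, by omega, by omega⟩
      · rw [hG]
        have : Fintype.card F + 1 = 2 * ((Fintype.card F + 1) / 2) := by omega
        nth_rewrite 1 [this]; ring
      · rw [Nat.mul_mod]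
        have e1 : Fintype.card F % 2 = 1 := by omega
        have e2 : (Fintype.card F + 1) / 2 % 2 = 1 := by omega
        rw [e1, e2]
    · obtain ⟨δ, hδ⟩ := exists_nonsquare (F := F) hodd
      have hδ0 : δ ≠ 0 := by rintro rfl; exact hδ ⟨0, by ring⟩
      refine ⟨torus δ, Fintype.card F + 1, Fintype.card F * ((Fintype.card F - 1) / 2),
        torusLike_torus hδ0 h2, isCyclic_torus hδ0 h2, card_torus_nonsplit hδ h2, by omega, ?_, ?_, by omega, by omega⟩
      · rw [hG]
        have : Fintype.card F - 1 = 2 * ((Fintype.card F - 1) / 2) := by omega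
        nth_rewrite 1 [this]; ring
      · rw [Nat.mul_mod]
        have e1 : Fintype.card F % 2 = 1 := by omega
        have e2 : (Fintype.card F - 1) / 2 % 2 = 1 := by omega
        rw [e1, e2]
  obtain ⟨T, m, r, hT, hcyc, hcard, h4m, hGm, hr, h8, h8'⟩ := main
  have hm0 : m ≠ 0 := by rw [← hcard]; exact Nat.card_pos.ne'
  have hr0 : r ≠ 0 := by rintro rfl; omega
  have hfac : (Nat.card (Matrix.SpecialLinearGroup (Fin 2) F)).factorization 2 = m.factorization 2 + 1 := by
    rw [hGm, Nat.factorization_mul hm0 (mul_ne_zero two_ne_zero hr0), Nat.factorization_mul two_ne_zero hr0,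
      Finsupp.add_apply, Finsupp.add_apply, Nat.Prime.factorization_self Nat.prime_two,
      Nat.factorization_eq_zero_of_not_dvd (n := r) (p := 2) (by omega)]
  obtain ⟨P0, t, w, hs, hord, hPcard⟩ := exists_setup hT hcyc hcard h4m hfac
  obtain ⟨g, hg⟩ := MulAction.exists_smul_eq (Matrix.SpecialLinearGroup (Fin 2) F) P0 S
  have hS : (S : Subgroup (Matrix.SpecialLinearGroup (Fin 2) F)) = (P0 : Subgroup (Matrix.SpecialLinearGroup (Fin 2) F)).map (MulAut.conj g).toMonoidHom := by
    rw [← hg, Sylow.coe_subgroup_smul]; rfl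
  refine ⟨?_, ?_, ?_⟩
  · rw [hS, S2430.map_centralizer, hs.centralizer]
    ext x
    rw [Subgroup.mem_map]
    constructor
    · rintro ⟨y, hy, rfl⟩
      change g * y * g⁻¹ ∈ _
      rw [Subgroup.mem_center_iff.1 hy g, mul_inv_cancel_right]; exact hy
    · intro hx
      refine ⟨x, hx, ?_⟩
      change g * x * g⁻¹ = x
      rw [Subgroup.mem_center_iff.1 hx g, mul_inv_cancel_right]
  · intro hq8
    rw [hS, S2430.map_normalizer, hs.normalizer_eq]
    rw [hord]
    have h3 : 3 ≤ m.factorization 2 := by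
      have : (2 : ℕ) ^ 3 ∣ m := h8 hq8
      exact (Nat.Prime.pow_dvd_iff_le_factorization Nat.prime_two hm0).1 this
    calc 4 < 2 ^ 3 := by norm_num
      _ ≤ 2 ^ m.factorization 2 := Nat.pow_le_pow_right (by norm_num) h3
  · intro hq8
    have h3 : m.factorization 2 = 2 := by
      have h5 : 2 ≤ m.factorization 2 := by
        have : (2 : ℕ) ^ 2 ∣ m := h4m
        exact (Nat.Prime.pow_dvd_iff_le_factorization Nat.prime_two hm0).1 this
      have h6 : ¬ 3 ≤ m.factorization 2 := by
        intro h7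
        have := (Nat.Prime.pow_dvd_iff_le_factorization Nat.prime_two hm0).2 h7
        exact h8' hq8 this
      omega
    rw [h3] at hord hPcard
    have e1 : Nat.card S = 8 := by
      have : Nat.card (S : Subgroup (Matrix.SpecialLinearGroup (Fin 2) F)) = 8 := by
        rw [hS, Subgroup.card_map_of_injective (MulAut.conj g).injective]
        exact hPcard
      exact this
    rw [e1, hS, S2430.map_normalizer, Subgroup.card_map_of_injective (MulAut.conj g).injective,
      hs.card_normalizer h2 hord hPcard]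

end Cfsg.Agent.S2431
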