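import Cfsg.Statements.S2180
import Cfsg.Agent.Lib.H47.RootCentT

set_option autoImplicit false
open Cfsg

namespace Cfsg.Agent.S2180

open H22.RGD H22.RCCheck H22.RCComb H22.ChevRel H22.ChevSys H22.ChevMain H22.ChevUni H47.RootCent
  Cfsg.Lie

/-- short roots -/
def sh (r : ℕ) : Bool := [2, 3, 4, 7, 8, 9].elem r

theorem ck1 : chk H22.PoinG2.rcxG2 2 [11] [] (fun _ => 1) [0] sh = true := by decide +kernel
theorem ck2 : chk H22.PoinG2.rcxG2 2 [9] [10, 11] (fun _ => 1) [1] sh = true := by decide +kernel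

theorem rel (F : Type*) [Field F] : Rel chevG2 F := H22.ChevAll.rel chevG2 (by simp) F

theorem rk {j : ℕ} (hj : j < chevG2.rank) : j = 0 ∨ j = 1 := by
  have : chevG2.rank = 2 := rfl
  omega

theorem c00 : chevG2.cartan 0 11 = 0 := by decide +kernel
theorem c01 : chevG2.cartan 1 11 = 1 := by decide +kernel
theorem c02 : chevG2.cartan 0 9 = 1 := by decide +kernel
theorem c03 : chevG2.cartan 1 9 = 0 := by decide +kernel
theorem n0 : chevG2.neg (chevG2.simple 0) = 4 := by decide +kernel
theorem n1 : chevG2.neg (chevG2.simple 1) = 5 := by decide +kernel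
theorem s1 : chevG2.simple 1 = 6 := by decide +kernel

section
variable {F : Type*} [Field F] [CharP F 2]

theorem E1 : Hyp (rel F) H22.PoinG2.rcxG2 (lift chevG2.nroots [11]) (lift chevG2.nroots [])
    (fun _ => 1) (fun j : Fin chevG2.rank => (j : ℕ) ∈ [0]) := by
  refine hyp_of_chk (rel F) ck1 fun h hh hc => ?_
  refine torus1 (rel F) H22.PoinG2.rcxG2.rc (m := 1) (r := 11)
    (by decide) (by decide) c01 ?_ ?_ h hh (hc 11 (by simp))
  · intro j hj h1
    rcases rk hj with rfl | rfl
    · exact c00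
    · exact absurd rfl h1
  · intro j hj h1
    rcases rk hj with rfl | rfl
    · simp
    · exact absurd rfl h1

theorem E2 : Hyp (rel F) H22.PoinG2.rcxG2 (lift chevG2.nroots [9]) (lift chevG2.nroots [10, 11])
    (fun _ => 1) (fun j : Fin chevG2.rank => (j : ℕ) ∈ [1]) := by
  refine hyp_of_chk (rel F) ck2 fun h hh hc => ?_
  refine torus1 (rel F) H22.PoinG2.rcxG2.rc (m := 0) (r := 9)
    (by decide) (by decide) c02 ?_ ?_ h hh (hc 9 (by simp))
  · intro j hj h1
    rcases rk hj with rfl | rfl
    · exact absurd rfl h1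
    · exact c03
  · intro j hj h1
    rcases rk hj with rfl | rfl
    · exact absurd rfl h1
    · simp

omit [CharP F 2] in
/-- conjugation of `x_s(u)` by `x_r(t)` when there is a single commutator term of type (1,1) -/
theorem conj_one {r s k : ℕ} {e : ℤ} (hr : r < chevG2.nroots) (hs : s < chevG2.nroots) (h1 : s ≠ r)
    (h2 : s ≠ chevG2.neg r) (h : chevG2.commTerms r s = [(k, e, 1, 1)]) (t u : F) :
    xg (rel F) r t * xg (rel F) s u = xg (rel F) s u * xg (rel F) k (e * t * u) * xg (rel F) r t := by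
  have h3 := comm_g (rel F) hr hs h1 h2 (-t) u
  have h4 : xg (rel F) r t * xg (rel F) s u * (xg (rel F) r t)⁻¹ =
      xg (rel F) s u * wg (rel F) (chevG2.commWord F r s (-t) u) := by
    rw [xg_inv, mul_assoc, h3, ← xg_inv]
    simp [mul_assoc]
  rw [mul_inv_eq_iff_eq_mul] at h4
  rw [h4]
  unfold ChevalleyDatum.commWord
  rw [h]
  simp [wg]

theorem cm {r s : ℕ} (h : (decide (r < chevG2.nroots) && decide (s < chevG2.nroots) &&
    okT chevG2 2 [] r s) = true) (a b : F) : Commute (xg (rel F) r a) (xg (rel F) s b) := by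
  simp only [Bool.and_eq_true, decide_eq_true_eq] at h
  exact comm_of_ok (rel F) (p := 2) h.1.1 h.1.2 H22.PoinG2.rcxG2.rc h.2 a b

theorem k7 : chevG2.commTerms 7 9 = [(10, 3, 1, 1)] := by decide +kernel
theorem k8 : chevG2.commTerms 8 9 = [(11, 3, 1, 1)] := by decide +kernel

/-- the main computation -/
theorem zero_of {t : ℕ → F} (h : Commute (pr (rel F) t 6 6) (xg (rel F) 9 1)) :
    t 7 = 0 ∧ t 8 = 0 := by
  set x := xg (rel F) with hx
  have three : ((3 : ℤ) : F) = 1 := by
    have h2 : (2 : F) = 0 := CharTwo.two_eq_zero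
    push_cast
    linear_combination h2
  set z : GL chevG2.Idx F := x 9 1 with hz
  have e0 : pr (rel F) t 6 6 = x 6 (t 6) * (x 7 (t 7) * x 8 (t 8)) *
      (x 9 (t 9) * x 10 (t 10) * x 11 (t 11)) := by
    simp [pr, List.range'_succ, mul_assoc]
    rfl
  have h6 : Commute (x 6 (t 6)) z := cm (by decide +kernel) _ _
  have h9 : Commute (x 9 (t 9) * x 10 (t 10) * x 11 (t 11)) z :=
    ((cm (by decide +kernel) _ _).mul_left (cm (by decide +kernel) _ _)).mul_left
      (cm (by decide +kernel) _ _)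
  have hwz : Commute (x 7 (t 7) * x 8 (t 8)) z := by
    have : x 7 (t 7) * x 8 (t 8) = (x 6 (t 6))⁻¹ * pr (rel F) t 6 6 *
        (x 9 (t 9) * x 10 (t 10) * x 11 (t 11))⁻¹ := by
      rw [e0]; simp [mul_assoc]
    rw [this]
    exact (h6.inv_left.mul_left h).mul_left h9.inv_left
  have a7 : x 7 (t 7) * z = z * x 10 (t 7) * x 7 (t 7) := by
    have h1 := conj_one (F := F) (r := 7) (s := 9) (by decide) (by decide) (by decide) (by decide +kernel)
      k7 (t 7) 1
    rw [three, one_mul, mul_one] at h1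
    exact h1
  have a8 : x 8 (t 8) * z = z * x 11 (t 8) * x 8 (t 8) := by
    have h1 := conj_one (F := F) (r := 8) (s := 9) (by decide) (by decide) (by decide) (by decide +kernel)
      k8 (t 8) 1
    rw [three, one_mul, mul_one] at h1
    exact h1
  have b1 : x 7 (t 7) * x 11 (t 8) = x 11 (t 8) * x 7 (t 7) := (cm (by decide +kernel) _ _).eq
  have fin : x 7 (t 7) * x 8 (t 8) * z = z * (x 10 (t 7) * x 11 (t 8)) * (x 7 (t 7) * x 8 (t 8)) := by
    calc x 7 (t 7) * x 8 (t 8) * z = x 7 (t 7) * (x 8 (t 8) * z) := by simp only [mul_assoc]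
      _ = (x 7 (t 7) * z) * x 11 (t 8) * x 8 (t 8) := by rw [a8]; simp only [mul_assoc]
      _ = z * x 10 (t 7) * (x 7 (t 7) * x 11 (t 8)) * x 8 (t 8) := by rw [a7]; simp only [mul_assoc]
      _ = _ := by rw [b1]; simp only [mul_assoc]
  rw [hwz.eq] at fin
  have f1 : x 10 (t 7) * x 11 (t 8) = 1 := by
    have h1 := mul_right_cancel fin
    exact (mul_eq_left.1 h1.symm)
  -- coordinates
  set d : Fin chevG2.nroots → F := fun r => if (r : ℕ) = 10 then t 7 else t 8 with hd
  have f2 : LP (rel F) (lift chevG2.nroots [10, 11]) d =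
      LP (rel F) (lift chevG2.nroots []) d := by
    have e : (lift chevG2.nroots [10, 11]) = [⟨10, by decide⟩, ⟨11, by decide⟩] := by rfl
    rw [e]
    simp only [LP_cons, LP_nil, hd]
    have : lift chevG2.nroots [] = [] := rfl
    rw [this, LP_nil, mul_one, ← f1]
    simp
    rfl
  have hcomm : Comm (rel F) (lift chevG2.nroots [10, 11]) := by
    intro r hr s hs a b
    exact E2.comm r (List.mem_append_right _ hr) s (List.mem_append_right _ hs) a b
  have f3 := fun (r : Fin chevG2.nroots) => LP_inj (rel F) H22.ChevLex.lexG2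
    (l := lift chevG2.nroots [10, 11]) (l' := lift chevG2.nroots [])
    (by decide) (by
      intro r hr
      rw [mem_lift] at hr
      show 6 ≤ (r : ℕ)
      revert hr; simp; omega) hcomm (by decide) (by intro r hr; rw [mem_lift] at hr; simp at hr)
    (by intro r hr; rw [mem_lift] at hr; simp at hr) f2 r
  have g : ∀ r : ℕ, ∀ hr : r < 12, r ∈ [10, 11] → d ⟨r, hr⟩ = 0 := by
    intro r hr hm
    have h1 := f3 ⟨r, hr⟩ (by
      show 6 ≤ r
      revert hm; simp; omega)
    rw [if_pos (mem_lift.2 hm), if_neg (by rw [mem_lift]; simp)] at h1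
    exact h1
  refine ⟨?_, ?_⟩
  · simpa [hd] using g 10 (by norm_num) (by simp)
  · simpa [hd] using g 11 (by norm_num) (by simp)

end

/-- Centralizers of involutions in the Chevalley group G of type G₂ over a finite field F of characteristic two with at least four elements (this problem's root numbering for type G₂, from the Chevalley data module: a = p₁ short with index 7, b = p₂ long with index 6, −a = 4, −b = 5, 2a + b = 9, 3a + b = 10, 3a + 2b = 11; U generated by the positive root subgroups). For an element z of G with matrix x_{3a+2b}(1): the centralizer of z in G is generated by U and X_{−a}. For an element t of G with matrix x_{2a+b}(1): the centralizer of t in G is generated by X_{2a+b}, X_{3a+b}, X_{3a+2b}, X_b and X_{−b}. -/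
theorem result {F : Type*} [Field F] [Fintype F] [CharP F 2] (hF : 4 ≤ Fintype.card F) (z t : GL Cfsg.Lie.chevG2.Idx F) (hz : (z : Matrix Cfsg.Lie.chevG2.Idx Cfsg.Lie.chevG2.Idx F) = Cfsg.Lie.chevG2.x F 11 1) (ht : (t : Matrix Cfsg.Lie.chevG2.Idx Cfsg.Lie.chevG2.Idx F) = Cfsg.Lie.chevG2.x F 9 1) :
    Cfsg.Lie.chevG2.group F ⊓ Subgroup.centralizer {z} = Cfsg.Lie.chevG2.posUnipotent F ⊔ Cfsg.Lie.chevG2.rootSubgroup F 4 ∧
    Cfsg.Lie.chevG2.group F ⊓ Subgroup.centralizer {t} = Cfsg.Lie.chevG2.rootSubgroup F 9 ⊔ Cfsg.Lie.chevG2.rootSubgroup F 10 ⊔ Cfsg.Lie.chevG2.rootSubgroup F 11 ⊔ Cfsg.Lie.chevG2.rootSubgroup F 6 ⊔ Cfsg.Lie.chevG2.rootSubgroup F 5 := by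
  have R : Rel chevG2 F := rel F
  constructor
  · have hz' : LP (rel F) (lift chevG2.nroots [11]) (fun _ => (1 : F)) = z := by
      rw [LP_lift (rel F) (by decide)]
      simp only [List.map_cons, List.map_nil, List.prod_cons, List.prod_nil, mul_one]
      apply Units.ext
      rw [hz]; rfl
    have hcent := (E1 (F := F)).cent_eq H22.ChevLex.lexG2
    rw [hz'] at hcent
    rw [hcent]
    apply le_antisymm
    · refine MJ_le_of (X := H22.PoinG2.rcxG2) le_sup_left fun j hj hj' c => ?_
      simp only [List.mem_cons, List.not_mem_nil, or_false] at hj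
      refine Subgroup.mem_sup_right ?_
      subst hj
      rw [n0]; exact xg_mem (rel F) _ c
    · exact sup_le_sup_left (rootSubgroup_le_MJ (j := 0) (by decide) (by simp) n0) _
  · have hz' : LP (rel F) (lift chevG2.nroots [9]) (fun _ => (1 : F)) = t := by
      rw [LP_lift (rel F) (by decide)]
      simp only [List.map_cons, List.map_nil, List.prod_cons, List.prod_nil, mul_one]
      apply Units.ext
      rw [ht]; rfl
    have hz2 : t = xg (rel F) 9 1 := by
      apply Units.ext
      rw [ht]; rfl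
    set K : Subgroup (GL chevG2.Idx F) := chevG2.rootSubgroup F 9 ⊔ chevG2.rootSubgroup F 10 ⊔
      chevG2.rootSubgroup F 11 ⊔ chevG2.rootSubgroup F 6 ⊔ chevG2.rootSubgroup F 5 with hK
    have hK9 : ∀ c : F, xg (rel F) 9 c ∈ K := fun c => Subgroup.mem_sup_left
      (Subgroup.mem_sup_left (Subgroup.mem_sup_left (Subgroup.mem_sup_left (xg_mem (rel F) _ c))))
    have hK10 : ∀ c : F, xg (rel F) 10 c ∈ K := fun c => Subgroup.mem_sup_left
      (Subgroup.mem_sup_left (Subgroup.mem_sup_left (Subgroup.mem_sup_right (xg_mem (rel F) _ c))))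
    have hK11 : ∀ c : F, xg (rel F) 11 c ∈ K := fun c => Subgroup.mem_sup_left
      (Subgroup.mem_sup_left (Subgroup.mem_sup_right (xg_mem (rel F) _ c)))
    have hK6 : ∀ c : F, xg (rel F) 6 c ∈ K := fun c => Subgroup.mem_sup_left
      (Subgroup.mem_sup_right (xg_mem (rel F) _ c))
    have hK5 : ∀ c : F, xg (rel F) 5 c ∈ K := fun c => Subgroup.mem_sup_right (xg_mem (rel F) _ c)
    have hMK : MJ (rel F) (fun j : Fin chevG2.rank => (j : ℕ) ∈ [1]) ≤ K := by
      unfold MJ
      rw [Subgroup.closure_le]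
      rintro _ ⟨j, hj, c, h⟩
      simp only [List.mem_cons, List.not_mem_nil, or_false] at hj
      rw [hj] at h
      rcases h with rfl | rfl
      · rw [s1]; exact hK6 c
      · rw [n1]; exact hK5 c
    apply le_antisymm
    · rintro g ⟨hg, hc⟩
      have hc' := Subgroup.mem_centralizer_singleton_iff.1 hc
      rw [← hz'] at hc'
      obtain ⟨y, hy, hyz, m, hm, rfl⟩ := (E2 (F := F)).cent H22.ChevLex.lexG2 hg hc'
      refine K.mul_mem ?_ (hMK hm)
      rw [hz', hz2] at hyz
      rw [chevSys_U, posUnipotent_eq_Vk (rel F) H22.PoinG2.rcxG2.rc] at hy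
      obtain ⟨s, rfl⟩ := (mem_Vk_iff (rel F) H22.ChevLex.lexG2 6 6 rfl le_rfl y).1 hy
      obtain ⟨h1, h2⟩ := zero_of hyz
      have e0 : pr (rel F) s 6 6 = xg (rel F) 6 (s 6) * xg (rel F) 7 (s 7) * xg (rel F) 8 (s 8) *
          xg (rel F) 9 (s 9) * xg (rel F) 10 (s 10) * xg (rel F) 11 (s 11) := by
        simp [pr, List.range'_succ, mul_assoc]
      rw [e0, h1, h2, xg_zero, xg_zero, mul_one, mul_one]
      exact K.mul_mem (K.mul_mem (K.mul_mem (hK6 _) (hK9 _)) (hK10 _)) (hK11 _)
    · have key : ∀ r : ℕ, okT chevG2 2 [] r 9 = true → r < 12 →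
          chevG2.rootSubgroup F r ≤ chevG2.group F ⊓ Subgroup.centralizer {t} := by
        intro r h1 hr y hy
        rw [mem_rootSubgroup (rel F)] at hy
        obtain ⟨c, rfl⟩ := hy
        refine ⟨xg_mem_group (rel F) hr c, Subgroup.mem_centralizer_singleton_iff.2 ?_⟩
        rw [hz2]
        exact comm_of_ok (rel F) (p := 2) hr (by decide) H22.PoinG2.rcxG2.rc h1 c 1
      refine sup_le (sup_le (sup_le (sup_le ?_ ?_) ?_) ?_) ?_
      · exact key 9 (by decide +kernel) (by norm_num)
      · exact key 10 (by decide +kernel) (by norm_num)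
      · exact key 11 (by decide +kernel) (by norm_num)
      · exact key 6 (by decide +kernel) (by norm_num)
      · exact key 5 (by decide +kernel) (by norm_num)

end Cfsg.Agent.S2180
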