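import Cfsg.Statements.S2177
import Cfsg.Agent.Lib.H47.CjRoot
import Cfsg.Agent.S2180

set_option autoImplicit false
open Cfsg

namespace Cfsg.Agent.S2177

open H22.RGD H22.RCCheck H22.RCComb H22.ChevRel H22.ChevSys H22.ChevMain H22.ChevUni H47.RootCent
  Cfsg.Lie H47.CjRoot

set_option linter.unusedSimpArgs false
set_option linter.unusedSectionVars false

theorem rel (F : Type*) [Field F] : Rel chevG2 F := H22.ChevAll.rel chevG2 (by simp) F

section
variable {F : Type*} [Field F] [CharP F 2]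

/-- root elements -/
abbrev x (r : ℕ) (t : F) : GL chevG2.Idx F := xg (rel F) r t

theorem two0 : (2 : F) = 0 := CharTwo.two_eq_zero

omit [CharP F 2] in
theorem swap {r s : ℕ} (hr : r < chevG2.nroots) (hs : s < chevG2.nroots) (h1 : s ≠ r)
    (h2 : s ≠ chevG2.neg r) (t u : F) : x s u * x r t = x r t * x s u *
      wg (rel F) (chevG2.commWord F r s t u) := comm_g (rel F) hr hs h1 h2 t u

theorem t67 : chevG2.commTerms 6 7 = [(8, 1, 1, 1), (9, 1, 1, 2), (10, -1, 1, 3), (11, -2, 2, 3)] := by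
  decide +kernel
theorem t78 : chevG2.commTerms 7 8 = [(9, -2, 1, 1), (10, -3, 2, 1), (11, 3, 1, 2)] := by decide +kernel
theorem t79 : chevG2.commTerms 7 9 = [(10, 3, 1, 1)] := by decide +kernel
theorem t89 : chevG2.commTerms 8 9 = [(11, 3, 1, 1)] := by decide +kernel
theorem t610 : chevG2.commTerms 6 10 = [(11, 1, 1, 1)] := by decide +kernel

theorem m1 (t : F) : -t = t := CharTwo.neg_eq t

theorem r67 (a b : F) : x 7 b * x 6 a = x 6 a * (x 7 b * (x 8 (a * b) * (x 9 (a * b ^ 2) *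
    x 10 (a * b ^ 3)))) := by
  rw [swap (by decide) (by decide) (by decide) (by decide +kernel)]
  unfold ChevalleyDatum.commWord
  rw [t67]
  simp [wg, mul_assoc, m1, two0, xg_zero]

theorem r78 (b c : F) : x 8 c * x 7 b = x 7 b * (x 8 c * (x 10 (b ^ 2 * c) * x 11 (b * c ^ 2))) := by
  rw [swap (by decide) (by decide) (by decide) (by decide +kernel)]
  unfold ChevalleyDatum.commWord
  rw [t78]
  have three : (3 : F) = 1 := by linear_combination two0 (F := F)
  simp [wg, mul_assoc, m1, two0, xg_zero, three]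

theorem r79 (b c : F) : x 9 c * x 7 b = x 7 b * (x 9 c * x 10 (b * c)) := by
  rw [swap (by decide) (by decide) (by decide) (by decide +kernel)]
  unfold ChevalleyDatum.commWord
  rw [t79]
  have three : (3 : F) = 1 := by linear_combination two0 (F := F)
  simp [wg, mul_assoc, m1, two0, xg_zero, three]

theorem r89 (b c : F) : x 9 c * x 8 b = x 8 b * (x 9 c * x 11 (b * c)) := by
  rw [swap (by decide) (by decide) (by decide) (by decide +kernel)]
  unfold ChevalleyDatum.commWord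
  rw [t89]
  have three : (3 : F) = 1 := by linear_combination two0 (F := F)
  simp [wg, mul_assoc, m1, two0, xg_zero, three]

theorem r610 (a e : F) : x 10 e * x 6 a = x 6 a * (x 10 e * x 11 (a * e)) := by
  rw [swap (by decide) (by decide) (by decide) (by decide +kernel)]
  unfold ChevalleyDatum.commWord
  rw [t610]
  simp [wg, mul_assoc, m1, two0, xg_zero]

theorem cm {r s : ℕ} (h : (decide (r < chevG2.nroots) && decide (s < chevG2.nroots) &&
    okT chevG2 2 [] r s) = true) (a b : F) : x r a * x s b = x s b * x r a := by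
  simp only [Bool.and_eq_true, decide_eq_true_eq] at h
  exact comm_of_ok (rel F) (p := 2) h.1.1 h.1.2 H22.PoinG2.rcxG2.rc h.2 a b

theorem r68 (a b : F) : x 8 b * x 6 a = x 6 a * x 8 b := cm (by decide +kernel) _ _
theorem r69 (a b : F) : x 9 b * x 6 a = x 6 a * x 9 b := cm (by decide +kernel) _ _
theorem r611 (a b : F) : x 11 b * x 6 a = x 6 a * x 11 b := cm (by decide +kernel) _ _
theorem r710 (a b : F) : x 10 b * x 7 a = x 7 a * x 10 b := cm (by decide +kernel) _ _
theorem r711 (a b : F) : x 11 b * x 7 a = x 7 a * x 11 b := cm (by decide +kernel) _ _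
theorem r810 (a b : F) : x 10 b * x 8 a = x 8 a * x 10 b := cm (by decide +kernel) _ _
theorem r811 (a b : F) : x 11 b * x 8 a = x 8 a * x 11 b := cm (by decide +kernel) _ _
theorem r910 (a b : F) : x 10 b * x 9 a = x 9 a * x 10 b := cm (by decide +kernel) _ _
theorem r911 (a b : F) : x 11 b * x 9 a = x 9 a * x 11 b := cm (by decide +kernel) _ _
theorem r1011 (a b : F) : x 11 b * x 10 a = x 10 a * x 11 b := cm (by decide +kernel) _ _

theorem mm (r : ℕ) (a b : F) : x r a * x r b = x r (a + b) := xg_mul (rel F) r a b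

/-- reassociated versions -/
theorem ra {G : Type*} [Group G] {a b c : G} (h : a * b = c) (y : G) : a * (b * y) = c * y := by
  rw [← h, mul_assoc]

/-- general element of `U` -/
def N (a b c d e f : F) : GL chevG2.Idx F := x 6 a * (x 7 b * (x 8 c * (x 9 d * (x 10 e * x 11 f))))

theorem x0 (r : ℕ) : x r (0 : F) = 1 := xg_zero (rel F) r

theorem N_inj {a b c d e f a' b' c' d' e' f' : F} (h : N a b c d e f = N a' b' c' d' e' f') :
    a = a' ∧ b = b' ∧ c = c' ∧ d = d' ∧ e = e' ∧ f = f' := by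
  have key : ∀ a b c d e f : F, N a b c d e f = pr (rel F)
      (fun r => if r = 6 then a else if r = 7 then b else if r = 8 then c else if r = 9 then d
        else if r = 10 then e else f) 6 6 := by
    intro a b c d e f
    simp [pr, List.range'_succ, N]
  rw [key, key] at h
  have h1 := pr_inj (rel F) H22.ChevLex.lexG2 6 6 rfl le_rfl h
  refine ⟨?_, ?_, ?_, ?_, ?_, ?_⟩
  · simpa using h1 6 (by norm_num) (by decide)
  · simpa using h1 7 (by norm_num) (by decide)
  · simpa using h1 8 (by norm_num) (by decide)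
  · simpa using h1 9 (by norm_num) (by decide)
  · simpa using h1 10 (by norm_num) (by decide)
  · simpa using h1 11 (by norm_num) (by decide)

theorem exists_N {g : GL chevG2.Idx F} (hg : g ∈ chevG2.posUnipotent F) :
    ∃ a b c d e f, g = N a b c d e f := by
  rw [posUnipotent_eq_Vk (rel F) H22.PoinG2.rcxG2.rc] at hg
  obtain ⟨t, rfl⟩ := (mem_Vk_iff (rel F) H22.ChevLex.lexG2 6 6 rfl le_rfl g).1 hg
  refine ⟨t 6, t 7, t 8, t 9, t 10, t 11, ?_⟩
  simp [pr, List.range'_succ, N]

theorem aa (a : F) : a + a = 0 := CharTwo.add_self_eq_zero a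

theorem sq (a b c d e f : F) : N a b c d e f * N a b c d e f =
    N 0 0 (a * b) (a * b ^ 2) (a * b ^ 3 + b ^ 2 * c + b * d)
      (b * (a * b) ^ 2 + b * c ^ 2 + c * d + a * e) := by
  unfold N
  simp only [mul_assoc, r67, r78, r79, r89, r610, r68, r69, r611, r710, r711, r810, r811, r910, r911,
    r1011, mm, ra (r67 _ _), ra (r78 _ _), ra (r79 _ _), ra (r89 _ _), ra (r610 _ _), ra (r68 _ _),
    ra (r69 _ _), ra (r611 _ _), ra (r710 _ _), ra (r711 _ _), ra (r810 _ _), ra (r811 _ _),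
    ra (r910 _ _), ra (r911 _ _), ra (r1011 _ _), ra (mm _ _ _)]
  simp only [aa, x0, one_mul, add_zero, zero_add, zero_mul]
  congr 3
  · congr 1; linear_combination aa (a * b ^ 3)
  · congr 1; ring

theorem sq_one {a b c d e f : F} (h : N a b c d e f * N a b c d e f = 1) :
    a * b = 0 ∧ b ^ 2 * c + b * d = 0 ∧ b * c ^ 2 + c * d + a * e = 0 := by
  have h1 : N a b c d e f * N a b c d e f = N 0 0 0 0 0 0 := by
    rw [h]; simp [N, x0]
  rw [sq] at h1
  obtain ⟨_, _, h2, _, h3, h4⟩ := N_inj h1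
  refine ⟨h2, ?_, ?_⟩
  · have e1 : a * b ^ 3 = 0 := by
      have : a * b ^ 3 = (a * b) * b ^ 2 := by ring
      rw [this, h2, zero_mul]
    linear_combination h3 - e1
  · have e1 : b * (a * b) ^ 2 = 0 := by rw [h2]; ring
    linear_combination h4 - e1

/-- involution-like -/
theorem Cj.sq {g g' : GL chevG2.Idx F} (h : Cj chevG2 g g') (hg : g * g = 1) : g' * g' = 1 := by
  obtain ⟨y, _, e⟩ := h
  rw [← e]
  calc y * g * y⁻¹ * (y * g * y⁻¹) = y * (g * g) * y⁻¹ := by simp [mul_assoc]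
    _ = 1 := by rw [hg]; simp

theorem c1 (a c d e f : F) (ha : a ≠ 0) : ∃ d' e' f', Cj chevG2 (N a 0 c d e f) (N a 0 0 d' e' f') := by
  set t := c / a with ht
  have hat : a * t = c := by rw [ht]; field_simp
  refine ⟨a * t ^ 2 + d, a * t ^ 3 + e + t * (a * t ^ 2 + d), a * t ^ 2 * c + f,
    cj_xg (rel F) (r := 7) (by decide) t ?_⟩
  show x 7 t * N a 0 c d e f = N a 0 0 _ _ _ * x 7 t
  unfold N
  simp only [x0, one_mul]
  simp only [mul_assoc, r67, r78, r79, r89, r610, r68, r69, r611, r710, r711, r810, r811, r910, r911,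
    r1011, mm, ra (r67 _ _), ra (r78 _ _), ra (r79 _ _), ra (r89 _ _), ra (r610 _ _), ra (r68 _ _),
    ra (r69 _ _), ra (r611 _ _), ra (r710 _ _), ra (r711 _ _), ra (r810 _ _), ra (r811 _ _),
    ra (r910 _ _), ra (r911 _ _), ra (r1011 _ _), ra (mm _ _ _)]
  rw [hat, aa, x0, one_mul]
  congr 4
  · congr 1; linear_combination (-1 : F) * aa (t * (a * t ^ 2 + d))
  · congr 1; ring

theorem c2 (a d f : F) (hd : d ≠ 0) : Cj chevG2 (N a 0 0 d 0 f) (N a 0 0 d 0 0) := by
  set t := f / d with ht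
  have hdt : t * d = f := by rw [ht]; field_simp
  refine cj_xg (rel F) (r := 8) (by decide) t ?_
  show x 8 t * N a 0 0 d 0 f = N a 0 0 d 0 0 * x 8 t
  unfold N
  simp only [x0, one_mul, mul_one]
  simp only [mul_assoc, r67, r78, r79, r89, r610, r68, r69, r611, r710, r711, r810, r811, r910, r911,
    r1011, mm, ra (r67 _ _), ra (r78 _ _), ra (r79 _ _), ra (r89 _ _), ra (r610 _ _), ra (r68 _ _),
    ra (r69 _ _), ra (r611 _ _), ra (r710 _ _), ra (r711 _ _), ra (r810 _ _), ra (r811 _ _),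
    ra (r910 _ _), ra (r911 _ _), ra (r1011 _ _), ra (mm _ _ _)]
  rw [hdt]

theorem t49 : chevG2.commTerms 4 9 = [(8, -2, 1, 1), (6, 3, 2, 1), (11, -3, 1, 2)] := by
  decide +kernel

theorem r49 (s d : F) : x 9 d * x 4 s = x 4 s * (x 9 d * (x 6 (s ^ 2 * d) * x 11 (s * d ^ 2))) := by
  rw [swap (by decide) (by decide) (by decide) (by decide +kernel)]
  unfold ChevalleyDatum.commWord
  rw [t49]
  have three : (3 : F) = 1 := by linear_combination two0 (F := F)
  simp [wg, mul_assoc, m1, two0, xg_zero, three]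

theorem r46 (s a : F) : x 6 a * x 4 s = x 4 s * x 6 a := cm (by decide +kernel) _ _

theorem c3 [Fintype F] (a d : F) (hd : d ≠ 0) : ∃ f, Cj chevG2 (N a 0 0 d 0 0) (N 0 0 0 d 0 f) := by
  obtain ⟨s, hs⟩ := FiniteField.isSquare_of_char_two (ringChar.eq F 2) (a / d)
  have hs' : s ^ 2 * d = a := by
    rw [pow_two, ← hs]; field_simp
  refine ⟨s * d ^ 2, Cj.symm (cj_xg (rel F) (r := 4) (by decide) s ?_)⟩
  show x 4 s * N 0 0 0 d 0 (s * d ^ 2) = N a 0 0 d 0 0 * x 4 s
  unfold N
  simp only [x0, one_mul, mul_one]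
  have e : x 6 a * x 9 d * x 4 s = x 4 s * (x 6 a * (x 9 d * (x 6 (s ^ 2 * d) * x 11 (s * d ^ 2)))) := by
    rw [mul_assoc, r49, ← mul_assoc, r46, mul_assoc]
  rw [e]
  congr 1
  rw [hs']
  simp only [mul_assoc, r69, ra (r69 _ _), mm, ra (mm _ _ _), aa, x0, one_mul]

theorem c4 (a f : F) (ha : a ≠ 0) : Cj chevG2 (N a 0 0 0 0 f) (x 6 a) := by
  set t := f / a with ht
  have hat : a * t = f := by rw [ht]; field_simp
  refine cj_xg (rel F) (r := 10) (by decide) t ?_
  show x 10 t * N a 0 0 0 0 f = x 6 a * x 10 t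
  unfold N
  simp only [x0, one_mul, mul_one]
  simp only [mul_assoc, r67, r78, r79, r89, r610, r68, r69, r611, r710, r711, r810, r811, r910, r911,
    r1011, mm, ra (r67 _ _), ra (r78 _ _), ra (r79 _ _), ra (r89 _ _), ra (r610 _ _), ra (r68 _ _),
    ra (r69 _ _), ra (r611 _ _), ra (r710 _ _), ra (r711 _ _), ra (r810 _ _), ra (r811 _ _),
    ra (r910 _ _), ra (r911 _ _), ra (r1011 _ _), ra (mm _ _ _)]
  rw [hat, aa, x0, mul_one]

theorem c5 (d e f : F) (hd : d ≠ 0) : Cj chevG2 (N 0 0 0 d e f) (N 0 0 0 d 0 f) := by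
  set t := e / d with ht
  have hdt : t * d = e := by rw [ht]; field_simp
  refine cj_xg (rel F) (r := 7) (by decide) t ?_
  show x 7 t * N 0 0 0 d e f = N 0 0 0 d 0 f * x 7 t
  unfold N
  simp only [x0, one_mul, mul_one]
  simp only [mul_assoc, r67, r78, r79, r89, r610, r68, r69, r611, r710, r711, r810, r811, r910, r911,
    r1011, mm, ra (r67 _ _), ra (r78 _ _), ra (r79 _ _), ra (r89 _ _), ra (r610 _ _), ra (r68 _ _),
    ra (r69 _ _), ra (r611 _ _), ra (r710 _ _), ra (r711 _ _), ra (r810 _ _), ra (r811 _ _),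
    ra (r910 _ _), ra (r911 _ _), ra (r1011 _ _), ra (mm _ _ _)]
  rw [hdt]

theorem c6 (e f : F) (he : e ≠ 0) : Cj chevG2 (N 0 0 0 0 e f) (x 10 e) := by
  set t := f / e with ht
  have hdt : t * e = f := by rw [ht]; field_simp
  refine cj_xg (rel F) (r := 6) (by decide) t ?_
  show x 6 t * N 0 0 0 0 e f = x 10 e * x 6 t
  unfold N
  simp only [x0, one_mul, mul_one]
  simp only [mul_assoc, r67, r78, r79, r89, r610, r68, r69, r611, r710, r711, r810, r811, r910, r911,
    r1011, mm, ra (r67 _ _), ra (r78 _ _), ra (r79 _ _), ra (r89 _ _), ra (r610 _ _), ra (r68 _ _),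
    ra (r69 _ _), ra (r611 _ _), ra (r710 _ _), ra (r711 _ _), ra (r810 _ _), ra (r811 _ _),
    ra (r910 _ _), ra (r911 _ _), ra (r1011 _ _), ra (mm _ _ _)]
  rw [hdt]

theorem c7 [Fintype F] (c e f : F) (hc : c ≠ 0) : ∃ f', Cj chevG2 (N 0 0 c 0 e f) (N 0 0 c 0 0 f') := by
  obtain ⟨t, ht⟩ := FiniteField.isSquare_of_char_two (ringChar.eq F 2) (e / c)
  have ht' : t ^ 2 * c = e := by
    rw [pow_two, ← ht]; field_simp
  refine ⟨f + t * c ^ 2, cj_xg (rel F) (r := 7) (by decide) t ?_⟩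
  show x 7 t * N 0 0 c 0 e f = N 0 0 c 0 0 (f + t * c ^ 2) * x 7 t
  unfold N
  simp only [x0, one_mul, mul_one]
  simp only [mul_assoc, r67, r78, r79, r89, r610, r68, r69, r611, r710, r711, r810, r811, r910, r911,
    r1011, mm, ra (r67 _ _), ra (r78 _ _), ra (r79 _ _), ra (r89 _ _), ra (r610 _ _), ra (r68 _ _),
    ra (r69 _ _), ra (r611 _ _), ra (r710 _ _), ra (r711 _ _), ra (r810 _ _), ra (r811 _ _),
    ra (r910 _ _), ra (r911 _ _), ra (r1011 _ _), ra (mm _ _ _)]
  rw [ht']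
  congr 4
  linear_combination (-1 : F) * aa (t * c ^ 2)

theorem c8 (c f : F) (hc : c ≠ 0) : Cj chevG2 (N 0 0 c 0 0 f) (x 8 c) := by
  set t := f / c with ht
  have hdt : c * t = f := by rw [ht]; field_simp
  refine cj_xg (rel F) (r := 9) (by decide) t ?_
  show x 9 t * N 0 0 c 0 0 f = x 8 c * x 9 t
  unfold N
  simp only [x0, one_mul, mul_one]
  simp only [mul_assoc, r67, r78, r79, r89, r610, r68, r69, r611, r710, r711, r810, r811, r910, r911,
    r1011, mm, ra (r67 _ _), ra (r78 _ _), ra (r79 _ _), ra (r89 _ _), ra (r610 _ _), ra (r68 _ _),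
    ra (r69 _ _), ra (r611 _ _), ra (r710 _ _), ra (r711 _ _), ra (r810 _ _), ra (r811 _ _),
    ra (r910 _ _), ra (r911 _ _), ra (r1011 _ _), ra (mm _ _ _)]
  rw [hdt, aa, x0, mul_one]

theorem c9 (b c d e f : F) (hb : b ≠ 0) : ∃ d' e' f', Cj chevG2 (N 0 b c d e f) (N 0 b 0 d' e' f') := by
  set t := c / b with ht
  have hbt : t * b = c := by rw [ht]; field_simp
  refine ⟨d + t * b ^ 2, e + t * b ^ 3, f + t * (e + t * b ^ 3),
    cj_xg (rel F) (r := 6) (by decide) t ?_⟩
  show x 6 t * N 0 b c d e f = N 0 b 0 _ _ _ * x 6 t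
  unfold N
  simp only [x0, one_mul, mul_one]
  simp only [mul_assoc, r67, r78, r79, r89, r610, r68, r69, r611, r710, r711, r810, r811, r910, r911,
    r1011, mm, ra (r67 _ _), ra (r78 _ _), ra (r79 _ _), ra (r89 _ _), ra (r610 _ _), ra (r68 _ _),
    ra (r69 _ _), ra (r611 _ _), ra (r710 _ _), ra (r711 _ _), ra (r810 _ _), ra (r811 _ _),
    ra (r910 _ _), ra (r911 _ _), ra (r1011 _ _), ra (mm _ _ _)]
  rw [hbt]
  congr 4
  · congr 1; linear_combination (-1 : F) * aa (t * b ^ 2)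
  · congr 1
    · congr 1; linear_combination (-1 : F) * aa (t * b ^ 3)
    · congr 1; linear_combination (-1 : F) * aa (t * (e + t * b ^ 3))

theorem f00 : chevG2.reflectRoot 1 7 = 8 := by decide +kernel
theorem f01 : chevG2.reflectRoot 1 9 = 9 := by decide +kernel
theorem f02 : chevG2.reflectRoot 1 10 = 11 := by decide +kernel
theorem f03 : chevG2.reflectRoot 1 11 = 10 := by decide +kernel
theorem f04 : chevG2.reflectRoot 0 6 = 10 := by decide +kernel
theorem f05 : chevG2.reflectRoot 0 8 = 9 := by decide +kernel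
theorem g00 : chevG2.cartan 1 11 = 1 := by decide +kernel
theorem g01 : chevG2.cartan 0 9 = 1 := by decide +kernel

theorem c10 (b d e f : F) : Cj chevG2 (N 0 b 0 d e f) (N 0 0 b d f e) := by
  have h := cj_ns (rel F) (X := H22.PoinG2.rcxG2) (⟨1, by decide⟩ : Fin chevG2.rank)
    [(7, b), (9, d), (10, e), (11, f)] (by
      intro p hp
      simp only [List.mem_cons, List.not_mem_nil, or_false] at hp
      rcases hp with rfl | rfl | rfl | rfl
      · show 7 < chevG2.nroots; decide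
      · show 9 < chevG2.nroots; decide
      · show 10 < chevG2.nroots; decide
      · show 11 < chevG2.nroots; decide)
  have e1 : wg (rel F) [(7, b), (9, d), (10, e), (11, f)] = N 0 b 0 d e f := by
    simp [wg, N, x0]
  have e2 : wg (rel F) ([(7, b), (9, d), (10, e), (11, f)].map fun p =>
      (chevG2.reflectRoot ((⟨1, by decide⟩ : Fin chevG2.rank) : ℕ) p.1, p.2)) = N 0 0 b d f e := by
    simp only [List.map_cons, List.map_nil, f00, f01, f02, f03]
    unfold N
    simp only [x0, one_mul]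
    simp only [wg, List.map_cons, List.map_nil, List.prod_cons, List.prod_nil, mul_one]
    rw [r1011]
  rw [e1, e2] at h
  exact h

theorem single (r : ℕ) (c : F) : wg (rel F) [(r, c)] = x r c := by simp [wg]

theorem d11 (f : F) (hf : f ≠ 0) : Cj chevG2 (x 11 f) (x 11 1) := by
  have h := cj_hs (rel F) (X := H22.PoinG2.rcxG2) (i := 1) (by decide) (inv_ne_zero hf) [(11, f)] (by
      intro p hp
      simp only [List.mem_cons, List.not_mem_nil, or_false] at hp
      rw [hp]; show 11 < chevG2.nroots; decide)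
  simp only [List.map_cons, List.map_nil, g00, zpow_one, inv_mul_cancel₀ hf] at h
  rwa [single, single] at h

theorem d9 (f : F) (hf : f ≠ 0) : Cj chevG2 (x 9 f) (x 9 1) := by
  have h := cj_hs (rel F) (X := H22.PoinG2.rcxG2) (i := 0) (by decide) (inv_ne_zero hf) [(9, f)] (by
      intro p hp
      simp only [List.mem_cons, List.not_mem_nil, or_false] at hp
      rw [hp]; show 9 < chevG2.nroots; decide)
  simp only [List.map_cons, List.map_nil, g01, zpow_one, inv_mul_cancel₀ hf] at h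
  rwa [single, single] at h

theorem refl1 (i : ℕ) (hi : i < chevG2.rank) (r s : ℕ) (hr : r < chevG2.nroots)
    (h : chevG2.reflectRoot i r = s) (f : F) : Cj chevG2 (x r f) (x s f) := by
  have h1 := cj_ns (rel F) (X := H22.PoinG2.rcxG2) (⟨i, hi⟩ : Fin chevG2.rank) [(r, f)] (by
      intro p hp
      simp only [List.mem_cons, List.not_mem_nil, or_false] at hp
      rw [hp]; exact hr)
  simp only [List.map_cons, List.map_nil, h] at h1
  rwa [single, single] at h1

theorem d10 (f : F) (hf : f ≠ 0) : Cj chevG2 (x 10 f) (x 11 1) :=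
  (refl1 1 (by decide) 10 11 (by decide) f02 f).trans (d11 f hf)

theorem d6 (f : F) (hf : f ≠ 0) : Cj chevG2 (x 6 f) (x 11 1) :=
  (refl1 0 (by decide) 6 10 (by decide) f04 f).trans (d10 f hf)

theorem d8 (f : F) (hf : f ≠ 0) : Cj chevG2 (x 8 f) (x 9 1) :=
  (refl1 0 (by decide) 8 9 (by decide) f05 f).trans (d9 f hf)

/-- the case without `x_7`, `x_6` -/
theorem caseA [Fintype F] (c d e f : F) (hs : N 0 0 c d e f * N 0 0 c d e f = 1)
    (h1 : N 0 0 c d e f ≠ 1) :
    Cj chevG2 (N 0 0 c d e f) (x 11 1) ∨ Cj chevG2 (N 0 0 c d e f) (x 9 1) := by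
  obtain ⟨_, _, h3⟩ := sq_one hs
  have hcd : c * d = 0 := by linear_combination h3
  rcases mul_eq_zero.1 hcd with rfl | rfl
  · by_cases hd : d = 0
    · subst hd
      by_cases he : e = 0
      · subst he
        have hf : f ≠ 0 := by rintro rfl; exact h1 (by simp [N, x0])
        left
        have e1 : N 0 0 0 0 0 f = x 11 f := by simp [N, x0]
        rw [e1]; exact d11 f hf
      · left; exact (c6 e f he).trans (d10 e he)
    · right
      refine (c5 d e f hd).trans ((c2 0 d f hd).trans ?_)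
      have e1 : N 0 0 0 d 0 0 = x 9 d := by simp [N, x0]
      rw [e1]; exact d9 d hd
  · by_cases hc : c = 0
    · subst hc
      by_cases he : e = 0
      · subst he
        have hf : f ≠ 0 := by rintro rfl; exact h1 (by simp [N, x0])
        left
        have e1 : N 0 0 0 0 0 f = x 11 f := by simp [N, x0]
        rw [e1]; exact d11 f hf
      · left; exact (c6 e f he).trans (d10 e he)
    · right
      obtain ⟨f', h⟩ := c7 c e f hc
      exact h.trans ((c8 c f' hc).trans (d8 c hc))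

theorem main2 [Fintype F] {g : GL chevG2.Idx F} (hg : g ∈ chevG2.posUnipotent F) (hs : g * g = 1)
    (h1 : g ≠ 1) : Cj chevG2 g (x 11 1) ∨ Cj chevG2 g (x 9 1) := by
  have ne1 : ∀ {g g' : GL chevG2.Idx F}, Cj chevG2 g g' → g ≠ 1 → g' ≠ 1 := by
    rintro g g' ⟨y, _, e⟩ h rfl
    apply h
    have : g = y⁻¹ * (y * g * y⁻¹) * y := by simp [mul_assoc]
    rw [this, e]; simp
  obtain ⟨a, b, c, d, e, f, rfl⟩ := exists_N hg
  obtain ⟨hab, _, _⟩ := sq_one hs
  have key : ∀ {g g' : GL chevG2.Idx F}, Cj chevG2 g g' →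
      (Cj chevG2 g' (x 11 1) ∨ Cj chevG2 g' (x 9 1)) → (Cj chevG2 g (x 11 1) ∨ Cj chevG2 g (x 9 1)) := by
    rintro g g' h (h' | h')
    · exact Or.inl (h.trans h')
    · exact Or.inr (h.trans h')
  by_cases hb : b = 0
  · subst hb
    by_cases ha : a = 0
    · subst ha
      exact caseA c d e f hs h1
    · obtain ⟨d', e', f', h⟩ := c1 a c d e f ha
      refine key h ?_
      have hs' := Cj.sq h hs
      obtain ⟨_, _, h3⟩ := sq_one hs'
      have he' : e' = 0 := by
        have : a * e' = 0 := by linear_combination h3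
        exact (mul_eq_zero.1 this).resolve_left ha
      subst he'
      by_cases hd : d' = 0
      · subst hd
        left; exact (c4 a f' ha).trans (d6 a ha)
      · refine key (c2 a d' f' hd) ?_
        obtain ⟨f'', h'⟩ := c3 a d' hd
        refine key h' (key (c2 0 d' f'' hd) ?_)
        right
        have e1 : N 0 0 0 d' 0 0 = x 9 d' := by simp [N, x0]
        rw [e1]; exact d9 d' hd
  · have ha : a = 0 := (mul_eq_zero.1 hab).resolve_right hb
    subst ha
    obtain ⟨d', e', f', h⟩ := c9 b c d e f hb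
    have h' := h.trans (c10 b d' e' f')
    exact key h' (caseA _ _ _ _ (Cj.sq h' hs) (ne1 h' h1))

/-- `x_11(1)` and `x_9(1)` are not conjugate -/
theorem not_cj : ¬ Cj chevG2 (x 11 (1 : F)) (x 9 1) := by
  rintro ⟨h, hh, e⟩
  set S := chevSys (rel F) H22.PoinG2.rcxG2 with hS
  have E := Cfsg.Agent.S2180.E2 (F := F)
  have E' := Cfsg.Agent.S2180.E1 (F := F)
  have hhΓ : h ∈ S.Γ := by rw [hS, chevSys_Γ]; exact hh
  obtain ⟨β, hβ, n, w, hn, u, hu, rfl⟩ := S.normal_form hhΓ
  obtain ⟨v, hv, t, ht, rfl⟩ := S.mem_B.1 hβ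
  have huU := S.Um_le_U w hu
  have hux : Commute u (x 11 (1 : F)) :=
    H47.ChevLong.U_comm (D := chevG2) (rel F) H22.ChevLex.lexG2 huU 1
  have hN : S.Rep (t * n) w := by
    have := (S.rep_H ht).mul hn
    rwa [one_mul] at this
  obtain ⟨ε, hε, hεn⟩ := Hyp.exists_eps hN
  have e1 : (t * n) * x 11 1 * (t * n)⁻¹ = v⁻¹ * x 9 1 * v := by
    have e2 : v * t * n * u * x 11 1 = x 9 1 * (v * t * n * u) := by
      rw [← e, inv_mul_cancel_right]
    have e3 : v * t * n * x 11 1 * u = x 9 1 * (v * t * n * u) := by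
      rw [← e2]; simp only [mul_assoc]; rw [hux.eq]
    calc (t * n) * x 11 1 * (t * n)⁻¹ = v⁻¹ * (v * t * n * x 11 1 * u) * u⁻¹ * (t * n)⁻¹ := by
          simp [mul_assoc]
      _ = v⁻¹ * (x 9 1 * (v * t * n * u)) * u⁻¹ * (t * n)⁻¹ := by rw [e3]
      _ = _ := by simp [mul_assoc]
  have hz9 : LP (rel F) (lift chevG2.nroots [9]) (fun _ => (1 : F)) = x 9 1 := by
    rw [LP_lift (rel F) (by decide)]
    simp
  have hzA : x 9 (1 : F) ∈ Subgroup.closure {g | ∃ k ∈ lift chevG2.nroots [9] ++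
      lift chevG2.nroots [10, 11], ∃ v : F, g = xg (rel F) ((k : Fin chevG2.nroots) : ℕ) v} :=
    Subgroup.subset_closure ⟨⟨9, by decide⟩, List.mem_append_left _ (mem_lift.2 (by simp)), 1, rfl⟩
  have h1 := E.conj_U (S.U.inv_mem hv) _ hzA
  obtain ⟨c1, hc1⟩ := E.mem_A1 h1
  rw [inv_inv] at hc1
  have e4 : v⁻¹ * x 9 1 * v = LP (rel F) (lift chevG2.nroots [10, 11] ++ lift chevG2.nroots [9])
      (fun r => if (r : ℕ) = 9 then 1 else c1 r) := by
    rw [LP_append]
    have a1 : LP (rel F) (lift chevG2.nroots [10, 11]) (fun r => if (r : ℕ) = 9 then 1 else c1 r) =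
        LP (rel F) (lift chevG2.nroots [10, 11]) c1 := by
      apply LP_congr
      intro s hs
      rw [mem_lift] at hs
      rw [if_neg]
      rintro h9
      rw [h9] at hs; simp at hs
    have a2 : LP (rel F) (lift chevG2.nroots [9]) (fun r => if (r : ℕ) = 9 then 1 else c1 r) =
        x 9 1 := by
      rw [← hz9]
      apply LP_congr
      intro s hs
      rw [mem_lift] at hs
      rw [if_pos (by simpa using hs)]
    rw [a1, a2, ← hc1]
    simp
  have hcm : Comm (rel F) (lift chevG2.nroots [10, 11] ++ lift chevG2.nroots [9]) := by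
    intro r hr s hs
    refine E.comm r ?_ s ?_
    · rw [List.mem_append] at hr ⊢; exact hr.symm
    · rw [List.mem_append] at hs ⊢; exact hs.symm
  have hpos' : ∀ r ∈ lift chevG2.nroots [10, 11] ++ lift chevG2.nroots [9],
      (comb H22.PoinG2.rcxG2).pos r := by
    intro r hr
    refine E.pos r ?_
    rw [List.mem_append] at hr ⊢; exact hr.symm
  have hlt : (11 : ℕ) < chevG2.nroots := by decide
  have e5 : x (w ⟨11, hlt⟩ : Fin chevG2.nroots) (ε ⟨11, hlt⟩ * 1) = v⁻¹ * x 9 1 * v := by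
    rw [← e1]; exact (hεn ⟨11, hlt⟩ 1).symm
  have hvU : v⁻¹ * x 9 1 * v ∈ S.U := by
    refine S.U.mul_mem (S.U.mul_mem (S.U.inv_mem hv) ?_) hv
    exact S.X_le_U (r := ⟨9, by decide⟩) (show 6 ≤ 9 by norm_num) (xg_mem (rel F) _ _)
  have hwpos : (comb H22.PoinG2.rcxG2).pos (w ⟨11, hlt⟩) := by
    by_contra hneg
    have h2 : v⁻¹ * x 9 1 * v ∈ S.V := by
      rw [← e5]; exact S.X_le_V hneg (xg_mem (rel F) _ _)
    have h3 := S.eq_one_of_mem_B_V (S.U_le_B hvU) h2
    have h4 : x 9 (1 : F) = 1 := by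
      have : x 9 (1 : F) = v * (v⁻¹ * x 9 1 * v) * v⁻¹ := by simp [mul_assoc]
      rw [this, h3]; simp
    exact H47.ChevSub.xg_one_ne (rel F) H22.PoinG2.rcxG2.rc (by decide) h4
  have e6 : LP (rel F) [w ⟨11, hlt⟩] (fun _ => ε ⟨11, hlt⟩ * 1) =
      LP (rel F) (lift chevG2.nroots [10, 11] ++ lift chevG2.nroots [9])
      (fun r => if (r : ℕ) = 9 then 1 else c1 r) := by
    rw [LP_cons, LP_nil, mul_one, ← e4, ← e5]
  have h5 := LP_inj (rel F) H22.ChevLex.lexG2 (by simp) (by intro r hr; simp at hr; rw [hr]; exact hwpos)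
    (by intro r hr s hs a b; simp at hr hs; rw [hr, hs]; exact H47.ChevSub.xg_comm _ _ _ _)
    (by decide) hpos' hcm e6 ⟨9, by decide⟩ (show 6 ≤ 9 by norm_num)
  have h6 : w ⟨11, hlt⟩ = ⟨9, by decide⟩ := by
    by_contra hne
    rw [if_neg (by simp only [List.mem_singleton]; exact fun h => hne h.symm),
      if_pos (List.mem_append_right _ (mem_lift.2 (by simp)))] at h5
    simp at h5
  have h7 := inv_of (X := H22.PoinG2.rcxG2) (T := Cfsg.Agent.S2180.sh) (by decide +kernel) hn.2.1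
    ⟨11, hlt⟩
  rw [h6] at h7
  have h8 : Cfsg.Agent.S2180.sh 9 = Cfsg.Agent.S2180.sh 11 := h7
  exact absurd h8 (by decide)

end

/-- Conjugacy classes of involutions in the Chevalley group of type G₂ over a finite field F of characteristic two with at least four elements (the matrix group generated by the root elements x_r(t)). In this problem's root numbering for type G₂ (the Chevalley data module; p₁ = a short, p₂ = b long; roots indexed by coefficient vectors in increasing order) let 11 be the highest root 3a + 2b (long) and 9 the short root 2a + b; consider x_{3a+2b}(1) and x_{2a+b}(1). Then: each invertible matrix equal to one of these two products lies in the group and has order 2; every element of order 2 of the group is conjugate in the group to one of them; and no two of them are conjugate in the group (so, the two matrices being distinct, the group has exactly two conjugacy classes of involutions). -/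
theorem result {F : Type*} [Field F] [Fintype F] [CharP F 2] (hF : 4 ≤ Fintype.card F) :
    (∀ y : GL Cfsg.Lie.chevG2.Idx F, ((y : GL Cfsg.Lie.chevG2.Idx F) : Matrix Cfsg.Lie.chevG2.Idx Cfsg.Lie.chevG2.Idx F) ∈ [Cfsg.Lie.chevG2.x F 11 1, Cfsg.Lie.chevG2.x F 9 1] → y ∈ Cfsg.Lie.chevG2.group F ∧ orderOf y = 2) ∧
    (∀ g ∈ Cfsg.Lie.chevG2.group F, orderOf g = 2 → ∃ y ∈ Cfsg.Lie.chevG2.group F, ((y : GL Cfsg.Lie.chevG2.Idx F) : Matrix Cfsg.Lie.chevG2.Idx Cfsg.Lie.chevG2.Idx F) ∈ [Cfsg.Lie.chevG2.x F 11 1, Cfsg.Lie.chevG2.x F 9 1] ∧ ∃ h ∈ Cfsg.Lie.chevG2.group F, h * g * h⁻¹ = y) ∧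
    (∀ y₁ ∈ Cfsg.Lie.chevG2.group F, ∀ y₂ ∈ Cfsg.Lie.chevG2.group F, ((y₁ : GL Cfsg.Lie.chevG2.Idx F) : Matrix Cfsg.Lie.chevG2.Idx Cfsg.Lie.chevG2.Idx F) ∈ [Cfsg.Lie.chevG2.x F 11 1, Cfsg.Lie.chevG2.x F 9 1] → ((y₂ : GL Cfsg.Lie.chevG2.Idx F) : Matrix Cfsg.Lie.chevG2.Idx Cfsg.Lie.chevG2.Idx F) ∈ [Cfsg.Lie.chevG2.x F 11 1, Cfsg.Lie.chevG2.x F 9 1] →
      (∃ h ∈ Cfsg.Lie.chevG2.group F, h * y₁ * h⁻¹ = y₂) → ((y₁ : GL Cfsg.Lie.chevG2.Idx F) : Matrix Cfsg.Lie.chevG2.Idx Cfsg.Lie.chevG2.Idx F) = ((y₂ : GL Cfsg.Lie.chevG2.Idx F) : Matrix Cfsg.Lie.chevG2.Idx Cfsg.Lie.chevG2.Idx F)) := by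
  have hx11 : ∀ y : GL chevG2.Idx F, (y : Matrix chevG2.Idx chevG2.Idx F) = chevG2.x F 11 1 →
      y = x 11 1 := fun y h => Units.ext h
  have hx9 : ∀ y : GL chevG2.Idx F, (y : Matrix chevG2.Idx chevG2.Idx F) = chevG2.x F 9 1 →
      y = x 9 1 := fun y h => Units.ext h
  refine ⟨?_, ?_, ?_⟩
  · intro y hy
    simp only [List.mem_cons, List.not_mem_nil, or_false] at hy
    have key : ∀ r : ℕ, r < chevG2.nroots → (x r (1 : F)) ∈ chevG2.group F ∧
        orderOf (x r (1 : F)) = 2 := by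
      intro r hr
      refine ⟨xg_mem_group (rel F) hr 1, orderOf_eq_prime ?_ ?_⟩
      · rw [pow_two, mm, aa, x0]
      · exact H47.ChevSub.xg_one_ne (rel F) H22.PoinG2.rcxG2.rc hr
    rcases hy with hy | hy
    · rw [hx11 y hy]; exact key 11 (by decide)
    · rw [hx9 y hy]; exact key 9 (by decide)
  · intro g hg ho
    have hg2 : g ^ 2 = 1 := by rw [← ho]; exact pow_orderOf_eq_one g
    have hg1 : g ≠ 1 := by rintro rfl; simp at ho
    have : Fact (Nat.Prime 2) := ⟨Nat.prime_two⟩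
    obtain ⟨g', hg', hc⟩ := cj_U (rel F) (X := H22.PoinG2.rcxG2) 2 hg (k := 1) (by simpa using hg2)
    have hs : g' * g' = 1 := Cj.sq hc (by rw [← pow_two, hg2])
    have h1 : g' ≠ 1 := by
      rintro rfl
      obtain ⟨y, _, e⟩ := hc
      apply hg1
      have : g = y⁻¹ * (y * g * y⁻¹) * y := by simp [mul_assoc]
      rw [this, e]; simp
    rcases main2 hg' hs h1 with h | h
    · obtain ⟨y, hy, e⟩ := hc.trans h
      refine ⟨x 11 1, xg_mem_group (rel F) (by decide) 1, by simp, y, hy, e⟩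
    · obtain ⟨y, hy, e⟩ := hc.trans h
      refine ⟨x 9 1, xg_mem_group (rel F) (by decide) 1, by simp, y, hy, e⟩
  · rintro y₁ - y₂ - h₁ h₂ ⟨h, hh, e⟩
    simp only [List.mem_cons, List.not_mem_nil, or_false] at h₁ h₂
    rcases h₁ with h₁ | h₁ <;> rcases h₂ with h₂ | h₂
    · rw [h₁, h₂]
    · exfalso
      apply not_cj (F := F)
      rw [← hx11 y₁ h₁, ← hx9 y₂ h₂]
      exact ⟨h, hh, e⟩
    · exfalso
      apply not_cj (F := F)
      rw [← hx11 y₂ h₂, ← hx9 y₁ h₁]
      exact Cj.symm ⟨h, hh, e⟩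
    · rw [h₁, h₂]

end Cfsg.Agent.S2177
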