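import Cfsg.Statements.S2330
import Cfsg.Agent.Lib.H43.GL2Card

set_option autoImplicit false
open Cfsg

namespace Cfsg.Agent.S2330

open H43.GL2Basic H43.GL2Card in
/-- Over a finite field with q elements, the general linear group GL₂ has exactly q² − 1 conjugacy classes. -/
theorem result {F : Type*} [Field F] [Fintype F] :
    Nat.card (ConjClasses (Matrix.GeneralLinearGroup (Fin 2) F)) = Fintype.card F ^ 2 - 1 := by
  classical
  let cc : F → Fˣ → Matrix.GeneralLinearGroup (Fin 2) F := fun t d =>
    Matrix.GeneralLinearGroup.mkOfDetNeZero (C t (d : F)) (by rw [det_C]; exact d.ne_zero)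
  let sc : Fˣ → Matrix.GeneralLinearGroup (Fin 2) F := fun a =>
    Matrix.GeneralLinearGroup.mkOfDetNeZero !![(a : F), 0; 0, (a : F)] (by
      rw [Matrix.det_fin_two]; simp)
  have hcc : ∀ t d, (cc t d : Matrix (Fin 2) (Fin 2) F) = C t d := fun _ _ => rfl
  have hsc : ∀ a, (sc a : Matrix (Fin 2) (Fin 2) F) = !![(a : F), 0; 0, (a : F)] := fun _ => rfl
  have hscs : ∀ a, IsScal (sc a : Matrix (Fin 2) (Fin 2) F) := fun a => by rw [hsc]; simp [IsScal]
  have hccs : ∀ t d, ¬ IsScal (cc t d : Matrix (Fin 2) (Fin 2) F) := fun t d => not_isScal_C _ _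
  let f : (F × Fˣ) ⊕ Fˣ → ConjClasses (Matrix.GeneralLinearGroup (Fin 2) F) := fun o =>
    match o with
    | Sum.inl (t, d) => ConjClasses.mk (cc t d)
    | Sum.inr a => ConjClasses.mk (sc a)
  have hf : Function.Bijective f := by
    constructor
    · rintro (⟨t, d⟩ | a) (⟨t', d'⟩ | a') htt
      · have h1 : IsConj (cc t d) (cc t' d') := ConjClasses.mk_eq_mk_iff_isConj.1 htt
        have h2 := gl_trace_eq_of_conj h1
        have h3 := gl_det_eq_of_conj h1
        rw [hcc, hcc, trace_C, trace_C] at h2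
        rw [hcc, hcc, det_C, det_C] at h3
        rw [h2, Units.ext h3]
      · exfalso
        have h1 : IsConj (cc t d) (sc a') := ConjClasses.mk_eq_mk_iff_isConj.1 htt
        exact hccs t d ((gl_isScal_iff_of_conj h1).2 (hscs a'))
      · exfalso
        have h1 : IsConj (sc a) (cc t' d') := ConjClasses.mk_eq_mk_iff_isConj.1 htt
        exact hccs t' d' ((gl_isScal_iff_of_conj h1).1 (hscs a))
      · have h1 : IsConj (sc a) (sc a') := ConjClasses.mk_eq_mk_iff_isConj.1 htt
        have h2 := gl_eq_of_conj_scal h1 (hscs a)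
        have h3 := congrArg (fun z : Matrix.GeneralLinearGroup (Fin 2) F => (z : Matrix (Fin 2) (Fin 2) F) 0 0) h2
        simp only [hsc] at h3
        simp at h3
        rw [Units.ext h3]
    · intro c
      obtain ⟨g, rfl⟩ := ConjClasses.mk_surjective c
      have hd : (g : Matrix (Fin 2) (Fin 2) F).det ≠ 0 := by
        have := g.isUnit
        rw [Matrix.isUnit_iff_isUnit_det] at this
        exact this.ne_zero
      by_cases hg : IsScal (g : Matrix (Fin 2) (Fin 2) F)
      · obtain ⟨h1, h2, h3⟩ := hg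
        rw [Matrix.det_fin_two, h1, h3] at hd
        have h4 : (g : Matrix (Fin 2) (Fin 2) F) 1 1 ≠ 0 := by
          intro h; rw [h] at hd; simp at hd
        refine ⟨Sum.inr (Units.mk0 _ h4), ?_⟩
        simp only [f]
        congr 1
        ext i j
        rw [hsc]
        fin_cases i <;> fin_cases j <;> simp [h1, h2, h3]
      · refine ⟨Sum.inl ((g : Matrix (Fin 2) (Fin 2) F).trace, Units.mk0 _ hd), ?_⟩
        simp only [f]
        exact (ConjClasses.mk_eq_mk_iff_isConj.2 (gl_conj_companion g hg _ rfl)).symm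
  rw [← Nat.card_congr (Equiv.ofBijective f hf), Nat.card_sum, Nat.card_prod, card_units,
    Nat.card_eq_fintype_card]
  have h1 := one_lt_q (F := F)
  obtain ⟨k, hk⟩ := Nat.exists_eq_add_of_lt h1
  rw [hk]
  simp only [Nat.add_sub_cancel]
  have : (1 + k + 1) ^ 2 = (1 + k + 1) * (1 + k) + (1 + k) + 1 := by ring
  rw [this]
  simp

end Cfsg.Agent.S2330
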