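import Cfsg.Statements.S2325
import Cfsg.Agent.Lib.H43.SL2Order

set_option autoImplicit false
open Cfsg

namespace Cfsg.Agent.S2325

open H43.GL2Basic H43.GL2Card H43.SL2Conj H43.SL2Order in
/-- Over a finite field with q elements, q odd, the special linear group SL₂ has exactly q + 4 conjugacy classes. -/
theorem result {F : Type*} [Field F] [Fintype F] (hodd : Odd (Fintype.card F)) :
    Nat.card (ConjClasses (Matrix.SpecialLinearGroup (Fin 2) F)) = Fintype.card F + 4 := by
  classical
  have hchar : ringChar F ≠ 2 := by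
    intro h
    have := FiniteField.even_card_of_char_two h
    rw [Nat.odd_iff] at hodd
    omega
  have h2 : (2 : F) ≠ 0 := Ring.two_ne_zero hchar
  obtain ⟨n, hn⟩ := FiniteField.exists_nonsquare hchar
  have hn0 : n ≠ 0 := by rintro rfl; exact hn (IsSquare.zero)
  let sg : Bool → F := fun b => if b then 1 else -1
  have hsg : ∀ b, sg b * sg b = 1 := by intro b; cases b <;> simp [sg]
  have hsg2 : ∀ b b', 2 * sg b = 2 * sg b' → b = b' := by
    intro b b' h
    have h' := mul_left_cancel₀ h2 h
    cases b <;> cases b' <;> simp [sg] at h' ⊢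
    · apply h2; linear_combination -h'
    · apply h2; linear_combination h'
  let sc : Bool → Matrix.SpecialLinearGroup (Fin 2) F := fun b => if b then 1 else -1
  have hscs : ∀ b, IsScal (sc b : Matrix (Fin 2) (Fin 2) F) := by intro b; cases b <;> simp [sc, IsScal]
  have htsc : ∀ b, (sc b : Matrix (Fin 2) (Fin 2) F).trace = 2 * sg b := by
    intro b; cases b <;> simp [sc, sg, Matrix.trace_fin_two] <;> ring
  have hQsc : ∀ b, ¬ ∃ x y : F, Q (uSL (sg b) n (hsg b) : Matrix (Fin 2) (Fin 2) F) x y = 1 := by
    rintro b ⟨x, y, hxy⟩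
    rw [Q_uSL] at hxy
    apply hn
    have hy : y ≠ 0 := by rintro rfl; simp at hxy
    refine ⟨y⁻¹, ?_⟩
    field_simp
    linear_combination hxy
  let f : F ⊕ (Bool × Bool) → ConjClasses (Matrix.SpecialLinearGroup (Fin 2) F) := fun o =>
    match o with
    | Sum.inl t => ConjClasses.mk (cSL t)
    | Sum.inr (b, false) => ConjClasses.mk (sc b)
    | Sum.inr (b, true) => ConjClasses.mk (uSL (sg b) n (hsg b))
  have hf : Function.Bijective f := by
    constructor
    · rintro (t | ⟨b, _ | _⟩) (t' | ⟨b', _ | _⟩) htt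
      · have h1 : IsConj (cSL t) (cSL t') := ConjClasses.mk_eq_mk_iff_isConj.1 htt
        have h3 := trace_of_conj h1
        rw [trace_cSL, trace_cSL] at h3
        rw [h3]
      · exfalso
        have h1 : IsConj (cSL t) (sc b') := ConjClasses.mk_eq_mk_iff_isConj.1 htt
        exact not_isScal_cSL t ((isScal_of_conj h1).2 (hscs b'))
      · exfalso
        have h1 : IsConj (cSL t) (uSL (sg b') n (hsg b')) := ConjClasses.mk_eq_mk_iff_isConj.1 htt
        obtain ⟨x, y, hxy⟩ := Q_of_conj h1 1 0
        rw [Q_cSL] at hxy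
        exact hQsc b' ⟨x, y, hxy⟩
      · exfalso
        have h1 : IsConj (sc b) (cSL t') := ConjClasses.mk_eq_mk_iff_isConj.1 htt
        exact not_isScal_cSL t' ((isScal_of_conj h1).1 (hscs b))
      · have h1 : IsConj (sc b) (sc b') := ConjClasses.mk_eq_mk_iff_isConj.1 htt
        have h3 := trace_of_conj h1
        rw [htsc, htsc] at h3
        rw [hsg2 _ _ h3]
      · exfalso
        have h1 : IsConj (sc b) (uSL (sg b') n (hsg b')) := ConjClasses.mk_eq_mk_iff_isConj.1 htt
        exact not_isScal_uSL _ n (hsg b') hn0 ((isScal_of_conj h1).1 (hscs b))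
      · exfalso
        have h1 : IsConj (uSL (sg b) n (hsg b)) (cSL t') := ConjClasses.mk_eq_mk_iff_isConj.1 htt
        obtain ⟨x, y, hxy⟩ := Q_of_conj h1.symm 1 0
        rw [Q_cSL] at hxy
        exact hQsc b ⟨x, y, hxy⟩
      · exfalso
        have h1 : IsConj (uSL (sg b) n (hsg b)) (sc b') := ConjClasses.mk_eq_mk_iff_isConj.1 htt
        exact not_isScal_uSL _ n (hsg b) hn0 ((isScal_of_conj h1).2 (hscs b'))
      · have h1 : IsConj (uSL (sg b) n (hsg b)) (uSL (sg b') n (hsg b')) := ConjClasses.mk_eq_mk_iff_isConj.1 htt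
        have h3 := trace_of_conj h1
        rw [trace_uSL, trace_uSL] at h3
        rw [hsg2 _ _ h3]
    · intro c
      obtain ⟨g, rfl⟩ := ConjClasses.mk_surjective c
      by_cases hg : IsScal (g : Matrix (Fin 2) (Fin 2) F)
      · rcases eq_one_or_neg_one_of_isScal g hg with h | h
        · exact ⟨Sum.inr (true, false), by simp only [f, sc, if_true, h]⟩
        · refine ⟨Sum.inr (false, false), ?_⟩
          simp [f, sc, h]
      · by_cases hD : (g : Matrix (Fin 2) (Fin 2) F).trace ^ 2 - 4 = 0
        · have h4 : ((g : Matrix (Fin 2) (Fin 2) F).trace - 2) * ((g : Matrix (Fin 2) (Fin 2) F).trace + 2) = 0 := by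
            linear_combination hD
          have h5 : ∃ b, (g : Matrix (Fin 2) (Fin 2) F).trace = 2 * sg b := by
            rcases mul_eq_zero.1 h4 with h | h
            · exact ⟨true, by simp [sg]; linear_combination h⟩
            · exact ⟨false, by simp [sg]; linear_combination h⟩
          obtain ⟨b, hb⟩ := h5
          rcases conj_of_trace_two h2 g hg (sg b) n (hsg b) hn hb with h | h
          · exact ⟨Sum.inl (2 * sg b), (ConjClasses.mk_eq_mk_iff_isConj.2 h).symm⟩
          · exact ⟨Sum.inr (b, true), (ConjClasses.mk_eq_mk_iff_isConj.2 h).symm⟩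
        · exact ⟨Sum.inl _, (ConjClasses.mk_eq_mk_iff_isConj.2 (conj_cSL_of_disc g hD)).symm⟩
  rw [← Nat.card_congr (Equiv.ofBijective f hf), Nat.card_eq_fintype_card, Fintype.card_sum]
  simp

end Cfsg.Agent.S2325
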