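import Cfsg.Statements.S0075
import Cfsg.Agent.Lib.H2.Control

set_option autoImplicit false
open Cfsg

namespace Cfsg.Agent.S0075

/-- For an abelian Sylow p-subgroup T, its intersection with the subgroup generated by the elements of order prime to p is the commutator of T with its normalizer. -/
theorem result {G : Type*} [Group G] [Finite G] {p : ℕ} [Fact p.Prime] (T : Sylow p G) (hT : IsMulCommutative T) : (T : Subgroup G) ⊓ Cfsg.pResidual p G = ⁅(T : Subgroup G), Subgroup.normalizer (T : Set G)⁆ := by
  apply le_antisymm
  · exact le_trans (H2.Residual.inf_residual_le_focal T)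
      (H2.Control.focal_le_commutator_of_control _ _
      (H2.Control.normalizer_control_of_abelian T hT))
  · refine le_inf ?_ ?_
    · exact Subgroup.le_normalizer_iff_commutator_le_left.1 le_rfl
    · have h1 : Cfsg.pResidual p G ⊔ (T : Subgroup G) = ⊤ := by
        rw [sup_comm]; exact H2.Residual.sylow_sup_residual T
      refine le_trans ?_ (Subgroup.Normal.commutator_le_of_self_sup_commutative_eq_top h1 hT)
      rw [commutator_def]
      exact Subgroup.commutator_mono le_top le_top

end Cfsg.Agent.S0075
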