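import Cfsg.Statements.S4687
import Cfsg.Agent.Lib.H80.FS4

set_option autoImplicit false
open Cfsg

namespace Cfsg.Agent.S4687

/-- Fix a prime p and a maximal ideal M of the algebraic integers containing p, and a p-block B of the finite group G with maximal Brauer pair (P, e), P abelian. Then B is nilpotent if and only if its inertial quotient is trivial: every element of N_G(P) stabilizing e centralizes P. -/
theorem result {G : Type*} [Group G] [Fintype G] (p : ℕ) [Fact p.Prime] (M : Ideal Cfsg.AlgInt) (hM : Cfsg.IsPModular p M) (B : Set (Cfsg.IrrCharacter G)) (P : Subgroup G) (e : Set (Cfsg.IrrCharacter (Subgroup.centralizer (P : Set G)))) (hmax : Cfsg.IsMaximalBrauerPair p M B P e) (hab : ∀ x ∈ P, ∀ y ∈ P, x * y = y * x) : Cfsg.IsNilpotentBlock p M B ↔ ∀ x : G, x ∈ Subgroup.normalizer (P : Set G) → Cfsg.StabilizesBlock (Subgroup.centralizer (P : Set G)) e x → x ∈ Subgroup.centralizer (P : Set G) := by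
  have : M.IsMaximal := hM.2.1
  have : CharP (H20.Loc.ResF M) p := H20.Loc.charP_resF hM
  let _ : Algebra (ZMod p) (H20.Loc.ResF M) := ZMod.algebra (H20.Loc.ResF M) p
  have : Algebra.IsAlgebraic (ZMod p) (H20.Loc.ResF M) := H80.BR1.isAlgebraic_resF hM
  have : IsAlgClosed (H20.Loc.ResF M) := H20.Loc.isAlgClosed_resF
  obtain ⟨hB, he, h⟩ := H80.BR3.maximal_iff.1 hmax
  have hP := h.of.pair
  rw [H80.FS4.nilp_iff_top hB]
  constructor
  · intro hnil x hxN hxs
    have h1 : x ∈ H80.GH.ST ⊤ P (H80.BR2.bl M _ e) :=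
      ⟨Subgroup.mem_top _, hxN, ((H80.BR2.stabilizes_iff he).1 hxs).2⟩
    obtain ⟨y, hy, hyx⟩ := H80.FS3.nilp_inner h hnil (Subgroup.mem_top x)
      ((H80.FS.fus_iff_st hP Relation.ReflTransGen.refl (Subgroup.mem_top x) hxN).2 h1)
    rw [Subgroup.mem_centralizer_iff]
    intro u hu
    have h2 := hyx u hu
    rw [hab y hy u hu, mul_inv_cancel_right] at h2
    exact (mul_inv_eq_iff_eq_mul.1 h2).symm
  · intro hc
    refine ⟨h.of.blk, ?_⟩
    intro Q f hf x hx hpx
    obtain ⟨g, hg, hle⟩ := H80.GE.sle_max h hf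
    have hx' : g * x * g⁻¹ ∈ H80.GH.ST ⊤ (H80.GA.cs g Q) (H80.GA.cj g f) := by
      have : g * x * g⁻¹ ∈ H80.GA.cs g (H80.GH.ST ⊤ Q f) := by
        rw [H80.GA.conj_mem_cs]; exact hx
      rwa [H80.GH.cs_ST, H80.GA.cs_of_mem hg] at this
    obtain ⟨y, hy, c, hcc, hxy⟩ := H80.FS4.abelian_factor h hab hle hx'
    have hyc : y ∈ Subgroup.centralizer (P : Set G) :=
      hc y hy.2.1 ((H80.BR2.stabilizes_iff he).2 ⟨H80.BR5.normalizer_cent_le P hy.2.1, hy.2.2⟩)
    have hyQ : y ∈ Subgroup.centralizer (H80.GA.cs g Q : Set G) :=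
      Subgroup.centralizer_le (hle.le' hP) hyc
    have h3 : g * x * g⁻¹ ∈ Subgroup.centralizer (H80.GA.cs g Q : Set G) := by
      rw [hxy]; exact mul_mem hyQ hcc.1
    rw [← H80.GA.cs_centralizer, H80.GA.conj_mem_cs] at h3
    exact h3

end Cfsg.Agent.S4687
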