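import Cfsg.Statements.S4689
import Cfsg.Agent.Lib.H84.Star15

set_option autoImplicit false
open Cfsg

namespace Cfsg.Agent.S4689

/-- Fix a prime p and a maximal ideal M of the algebraic integers containing p, and a nilpotent p-block B of the finite group G. Then B has p-regular rank one (a single irreducible Brauer character), and some χ₀ ∈ B restricts to that Brauer character: every χ ∈ B agrees on the p-regular elements with a natural-number multiple of χ₀. -/
theorem result {G : Type*} [Group G] [Fintype G] (p : ℕ) [Fact p.Prime] (M : Ideal Cfsg.AlgInt) (hM : Cfsg.IsPModular p M) (B : Set (Cfsg.IrrCharacter G)) (hnil : Cfsg.IsNilpotentBlock p M B) : Cfsg.blockRank p B = 1 ∧ ∃ χ₀ ∈ B, ∀ χ ∈ B, ∃ d : ℕ, ∀ x : G, Cfsg.pRegularPart p (χ : G → ℂ) x = (d : ℂ) * Cfsg.pRegularPart p (χ₀ : G → ℂ) x := by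
  have : M.IsMaximal := hM.2.1
  have : CharP (H20.Loc.ResF M) p := H20.Loc.charP_resF hM
  let _ : Algebra (ZMod p) (H20.Loc.ResF M) := ZMod.algebra (H20.Loc.ResF M) p
  have : Algebra.IsAlgebraic (ZMod p) (H20.Loc.ResF M) := H80.BR1.isAlgebraic_resF hM
  have : IsAlgClosed (H20.Loc.ResF M) := H20.Loc.isAlgClosed_resF
  have hB : IsPBlock M B := hnil.1
  have hnil' := (H80.FS4.nilp_iff_top hB).1 hnil
  have hpr := hM.2.1.isPrime
  obtain ⟨P, e, hmax⟩ := H84.Star.exists_isMax (p := p) (H80.BR1.isBlk_ebar hB)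
  obtain ⟨χ, hχ, h0⟩ := H20.Defect.exists_height_zero hM hB
  have key : ∀ ψ ∈ B, ∃ d : ℕ, ∀ x : G, Cfsg.pRegularPart p (ψ : G → ℂ) x =
      (d : ℂ) * Cfsg.pRegularPart p (χ : G → ℂ) x := by
    intro ψ hψ
    have h1 := H84.Star.nilEquiv_reg hM hmax hB hnil' hχ h0
      ((H84.Star.nilEquiv hM hmax hB hnil' hχ h0).symm ⟨ψ, hψ⟩)
    rw [Equiv.apply_symm_apply] at h1
    refine ⟨charDegree ((H84.Star.nilEquiv hM hmax hB hnil' hχ h0).symm ⟨ψ, hψ⟩ : P → ℂ), ?_⟩
    intro x
    rw [H81.Contrib.pRegularPart_eq, H81.Contrib.pRegularPart_eq, H20.Defect.charDegree_irr]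
    exact h1 x
  refine ⟨?_, χ, hχ, key⟩
  unfold blockRank
  have h2 : Submodule.span ℂ ((fun χ : IrrCharacter G => pRegularPart p (χ : G → ℂ)) '' B) =
      Submodule.span ℂ {pRegularPart p (χ : G → ℂ)} := by
    apply le_antisymm
    · rw [Submodule.span_le]
      rintro _ ⟨ψ, hψ, rfl⟩
      obtain ⟨d, hd⟩ := key ψ hψ
      rw [SetLike.mem_coe, Submodule.mem_span_singleton]
      exact ⟨(d : ℂ), by funext x; rw [Pi.smul_apply, smul_eq_mul]; exact (hd x).symm⟩
    · rw [Submodule.span_le, Set.singleton_subset_iff]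
      exact Submodule.subset_span ⟨χ, hχ, rfl⟩
  rw [h2]
  apply finrank_span_singleton
  intro h3
  have h4 := congrFun h3 1
  rw [H81.Contrib.pRegularPart_eq, H20.Orth.reg_of (by rw [orderOf_one]; exact H84.Star.card_pos_p hM.1)] at h4
  exact H18.CharBasic.irr_one_ne_zero χ.2 h4

end Cfsg.Agent.S4689
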