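import Cfsg.Statements.S4644
import Cfsg.Agent.Lib.H84.Wat6
import Cfsg.Agent.Lib.H80.BR11

set_option autoImplicit false
open Cfsg

namespace Cfsg.Agent.S4644

open H20.Loc H20.GA H20.Blk H20.Orth H80.GA H80.GB H80.GD H80.GE H80.GF H80.GH H80.BR1 H80.BR2 H80.BR7 H84.Wat

universe u

variable {M : Ideal Cfsg.AlgInt} [M.IsMaximal] {G : Type u} [Group G] [Finite G] {p : ℕ}

theorem bl_top (B : Set (IrrCharacter G)) :
    bl M (⊤ : Subgroup G) (trI (Subgroup.topEquiv (G := G)).symm '' B) = ebar M B := by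
  unfold bl
  rw [ebar_trI, inc_comp (Subgroup.topEquiv (G := G)).symm.injective (⊤ : Subgroup G).subtype_injective]
  apply H80.GA.ext'
  intro g
  have hinj : Function.Injective ((⊤ : Subgroup G).subtype.comp (Subgroup.topEquiv (G := G)).symm.toMonoidHom) :=
    (⊤ : Subgroup G).subtype_injective.comp (Subgroup.topEquiv (G := G)).symm.injective
  exact coeff_inc hinj (ebar M B) g

theorem rk_top {B : Set (IrrCharacter G)} (hB : IsPBlock M B) : rk p ⊤ (ebar M B) = blockRank p B := by
  rw [← bl_top, rk_bl (isPBlock_trI _ hB), blockRank_trI]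

theorem kk_top {B : Set (IrrCharacter G)} (hB : IsPBlock M B) : kk ⊤ (ebar M B) = Nat.card B := by
  rw [← bl_top, kk_bl (isPBlock_trI _ hB), card_trI]

/-- Let B be a block of the finite group G relative to a maximal ideal M of the algebraic integers containing the prime p, with a commutative defect group P; let c be a block of C_G(P) inducing B and T the stabilizer of c in N_G(P). Let u be an element of P fixed under conjugation by every element of T, H = C_G(u) (so C_G(P) ≤ H), and f the block of H induced by c inside H. Then B and f have the same p-regular rank and the same number of irreducible characters. -/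
theorem result {G : Type*} [Group G] [Finite G] (p : ℕ) [Fact p.Prime] (M : Ideal Cfsg.AlgInt) (hM : Cfsg.IsPModular p M) (B : Set (Cfsg.IrrCharacter G)) (hB : Cfsg.IsPBlock M B) (P : Subgroup G) (hPD : Cfsg.IsDefectGroup p M B P) (hPab : ∀ x ∈ P, ∀ y ∈ P, x * y = y * x) (c : Set (Cfsg.IrrCharacter (Subgroup.centralizer (P : Set G)))) (hc : Cfsg.IsInducedBlock M (Subgroup.centralizer (P : Set G)) c B) (T : Subgroup G) (hT : ∀ g : G, g ∈ T ↔ (g ∈ Subgroup.normalizer (P : Set G) ∧ Cfsg.StabilizesBlock (Subgroup.centralizer (P : Set G)) c g)) (u : G) (hu : u ∈ P) (huT : ∀ g ∈ T, g * u * g⁻¹ = u) (H : Subgroup G) (hH : H = Subgroup.centralizer ({u} : Set G)) (f : Set (Cfsg.IrrCharacter H)) (hf : Cfsg.IsInducedBlockIn M H (Subgroup.centralizer (P : Set G)) c f) : Cfsg.blockRank p B = Cfsg.blockRank p f ∧ Nat.card B = Nat.card f := by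
  have : M.IsMaximal := hM.2.1
  have : CharP (H20.Loc.ResF M) p := H20.Loc.charP_resF hM
  let _ : Algebra (ZMod p) (H20.Loc.ResF M) := ZMod.algebra (H20.Loc.ResF M) p
  have : Algebra.IsAlgebraic (ZMod p) (H20.Loc.ResF M) := H80.BR1.isAlgebraic_resF hM
  have : IsAlgClosed (H20.Loc.ResF M) := H20.Loc.isAlgClosed_resF
  obtain ⟨hmax, hTe, -, -, -⟩ := H80.BR11.setup hM hB hPD hPab hc hT
  have hHC : H = CH ⊤ (Subgroup.zpowers u) := by
    rw [hH]
    ext x
    rw [mem_CH_iff, Subgroup.mem_centralizer_singleton_iff]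
    simp
  have hPC : P ≤ Subgroup.centralizer (P : Set G) := H80.BR11.le_cent_of_ab hPab
  have hCH : Subgroup.centralizer (P : Set G) ≤ H := by
    rw [hH]
    intro x hx
    rw [Subgroup.mem_centralizer_singleton_iff]
    exact (Subgroup.mem_centralizer_iff.1 hx u hu).symm
  have h1 := (inducedIn_iff_br hM hmax.of.pair.pgr hPC hCH inf_le_left
    (H80.GH.centralizer_le_normalizer' P) hc.1 hf.2.1).1 hf
  have hmu := max_CH hmax hPab hu
  have h2 : PairOf p H (bl M H f) P (bl M _ c) := ⟨by rw [hHC]; exact hmu.of.pair, isBlk_bl hf.2.1, h1⟩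
  have h3 : bk p (CH ⊤ (Subgroup.zpowers u)) P (bl M _ c) = bl M H f := by
    rw [← hHC]
    exact bk_eq h2
  obtain ⟨h4, h5⟩ := wat hM _ rfl hmax hPab hu (by
    rw [← hTe]; exact huT)
  rw [h3, ← hHC, rk_top hB, rk_bl hf.2.1] at h4
  rw [h3, ← hHC, kk_top hB, kk_bl hf.2.1] at h5
  exact ⟨h4, h5⟩

end Cfsg.Agent.S4644
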