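import Cfsg.Statements.S4608
import Cfsg.Agent.Lib.H79.AbEight
import Cfsg.Agent.S4644
import Cfsg.Agent.Lib.H79.SymLocMain
import Cfsg.Agent.Lib.H80.SU4
import Cfsg.Agent.Lib.H20.Cor4

set_option autoImplicit false
open Cfsg

namespace Cfsg.Agent.S4608

open Module H20.Loc

universe u v

/-- conversion to the local symmetric algebras of `H79.SymLoc` -/
noncomputable def toDat {F : Type u} {A : Type v} [Field F] [Ring A] [Algebra F A] [FiniteDimensional F A]
    (S : H20.LSA.LocSym F A) : H79.SymLoc.Dat F A where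
  J := S.J
  lam := S.lam
  sym := S.symm
  nd := S.nondeg
  mulL := fun a j hj => S.J_mul_left hj a
  mulR := fun a j hj => S.J_mul_right hj a
  top := fun a => ⟨S.ε a, S.sub_mem_J a⟩
  nil := S.exists_pow
  one := by
    intro h
    rw [S.mem_J, map_one] at h
    exact one_ne_zero h

/-- Let G be a finite group, p a prime, M a maximal ideal of the algebraic integers containing p, and B a p-block of G with defect group D. If B has p-regular rank one and exactly five irreducible characters, then D is cyclic of order 5, or D has order 8 and is non-abelian (dihedral or quaternion). -/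
theorem result {G : Type*} [Group G] [Finite G] (p : ℕ) [Fact p.Prime] (M : Ideal Cfsg.AlgInt) (hM : Cfsg.IsPModular p M) (B : Set (Cfsg.IrrCharacter G)) (hB : Cfsg.IsPBlock M B) (D : Subgroup G) (hD : Cfsg.IsDefectGroup p M B D)
    (hl : Cfsg.blockRank p B = 1) (hk : Nat.card B = 5) :
    (Nat.card D = 5) ∨ (Nat.card D = 8 ∧ ¬ IsMulCommutative D) := by
  have hMm : M.IsMaximal := hM.2.1
  have : CharP (H20.Loc.ResF M) p := H20.Loc.charP_resF hM
  let _ : Algebra (ZMod p) (H20.Loc.ResF M) := ZMod.algebra (H20.Loc.ResF M) p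
  have : Algebra.IsAlgebraic (ZMod p) (H20.Loc.ResF M) := H80.BR1.isAlgebraic_resF hM
  have : IsAlgClosed (H20.Loc.ResF M) := H20.Loc.isAlgClosed_resF
  have hcD := H20.Defect.card_defectGroup hM hB hD
  obtain ⟨A, _, _, _, S, hA, hZ⟩ := H20.Cor.exists_basic hM hB hl
  rw [hk] at hZ
  rw [← hcD] at hA
  rcases H79.SymLoc.main (toDat S) hZ with hcomm | h8
  · left
    rw [← hA, ← hZ]
    have h3 : Subalgebra.toSubmodule (Subalgebra.center (ResF M) A) = ⊤ := by
      rw [eq_top_iff]
      intro x _
      rw [Subalgebra.mem_toSubmodule, Subalgebra.mem_center_iff]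
      exact fun b => hcomm b x
    have h4 : finrank (ResF M) (Subalgebra.toSubmodule (Subalgebra.center (ResF M) A)) =
        finrank (ResF M) A := by rw [h3, finrank_top]
    exact h4.symm
  · right
    have hD8 : Nat.card D = 8 := by rw [← hA, h8]
    refine ⟨hD8, ?_⟩
    intro hab
    have hab' : ∀ x ∈ D, ∀ y ∈ D, x * y = y * x := fun x hx y hy =>
      congrArg Subtype.val (hab.is_comm.comm (⟨x, hx⟩ : D) ⟨y, hy⟩)
    have hp2 : p = 2 := by
      rw [hcD] at hD8
      have hp : p.Prime := Fact.out
      have h1 : p ∣ 8 := by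
        rw [← hD8]
        apply dvd_pow_self
        intro h0
        rw [h0, pow_zero] at hD8
        omega
      have h2 : p ∣ 2 := hp.dvd_of_dvd_pow (show p ∣ 2 ^ 3 from h1)
      exact (Nat.prime_dvd_prime_iff_eq hp Nat.prime_two).1 h2
    obtain ⟨c, -, hmax⟩ := H80.SU4.exists_max hM hB hD
    have h9 := H79.AbEight.rank_one_eight hM hp2 hmax hab' hD8 (by
      rw [Cfsg.Agent.S4644.rk_top hB]; exact hl)
    rw [Cfsg.Agent.S4644.kk_top hB, hk] at h9
    omega

end Cfsg.Agent.S4608
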