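import Cfsg.Statements.S4528
import Cfsg.Agent.Lib.H5.TBj
import Cfsg.Agent.Lib.H79.KLOne
import Cfsg.Agent.S4608

set_option autoImplicit false
open Cfsg

namespace Cfsg.Agent.S4528

/-- Let B be a 2-block of the finite group G (relative to a maximal ideal M of the algebraic integers containing 2) whose defect group D is dihedral of order 2 ^ n with n ≥ 3. Then B contains exactly 2 ^ (n - 2) + 3 irreducible characters, its 2-regular rank (the number of irreducible Brauer characters) is between 1 and 3, exactly four of its members have height zero, and every member has height at most one. -/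
theorem result {G : Type*} [Group G] [Finite G] (M : Ideal Cfsg.AlgInt) (hM : Cfsg.IsPModular 2 M) (B : Set (Cfsg.IrrCharacter G)) (hB : Cfsg.IsPBlock M B) (D : Subgroup G) (hD : Cfsg.IsDefectGroup 2 M B D) (n : ℕ) (hn : 3 ≤ n) (hdih : Nonempty (D ≃* DihedralGroup (2 ^ (n - 1)))) : Nat.card B = 2 ^ (n - 2) + 3 ∧ 1 ≤ Cfsg.blockRank 2 B ∧ Cfsg.blockRank 2 B ≤ 3 ∧ Nat.card {χ : Cfsg.IrrCharacter G // χ ∈ B ∧ Cfsg.blockHeight 2 B (χ : G → ℂ) = 0} = 4 ∧ ∀ χ ∈ B, Cfsg.blockHeight 2 B (χ : G → ℂ) ≤ 1 := by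
  classical
  have hMm : M.IsMaximal := hM.2.1
  have : CharP (H20.Loc.ResF M) 2 := H20.Loc.charP_resF hM
  let _ : Algebra (ZMod 2) (H20.Loc.ResF M) := ZMod.algebra (H20.Loc.ResF M) 2
  have : Algebra.IsAlgebraic (ZMod 2) (H20.Loc.ResF M) := H80.BR1.isAlgebraic_resF hM
  have : IsAlgClosed (H20.Loc.ResF M) := H20.Loc.isAlgClosed_resF
  obtain ⟨φ⟩ := hdih
  obtain ⟨z, b, P, e, S, σ, ψ, hloc⟩ := H5.TBj.exists_loc hM hB hD hn φ
  obtain ⟨d, h1, h2, hres⟩ := H5.TBj.main hM hloc
  have hq : 2 ≤ 2 ^ (n - 2) := by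
    calc 2 = 2 ^ 1 := by norm_num
      _ ≤ 2 ^ (n - 2) := Nat.pow_le_pow_right (by norm_num) (by omega)
  have hpos := H79.KLOne.rank_pos hM hB
  have hne : ∀ χ : Cfsg.IrrCharacter G, d χ ≠ 0 ↔ χ ∈ B := by
    intro χ
    constructor
    · intro h3
      by_contra h4
      exact h3 (h1 χ h4)
    · intro hχ h0
      apply (h2 χ hχ).2
      rw [h0]; exact dvd_zero _
  letI := Fintype.ofFinite (Cfsg.IrrCharacter G)
  have hcard : Nat.card B = (Finset.univ.filter (fun χ : Cfsg.IrrCharacter G => d χ ≠ 0)).card := by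
    rw [← Fintype.card_subtype, ← Nat.card_eq_fintype_card]
    exact Nat.card_congr (Equiv.subtypeEquivRight fun χ => (hne χ).symm)
  have hDc : Nat.card D = 2 ^ n := by
    have : n = (n - 1) + 1 := by omega
    rw [Nat.card_congr φ.toEquiv, DihedralGroup.nat_card]
    conv_rhs => rw [this, pow_succ, mul_comm]
  rcases hres with ⟨r1, r2, r3, r4⟩ | ⟨r1, r2, r3⟩
  · have hle : ∀ χ ∈ B, Cfsg.blockHeight 2 B (χ : G → ℂ) ≤ 1 ∧
        (Cfsg.blockHeight 2 B (χ : G → ℂ) = 0 ↔ (d χ).natAbs = 1) := by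
      intro χ hχ
      obtain ⟨k1, k2⟩ := h2 χ hχ
      have k3 := r3 χ ((hne χ).2 hχ)
      have hle1 : Cfsg.blockHeight 2 B (χ : G → ℂ) ≤ 1 := by
        by_contra hno
        have h3 : (2 : ℤ) ^ 2 ∣ d χ := (pow_dvd_pow 2 (by omega)).trans k1
        rcases k3 with k3 | k3 <;> omega
      refine ⟨hle1, ?_⟩
      constructor
      · intro h0
        rw [h0, zero_add, pow_one] at k2
        rcases k3 with k3 | k3 <;> omega
      · intro h3
        by_contra h4
        have h5 : Cfsg.blockHeight 2 B (χ : G → ℂ) = 1 := by omega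
        rw [h5, pow_one] at k1
        omega
    refine ⟨?_, hpos, ?_, ?_, fun χ hχ => (hle χ hχ).1⟩
    · rw [hcard, r1]; omega
    · exact r4
    · rw [← r2, ← Fintype.card_subtype, ← Nat.card_eq_fintype_card]
      apply Nat.card_congr
      apply Equiv.subtypeEquivRight
      intro χ
      constructor
      · rintro ⟨hχ, h0⟩
        exact (hle χ hχ).2.1 h0
      · intro h3
        have hχ : χ ∈ B := (hne χ).1 (by intro h4; rw [h4] at h3; norm_num at h3)
        exact ⟨hχ, (hle χ hχ).2.2 h3⟩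
  · exfalso
    have hl : Cfsg.blockRank 2 B = 1 := le_antisymm r3 hpos
    have hk : Nat.card B = 5 := by rw [hcard, r2]
    have h3 := Cfsg.Agent.S4608.result 2 M hM B hB D hD hl hk
    have h4 : n = 4 := by
      have h5 : 2 ^ (n - 2) = 2 ^ 2 := by omega
      have := Nat.pow_right_injective (le_refl 2) h5
      omega
    rw [hDc, h4] at h3
    omega

end Cfsg.Agent.S4528
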