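import Cfsg.Statements.S4571
import Cfsg.Agent.Lib.H20.PC
import Cfsg.Agent.Lib.H20.Orth
import Cfsg.Agent.Lib.H20.NPC
import Cfsg.Agent.Lib.H1.Cores

set_option autoImplicit false
open Cfsg

namespace Cfsg.Agent.S4571

open H20.Loc H20.GA H20.Blk H20.NormQ H20.Orth H20.NPC H18.CharBasic H18.CharOrtho

universe u

variable {G : Type u} [Group G] [Finite G] {p : ℕ} {M : Ideal AlgInt}

theorem pRegularPart_eq (θ : G → ℂ) : pRegularPart p θ = reg p θ := by
  funext g
  by_cases h : p ∣ orderOf g
  · rw [reg_not h, pRegularPart, if_neg (fun h' => h' h)]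
  · rw [reg_of h, pRegularPart]
    exact if_pos (show IsPRegular p g from h)

/-- pull back of functions on the quotient, restricted to the regular elements -/
noncomputable def L (Q : Subgroup G) [Q.Normal] (p : ℕ) : (G ⧸ Q → ℂ) →ₗ[ℂ] (G → ℂ) where
  toFun F := reg p (fun g => F (g : G ⧸ Q))
  map_add' F F' := by
    funext g
    by_cases h : p ∣ orderOf g
    · simp [reg_not h]
    · simp [reg_of h]
  map_smul' c F := by
    funext g
    by_cases h : p ∣ orderOf g
    · simp [reg_not h]
    · simp [reg_of h]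

theorem L_apply (Q : Subgroup G) [Q.Normal] (F : G ⧸ Q → ℂ) :
    L Q p F = reg p (fun g : G => F (g : G ⧸ Q)) := rfl

theorem L_reg (Q : Subgroup G) [Q.Normal] (F : G ⧸ Q → ℂ) :
    L Q p (reg p F) = reg p (fun g : G => F (g : G ⧸ Q)) := by
  funext g
  rw [L_apply]
  by_cases h : p ∣ orderOf g
  · rw [reg_not h, reg_not h]
  · rw [reg_of h, reg_of h, reg_of (H20.PC.regular_mk Q h)]

theorem main (hM : IsPModular p M) (Q : Subgroup G) [Q.Normal] (hQ : IsPGroup p Q)
    (hC : ∀ x : G, ¬ p ∣ orderOf x → x ∈ Subgroup.centralizer (Q : Set G)) :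
    blockRank p (principalBlock M G) = blockRank p (principalBlock M (G ⧸ Q)) := by
  classical
  haveI := pm_isPrime hM
  haveI : Fact p.Prime := ⟨pm_prime hM⟩
  letI := Fintype.ofFinite G
  letI : Fintype (IrrCharacter G) := Fintype.ofFinite _
  letI := Fintype.ofFinite (G ⧸ Q)
  letI : Fintype (IrrCharacter (G ⧸ Q)) := Fintype.ofFinite _
  have hPB : IsPBlock M (principalBlock M G) := ⟨one G, principalBlock_eq⟩
  have hU : IsUnion M (principalBlock M G) := isUnion_of_isPBlock hPB
  have hone : infl Q (one (G ⧸ Q)) = one G := Subtype.ext rfl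
  have hmem : ∀ ψ : IrrCharacter (G ⧸ Q), infl Q ψ ∈ principalBlock M G ↔
      ψ ∈ principalBlock M (G ⧸ Q) := by
    intro ψ
    have h := H20.PC.sameBlock_infl_iff (P := Q) hM hQ hC (one (G ⧸ Q)) ψ
    rw [hone] at h
    exact h.symm
  unfold blockRank
  set W := Submodule.span ℂ ((fun χ : IrrCharacter (G ⧸ Q) => pRegularPart p (χ : G ⧸ Q → ℂ)) ''
    principalBlock M (G ⧸ Q)) with hW
  set V := Submodule.span ℂ ((fun χ : IrrCharacter G => pRegularPart p (χ : G → ℂ)) ''
    principalBlock M G) with hV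
  have hLinfl : ∀ ψ : IrrCharacter (G ⧸ Q), L Q p (pRegularPart p (ψ : G ⧸ Q → ℂ)) =
      pRegularPart p (infl Q ψ : G → ℂ) := by
    intro ψ
    rw [pRegularPart_eq, pRegularPart_eq, L_reg]
    rfl
  have hVW : V = W.map (L Q p) := by
    apply le_antisymm
    · rw [hV, Submodule.span_le]
      rintro _ ⟨χ, hχ, rfl⟩
      -- the class function on the quotient
      let F : G ⧸ Q → ℂ := fun q => if h : ∃ x : G, (x : G ⧸ Q) = q ∧ ¬ p ∣ orderOf x then
        (χ : G → ℂ) h.choose else 0
      have hF : ∀ x : G, ¬ p ∣ orderOf x → F (x : G ⧸ Q) = (χ : G → ℂ) x := by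
        intro x hx
        have h : ∃ y : G, (y : G ⧸ Q) = (x : G ⧸ Q) ∧ ¬ p ∣ orderOf y := ⟨x, rfl, hx⟩
        have h1 : F (x : G ⧸ Q) = (χ : G → ℂ) h.choose := dif_pos h
        rw [h1]
        exact congrArg (χ : G → ℂ) (H20.PC.eq_of_mk_eq Q hQ hC h.choose_spec.2 hx h.choose_spec.1)
      have hF0 : ∀ q : G ⧸ Q, (¬ ∃ x : G, (x : G ⧸ Q) = q ∧ ¬ p ∣ orderOf x) → F q = 0 :=
        fun q h => dif_neg h
      have hFc : IsClassFunction (G ⧸ Q) F := by
        intro q r
        obtain ⟨y, rfl⟩ := QuotientGroup.mk_surjective r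
        by_cases h : ∃ x : G, (x : G ⧸ Q) = q ∧ ¬ p ∣ orderOf x
        · obtain ⟨x, rfl, hx⟩ := h
          have h1 : ((y : G ⧸ Q) * (x : G ⧸ Q) * (y : G ⧸ Q)⁻¹) = ((y * x * y⁻¹ : G) : G ⧸ Q) := rfl
          rw [h1, hF x hx, hF _ (by rwa [H20.Orth.orderOf_conj])]
          exact isClassFunction_of_isIrr χ.2 x y
        · rw [hF0 _ h, hF0]
          rintro ⟨x, hx1, hx2⟩
          apply h
          refine ⟨y⁻¹ * x * (y⁻¹)⁻¹, ?_, by rwa [H20.Orth.orderOf_conj]⟩
          rw [QuotientGroup.mk_mul, QuotientGroup.mk_mul, hx1, inv_inv, QuotientGroup.mk_inv]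
          group
      have h1 : reg p (χ : G → ℂ) = reg p (fun g : G => F (g : G ⧸ Q)) := by
        funext g
        by_cases h : p ∣ orderOf g
        · rw [reg_not h, reg_not h]
        · rw [reg_of h, reg_of h, hF g h]
      have hFG : IsClassFunction G (fun g : G => F (g : G ⧸ Q)) := fun g h => by
        have := hFc (g : G ⧸ Q) (h : G ⧸ Q)
        exact this
      have h2 : reg p (χ : G → ℂ) = reg p (proj (principalBlock M G) (fun g : G => F (g : G ⧸ Q))) := by
        rw [← proj_reg hM hU hFG, ← h1, proj_reg hM hU (isClassFunction_of_isIrr χ.2),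
          proj_irr _ _ hχ]
      have h3 : (fun g : G => F (g : G ⧸ Q)) = ∑ ψ : IrrCharacter (G ⧸ Q),
          classInner F (ψ : G ⧸ Q → ℂ) • (infl Q ψ : G → ℂ) := by
        funext g
        have := congrFun (mem_classFun_expand hFc) (g : G ⧸ Q)
        rw [this]
        simp only [Finset.sum_apply, Pi.smul_apply]
        rfl
      have h4 : reg p (proj (principalBlock M G) (fun g : G => F (g : G ⧸ Q))) =
          ∑ χ' : IrrCharacter G, (if χ' ∈ principalBlock M G then
            classInner (fun g : G => F (g : G ⧸ Q)) (χ' : G → ℂ) else 0) • reg p (χ' : G → ℂ) := by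
        funext g
        by_cases h : p ∣ orderOf g
        · rw [reg_not h, Finset.sum_apply, Finset.sum_eq_zero]
          intro χ' _
          rw [Pi.smul_apply, reg_not h, smul_zero]
        · rw [reg_of h, proj_eq_sum, Finset.sum_apply]
          refine Finset.sum_congr rfl fun χ' _ => ?_
          rw [Pi.smul_apply, reg_of h, smul_eq_mul]
          split_ifs
          · rfl
          · rw [zero_mul]
      show pRegularPart p (χ : G → ℂ) ∈ W.map (L Q p)
      rw [pRegularPart_eq, h2, h4]
      refine Submodule.sum_mem _ fun χ' _ => ?_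
      by_cases hχ' : χ' ∈ principalBlock M G
      · rw [if_pos hχ']
        by_cases h5 : classInner (fun g : G => F (g : G ⧸ Q)) (χ' : G → ℂ) = 0
        · rw [h5, zero_smul]; exact Submodule.zero_mem _
        · apply Submodule.smul_mem
          have h6 : ∃ ψ : IrrCharacter (G ⧸ Q), χ' = infl Q ψ := by
            by_contra hcon
            push Not at hcon
            apply h5
            rw [h3, H18.CharOrtho.inner_sum_left]
            refine Finset.sum_eq_zero fun ψ _ => ?_
            rw [H18.CharOrtho.inner_smul_left, inner_irr_ne (infl Q ψ).2 χ'.2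
              (fun h => hcon ψ (Subtype.ext h.symm)), mul_zero]
          obtain ⟨ψ, rfl⟩ := h6
          refine ⟨pRegularPart p (ψ : G ⧸ Q → ℂ), Submodule.subset_span ⟨ψ, (hmem ψ).1 hχ', rfl⟩, ?_⟩
          rw [hLinfl, pRegularPart_eq]
      · rw [if_neg hχ', zero_smul]; exact Submodule.zero_mem _
    · rw [hW, Submodule.map_span, Submodule.span_le]
      rintro _ ⟨_, ⟨ψ, hψ, rfl⟩, rfl⟩
      rw [hLinfl]
      exact Submodule.subset_span ⟨infl Q ψ, (hmem ψ).2 hψ, rfl⟩
  have hinj : Function.Injective ((L Q p).domRestrict W) := by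
    rw [← LinearMap.ker_eq_bot, LinearMap.ker_eq_bot']
    rintro ⟨F, hFW⟩ hF
    have hF' : L Q p F = 0 := hF
    apply Subtype.ext
    funext q
    show F q = 0
    by_cases hq : p ∣ orderOf q
    · -- members of W vanish at singular elements
      have : W ≤ LinearMap.ker (LinearMap.proj q : (G ⧸ Q → ℂ) →ₗ[ℂ] ℂ) := by
        rw [hW, Submodule.span_le]
        rintro _ ⟨ψ, _, rfl⟩
        show pRegularPart p (ψ : G ⧸ Q → ℂ) q = 0
        rw [pRegularPart_eq, reg_not hq]
      exact this hFW
    · obtain ⟨x, rfl, hx⟩ := H20.PC.exists_regular_lift Q q hq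
      have := congrFun hF' x
      rw [L_apply, reg_of hx] at this
      exact this
  rw [hVW, ← LinearMap.range_domRestrict]
  exact LinearMap.finrank_range_of_inj hinj

/-- Let Q be a normal p-subgroup of the finite group G with G = Q·C_G(Q), and M a maximal ideal of the algebraic integers containing p. Then the principal p-blocks of G and of G/Q have the same p-regular rank (the same number of irreducible Brauer characters). -/
theorem result {G : Type*} [Group G] [Finite G] (p : ℕ) [Fact p.Prime] (M : Ideal Cfsg.AlgInt) (hM : Cfsg.IsPModular p M) (Q : Subgroup G) [Q.Normal] (hQ : IsPGroup p Q) (hsup : Q ⊔ Subgroup.centralizer (Q : Set G) = ⊤) : Cfsg.blockRank p (Cfsg.principalBlock M G) = Cfsg.blockRank p (Cfsg.principalBlock M (G ⧸ Q)) := by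
  haveI hCn : (Subgroup.centralizer (Q : Set G)).Normal := inferInstance
  apply main hM Q hQ
  intro x hx
  apply H20.PC.regular_mem_of_index (Subgroup.centralizer (Q : Set G)) _ x hx
  -- the index of the centralizer is a power of `p`
  have h1 : (Subgroup.centralizer (Q : Set G)).relIndex Q = (Subgroup.centralizer (Q : Set G)).index := by
    rw [← Subgroup.relIndex_sup_right, hsup, Subgroup.relIndex_top_right]
  rw [← h1]
  have h2 : (Subgroup.centralizer (Q : Set G)).relIndex Q ∣ Nat.card Q := Subgroup.relIndex_dvd_card _ _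
  obtain ⟨n, hn⟩ := (IsPGroup.iff_card).1 hQ
  rw [hn] at h2
  obtain ⟨k, _, hk⟩ := (Nat.dvd_prime_pow Fact.out).1 h2
  exact ⟨k, hk⟩

end Cfsg.Agent.S4571
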