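import Cfsg.Statements.S2989
import Cfsg.Agent.Lib.H55.CLFinal
import Cfsg.Agent.Lib.H53.PU13
import Cfsg.Agent.Lib.H1.Cores

set_option autoImplicit false
open Cfsg

namespace Cfsg.Agent.S2989

/-- Let G be a finite group and S a Sylow p-subgroup of G in the basic pushing-up situation (G ≠ 1, C_G(O_p(G)) ≤ O_p(G), S lies in a unique maximal subgroup of G, and some quotient of G is isomorphic to PSL₂ over a field of order a power of p), and suppose that S centralizes Z(J(S)), where J(S) is generated by the abelian subgroups of S of largest order (that is, J̃(S) = C_S(Z(J(S))) = S). Call a subgroup R of S centrally large if |R|·|Z(R)| is as large as possible among subgroups of S, and let S_Φ be the subgroup generated by the Frattini subgroups Φ(Q) of those minimal centrally large subgroups Q of S whose Ω₁(Z(Q)) has the largest order among minimal centrally large subgroups. Then Z(S) or S_Φ is normal in G; and if S_Φ = 1, the minimal centrally large subgroups of S are exactly the abelian subgroups of S of largest order, and at least one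 of them is elementary abelian. -/
theorem result {G : Type*} [Group G] [Finite G] {p : ℕ} [Fact p.Prime] (S : Subgroup G) (hE : Cfsg.IsPushingUpSituation p S) (hJ : S ≤ Subgroup.centralizer (Cfsg.centerThompsonAOf S : Set G)) : ((S ⊓ Subgroup.centralizer (S : Set G)).Normal ∨ ((Cfsg.frattiniOfMinimalCLJoin p ↥S).map S.subtype).Normal) ∧ (Cfsg.frattiniOfMinimalCLJoin p ↥S = ⊥ → (∀ Q : Subgroup ↥S, Cfsg.IsMinimalCentrallyLarge Q ↔ Q ∈ Cfsg.maxAbelianSubgroups ↥S) ∧ ∃ A ∈ Cfsg.maxAbelianSubgroups ↥S, Cfsg.IsElementaryAbelian p A) := by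
  obtain ⟨-, ⟨P, hP⟩, -, -, -⟩ := id hE
  have core : H55.CLFinal.Core p S (pCore p G) := by
    have hQS : pCore p G ≤ S := by rw [← hP]; exact H1.Cores.pCore_le_sylow P
    refine ⟨Fact.out, by rw [← hP]; exact P.2, inferInstance, hQS, ?_, ?_⟩
    · intro N hN
      exact H53.PU.normal_cases_of hE hN
    · intro hZ A hA hAQ
      obtain ⟨V, V₀, h1, h2, h3, h4, h5, h6, -, -, h9, h10, -, -⟩ := H53.PU.ff_of hE hZ hA hAQ
      refine ⟨V, V₀, ⟨hQS, h2, h3, h4, ?_, h5, h6, h9, h10⟩⟩
      rw [Subgroup.normalizer_eq_top_iff.mpr h1]; exact le_top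
  exact H55.CLFinal.s2989 core hJ

end Cfsg.Agent.S2989
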