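import Cfsg.Statements.S2828
import Cfsg.Agent.Lib.H52.Irr

set_option autoImplicit false
open Cfsg

namespace Cfsg.Agent.S2828

/-- Let H be a finite group, p a prime and D a normal p-subgroup of H. Then H is p-irreducible if and only if H/D is p-irreducible, and H is strongly p-irreducible if and only if H/D is strongly p-irreducible. -/
theorem result {H : Type*} [Group H] [Finite H] {p : ℕ} [Fact p.Prime] (D : Subgroup H) [D.Normal] (hD : IsPGroup p ↥D) : (Cfsg.IsPIrreducible p H ↔ Cfsg.IsPIrreducible p (H ⧸ D)) ∧ (Cfsg.IsStronglyPIrreducible p H ↔ Cfsg.IsStronglyPIrreducible p (H ⧸ D)) := by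
  set f := QuotientGroup.mk' D with hf
  have hfs : Function.Surjective f := QuotientGroup.mk'_surjective D
  have hres : (Cfsg.pResidual p H).map f = Cfsg.pResidual p (H ⧸ D) :=
    H52.PRes.pResidual_map_of_surjective f hfs
  have hback : ∀ N : Subgroup H, N.Normal → Cfsg.pResidual p (H ⧸ D) ≤ N.map f →
      Cfsg.pResidual p H ≤ N := by
    intro N hN h
    rw [← hres, Subgroup.map_le_iff_le_comap, Subgroup.comap_map_eq, hf, QuotientGroup.ker_mk'] at h
    exact H52.Irr.resOf_le_of_le_sup hN hD h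
  have hfwd : ∀ N : Subgroup (H ⧸ D), Cfsg.pResidual p H ≤ N.comap f →
      Cfsg.pResidual p (H ⧸ D) ≤ N := by
    intro N h
    rw [← hres, Subgroup.map_le_iff_le_comap]; exact h
  have hcl := H52.Irr.isPClosed_quotient_iff (G := H) (D := D) hD
  constructor
  · constructor
    · rintro ⟨h1, h2⟩
      refine ⟨fun h => h1 (hcl.1 h), fun N hN hc => hfwd N (h2 _ (hN.comap f) ?_)⟩
      exact fun h => hc ((H52.Irr.isPClosed_comap_iff hD hN).1 h)
    · rintro ⟨h1, h2⟩
      refine ⟨fun h => h1 (hcl.2 h), fun N hN hc => hback N hN (h2 _ (hN.map f hfs) ?_)⟩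
      exact fun h => hc ((H52.Irr.isPClosed_map_iff hD hN).1 h)
  · have htop : (⊤ : Subgroup H).map f = ⊤ := Subgroup.map_top_of_surjective f hfs
    have hmap : ∀ N : Subgroup H, ⁅N.map f, (⊤ : Subgroup (H ⧸ D))⁆ ≤ Cfsg.pCore p (H ⧸ D) ↔
        ⁅N, (⊤ : Subgroup H)⁆ ≤ Cfsg.pCore p H := by
      intro N
      rw [← htop, ← Subgroup.map_commutator]
      exact H52.Irr.map_le_pCore_iff hD
    constructor
    · rintro ⟨h1, h2⟩
      refine ⟨fun h => h1 (hcl.1 h), fun N hN hc => hfwd N (h2 _ (hN.comap f) ?_)⟩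
      intro h
      apply hc
      rw [← hmap, Subgroup.map_comap_eq_self_of_surjective hfs] at h
      exact h
    · rintro ⟨h1, h2⟩
      refine ⟨fun h => h1 (hcl.2 h), fun N hN hc => hback N hN (h2 _ (hN.map f hfs) ?_)⟩
      rwa [hmap]

end Cfsg.Agent.S2828
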