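import Cfsg.Statements.S2843
import Cfsg.Agent.Lib.H52.WC
import Cfsg.Agent.Lib.H52.Trace

set_option autoImplicit false
open Cfsg

namespace Cfsg.Agent.S2843

/-- Let Q be a nontrivial large p-subgroup of the finite group H, Q ≤ L ≤ H, and Y a nontrivial p-subgroup of H normalized by L. Let L° be the weak closure of Q in L (generated by the conjugates of Q inside L). Then L° equals the weak closure of Q in L·C_H(Y), and [L°, C_H(Y)] ≤ O_p(L°); in particular C_H(Y) normalizes L°. -/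
theorem result {H : Type*} [Group H] [Finite H] {p : ℕ} [Fact p.Prime] (Q : Subgroup H) (hQp : IsPGroup p ↥Q) (hQ1 : Q ≠ ⊥) (hL : Cfsg.IsLarge Q) (L : Subgroup H) (hQL : Q ≤ L) (Y : Subgroup H) (hYp : IsPGroup p ↥Y) (hY1 : Y ≠ ⊥) (hLY : L ≤ Subgroup.normalizer ((Y : Subgroup H) : Set H)) : Cfsg.weakClosure Q L = Cfsg.weakClosure Q (L ⊔ Subgroup.centralizer ((Y : Subgroup H) : Set H)) ∧ ⁅Cfsg.weakClosure Q L, Subgroup.centralizer ((Y : Subgroup H) : Set H)⁆ ≤ (Cfsg.pCoreOf p (Cfsg.weakClosure Q L)) ∧ Subgroup.centralizer ((Y : Subgroup H) : Set H) ≤ Subgroup.normalizer (((Cfsg.weakClosure Q L) : Subgroup H) : Set H) := by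
  have hwc := H52.WC.wc_of_isLarge (p := p) hQ1 hL
  obtain ⟨C, hC⟩ : ∃ C : Subgroup H, C = Subgroup.centralizer (Y : Set H) := ⟨_, rfl⟩
  rw [← hC]
  have hLC : L ≤ Subgroup.normalizer (C : Set H) := by
    rw [hC]; exact hLY.trans (H52.Syl.normalizer_le_normalizer_centralizer Y)
  -- `C` normalizes `Q`
  have hCQ : C ≤ Subgroup.normalizer (Q : Set H) := by
    obtain ⟨y, hyY, hy1, hyQ⟩ : ∃ y ∈ Y, y ≠ 1 ∧ y ∈ Subgroup.centralizer (Q : Set H) := by
      have h0 := H52.Trace.exists_ne_of_pGroup_action hYp hQp (hQL.trans hLY) hY1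
      rw [Ne, Subgroup.eq_bot_iff_forall] at h0
      push Not at h0
      obtain ⟨y, hy, hy1⟩ := h0
      exact ⟨y, (Subgroup.mem_inf.1 hy).1, hy1, (Subgroup.mem_inf.1 hy).2⟩
    refine le_trans ?_ (H52.WC.centralizer_le_normalizer_of_isLarge hL hy1 hyQ)
    rw [hC]
    exact Subgroup.centralizer_le (by simpa using hyY)
  have hCl : ∀ l ∈ L, C ≤ Subgroup.normalizer (H52.Syl.cj l Q : Set H) := by
    intro l hl
    rw [← H52.Syl.cj_normalizer, H52.Syl.le_cj_iff, H52.Syl.cj_eq_of_mem_normalizer (hLC (inv_mem hl))]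
    exact hCQ
  have hCn : C ≤ Subgroup.normalizer (H52.YL.ncl L Q : Set H) := by
    intro c hc
    apply H52.Syl.mem_normalizer_of_cj_le
    rw [H52.Syl.cj_le_iff, H52.YL.ncl_le_iff]
    intro l hl
    rw [H52.Syl.le_cj_iff, inv_inv, H52.Syl.cj_eq_of_mem_normalizer (hCl l hl hc)]
    exact H52.YL.cj_le_ncl hl
  have h1 : Cfsg.weakClosure Q L = H52.YL.ncl L Q := hwc.weakClosure_eq_ncl hQp hQL
  have h2 : Cfsg.weakClosure Q (L ⊔ C) = H52.YL.ncl (L ⊔ C) Q :=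
    hwc.weakClosure_eq_ncl hQp (hQL.trans le_sup_left)
  have h3 : H52.YL.ncl (L ⊔ C) Q = H52.YL.ncl L Q := by
    apply le_antisymm
    · exact H52.YL.ncl_le (H52.YL.le_ncl _ _) (sup_le (H52.YL.le_normalizer_ncl _ _) hCn)
    · exact H52.YL.ncl_mono le_sup_left le_rfl
  rw [h1, h2, h3]
  refine ⟨rfl, ?_, hCn⟩
  obtain ⟨Lo, hLo⟩ : ∃ Lo : Subgroup H, Lo = H52.YL.ncl L Q := ⟨_, rfl⟩
  rw [← hLo] at hCn ⊢
  obtain ⟨W, hW⟩ : ∃ W : Subgroup H, W = Cfsg.pCoreOf p (Lo ⊓ C) := ⟨_, rfl⟩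
  have hLLo : L ≤ Subgroup.normalizer (Lo : Set H) := by rw [hLo]; exact H52.YL.le_normalizer_ncl _ _
  have hLoL : Lo ≤ L := by rw [hLo]; exact H52.YL.ncl_le_self hQL
  have hLoC : Lo ≤ Subgroup.normalizer (C : Set H) := hLoL.trans hLC
  have hLoLoC : Lo ≤ Subgroup.normalizer ((Lo ⊓ C : Subgroup H) : Set H) := by
    intro x hx
    exact H52.Syl.normalizer_inf_le (Subgroup.mem_inf.2 ⟨Subgroup.le_normalizer hx, hLoC hx⟩)
  have hLLoC : L ≤ Subgroup.normalizer ((Lo ⊓ C : Subgroup H) : Set H) := by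
    intro x hx
    exact H52.Syl.normalizer_inf_le (Subgroup.mem_inf.2 ⟨hLLo hx, hLC hx⟩)
  have hCLoC : C ≤ Subgroup.normalizer ((Lo ⊓ C : Subgroup H) : Set H) := by
    intro x hx
    exact H52.Syl.normalizer_inf_le (Subgroup.mem_inf.2 ⟨hCn hx, Subgroup.le_normalizer hx⟩)
  have hLW : L ≤ Subgroup.normalizer (W : Set H) := by
    rw [hW]; exact hLLoC.trans (H52.PCore.normalizer_le_normalizer_pCoreOf _)
  have hCW : C ≤ Subgroup.normalizer (W : Set H) := by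
    rw [hW]; exact hCLoC.trans (H52.PCore.normalizer_le_normalizer_pCoreOf _)
  have hWLo : W ≤ Cfsg.pCoreOf p Lo := by
    apply H52.PCore.le_pCoreOf
    · rw [hW]; exact (H52.PCore.pCoreOf_le _).trans inf_le_left
    · exact hLoL.trans hLW
    · rw [hW]; exact H52.PCore.isPGroup_pCoreOf _
  refine le_trans ?_ hWLo
  rw [Subgroup.commutator_comm]
  conv_lhs => rw [hLo]
  rw [← H52.Sub.le_cmod_iff ((H52.YL.ncl_le_self hQL).trans hLW), H52.YL.ncl_le_iff]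
  intro l hl
  have hlLo : H52.Syl.cj l Q ≤ Lo := by rw [hLo]; exact H52.YL.cj_le_ncl hl
  rw [H52.Sub.le_cmod_iff ((hlLo.trans hLoL).trans hLW)]
  have h4 : ⁅C, H52.Syl.cj l Q⁆ ≤ H52.Syl.cj l Q ⊓ C := by
    apply le_inf
    · rw [Subgroup.commutator_comm]; exact Subgroup.le_normalizer_iff_commutator_le_left.1 (hCl l hl)
    · exact Subgroup.le_normalizer_iff_commutator_le_left.1 ((hlLo.trans hLoL).trans hLC)
  refine h4.trans ?_
  rw [hW]
  apply H52.PCore.le_pCoreOf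
  · exact inf_le_inf_right _ hlLo
  · intro x hx
    obtain ⟨hx1, hx2⟩ := Subgroup.mem_inf.1 hx
    exact H52.Syl.normalizer_inf_le (Subgroup.mem_inf.2 ⟨hCl l hl hx2, Subgroup.le_normalizer hx2⟩)
  · exact (H52.Syl.isPGroup_cj hQp).to_le inf_le_left

end Cfsg.Agent.S2843
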