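import Cfsg.Statements.S2838
import Cfsg.Agent.Lib.H52.WC

set_option autoImplicit false
open Cfsg

namespace Cfsg.Agent.S2838

/-- For a nontrivial p-subgroup Q of a finite group H the following are equivalent: Q is a weakly closed subgroup (it is the only H-conjugate of itself inside some Sylow p-subgroup containing it); Q = P for every conjugate P of Q with [Q, P] ≤ Q ∩ P; Q is normal in N_H(R) for every p-subgroup R of H containing Q. -/
theorem result {H : Type*} [Group H] [Finite H] {p : ℕ} [Fact p.Prime] (Q : Subgroup H) (hQp : IsPGroup p ↥Q) (hQ1 : Q ≠ ⊥) : (Cfsg.IsWeaklyClosedSubgroup p Q ↔ ∀ g : H, ⁅Q, ((Q : Subgroup H).map (MulAut.conj (g : H)).toMonoidHom)⁆ ≤ Q ⊓ ((Q : Subgroup H).map (MulAut.conj (g : H)).toMonoidHom) → ((Q : Subgroup H).map (MulAut.conj (g : H)).toMonoidHom) = Q) ∧ (Cfsg.IsWeaklyClosedSubgroup p Q ↔ ∀ R : Subgroup H, IsPGroup p ↥R → Q ≤ R → Subgroup.normalizer ((R : Subgroup H) : Set H) ≤ Subgroup.normalizer ((Q : Subgroup H) : Set H)) := by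
  have hconj : ∀ g : H, (Q : Subgroup H).map (MulAut.conj (g : H)).toMonoidHom = H52.Syl.cj g Q := fun g => rfl
  rw [H52.WC.iff_WC hQp]
  simp only [hconj]
  -- condition (c) implies weak closure
  have hc : (∀ R : Subgroup H, IsPGroup p ↥R → Q ≤ R →
      Subgroup.normalizer ((R : Subgroup H) : Set H) ≤ Subgroup.normalizer ((Q : Subgroup H) : Set H)) →
      H52.WC.WC p Q := by
    intro h R hR hQR g hg
    obtain ⟨T, hT⟩ := hR.exists_le_sylow
    have h1 := h T T.isPGroup' (hQR.trans hT)
    have h2 : Q ≤ H52.Syl.cj g⁻¹ T := by rw [H52.Syl.le_cj_iff, inv_inv]; exact hg.trans hT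
    have h3 : H52.Syl.SylIn p (H52.Syl.cj g⁻¹ (T : Subgroup H)) ⊤ := by
      have := (H52.Syl.sylIn_top T).cj g⁻¹
      rwa [H52.Syl.cj_normal (inferInstance : (⊤ : Subgroup H).Normal)] at this
    have h4 := h _ h3.isPGroup h2
    have h5 : H52.Syl.SylIn p (T : Subgroup H) (Subgroup.normalizer (Q : Set H)) :=
      (H52.Syl.sylIn_top T).of_le (Subgroup.le_normalizer.trans h1) le_top
    have h6 : H52.Syl.SylIn p (H52.Syl.cj g⁻¹ (T : Subgroup H)) (Subgroup.normalizer (Q : Set H)) :=
      h3.of_le (Subgroup.le_normalizer.trans h4) le_top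
    obtain ⟨n, hn, he⟩ := h5.conj h6
    have h7 : n⁻¹ * g⁻¹ ∈ Subgroup.normalizer ((T : Subgroup H) : Set H) := by
      apply H52.Syl.mem_normalizer_of_cj_eq
      rw [← H52.Syl.cj_cj, he, H52.Syl.cj_inv_cj]
    have h8 : g⁻¹ ∈ Subgroup.normalizer (Q : Set H) := by
      have : g⁻¹ = n * (n⁻¹ * g⁻¹) := by group
      rw [this]
      exact mul_mem hn (h1 h7)
    exact H52.Syl.cj_eq_of_mem_normalizer (by simpa using inv_mem h8)
  refine ⟨⟨?_, ?_⟩, ⟨?_, hc⟩⟩
  · intro h g hg
    have h1 : Q ≤ Subgroup.normalizer (H52.Syl.cj g Q : Set H) := by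
      rw [Subgroup.le_normalizer_iff_commutator_le_left, Subgroup.commutator_comm]
      exact hg.trans inf_le_right
    have h2 : IsPGroup p ((Q ⊔ H52.Syl.cj g Q : Subgroup H)) :=
      hQp.to_sup_of_normal_right' (H52.Syl.isPGroup_cj hQp) h1
    exact h _ h2 le_sup_left g le_sup_right
  · intro h
    -- `Q` is normal in every Sylow subgroup containing it
    have h0 : ∀ x : H, ∀ T : Sylow p H, H52.Syl.cj x Q ≤ T →
        (T : Subgroup H) ≤ Subgroup.normalizer (H52.Syl.cj x Q : Set H) := by
      intro x T hxT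
      set Q' := H52.Syl.cj x Q with hQ'
      have h' : ∀ g : H, ⁅Q', H52.Syl.cj g Q'⁆ ≤ Q' ⊓ H52.Syl.cj g Q' → H52.Syl.cj g Q' = Q' := by
        intro g hg
        have h1 := h (x⁻¹ * (g * x)) (by
          have := H52.Syl.cj_mono (g := x⁻¹) hg
          rw [H52.Syl.cj_commutator, H52.Syl.cj_inf, hQ', H52.Syl.cj_inv_cj, H52.Syl.cj_cj, H52.Syl.cj_cj, mul_assoc] at this
          exact this)
        rw [← H52.Syl.cj_cj, ← H52.Syl.cj_inj (g := x), H52.Syl.cj_cj_inv, ← H52.Syl.cj_cj] at h1
        exact h1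
      by_contra hne
      set N := (T : Subgroup H) ⊓ Subgroup.normalizer (Q' : Set H) with hN
      have hNT : N < T := lt_of_le_of_ne inf_le_left (fun he => hne (by rw [← he]; exact inf_le_right))
      have hnc : Group.IsNilpotent (T : Subgroup H) := T.isPGroup'.isNilpotent
      have h2 : N.subgroupOf T < Subgroup.normalizer ((N.subgroupOf T : Subgroup T) : Set T) := by
        apply Group.normalizerCondition_of_isNilpotent
        rw [lt_top_iff_ne_top, Ne, Subgroup.subgroupOf_eq_top]
        exact not_le_of_gt hNT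
      obtain ⟨y, hy1, hy2⟩ := SetLike.exists_of_lt h2
      have hyN : (y : H) ∉ N := fun hh => hy2 (by rwa [Subgroup.mem_subgroupOf])
      have hyN' : (y : H) ∈ Subgroup.normalizer (N : Set H) := by
        rw [Subgroup.mem_normalizer_iff] at hy1 ⊢
        intro z
        constructor
        · intro hz
          have := (hy1 ⟨z, hNT.le hz⟩).1 (by rwa [Subgroup.mem_subgroupOf])
          rw [Subgroup.mem_subgroupOf] at this
          exact this
        · intro hz
          have hzT : z ∈ (T : Subgroup H) := by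
            have h3 : (y : H)⁻¹ * (y * z * (y : H)⁻¹) * y ∈ (T : Subgroup H) :=
              mul_mem (mul_mem (inv_mem y.2) (hNT.le hz)) y.2
            have h4 : (y : H)⁻¹ * (y * z * (y : H)⁻¹) * y = z := by group
            rwa [h4] at h3
          have := (hy1 ⟨z, hzT⟩).2 (by rw [Subgroup.mem_subgroupOf]; exact hz)
          rwa [Subgroup.mem_subgroupOf] at this
      apply hyN
      refine Subgroup.mem_inf.2 ⟨y.2, H52.Syl.mem_normalizer_of_cj_eq (h' y ?_)⟩
      have hQN : Q' ≤ N := le_inf hxT Subgroup.le_normalizer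
      have hyQN : H52.Syl.cj (y : H) Q' ≤ N := by
        calc H52.Syl.cj (y : H) Q' ≤ H52.Syl.cj (y : H) N := H52.Syl.cj_mono hQN
          _ = N := H52.Syl.cj_eq_of_mem_normalizer hyN'
      refine le_inf ?_ ?_
      · rw [← Subgroup.le_normalizer_iff_commutator_le_left]
        exact hyQN.trans inf_le_right
      · rw [Subgroup.commutator_comm, ← Subgroup.le_normalizer_iff_commutator_le_left]
        have h5 : H52.Syl.cj (y : H) N ≤ H52.Syl.cj (y : H) (Subgroup.normalizer (Q' : Set H)) :=
          H52.Syl.cj_mono inf_le_right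
        rw [H52.Syl.cj_eq_of_mem_normalizer hyN', H52.Syl.cj_normalizer] at h5
        exact hQN.trans h5
    intro R hR hQR g hg
    obtain ⟨T, hT⟩ := hR.exists_le_sylow
    have h1 : (T : Subgroup H) ≤ Subgroup.normalizer (Q : Set H) := by
      have := h0 1 T (by rw [H52.Syl.cj_one]; exact hQR.trans hT)
      rwa [H52.Syl.cj_one] at this
    have h2 := h0 g T (hg.trans hT)
    apply h
    refine le_inf ?_ ?_
    · rw [← Subgroup.le_normalizer_iff_commutator_le_left]
      exact (hg.trans hT).trans h1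
    · rw [Subgroup.commutator_comm, ← Subgroup.le_normalizer_iff_commutator_le_left]
      exact (hQR.trans hT).trans h2
  · intro h R hR hQR
    exact h.normalizer_le hR hQR

end Cfsg.Agent.S2838
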