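import Cfsg.Statements.S2842
import Cfsg.Agent.Lib.H52.WC

set_option autoImplicit false
open Cfsg

namespace Cfsg.Agent.S2842

open H53.CharP in
theorem cp_step {H : Type*} [Group H] [Finite H] {p : ℕ} [Fact p.Prime] {A B : Subgroup H} (hAB : A ≤ B)
    (hB : IsPGroup p B) (hn : B ≤ Subgroup.normalizer (A : Set H)) (h : CP p (Subgroup.normalizer (A : Set H))) :
    CP p (Subgroup.normalizer (B : Set H)) := by
  have h1 := h.inf_normalizer hB hn
  apply CP.normalizer_of_centralizer hB
  refine h1.of_normal (le_inf ?_ (H52.Syl.centralizer_le_normalizer B)) ?_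
  · exact (Subgroup.centralizer_le hAB).trans (H52.Syl.centralizer_le_normalizer A)
  · exact inf_le_right.trans (H52.Syl.normalizer_le_normalizer_centralizer B)

open H53.CharP in
theorem cp_of_le {H : Type*} [Group H] [Finite H] {p : ℕ} [Fact p.Prime] {A B : Subgroup H} (hAB : A ≤ B)
    (hB : IsPGroup p B) (h : CP p (Subgroup.normalizer (A : Set H))) :
    CP p (Subgroup.normalizer (B : Set H)) := by
  have key : ∀ X : Subgroup ↥B, X.IsSubnormal → CP p (Subgroup.normalizer ((X.map B.subtype : Subgroup H) : Set H)) →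
      CP p (Subgroup.normalizer (B : Set H)) := by
    intro X hX
    induction hX with
    | top => intro h1; rwa [← MonoidHom.range_eq_map, Subgroup.range_subtype] at h1
    | step A' B' h_le _ hN ih =>
      intro h1
      apply ih
      refine cp_step (Subgroup.map_mono h_le) (hB.to_le (Subgroup.map_subtype_le _)) ?_ h1
      have h2 := (H52.PCore.normal_subOf_iff h_le).1 hN
      rintro _ ⟨b, hb, rfl⟩
      have h3 := h2 hb
      apply H52.Syl.mem_normalizer_of_cj_eq
      have h4 := H52.Syl.cj_eq_of_mem_normalizer h3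
      have h5 : H52.Syl.cj (B.subtype b) (A'.map B.subtype) = (H52.Syl.cj b A').map B.subtype := by
        unfold H52.Syl.cj
        rw [Subgroup.map_map, Subgroup.map_map]
        congr 1
      rw [h5, h4]
  apply key (A.subgroupOf B) (H52.Sub.isSubnormal_of_isPGroup hB _)
  rwa [Subgroup.subgroupOf_map_subtype, inf_eq_left.2 hAB]

/-- Let Q be a nontrivial p-subgroup of the finite group H that is a weakly closed subgroup with C_H(Q) ≤ Q, and Q ≤ L ≤ H. Suppose H has characteristic p, or more generally that C_H(y) has characteristic p for some nonidentity y ∈ C_{O_p(L)}(Q). Then [Q, C_H(O_p(L))] ≤ Q ∩ O_p(L), C_H(O_p(L)) is a p-group, and L has characteristic p. -/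
theorem result {H : Type*} [Group H] [Finite H] {p : ℕ} [Fact p.Prime] (Q : Subgroup H) (hQp : IsPGroup p ↥Q) (hQ1 : Q ≠ ⊥) (hwc : Cfsg.IsWeaklyClosedSubgroup p Q) (hCQ : Subgroup.centralizer ((Q : Subgroup H) : Set H) ≤ Q) (L : Subgroup H) (hQL : Q ≤ L) (hyp : Subgroup.centralizer (Cfsg.pCore p H : Set H) ≤ Cfsg.pCore p H ∨ ∃ y : H, y ≠ 1 ∧ y ∈ (Cfsg.pCoreOf p L) ⊓ Subgroup.centralizer ((Q : Subgroup H) : Set H) ∧ Subgroup.centralizer (Cfsg.pCore p ↥(Subgroup.centralizer ({y} : Set H)) : Set ↥(Subgroup.centralizer ({y} : Set H))) ≤ Cfsg.pCore p ↥(Subgroup.centralizer ({y} : Set H))) : ⁅Q, Subgroup.centralizer (((Cfsg.pCoreOf p L) : Subgroup H) : Set H)⁆ ≤ Q ⊓ (Cfsg.pCoreOf p L) ∧ IsPGroup p ↥(Subgroup.centralizer (((Cfsg.pCoreOf p L) : Subgroup H) : Set H)) ∧ Subgroup.centralizer (Cfsg.pCore p ↥L : Set ↥L) ≤ Cfsg.pCore p ↥L := by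
  rw [H52.WC.iff_WC hQp] at hwc
  have hcp : H53.CharP.CP p (Subgroup.normalizer ((Cfsg.pCoreOf p L : Subgroup H) : Set H)) := by
    rcases hyp with h | ⟨y, hy1, hy2, hy3⟩
    · have h1 : H53.CharP.CP p (⊤ : Subgroup H) := by
        exact H52.Cop.charP_top_iff.1 h
      have h2 := h1.inf_normalizer (H52.PCore.isPGroup_pCoreOf (p := p) L) le_top
      rwa [top_inf_eq] at h2
    · obtain ⟨hyP, hyQ⟩ := Subgroup.mem_inf.1 hy2
      have h1 : H53.CharP.CP p (Subgroup.centralizer ({y} : Set H)) := H53.CharP.cp_iff.2 hy3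
      have hzP : Subgroup.zpowers y ≤ Cfsg.pCoreOf p L := by rwa [Subgroup.zpowers_le]
      have h2 : H53.CharP.CP p (Subgroup.normalizer ((Subgroup.zpowers y : Subgroup H) : Set H)) := by
        refine H53.CharP.CP.normalizer_of_central ((H52.PCore.isPGroup_pCoreOf (p := p) L).to_le hzP)
          (Subgroup.mem_zpowers y) ?_ h1
        rintro _ ⟨n, rfl⟩
        exact ((Commute.refl y).zpow_left n)
      exact cp_of_le hzP (H52.PCore.isPGroup_pCoreOf L) h2
  obtain ⟨h1, h2, h3⟩ := H52.WC.core hQp hwc hCQ hQL hcp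
  exact ⟨h1, h2, H53.CharP.cp_iff.1 h3⟩

end Cfsg.Agent.S2842
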