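import Cfsg.Statements.S2845
import Cfsg.Agent.Lib.H52.WC
import Cfsg.Agent.Lib.H52.Trace
import Cfsg.Agent.S2842

set_option autoImplicit false
open Cfsg

namespace Cfsg.Agent.S2845

theorem pCore_ne_bot_iff {H : Type*} [Group H] {p : ℕ} {L : Subgroup H} :
    Cfsg.pCore p ↥L ≠ ⊥ ↔ Cfsg.pCoreOf p L ≠ ⊥ := by
  rw [Ne, Ne, H52.PCore.pCoreOf_eq_bot_iff]

theorem main {H : Type*} [Group H] [Finite H] {p : ℕ} [Fact p.Prime] {Q : Subgroup H} (hQp : IsPGroup p ↥Q)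
    (hQ1 : Q ≠ ⊥) (hL : Cfsg.IsLarge Q) (L : Subgroup H) (hQL : Q ≤ L) (h1 : Cfsg.pCoreOf p L ≠ ⊥) :
    IsPGroup p ↥(Subgroup.centralizer (((Cfsg.pCoreOf p L) : Subgroup H) : Set H)) ∧
      Subgroup.centralizer (Cfsg.pCore p ↥L : Set ↥L) ≤ Cfsg.pCore p ↥L := by
  have hwc := H52.WC.wc_of_isLarge (p := p) hQ1 hL
  have hwc' : Cfsg.IsWeaklyClosedSubgroup p Q := (H52.WC.iff_WC hQp).2 hwc
  obtain ⟨y, hyY, hy1, hyQ⟩ : ∃ y ∈ Cfsg.pCoreOf p L, y ≠ 1 ∧ y ∈ Subgroup.centralizer (Q : Set H) := by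
    have h0 := H52.Trace.exists_ne_of_pGroup_action (H52.PCore.isPGroup_pCoreOf L) hQp
      (hQL.trans (H52.PCore.le_normalizer_pCoreOf L)) h1
    rw [Ne, Subgroup.eq_bot_iff_forall] at h0
    push Not at h0
    obtain ⟨y, hy, hy1⟩ := h0
    exact ⟨y, (Subgroup.mem_inf.1 hy).1, hy1, (Subgroup.mem_inf.1 hy).2⟩
  have h2 := Cfsg.Agent.S2842.result Q hQp hQ1 hwc' hL.1 L hQL (Or.inr ⟨y, hy1, Subgroup.mem_inf.2 ⟨hyY, hyQ⟩,
    H53.CharP.cp_iff.1 (H52.WC.cp_centralizer_of_isLarge hQp hL hy1 hyQ)⟩)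
  exact ⟨h2.2.1, h2.2.2⟩

/-- Let Q be a nontrivial large p-subgroup of the finite group H. Then for every subgroup L ≥ Q with O_p(L) ≠ 1, C_H(O_p(L)) is a p-group and L has characteristic p, and either the weak closure L° of Q in L equals Q or C_H(L°) = 1; for every subgroup R of H containing a Sylow p-subgroup of H with O_p(R) ≠ 1, C_H(O_p(R)) ≤ O_p(R); and H has parabolic characteristic p. -/
theorem result {H : Type*} [Group H] [Finite H] {p : ℕ} [Fact p.Prime] (Q : Subgroup H) (hQp : IsPGroup p ↥Q) (hQ1 : Q ≠ ⊥) (hL : Cfsg.IsLarge Q) : (∀ L : Subgroup H, Q ≤ L → Cfsg.pCore p ↥L ≠ ⊥ → IsPGroup p ↥(Subgroup.centralizer (((Cfsg.pCoreOf p L) : Subgroup H) : Set H)) ∧ Subgroup.centralizer (Cfsg.pCore p ↥L : Set ↥L) ≤ Cfsg.pCore p ↥L ∧ (Cfsg.weakClosure Q L = Q ∨ Subgroup.centralizer (((Cfsg.weakClosure Q L) : Subgroup H) : Set H) = ⊥)) ∧ (∀ R : Subgroup H, Cfsg.IsParabolic p R → Cfsg.pCore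 p ↥R ≠ ⊥ → Subgroup.centralizer (((Cfsg.pCoreOf p R) : Subgroup H) : Set H) ≤ (Cfsg.pCoreOf p R)) ∧ Cfsg.IsOfParabolicCharacteristic p H := by
  have hwc := H52.WC.wc_of_isLarge (p := p) hQ1 hL
  -- the parabolic part
  have hpar : ∀ R : Subgroup H, Cfsg.IsParabolic p R → Cfsg.pCore p ↥R ≠ ⊥ →
      Subgroup.centralizer (((Cfsg.pCoreOf p R) : Subgroup H) : Set H) ≤ (Cfsg.pCoreOf p R) := by
    rintro R ⟨T, hT⟩ hR
    obtain ⟨g, -, hg⟩ := (H52.Syl.sylIn_top T).exists_conj_le le_top hQp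
    set Q' := H52.Syl.cj g⁻¹ Q with hQ'
    have hQ'T : Q' ≤ T := by rw [hQ', H52.Syl.cj_le_iff, inv_inv]; exact hg
    have hQ'p : IsPGroup p Q' := H52.Syl.isPGroup_cj hQp
    have hQ'1 : Q' ≠ ⊥ := by
      intro h0; apply hQ1
      have : H52.Syl.cj g Q' = H52.Syl.cj g ⊥ := by rw [h0]
      rw [hQ', H52.Syl.cj_cj_inv] at this
      rw [this]; exact Subgroup.map_bot _
    obtain ⟨h1, h2⟩ := main hQ'p hQ'1 (H52.WC.isLarge_cj hL g⁻¹) R (hQ'T.trans hT) (pCore_ne_bot_iff.1 hR)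
    -- `C_H(O_p(R))` is a `p`-group normalized by `T`
    set C := Subgroup.centralizer (((Cfsg.pCoreOf p R) : Subgroup H) : Set H) with hC
    have hRC : R ≤ Subgroup.normalizer (C : Set H) :=
      (H52.PCore.le_normalizer_pCoreOf R).trans (H52.Syl.normalizer_le_normalizer_centralizer _)
    have h3 : IsPGroup p ((T : Subgroup H) ⊔ C : Subgroup H) :=
      T.isPGroup'.to_sup_of_normal_right' h1 (hT.trans hRC)
    have h4 : C ≤ T := le_sup_right.trans (T.is_maximal' h3 le_sup_left).le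
    exact H52.PCore.le_pCoreOf (h4.trans hT) hRC h1
  refine ⟨?_, hpar, ?_⟩
  · intro L hQL hL1
    obtain ⟨h1, h2⟩ := main hQp hQ1 hL L hQL (pCore_ne_bot_iff.1 hL1)
    refine ⟨h1, h2, ?_⟩
    rw [hwc.weakClosure_eq_ncl hQp hQL]
    by_cases hn : L ≤ Subgroup.normalizer (Q : Set H)
    · left; exact H52.YL.ncl_eq_self hn
    · right
      rw [SetLike.not_le_iff_exists] at hn
      obtain ⟨l, hl, hlQ⟩ := hn
      rw [eq_bot_iff, ← H52.WC.centralizer_inf_eq_bot hQp hQ1 hL hlQ]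
      exact le_inf (Subgroup.centralizer_le (H52.YL.le_ncl _ _)) (Subgroup.centralizer_le (H52.YL.cj_le_ncl hl))
  · intro R hR hR1 hRpar
    rw [H52.Cop.charP_iff]
    have h1 : R ≤ Cfsg.pCoreOf p (Subgroup.normalizer (R : Set H)) :=
      H52.PCore.le_pCoreOf Subgroup.le_normalizer le_rfl hR
    have h2 : Cfsg.pCoreOf p (Subgroup.normalizer (R : Set H)) ≠ ⊥ := by
      intro h0; apply hR1; rw [eq_bot_iff, ← h0]; exact h1
    exact inf_le_right.trans (hpar _ hRpar (pCore_ne_bot_iff.2 h2))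

end Cfsg.Agent.S2845
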