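import Cfsg.Statements.S2839
import Cfsg.Agent.Lib.H52.WC

set_option autoImplicit false
open Cfsg

namespace Cfsg.Agent.S2839

/-- Let Q be a nontrivial p-subgroup of the finite group H that is a weakly closed subgroup, K a subgroup containing Q and N a normal subgroup of H. Then Q is a weakly closed subgroup of K; every H-conjugate of Q contained in K is a K-conjugate of Q; N_K(Q) contains a Sylow p-subgroup of K; N = N_N(Q)·O^p(N); and QN/N is a weakly closed subgroup of H/N. -/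
theorem result {H : Type*} [Group H] [Finite H] {p : ℕ} [Fact p.Prime] (Q : Subgroup H) (hQp : IsPGroup p ↥Q) (hQ1 : Q ≠ ⊥) (hwc : Cfsg.IsWeaklyClosedSubgroup p Q) (K : Subgroup H) (hQK : Q ≤ K) (N' : Subgroup H) [N'.Normal] : Cfsg.IsWeaklyClosedSubgroup p (Q.subgroupOf K) ∧ (∀ g : H, ((Q : Subgroup H).map (MulAut.conj (g : H)).toMonoidHom) ≤ K → ∃ k ∈ K, ((Q : Subgroup H).map (MulAut.conj (g : H)).toMonoidHom) = ((Q : Subgroup H).map (MulAut.conj (k : H)).toMonoidHom)) ∧ Cfsg.IsParabolic p ((Subgroup.normalizer ((Q : Subgroup H) : Set H)).subgroupOf K) ∧ (N' ⊓ Subgroup.normalizer ((Q : Subgroup H) : Set H)) ⊔ (Cfsg.pResidual p ↥N').map N'.subtype = N' ∧ Cfsg.IsWeaklyClosedSubgroup p (Q.map (QuotientGroup.mk' N')) := by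
  have hconj : ∀ g : H, (Q : Subgroup H).map (MulAut.conj (g : H)).toMonoidHom = H52.Syl.cj g Q := fun g => rfl
  rw [H52.WC.iff_WC hQp] at hwc
  simp only [hconj]
  have hsub : ∀ (A : Subgroup ↥K), (A.map K.subtype).subgroupOf K = A := fun A =>
    Subgroup.comap_map_eq_self_of_injective K.subtype_injective A
  have hcjm : ∀ (k : ↥K) (A : Subgroup ↥K), (H52.Syl.cj k A).map K.subtype = H52.Syl.cj (k : H) (A.map K.subtype) := by
    intro k A
    unfold H52.Syl.cj
    rw [Subgroup.map_map, Subgroup.map_map]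
    congr 1
  have hQmap : (Q.subgroupOf K).map K.subtype = Q := by
    rw [Subgroup.subgroupOf_map_subtype, inf_eq_left.2 hQK]
  refine ⟨?_, ?_, ?_, ?_, ?_⟩
  · have hQs : IsPGroup p ↥(Q.subgroupOf K) := hQp.comap_subtype
    rw [H52.WC.iff_WC hQs]
    intro R hR hQR g hg
    have h1 : H52.Syl.cj (g : H) Q = Q := by
      apply hwc (R.map K.subtype) (hR.map _)
      · rw [← hQmap]; exact Subgroup.map_mono hQR
      · rw [← hQmap, ← hcjm]; exact Subgroup.map_mono hg
    apply Subgroup.map_injective K.subtype_injective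
    show (H52.Syl.cj g (Q.subgroupOf K)).map K.subtype = _
    rw [hcjm, hQmap, h1]
  · intro g hg
    exact hwc.conj hQp hQK hg
  · obtain ⟨S, hS, hQS⟩ := H52.Syl.exists_sylIn_le hQK hQp
    obtain ⟨P, hP⟩ := hS.subgroupOf
    refine ⟨P, ?_⟩
    rw [hP]
    intro x hx
    rw [Subgroup.mem_subgroupOf] at hx ⊢
    exact hwc.sylIn_le_normalizer hS.isPGroup hQS hx
  · have hle : (Cfsg.pResidual p ↥N').map N'.subtype ≤ N' := Subgroup.map_subtype_le _
    apply le_antisymm (sup_le inf_le_left hle)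
    -- Sylow subgroup of N Q containing Q
    obtain ⟨S, hS, hQS⟩ := H52.Syl.exists_sylIn_le (p := p) (L := N' ⊔ Q) le_sup_right hQp
    have h1 := hwc.sylIn_le_normalizer hS.isPGroup hQS
    have h2 : H52.Syl.SylIn p (S ⊓ N') N' := hS.inf_normal le_sup_left (by
      rw [Subgroup.normalizer_eq_top_iff.2 inferInstance]; exact le_top)
    have h3 := h2.sup_resOf_eq
    calc N' = S ⊓ N' ⊔ H52.PRes.resOf p N' := h3.symm
      _ ≤ _ := by
        refine sup_le_sup (le_inf inf_le_right (inf_le_left.trans h1)) ?_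
        exact le_rfl
  · have hker : (QuotientGroup.mk' N').ker = N' := QuotientGroup.ker_mk' N'
    rw [H52.WC.iff_WC (hQp.map _)]
    intro R hR hQR g hg
    obtain ⟨g, rfl⟩ := QuotientGroup.mk'_surjective N' g
    have hcm : ∀ (x : H) (A : Subgroup H), H52.Syl.cj (QuotientGroup.mk' N' x) (A.map (QuotientGroup.mk' N')) =
        (H52.Syl.cj x A).map (QuotientGroup.mk' N') := by
      intro x A
      unfold H52.Syl.cj
      rw [Subgroup.map_map, Subgroup.map_map]
      congr 1
    rw [hcm] at hg ⊢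
    set M := R.comap (QuotientGroup.mk' N') with hM
    have hQM : Q ≤ M := Subgroup.map_le_iff_le_comap.1 hQR
    have hgM : H52.Syl.cj g Q ≤ M := Subgroup.map_le_iff_le_comap.1 hg
    obtain ⟨T, hT, hQT⟩ := H52.Syl.exists_sylIn_le hQM hQp
    obtain ⟨m, hm, hmT⟩ := hT.exists_conj_le hgM (H52.Syl.isPGroup_cj hQp)
    -- m = t * n
    have hNM : N' ≤ M := by
      intro x hx
      have hx1 : QuotientGroup.mk' N' x = 1 := by rw [← MonoidHom.mem_ker, hker]; exact hx
      rw [hM, Subgroup.mem_comap, hx1]; exact one_mem _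
    have h1 : M ≤ T ⊔ N' := by
      apply hT.le_sup_of_pMod
      intro x hx
      obtain ⟨k, hk⟩ := hR ⟨_, hx⟩
      refine ⟨k, ?_⟩
      rw [← hker, MonoidHom.mem_ker, map_pow]
      exact congrArg Subtype.val hk
    have h2 : m ∈ N' ⊔ T := by rw [sup_comm]; exact h1 hm
    rw [Subgroup.mem_sup_of_normal_left] at h2
    obtain ⟨n, hn, t, ht, rfl⟩ := h2
    have h3 : H52.Syl.cj (n⁻¹ * g) Q = Q := by
      apply hwc T hT.isPGroup hQT
      rw [← H52.Syl.cj_cj, H52.Syl.cj_le_iff, inv_inv]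
      rw [← H52.Syl.cj_cj, H52.Syl.cj_of_mem ht] at hmT
      exact hmT
    rw [← H52.Syl.cj_cj, ← H52.Syl.cj_inj (g := n), H52.Syl.cj_cj_inv] at h3
    rw [h3, ← hcm]
    have h4 : QuotientGroup.mk' N' n = 1 := by
      rw [← MonoidHom.mem_ker, hker]; exact hn
    rw [h4, H52.Syl.cj_one]

end Cfsg.Agent.S2839
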