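import Cfsg.Statements.S2833
import Cfsg.Agent.Lib.H52.Sub

set_option autoImplicit false
open Cfsg

namespace Cfsg.Agent.S2833

/-- Let V be a subgroup of a finite group G normalized by the subgroup L, let X ≤ L and g ∈ L with [V, X, X] = 1 and L generated by X and gXg⁻¹. Put W = [V, L]. Then W = [V, X]·[V, gXg⁻¹], C_W(X) = [V, X], and C_W(L) = [V, X] ∩ [V, gXg⁻¹]. -/
theorem result {G : Type*} [Group G] [Finite G] (V L : Subgroup G) (hLV : L ≤ Subgroup.normalizer (V : Set G)) (X : Subgroup G) (hX : X ≤ L) (g : G) (hg : g ∈ L) (hq : ⁅⁅V, X⁆, X⁆ = ⊥) (hgen : X ⊔ X.map (MulAut.conj g).toMonoidHom = L) (W : Subgroup G) (hW : W = ⁅V, L⁆) : ⁅V, X⁆ ⊔ ⁅V, X.map (MulAut.conj g).toMonoidHom⁆ = W ∧ W ⊓ Subgroup.centralizer (X : Set G) = ⁅V, X⁆ ∧ W ⊓ Subgroup.centralizer (L : Set G) = ⁅V, X⁆ ⊓ ⁅V, X.map (MulAut.conj g).toMonoidHom⁆ := by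
  subst hW
  have hcjV : H52.Syl.cj g V = V := H52.Syl.cj_eq_of_mem_normalizer (hLV hg)
  have hXg : H52.Syl.cj g X ≤ L := by
    calc H52.Syl.cj g X ≤ H52.Syl.cj g L := H52.Syl.cj_mono hX
      _ = L := H52.Syl.cj_of_mem hg
  set A := ⁅V, X⁆ with hA
  change A ⊔ ⁅V, H52.Syl.cj g X⁆ = ⁅V, L⁆ ∧ ⁅V, L⁆ ⊓ Subgroup.centralizer (X : Set G) = A ∧
    ⁅V, L⁆ ⊓ Subgroup.centralizer (L : Set G) = A ⊓ ⁅V, H52.Syl.cj g X⁆
  have hB : ⁅V, H52.Syl.cj g X⁆ = H52.Syl.cj g A := by
    rw [hA, H52.Syl.cj_commutator, hcjV]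
  set B := ⁅V, H52.Syl.cj g X⁆ with hBdef
  change X ⊔ H52.Syl.cj g X = L at hgen
  have hAV : A ≤ V := Subgroup.le_normalizer_iff_commutator_le_left.1 (hX.trans hLV)
  have hBV : B ≤ V := Subgroup.le_normalizer_iff_commutator_le_left.1 (hXg.trans hLV)
  have hAX : A ≤ Subgroup.centralizer (X : Set G) := Subgroup.commutator_eq_bot_iff_le_centralizer.1 hq
  have hBX : B ≤ Subgroup.centralizer (H52.Syl.cj g X : Set G) := by
    rw [hB, ← H52.Syl.cj_centralizer]; exact H52.Syl.cj_mono hAX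
  have h1 : A ⊔ B = ⁅V, L⁆ := by
    apply le_antisymm
    · exact sup_le (Subgroup.commutator_mono le_rfl hX) (Subgroup.commutator_mono le_rfl hXg)
    · have e1 : X ≤ Subgroup.normalizer ((A ⊔ B : Subgroup G) : Set G) := by
        rw [Subgroup.le_normalizer_iff_commutator_le_left]
        exact (Subgroup.commutator_mono (sup_le hAV hBV) le_rfl).trans le_sup_left
      have e2 : H52.Syl.cj g X ≤ Subgroup.normalizer ((A ⊔ B : Subgroup G) : Set G) := by
        rw [Subgroup.le_normalizer_iff_commutator_le_left]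
        exact (Subgroup.commutator_mono (sup_le hAV hBV) le_rfl).trans le_sup_right
      have e3 : L ≤ Subgroup.normalizer ((A ⊔ B : Subgroup G) : Set G) := by
        rw [← hgen]; exact sup_le e1 e2
      rw [← H52.Sub.le_cmod_iff e3]
      conv_lhs => rw [← hgen]
      refine sup_le ?_ ?_
      · rw [H52.Sub.le_cmod_iff e1]; exact le_sup_left
      · rw [H52.Sub.le_cmod_iff e2]; exact le_sup_right
  have hCL : Subgroup.centralizer (X : Set G) ⊓ Subgroup.centralizer (H52.Syl.cj g X : Set G) ≤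
      Subgroup.centralizer (L : Set G) := by
    rw [← H52.YL2.centralizer_sup, hgen]
  have h2 : ⁅V, L⁆ ⊓ Subgroup.centralizer (X : Set G) = A := by
    apply le_antisymm
    · intro w hw0
      obtain ⟨hw, hwX⟩ := Subgroup.mem_inf.1 hw0
      have hw' : w ∈ A ⊔ B := h1 ▸ hw
      rw [H52.YL2.mem_sup_iff_of_le_normalizer
        (hAV.trans (Subgroup.normalizer_commutator_ge_left V _))] at hw'
      obtain ⟨a, ha, b, hb, rfl⟩ := hw'
      have hbX : b ∈ Subgroup.centralizer (X : Set G) := by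
        have : b = a⁻¹ * (a * b) := by group
        rw [this]; exact mul_mem (inv_mem (hAX ha)) hwX
      have hbL := hCL (Subgroup.mem_inf.2 ⟨hbX, hBX hb⟩)
      have hbA : b ∈ A := by
        have h3 : b ∈ H52.Syl.cj g A := hB ▸ hb
        rw [H52.Syl.mem_cj] at h3
        have h4 := Subgroup.mem_centralizer_iff.1 hbL g hg
        have : g⁻¹ * b * g = b := by rw [mul_assoc, ← h4]; group
        rwa [this] at h3
      exact A.mul_mem ha hbA
    · exact le_inf (Subgroup.commutator_mono le_rfl hX) hAX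
  refine ⟨h1, h2, ?_⟩
  apply le_antisymm
  · intro w hw0
    obtain ⟨hw, hwL⟩ := Subgroup.mem_inf.1 hw0
    have hwA : w ∈ A := by
      rw [← h2]
      exact Subgroup.mem_inf.2 ⟨hw, Subgroup.centralizer_le hX hwL⟩
    refine Subgroup.mem_inf.2 ⟨hwA, ?_⟩
    rw [hB, H52.Syl.mem_cj]
    have h4 := Subgroup.mem_centralizer_iff.1 hwL g hg
    have : g⁻¹ * w * g = w := by rw [mul_assoc, ← h4]; group
    rwa [this]
  · refine le_inf ?_ ?_
    · exact inf_le_left.trans (Subgroup.commutator_mono le_rfl hX)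
    · exact (inf_le_inf hAX hBX).trans hCL

end Cfsg.Agent.S2833
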