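import Cfsg.Statements.S2250
import Cfsg.Agent.Lib.H42.NormRankGL
import Cfsg.Agent.Lib.H6.SympCard
import Cfsg.Agent.Lib.H25.SL2Card

set_option autoImplicit false
set_option linter.unusedSectionVars false
open Cfsg

namespace Cfsg.Agent.S2250

open H42.NormRank H42.TwoRank Matrix

section

variable {F : Type*} [Field F] (κ : Type*) [Fintype κ] [DecidableEq κ]

omit [Fintype κ] in
theorem diag_ext {M N : Matrix κ κ F} (h1 : ∀ i, M i i = N i i) (h2 : ∀ i j, i ≠ j → M i j = 0) (h3 : ∀ i j, i ≠ j → N i j = 0) : M = N := by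
  ext i j
  rcases eq_or_ne i j with rfl | h
  · exact h1 i
  · rw [h2 i j h, h3 i j h]

theorem mem_sp (a b c d : κ → F) (h : ∀ i, a i * d i - b i * c i = 1) :
    fromBlocks (diagonal a) (diagonal b) (diagonal c) (diagonal d) ∈ symplecticGroup κ F := by
  rw [SymplecticGroup.mem_iff, Matrix.J, fromBlocks_transpose, fromBlocks_multiply, fromBlocks_multiply]
  simp only [diagonal_transpose, Matrix.mul_zero, zero_add, Matrix.mul_neg, Matrix.mul_one,
    Matrix.neg_mul, diagonal_mul_diagonal, add_zero]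
  congr 1
  · apply diag_ext
    · intro i
      simp only [Matrix.add_apply, Matrix.neg_apply, diagonal_apply_eq, Matrix.zero_apply]
      ring
    · intro i j hij
      simp [diagonal_apply_ne _ hij]
    · intro i j hij
      rfl
  · apply diag_ext
    · intro i
      simp only [Matrix.add_apply, Matrix.neg_apply, diagonal_apply_eq, Matrix.one_apply_eq]
      linear_combination -h i
    · intro i j hij
      simp [diagonal_apply_ne _ hij]
    · intro i j hij
      simp [Matrix.one_apply_ne hij]
  · apply diag_ext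
    · intro i
      simp only [Matrix.add_apply, Matrix.neg_apply, diagonal_apply_eq, Matrix.one_apply_eq]
      linear_combination h i
    · intro i j hij
      simp [diagonal_apply_ne _ hij]
    · intro i j hij
      simp [Matrix.one_apply_ne hij]
  · apply diag_ext
    · intro i
      simp only [Matrix.add_apply, Matrix.neg_apply, diagonal_apply_eq, Matrix.zero_apply]
      ring
    · intro i j hij
      simp [diagonal_apply_ne _ hij]
    · intro i j hij
      rfl

/-- matrix entries -/
def en (A : SpecialLinearGroup (Fin 2) F) (a b : Fin 2) : F := (A : Matrix (Fin 2) (Fin 2) F) a b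

omit [Fintype κ] [DecidableEq κ] in
theorem en_det (A : SpecialLinearGroup (Fin 2) F) : en A 0 0 * en A 1 1 - en A 0 1 * en A 1 0 = 1 := by
  have := A.2
  rw [Matrix.det_fin_two] at this
  exact this

omit [Fintype κ] [DecidableEq κ] in
theorem en_mul (A B : SpecialLinearGroup (Fin 2) F) (a b : Fin 2) : en (A * B) a b = en A a 0 * en B 0 b + en A a 1 * en B 1 b := by
  have h : en (A * B) a b = ∑ k, en A a k * en B k b := rfl
  rw [h, Fin.sum_univ_two]

omit [Fintype κ] [DecidableEq κ] in
theorem en_one (a b : Fin 2) : en (1 : SpecialLinearGroup (Fin 2) F) a b = (1 : Matrix (Fin 2) (Fin 2) F) a b := rfl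

/-- blocks -/
def bl : (κ → SpecialLinearGroup (Fin 2) F) × Unit →* symplecticGroup κ F where
  toFun f := ⟨fromBlocks (diagonal (fun i => en (f.1 i) 0 0)) (diagonal (fun i => en (f.1 i) 0 1)) (diagonal (fun i => en (f.1 i) 1 0))
    (diagonal (fun i => en (f.1 i) 1 1)), mem_sp κ _ _ _ _ (fun i => en_det (f.1 i))⟩
  map_one' := by
    apply Subtype.ext
    simp [en_one]
  map_mul' f g := by
    apply Subtype.ext
    change fromBlocks _ _ _ _ = fromBlocks _ _ _ _ * fromBlocks _ _ _ _
    rw [fromBlocks_multiply]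
    simp only [diagonal_mul_diagonal, diagonal_add]
    congr 1 <;>
    · congr 1
      funext i
      exact en_mul (f.1 i) (g.1 i) _ _

/-- permutation matrix -/
def pmx (σ : Equiv.Perm κ) : Matrix κ κ F := Matrix.of (fun i j => if σ⁻¹ i = j then 1 else 0)

variable {κ}

theorem pmx_mul (σ τ : Equiv.Perm κ) : (pmx κ (σ * τ) : Matrix κ κ F) = pmx κ σ * pmx κ τ := by
  ext i j
  rw [Matrix.mul_apply]
  simp only [pmx, Matrix.of_apply, _root_.mul_inv_rev, Equiv.Perm.mul_apply, ite_mul, one_mul, zero_mul,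
    Finset.sum_ite_eq, Finset.mem_univ, if_true]

theorem pmx_one : (pmx κ 1 : Matrix κ κ F) = 1 := by
  ext i j
  simp [pmx, Matrix.one_apply]

theorem pmx_transpose (σ : Equiv.Perm κ) : (pmx κ σ : Matrix κ κ F)ᵀ = pmx κ σ⁻¹ := by
  ext i j
  simp only [pmx, Matrix.transpose_apply, Matrix.of_apply, inv_inv]
  congr 1
  rw [eq_iff_iff, Equiv.Perm.inv_eq_iff_eq]
  exact eq_comm

theorem pmx_diag (σ : Equiv.Perm κ) (a : κ → F) :
    pmx κ σ * diagonal a = diagonal (fun i => a (σ⁻¹ i)) * pmx κ σ := by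
  ext i j
  rw [mul_diagonal, diagonal_mul]
  simp only [pmx, Matrix.of_apply]
  split_ifs with h
  · rw [h]; ring
  · ring

variable (κ)

/-- permutations -/
def pr : Equiv.Perm κ →* symplecticGroup κ F where
  toFun σ := ⟨fromBlocks (pmx κ σ) 0 0 (pmx κ σ), by
    have h : (pmx κ σ : Matrix κ κ F) * pmx κ σ⁻¹ = 1 := by
      rw [← pmx_mul, mul_inv_cancel, pmx_one]
    rw [SymplecticGroup.mem_iff, Matrix.J, fromBlocks_transpose, fromBlocks_multiply, fromBlocks_multiply]
    simp only [Matrix.mul_zero, zero_add, Matrix.mul_neg, Matrix.mul_one, transpose_zero, pmx_transpose,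
      Matrix.neg_mul, add_zero, Matrix.zero_mul, h, neg_zero]⟩
  map_one' := by
    apply Subtype.ext
    simp [pmx_one]
  map_mul' σ τ := by
    apply Subtype.ext
    change fromBlocks _ _ _ _ = fromBlocks _ _ _ _ * fromBlocks _ _ _ _
    rw [fromBlocks_multiply]
    simp [pmx_mul]

/-- the wreath product in the symplectic group -/
def emb : Wr κ (SpecialLinearGroup (Fin 2) F) Unit →* symplecticGroup κ F :=
  SemidirectProduct.lift (bl κ) (pr κ) (by
    intro σ
    ext1 f
    change bl κ (phi κ _ _ σ f) = pr κ σ * bl κ f * (pr κ σ)⁻¹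
    rw [eq_mul_inv_iff_mul_eq]
    apply Subtype.ext
    change fromBlocks _ _ _ _ * fromBlocks _ _ _ _ = fromBlocks _ _ _ _ * fromBlocks _ _ _ _
    rw [fromBlocks_multiply, fromBlocks_multiply]
    simp only [Matrix.mul_zero, zero_add, add_zero, Matrix.zero_mul, pmx_diag]
    rfl)

theorem emb_injective : Function.Injective (emb (F := F) κ) := by
  rw [injective_iff_map_eq_one]
  intro x hx
  have h0 : emb κ x = bl κ x.left * pr κ x.right := rfl
  rw [h0] at hx
  have h1 : (fromBlocks (diagonal (fun i => en (x.left.1 i) 0 0)) (diagonal (fun i => en (x.left.1 i) 0 1)) (diagonal (fun i => en (x.left.1 i) 1 0))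
    (diagonal (fun i => en (x.left.1 i) 1 1))) * (fromBlocks (pmx κ x.right) 0 0 (pmx κ x.right)) = (1 : Matrix (κ ⊕ κ) (κ ⊕ κ) F) :=
    congrArg (fun w : symplecticGroup κ F => (w : Matrix (κ ⊕ κ) (κ ⊕ κ) F)) hx
  rw [fromBlocks_multiply] at h1
  simp only [Matrix.mul_zero, zero_add, add_zero] at h1
  rw [← fromBlocks_one] at h1
  obtain ⟨e1, e2, e3, e4⟩ := fromBlocks_inj.1 h1
  have hr : ∀ i, x.right⁻¹ i = i := by
    intro i
    by_contra hne
    have := congrFun (congrFun e1 i) i
    rw [diagonal_mul, Matrix.one_apply_eq, pmx, Matrix.of_apply, if_neg hne, mul_zero] at this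
    exact zero_ne_one this
  have hr' : x.right = 1 := by
    have : x.right⁻¹ = 1 := Equiv.ext hr
    rwa [inv_eq_one] at this
  rw [hr', pmx_one, Matrix.mul_one] at e1 e2 e3 e4
  ext1
  · apply Prod.ext
    · funext i
      apply Subtype.ext
      ext a b
      have f1 := congrFun (congrFun e1 i) i
      have f2 := congrFun (congrFun e2 i) i
      have f3 := congrFun (congrFun e3 i) i
      have f4 := congrFun (congrFun e4 i) i
      simp only [diagonal_apply_eq, Matrix.one_apply_eq, Matrix.zero_apply] at f1 f2 f3 f4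
      change en (x.left.1 i) a b = (1 : Matrix (Fin 2) (Fin 2) F) a b
      fin_cases a <;> fin_cases b
      · exact f1
      · exact f2
      · exact f3
      · exact f4
    · rfl
  · exact hr'

/-- the subgroup `{1, -1}` of `SL_2` -/
def Z : Subgroup (SpecialLinearGroup (Fin 2) F) := Subgroup.zpowers (-1)

theorem Z_normal : (Z (F := F)).Normal := by
  constructor
  intro n hn g
  obtain ⟨k, rfl⟩ := Subgroup.mem_zpowers_iff.1 hn
  have : Commute g (-1) := by
    change g * -1 = -1 * g
    rw [mul_neg, neg_mul, mul_one, one_mul]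
  rw [(this.zpow_right k).eq, mul_inv_cancel_right]
  exact Subgroup.zpow_mem_zpowers _ _

theorem negone_sq : (-1 : SpecialLinearGroup (Fin 2) F) ^ 2 = 1 := by
  rw [pow_two, neg_mul_neg, one_mul]

theorem Z_elab : Cfsg.IsElementaryAbelian 2 (Z (F := F)) := by
  refine ⟨⟨⟨?_⟩⟩, ?_⟩
  · rintro ⟨a, ha⟩ ⟨b, hb⟩
    obtain ⟨k, rfl⟩ := Subgroup.mem_zpowers_iff.1 ha
    obtain ⟨l, rfl⟩ := Subgroup.mem_zpowers_iff.1 hb
    apply Subtype.ext
    exact (Commute.zpow_zpow_self _ k l).eq
  intro a ha
  obtain ⟨k, rfl⟩ := Subgroup.mem_zpowers_iff.1 ha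
  rw [← zpow_natCast, ← _root_.zpow_mul, mul_comm, _root_.zpow_mul, zpow_natCast, negone_sq, _root_.one_zpow]

theorem card_Z (h2 : (2 : F) ≠ 0) : Nat.card (Z (F := F)) = 2 := by
  rw [Z, Nat.card_zpowers]
  apply orderOf_eq_prime negone_sq
  intro h
  have h1 : -(1 : F) = 1 := congrArg (fun w : SpecialLinearGroup (Fin 2) F => en w 0 0) h
  exact h2 (by linear_combination -h1)

end

/-- The normal 2-rank of the symplectic group over a finite field of odd order: for n ≥ 1 and S a Sylow 2-subgroup of Sp_{2n}(F), the largest rank of an elementary abelian subgroup of S that is normal in S equals n. -/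
theorem result {F : Type*} [Field F] [Fintype F] (hF : Odd (Fintype.card F)) (n : ℕ) (hn : 1 ≤ n) (S : Sylow 2 ↥(Matrix.symplecticGroup (Fin n) F)) :
    ((∃ E : Subgroup ↥(S : Subgroup ↥(Matrix.symplecticGroup (Fin n) F)), E.Normal ∧ Cfsg.IsElementaryAbelian 2 E ∧ 2 ^ (n) ≤ Nat.card ↥E) ∧
      ∀ E : Subgroup ↥(S : Subgroup ↥(Matrix.symplecticGroup (Fin n) F)), E.Normal → Cfsg.IsElementaryAbelian 2 E → Nat.card ↥E ≤ 2 ^ (n)) := by
  classical
  have hfact : Fact (Nat.Prime 2) := ⟨Nat.prime_two⟩
  have h2 : (2 : F) ≠ 0 := odd_two_ne_zero hF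
  have hq1 : 1 < Fintype.card F := Fintype.one_lt_card
  constructor
  · obtain ⟨T⟩ : Nonempty (Sylow 2 (Wr (Fin n) (SpecialLinearGroup (Fin 2) F) Unit)) := inferInstance
    have hv : (Nat.card (Wr (Fin n) (SpecialLinearGroup (Fin 2) F) Unit)).factorization 2 =
        (Nat.card (Matrix.symplecticGroup (Fin n) F)).factorization 2 := by
      have e1 : Fintype.card F ^ 2 - 1 ≠ 0 := pow_sub_ne hF hq1 2 (by norm_num)
      rw [Nat.factorization_def _ Nat.prime_two, Nat.factorization_def _ Nat.prime_two, H6.SympCard.card_symplecticGroup,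
        Fintype.card_fin, Nat.card_eq_fintype_card (α := F), v_sp hF hq1, card_Wr, Fintype.card_fin,
        v_mul (mul_ne_zero (pow_ne_zero _ Nat.card_pos.ne') Nat.card_pos.ne') (Nat.factorial_ne_zero n),
        v_mul (pow_ne_zero _ Nat.card_pos.ne') Nat.card_pos.ne', v_pow, H25.SL2Card.card_SL2,
        v_mul (by omega) e1, v_odd_eq hF, zero_add]
      simp
    obtain ⟨e⟩ := sylow_equiv (emb (Fin n)) (emb_injective (Fin n)) hv T S
    have := NRge.congr e (wr_ge (t := 0) (Z_normal (F := F)) (D := ⊥) inferInstance Z_elab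
      ⟨inferInstance, fun a ha => by rw [Subgroup.mem_bot.1 ha, one_pow]⟩ (card_Z h2).ge (by simp) T)
    rwa [Fintype.card_fin, add_zero] at this
  · intro E _ hE
    have h1 := elab_map (S : Subgroup ↥(Matrix.symplecticGroup (Fin n) F)).subtype hE
    have h3 := card_le_symplectic h2 (E.map (S : Subgroup ↥(Matrix.symplecticGroup (Fin n) F)).subtype)
      (H42.NormRank.comm_of h1.1) h1.2
    rwa [← Nat.card_congr (E.equivMapOfInjective _ (Subgroup.subtype_injective _)).toEquiv, Fintype.card_fin] at h3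

end Cfsg.Agent.S2250
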