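import Cfsg.Statements.S0214
import Cfsg.Agent.Lib.H5.InvTools

set_option autoImplicit false
open Cfsg

namespace Cfsg.Agent.S0214

open Subgroup in
open scoped Pointwise in
theorem aux {G : Type*} [Group G] [Finite G] (H : Subgroup G) (hH : H ≠ ⊤) (P : Sylow 2 ↥H)
    (hP : (P : Subgroup ↥H) ≠ ⊥)
    (h : ∀ X : Subgroup G, X ≤ (P : Subgroup ↥H).map H.subtype → X ≠ ⊥ →
      Subgroup.normalizer (X : Set G) ≤ H) : Cfsg.IsStronglyEmbedded H := by
  have : Fact (Nat.Prime 2) := ⟨Nat.prime_two⟩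
  set P' : Subgroup G := (P : Subgroup ↥H).map H.subtype with hP'
  have hP'H : P' ≤ H := map_subtype_le _
  have hP'p : IsPGroup 2 P' := P.2.map _
  have hP'ne : P' ≠ ⊥ := by
    intro h0
    apply hP
    rw [hP', map_eq_bot_iff_of_injective _ H.subtype_injective] at h0
    exact h0
  have hPcard : Even (Nat.card (P : Subgroup H)) := by
    obtain ⟨k, hk⟩ := P.2.exists_card_eq
    rcases Nat.eq_zero_or_pos k with rfl | hk0
    · exfalso; apply hP
      rw [← Subgroup.card_eq_one]; simpa using hk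
    · rw [hk]; exact (Nat.even_pow.mpr ⟨even_two, hk0.ne'⟩)
  have hHeven : Even (Nat.card H) := by
    rw [even_iff_two_dvd] at hPcard ⊢
    exact hPcard.trans (card_subgroup_dvd_card _)
  refine ⟨hH, hHeven, ?_⟩
  intro g hg
  by_contra hodd
  rw [Nat.not_odd_iff_even] at hodd
  -- D = H ∩ gHg⁻¹
  set D : Subgroup G := H ⊓ H.map (MulAut.conj g).toMonoidHom with hD
  -- Sylow of D
  obtain ⟨Q₀⟩ := (inferInstance : Nonempty (Sylow 2 D))
  set Q : Subgroup G := (Q₀ : Subgroup D).map D.subtype with hQ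
  have hQD : Q ≤ D := map_subtype_le _
  have hQH : Q ≤ H := hQD.trans inf_le_left
  have hQp : IsPGroup 2 Q := Q₀.2.map _
  have hQne : Q ≠ ⊥ := by
    intro h0
    rw [hQ, map_eq_bot_iff_of_injective _ D.subtype_injective] at h0
    have := Sylow.ne_bot_of_dvd_card Q₀ (even_iff_two_dvd.mp hodd)
    exact this h0
  -- conjugate Q into P' by an element of H
  obtain ⟨a, ha⟩ := H5.PLocal.exists_conj_le_sylow P (Q := Q.subgroupOf H) (hQp.comap_subtype)
  have ha' : ∀ x ∈ Q, (a : G) * x * (a : G)⁻¹ ∈ P' := by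
    intro x hx
    exact ⟨a * ⟨x, hQH hx⟩ * a⁻¹, ha ⟨x, hQH hx⟩ (mem_subgroupOf.mpr hx), by simp⟩
  have hmapQ : Q.map (MulAut.conj (a : G)).toMonoidHom ≤ P' := by
    rintro _ ⟨x, hx, rfl⟩
    simpa using ha' x hx
  have hmapQne : Q.map (MulAut.conj (a : G)).toMonoidHom ≠ ⊥ := by
    intro h0
    rw [map_eq_bot_iff_of_injective _ (MulAut.conj (a:G)).injective] at h0
    exact hQne h0
  have hNQ' := h _ hmapQ hmapQne
  -- N_G(Q) ≤ H
  have hNQ : normalizer (Q : Set G) ≤ H := by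
    intro n hn
    have h1 : (a : G) * n * (a : G)⁻¹ ∈ normalizer ((Q.map (MulAut.conj (a : G)).toMonoidHom : Subgroup G) : Set G) := by
      rw [mem_normalizer_iff]
      intro y
      constructor
      · rintro ⟨x, hx, rfl⟩
        refine ⟨n * x * n⁻¹, (mem_normalizer_iff.mp hn x).mp hx, ?_⟩
        simp [mul_assoc]
      · rintro ⟨x, hx, hxy⟩
        refine ⟨n⁻¹ * x * n, ?_, ?_⟩
        · have := (mem_normalizer_iff.mp (inv_mem hn) x).mp hx
          simpa using this
        · have h3 : (a : G) * x * (a : G)⁻¹ = (a : G) * n * (a : G)⁻¹ * y * ((a : G) * n * (a : G)⁻¹)⁻¹ := by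
            simpa using hxy
          have h4 : x = n * (a : G)⁻¹ * y * (a : G) * n⁻¹ := by
            have : x = (a : G)⁻¹ * ((a : G) * x * (a : G)⁻¹) * a := by group
            rw [this, h3]; group
          rw [h4]
          simp [mul_assoc]
    have h2 := hNQ' h1
    have : n = (a : G)⁻¹ * ((a : G) * n * (a : G)⁻¹) * a := by group
    rw [this]
    exact H.mul_mem (H.mul_mem (H.inv_mem a.2) h2) a.2
  -- Sylow of H^g containing Q
  set Hg : Subgroup G := H.map (MulAut.conj g).toMonoidHom with hHg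
  have hQHg : Q ≤ Hg := hQD.trans inf_le_right
  obtain ⟨R₀, hR₀⟩ := (hQp.comap_subtype (K := Hg)).exists_le_sylow
  set R : Subgroup G := (R₀ : Subgroup Hg).map Hg.subtype with hR
  have hRp : IsPGroup 2 R := R₀.2.map _
  have hQR : Q ≤ R := by
    intro x hx
    exact ⟨⟨x, hQHg hx⟩, hR₀ (mem_subgroupOf.mpr hx), rfl⟩
  have hRHg : R ≤ Hg := map_subtype_le _
  have hQeqR : Q = R := by
    apply H5.PLocal.eq_of_normalizer_inf_le hRp hQR
    have h1 : normalizer (Q : Set G) ⊓ R ≤ D := by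
      intro x hx
      exact ⟨hNQ hx.1, hRHg hx.2⟩
    have h2 := H5.InvTools.eq_map_sylow_of_le D Q₀ (normalizer (Q : Set G) ⊓ R)
      (hRp.to_le inf_le_right) h1 (le_inf le_normalizer hQR)
    exact h2.le
  -- then card Q = card P'
  have hcardHg : Nat.card Hg = Nat.card H :=
    (Nat.card_congr (H.equivMapOfInjective _ (MulAut.conj g).injective).toEquiv).symm
  have hcardR : Nat.card R = Nat.card P' := by
    have e1 : Nat.card R = Nat.card (R₀ : Subgroup Hg) :=
      (Nat.card_congr ((R₀ : Subgroup Hg).equivMapOfInjective _ Hg.subtype_injective).toEquiv).symm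
    have e2 : Nat.card P' = Nat.card (P : Subgroup H) :=
      (Nat.card_congr ((P : Subgroup H).equivMapOfInjective _ H.subtype_injective).toEquiv).symm
    rw [e1, e2, Sylow.card_eq_multiplicity, Sylow.card_eq_multiplicity, hcardHg]
  have hcardQ : Nat.card (Q.map (MulAut.conj (a : G)).toMonoidHom) = Nat.card P' := by
    rw [← hcardR, ← hQeqR]
    exact (Nat.card_congr (Q.equivMapOfInjective _ (MulAut.conj (a:G)).injective).toEquiv).symm
  have hQP : Q.map (MulAut.conj (a : G)).toMonoidHom = P' :=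
    Subgroup.eq_of_le_of_card_ge hmapQ hcardQ.ge
  -- g⁻¹ Q g ≤ H is conjugate in H into P
  have hgQ : ∀ x ∈ Q, g⁻¹ * x * g ∈ H := by
    intro x hx
    obtain ⟨y, hy, hyx⟩ := hQHg hx
    have : g⁻¹ * x * g = y := by rw [← hyx]; simp [mul_assoc]
    rw [this]; exact hy
  set Q₂ : Subgroup G := Q.map (MulAut.conj g⁻¹).toMonoidHom with hQ₂
  have hQ₂H : Q₂ ≤ H := by
    rintro _ ⟨x, hx, rfl⟩
    simpa using hgQ x hx
  have hQ₂p : IsPGroup 2 Q₂ := hQp.map _
  obtain ⟨b, hb⟩ := H5.PLocal.exists_conj_le_sylow P (Q := Q₂.subgroupOf H) (hQ₂p.comap_subtype)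
  have hmapQ₂ : Q₂.map (MulAut.conj (b : G)).toMonoidHom ≤ P' := by
    rintro _ ⟨x, hx, rfl⟩
    exact ⟨b * ⟨x, hQ₂H hx⟩ * b⁻¹, hb ⟨x, hQ₂H hx⟩ (mem_subgroupOf.mpr hx), by simp⟩
  have hcardQ₂ : Nat.card (Q₂.map (MulAut.conj (b : G)).toMonoidHom) = Nat.card P' := by
    rw [← hcardR, ← hQeqR]
    have e1 := (Nat.card_congr (Q₂.equivMapOfInjective (MulAut.conj (b:G)).toMonoidHom
      (MulAut.conj (b:G)).injective).toEquiv).symm
    have e2 := (Nat.card_congr (Q.equivMapOfInjective (MulAut.conj (g⁻¹)).toMonoidHom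
      (MulAut.conj (g⁻¹)).injective).toEquiv).symm
    exact e1.trans e2
  have hQ₂P : Q₂.map (MulAut.conj (b : G)).toMonoidHom = P' :=
    Subgroup.eq_of_le_of_card_ge hmapQ₂ hcardQ₂.ge
  -- so a, b g⁻¹ both conjugate Q to P'
  have hn : (b : G) * g⁻¹ * (a : G)⁻¹ ∈ normalizer (P' : Set G) := by
    rw [mem_normalizer_iff]
    intro y
    constructor
    · intro hy
      rw [← hQP] at hy
      obtain ⟨x, hx, rfl⟩ := hy
      rw [← hQ₂P]
      refine ⟨g⁻¹ * x * g, ⟨x, hx, by simp⟩, ?_⟩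
      simp [mul_assoc]
    · intro hy
      rw [← hQ₂P] at hy
      obtain ⟨_, ⟨x, hx, rfl⟩, hxy⟩ := hy
      rw [← hQP]
      refine ⟨x, hx, ?_⟩
      have h3 : (b : G) * (g⁻¹ * x * g) * (b : G)⁻¹ = (b : G) * g⁻¹ * (a : G)⁻¹ * y * ((b : G) * g⁻¹ * (a : G)⁻¹)⁻¹ := by
        simpa using hxy
      have h4 : y = ((b : G) * g⁻¹ * (a : G)⁻¹)⁻¹ * ((b : G) * (g⁻¹ * x * g) * (b : G)⁻¹) * ((b : G) * g⁻¹ * (a : G)⁻¹) := by
        rw [h3]; group
      rw [h4]
      simp [mul_assoc]
  have hfin := h P' le_rfl hP'ne hn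
  apply hg
  have : g = (a : G)⁻¹ * ((b : G) * g⁻¹ * (a : G)⁻¹)⁻¹ * b := by group
  rw [this]
  exact H.mul_mem (H.mul_mem (H.inv_mem a.2) (H.inv_mem hfin)) b.2

/-- Let H be a proper subgroup of the finite group G and P a nontrivial Sylow 2-subgroup of H. Then H is strongly embedded in G if and only if N_G(X) ≤ H for every nontrivial subgroup X of P. -/
theorem result {G : Type*} [Group G] [Finite G] (H : Subgroup G) (hH : H ≠ ⊤) (P : Sylow 2 ↥H) (hP : (P : Subgroup ↥H) ≠ ⊥) : Cfsg.IsStronglyEmbedded H ↔ (∀ X : Subgroup ↥H, X ≤ (P : Subgroup ↥H) → X ≠ ⊥ → Subgroup.normalizer ((X.map H.subtype : Subgroup G) : Set G) ≤ H) := by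
  constructor
  · rintro ⟨-, -, h⟩ X hX hX1 g hg
    by_contra hgH
    have := h g hgH
    rw [← Nat.not_even_iff_odd] at this
    apply this
    -- X.map is a nontrivial 2-subgroup contained in the intersection
    have hp : IsPGroup 2 X := P.2.to_le hX
    have hXeven : Even (Nat.card X) := by
      have : Fact (Nat.Prime 2) := ⟨Nat.prime_two⟩
      obtain ⟨k, hk⟩ := IsPGroup.iff_card.mp hp
      rcases Nat.eq_zero_or_pos k with rfl | hk0
      · exfalso; apply hX1
        rw [← Subgroup.card_eq_one]; simpa using hk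
      · rw [hk]; exact (Nat.even_pow.mpr ⟨even_two, hk0.ne'⟩)
    obtain ⟨t, ht, ht2⟩ := H5.PLocal.exists_involution_mem X hXeven
    have ht2' : orderOf (t : G) = 2 := by rw [← ht2]; simp
    apply H5.PLocal.even_card_of_mem (t := (t : G)) _ ht2'
    refine ⟨t.2, ?_⟩
    have h1 : (t : G) ∈ X.map H.subtype := ⟨t, ht, rfl⟩
    have h2 := (Subgroup.mem_normalizer_iff.mp (inv_mem hg) (t : G)).mp h1
    refine ⟨g⁻¹ * t * g, ?_, by simp [mul_assoc]⟩
    obtain ⟨y, hy, hyt⟩ := h2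
    have : g⁻¹ * t * g = (y : G) := by rw [← inv_inv g]; simpa using hyt.symm
    rw [this]; exact y.2
  · intro h
    apply aux H hH P hP
    intro X hX hX1
    have := h (X.subgroupOf H) ?_ ?_
    · have hXH : X ≤ H := hX.trans (Subgroup.map_subtype_le _)
      rwa [Subgroup.subgroupOf_map_subtype, inf_eq_left.mpr hXH] at this
    · intro x hx
      rw [Subgroup.mem_subgroupOf] at hx
      obtain ⟨y, hy, hyx⟩ := hX hx
      have : x = y := Subtype.ext hyx.symm
      rw [this]; exact hy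
    · intro h0
      apply hX1
      have hXH : X ≤ H := hX.trans (Subgroup.map_subtype_le _)
      rw [Subgroup.subgroupOf_eq_bot] at h0
      exact (disjoint_self.mp (h0.mono_right hXH))

end Cfsg.Agent.S0214
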