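import Cfsg.Statements.S2916
import Cfsg.Agent.Lib.H54.GL23j
import Cfsg.Agent.Lib.H5.GLh
import Cfsg.Agent.Lib.H94.M11Iso
import Cfsg.Agent.Lib.H61.M11Deg

set_option autoImplicit false
open Cfsg

namespace Cfsg.Agent.S2916

/-- Let G be a finite group with O²(G) = G (no proper normal subgroup of 2-power index), and let t be an involution of G whose centralizer C_G(t) is isomorphic to GL₂(3). Then G is isomorphic to PSL₃(3) or to the Mathieu group M₁₁. -/
theorem result {G : Type*} [Group G] [Finite G] (hO : Cfsg.pResidual 2 G = ⊤) (t : G) (ht : orderOf t = 2) (hC : Nonempty (↥(Subgroup.centralizer ({t} : Set G)) ≃* GL (Fin 2) (ZMod 3))) : (∃ (F : Type) (_ : Field F) (_ : Fintype F), Fintype.card F = 3 ∧ Nonempty (G ≃* Matrix.ProjectiveSpecialLinearGroup (Fin 3) F)) ∨ Cfsg.Spor.IsoM11 G := by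
  classical
  obtain ⟨e⟩ := hC
  have hno : ∀ H : Subgroup G, H.Normal → H.index ≠ 2 := by
    intro H hH hi
    have h1 : Cfsg.pResidual 2 G ≤ H := by
      rw [Cfsg.pResidual, Subgroup.closure_le]
      intro g hg
      have hg' : Nat.Coprime (orderOf g) 2 := hg
      have hodd : Odd (orderOf g) := Nat.coprime_two_right.mp hg'
      obtain ⟨k, hk⟩ := hodd
      have h2 := H.mul_self_mem_of_index_two hi g
      have h3 : (g * g) ^ (k + 1) = g := by
        rw [← pow_two, ← pow_mul]
        have : 2 * (k + 1) = orderOf g + 1 := by rw [hk]; ring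
        rw [this, pow_succ, pow_orderOf_eq_one, one_mul]
      rw [← h3]
      exact H.pow_mem h2 (k + 1)
    rw [hO, top_le_iff] at h1
    rw [h1, Subgroup.index_top] at hi
    omega
  have hs : IsSimpleGroup G := H54.GL23.reduce hno ht e
  obtain ⟨ψ, hψ⟩ := H5.GLa.exists_model e
  have hD := H54.GL23.exists_dat' hno ht (Subgroup.centralizer ({t} : Set G))
    (fun x => Subgroup.mem_centralizer_singleton_iff) hψ
  rcases H5.GLh.main t ht e with hG | hG
  · left
    obtain ⟨f⟩ := H54.GL23.iso_psl33 hD hG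
    exact ⟨ZMod 3, inferInstance, inferInstance, ZMod.card 3, ⟨f⟩⟩
  · right
    have e' := MonoidHom.ofInjective H61.M11Deg.ρ_injective
    have hs' := H61.M11Deg.isDeg11.simple
    have hsM : IsSimpleGroup ↥Cfsg.Spor.M11 := e'.isSimpleGroup
    have hM := H61.M11Deg.card_M11
    have hfin : Finite ↥Cfsg.Spor.M11 := Nat.finite_of_card_ne_zero (by rw [hM]; norm_num)
    exact H94.M11.unique_7920 hG hM

end Cfsg.Agent.S2916
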