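import Cfsg.Statements.S0977
import Mathlib
import Cfsg.Agent.Lib.H21.NE6

set_option autoImplicit false
open Cfsg

namespace Cfsg.Agent.S0977

/-- No finite simple group has order 4320 = 2^5 * 3^3 * 5. -/
theorem result {G : Type*} [Group G] [Finite G] [IsSimpleGroup G] : Nat.card G ≠ 4320 := by
  classical
  intro hN
  have f5 : Fact (Nat.Prime 5) := ⟨by norm_num⟩
  let _ : Fintype G := Fintype.ofFinite G
  let _ : Fintype (Cfsg.IrrCharacter G) := Fintype.ofFinite _
  have hG := H21.NE.not_comm_of_card hN (by norm_num)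
  obtain ⟨x0, a, Y, ε, e, n, c, h, hmem⟩ := H21.NE.main2 hG hN 5 66 [(2, 32), (3, 27)] (by
    intro x hx
    rcases List.mem_cons.1 hx with rfl | hx
    · norm_num
    · rw [List.mem_singleton] at hx
      subst hx
      norm_num) [(216, 4, [0, 0, 1, 0, 1, 1, 0]), (216, 4, [1, 0, 0, 0, 1, 1, 0]),
        (216, 4, [1, 0, 1, 0, 0, 1, 0]), (216, 4, [1, 0, 1, 0, 1, 0, 0])] (by decide +kernel)
  have hmem' : 1 + n * 5 = 216 ∧ e = 4 := by
    simp only [List.mem_cons, Prod.mk.injEq, List.not_mem_nil, or_false] at hmem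
    tauto
  obtain ⟨hv, he⟩ := hmem'
  subst he
  have hn : n = 43 := by omega
  subst hn
  have hc : c = 1 := by
    have h1 := h.hcard
    rw [hN] at h1
    omega
  subst hc
  have hL : H21.NE.cands 4320 5 (1 + 43 * 5) 4 1 66 = [4, 6, 9, 16, 24, 36, 54] := by decide +kernel
  rw [hL] at hmem
  simp only [List.map_cons, List.map_nil, List.mem_cons, Prod.mk.injEq, List.not_mem_nil, or_false,
    List.cons.injEq, and_true] at hmem
  obtain ⟨θ, hθ⟩ := h.exists_Y
  obtain ⟨d1, d2, -⟩ := H21.NE.degree_eq h (by norm_num) hG (B := 66) (by rw [hN]; norm_num) hθ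
  rw [hN, hL] at d2
  simp only [List.map_cons, List.map_nil, List.sum_cons, List.sum_nil, H21.NE.sg] at d2
  obtain ⟨M, hM, hB⟩ := h.hM
  obtain ⟨s, hs1, hs2, hs3⟩ := h.exists_s
  have hY1 : Y.card = 1 := by omega
  rw [Finset.card_eq_one] at hY1
  obtain ⟨y, hy⟩ := hY1
  have hyθ : θ = y := by rw [hy, Finset.mem_singleton] at hθ; exact hθ
  subst hyθ
  -- a unique character of degree 4
  have key : ∃ χ ∈ Cfsg.principalBlock M G, χ ≠ H21.PLat.triv G ∧
      Cfsg.charDegree (χ : G → ℂ) = 4 ∧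
      ∀ ψ ∈ Cfsg.principalBlock M G, Cfsg.charDegree (ψ : G → ℂ) = 4 → ψ = χ := by
    rcases hmem with hm | hm | hm | hm
    · obtain ⟨-, -, c4, c6, c9, c16, c24, c36, c54⟩ := hm
      rw [c4, c6, c9, c16, c24, c36, c54] at d2
      norm_num at d2
      have hθ4 : Cfsg.charDegree (θ : G → ℂ) = 4 := by
        rcases h.hε with h1 | h1 <;> rw [h1] at d2 <;> omega
      refine ⟨θ, (hB θ).1 (Or.inr hθ), h.triv_notin hθ, hθ4, fun ψ hψ hψ4 => ?_⟩
      rcases (hB ψ).2 hψ with h1 | h1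
      · exfalso
        have h2 : ψ ≠ H21.PLat.triv G := by
          rintro rfl
          rw [H21.BK.triv_degree] at hψ4
          norm_num at hψ4
        have h3 : 0 < H21.NE.cnt (H21.NE.SS a) 4 := by
          rw [H21.NE.cnt, Finset.card_pos]
          exact ⟨ψ, Finset.mem_filter.2 ⟨H21.NE.mem_SS.2 ⟨h1, h2⟩, hψ4⟩⟩
        omega
      · rw [hy, Finset.mem_singleton] at h1
        exact h1
    all_goals
      obtain ⟨-, -, c4, c6, c9, c16, c24, c36, c54⟩ := hm
      rw [c4, c6, c9, c16, c24, c36, c54] at d2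
      norm_num at d2
      have hθ4 : Cfsg.charDegree (θ : G → ℂ) ≠ 4 := by
        rcases h.hε with h1 | h1 <;> rw [h1] at d2 <;> omega
      have h4 := c4
      rw [H21.NE.cnt, Finset.card_eq_one] at h4
      obtain ⟨χ, hχ⟩ := h4
      have hχ' : χ ∈ (H21.NE.SS a).filter (fun χ : Cfsg.IrrCharacter G =>
          Cfsg.charDegree (χ : G → ℂ) = 4) := by rw [hχ]; exact Finset.mem_singleton_self _
      rw [Finset.mem_filter, H21.NE.mem_SS] at hχ'
      refine ⟨χ, (hB χ).1 (Or.inl hχ'.1.1), hχ'.1.2, hχ'.2, fun ψ hψ hψ4 => ?_⟩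
      rcases (hB ψ).2 hψ with h1 | h1
      · have h2 : ψ ≠ H21.PLat.triv G := by
          rintro rfl
          rw [H21.BK.triv_degree] at hψ4
          norm_num at hψ4
        have h3 : ψ ∈ (H21.NE.SS a).filter (fun χ : Cfsg.IrrCharacter G =>
          Cfsg.charDegree (χ : G → ℂ) = 4) := Finset.mem_filter.2 ⟨H21.NE.mem_SS.2 ⟨h1, h2⟩, hψ4⟩
        rw [hχ, Finset.mem_singleton] at h3
        exact h3
      · exfalso
        rw [hy, Finset.mem_singleton] at h1
        rw [h1] at hψ4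
        exact hθ4 hψ4
  obtain ⟨χ, hχ, hχt, hχ4, huniq⟩ := key
  have hb := H21.NE.schur_bound hχ hχt (fun ψ hψ hd => huniq ψ hψ (hd.trans hχ4)) Nat.prime_three
  rw [hN, hχ4, H21.NE.fac_eq (q := 3) (b := 3) (m := 160) Nat.prime_three (by norm_num) (by norm_num)] at hb
  have hS : H77.SchurBound.S 3 4 = 2 := by decide
  omega

end Cfsg.Agent.S0977
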