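import Cfsg.Statements.S0983
import Mathlib
import Cfsg.Agent.Lib.H21.NE12
import Cfsg.Agent.Lib.H21.NE13
import Cfsg.Agent.Lib.H21.NE14
import Cfsg.Agent.S0977
import Cfsg.Agent.S0978

set_option autoImplicit false
open Cfsg

namespace Cfsg.Agent.S0983

/-- A non-abelian finite simple group of order greater than 3640 and at most 6232 has order 4080, 5616, 6048 or 6072. -/
theorem result {G : Type*} [Group G] [Finite G] [IsSimpleGroup G] (hG : ¬ IsMulCommutative G) (h1 : 3640 < Nat.card G) (h2 : Nat.card G ≤ 6232) : Nat.card G = 4080 ∨ Nat.card G = 5616 ∨ Nat.card G = 6048 ∨ Nat.card G = 6072 := by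
  have hmem : Nat.card G ∈ H21.NE.Cert6232.exc := by
    rcases Nat.lt_or_ge (Nat.card G) 3900 with k1 | k1
    · exact H21.NE.mem_of_goC hG H21.NE.Cert6232.h0 h1 (by rw [H21.NE.Cert6232.l0]; exact k1)
    rcases Nat.lt_or_ge (Nat.card G) 4200 with k2 | k2
    · exact H21.NE.mem_of_goC hG H21.NE.Cert6232.h1 k1 (by rw [H21.NE.Cert6232.l1]; exact k2)
    rcases Nat.lt_or_ge (Nat.card G) 4500 with k3 | k3
    · exact H21.NE.mem_of_goC hG H21.NE.Cert6232.h2 k2 (by rw [H21.NE.Cert6232.l2]; exact k3)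
    rcases Nat.lt_or_ge (Nat.card G) 4800 with k4 | k4
    · exact H21.NE.mem_of_goC hG H21.NE.Cert6232.h3 k3 (by rw [H21.NE.Cert6232.l3]; exact k4)
    rcases Nat.lt_or_ge (Nat.card G) 5100 with k5 | k5
    · exact H21.NE.mem_of_goC hG H21.NE.Cert6232.h4 k4 (by rw [H21.NE.Cert6232.l4]; exact k5)
    rcases Nat.lt_or_ge (Nat.card G) 5400 with k6 | k6
    · exact H21.NE.mem_of_goC hG H21.NE.Cert6232.h5 k5 (by rw [H21.NE.Cert6232.l5]; exact k6)
    rcases Nat.lt_or_ge (Nat.card G) 5700 with k7 | k7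
    · exact H21.NE.mem_of_goC hG H21.NE.Cert6232.h6 k6 (by rw [H21.NE.Cert6232.l6]; exact k7)
    rcases Nat.lt_or_ge (Nat.card G) 6000 with k8 | k8
    · exact H21.NE.mem_of_goC hG H21.NE.Cert6232.h7 k7 (by rw [H21.NE.Cert6232.l7]; exact k8)
    · exact H21.NE.mem_of_goC hG H21.NE.Cert6232.h8 k8 (by rw [H21.NE.Cert6232.l8]; omega)
  have f5 : Fact (Nat.Prime 5) := ⟨by norm_num⟩
  simp only [H21.NE.Cert6232.exc, List.mem_cons, List.not_mem_nil, or_false] at hmem
  rcases hmem with h | h | h | h | h | h | h | h | h | h | h | h | h | h | h | h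
  · exact (H21.NE.no_of_sylB hG (p := 7) (a := 2) (m := 80) (by norm_num) (by rw [h]; decide +kernel)).elim
  · exact Or.inl h
  · exact absurd h Cfsg.Agent.S0977.result
  · exact (H21.NE.no_of_sylB hG (p := 11) (a := 2) (m := 36) (by norm_num) (by rw [h]; decide +kernel)).elim
  · exact (H21.NE.no_of_sylB hG (p := 5) (a := 3) (m := 36) (by norm_num) (by rw [h]; decide +kernel)).elim
  · exact (H21.NE.no4620 h).elim
  · exact (H21.NE.no_of_sylB hG (p := 7) (a := 2) (m := 96) (by norm_num) (by rw [h]; decide +kernel)).elim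
  · exact (H21.NE.no_of_sylB hG (p := 5) (a := 2) (m := 196) (by norm_num) (by rw [h]; decide +kernel)).elim
  · exact absurd h Cfsg.Agent.S0978.result
  · exact (H21.NE.no_of_sylB hG (p := 7) (a := 2) (m := 108) (by norm_num) (by rw [h]; decide +kernel)).elim
  · exact (H21.NE.O5400.no h).elim
  · exact (H21.NE.no5460 h).elim
  · exact Or.inr (Or.inl h)
  · exact Or.inr (Or.inr (Or.inl h))
  · exact Or.inr (Or.inr (Or.inr h))
  · exact (H21.NE.no_of_sylB hG (p := 13) (a := 2) (m := 36) (by norm_num) (by rw [h]; decide +kernel)).elim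

end Cfsg.Agent.S0983
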