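import Cfsg.Statements.S4812
import Cfsg.Agent.Lib.H82.SL2Even

set_option autoImplicit false
open Cfsg

namespace Cfsg.Agent.S4812

/-- Let F be a finite field of characteristic 2 with q ≥ 4 elements and let S be isomorphic to PSL(2,F) or to SL(2,F). Then the vertices of the character degree graph of S are the primes dividing q(q²−1), and two distinct primes are adjacent exactly when both divide q + 1 or both divide q − 1; so the graph has the three connected components {2}, the primes dividing q + 1 and the primes dividing q − 1, each complete. -/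
theorem result (F : Type*) [Field F] [Fintype F] [CharP F 2] (q : ℕ) (hq : Fintype.card F = q) (h4 : 4 ≤ q) {S : Type*} [Group S] [Finite S] (hS : Nonempty (S ≃* Matrix.ProjectiveSpecialLinearGroup (Fin 2) F) ∨ Nonempty (S ≃* Matrix.SpecialLinearGroup (Fin 2) F)) : Cfsg.degreePrimes S = {r : ℕ | r.Prime ∧ r ∣ q * (q ^ 2 - 1)} ∧ ∀ r s : ℕ, (Cfsg.degreeGraph S).Adj r s ↔ (r ≠ s ∧ r.Prime ∧ s.Prime ∧ ((r ∣ q + 1 ∧ s ∣ q + 1) ∨ (r ∣ q - 1 ∧ s ∣ q - 1))) := by
  classical
  have hSL : Nonempty (S ≃* Matrix.SpecialLinearGroup (Fin 2) F) := by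
    rcases hS with h | h
    · obtain ⟨e⟩ := h
      have hc := H25.SL2Card.center_SL2_char_two (K := F)
      let e2 : Matrix.ProjectiveSpecialLinearGroup (Fin 2) F ≃*
          Matrix.SpecialLinearGroup (Fin 2) F :=
        (QuotientGroup.quotientMulEquivOfEq hc).trans QuotientGroup.quotientBot
      exact ⟨e.trans e2⟩
    · exact h
  obtain ⟨e⟩ := hSL
  obtain ⟨n, hn2, hn⟩ := FiniteField.card F 2
  have hqn : q = 2 ^ (n : ℕ) := by rw [← hq, hn]
  have hev : Even (Fintype.card F) := by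
    rw [hq, hqn]
    exact (Nat.even_pow.2 ⟨even_two, n.pos.ne'⟩)
  have hd1 := H82.SL2Even.exists_degree (F := F) hev (by rw [hq]; exact h4)
  rw [← H82.SL2Even.charDegrees_congr e, hq] at hd1
  obtain ⟨hp1, hm1, hq1, hall⟩ := hd1
  have hfac : q * (q ^ 2 - 1) = q * ((q + 1) * (q - 1)) := by
    congr 1
    have := Nat.sq_sub_sq q 1
    rwa [one_pow] at this
  constructor
  · ext r
    constructor
    · rintro ⟨hr, d, hd, hrd⟩
      refine ⟨hr, ?_⟩
      rw [hfac]
      rcases hall d hd with rfl | rfl | rfl | rfl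
      · exact absurd (Nat.dvd_one.1 hrd) hr.one_lt.ne'
      · exact Dvd.dvd.mul_right hrd _
      · exact Dvd.dvd.mul_left (Dvd.dvd.mul_right hrd _) _
      · exact Dvd.dvd.mul_left (Dvd.dvd.mul_left hrd _) _
    · rintro ⟨hr, hrd⟩
      refine ⟨hr, ?_⟩
      rw [hfac] at hrd
      rcases (hr.dvd_mul).1 hrd with h | h
      · exact ⟨q, hq1, h⟩
      · rcases (hr.dvd_mul).1 h with h | h
        · exact ⟨_, hp1, h⟩
        · exact ⟨_, hm1, h⟩
  · intro r s
    constructor
    · rintro ⟨hne, hr, hs, d, hd, hrs⟩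
      refine ⟨hne, hr, hs, ?_⟩
      have h1 : r ∣ d := (Dvd.intro _ rfl).trans hrs
      have h2 : s ∣ d := (Dvd.intro_left _ rfl).trans hrs
      rcases hall d hd with rfl | rfl | rfl | rfl
      · exact absurd (Nat.dvd_one.1 h1) hr.one_lt.ne'
      · exfalso
        apply hne
        rw [hqn] at h1 h2
        rw [(Nat.prime_dvd_prime_iff_eq hr Nat.prime_two).1 (hr.dvd_of_dvd_pow h1),
          (Nat.prime_dvd_prime_iff_eq hs Nat.prime_two).1 (hs.dvd_of_dvd_pow h2)]
      · exact Or.inl ⟨h1, h2⟩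
      · exact Or.inr ⟨h1, h2⟩
    · rintro ⟨hne, hr, hs, h⟩
      have hco : r.Coprime s := (Nat.coprime_primes hr hs).2 hne
      refine ⟨hne, hr, hs, ?_⟩
      rcases h with ⟨h1, h2⟩ | ⟨h1, h2⟩
      · exact ⟨_, hp1, hco.mul_dvd_of_dvd_of_dvd h1 h2⟩
      · exact ⟨_, hm1, hco.mul_dvd_of_dvd_of_dvd h1 h2⟩

end Cfsg.Agent.S4812
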