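import Cfsg.Statements.S5737
import Cfsg.Agent.Lib.H61.BinSz3
import Cfsg.Agent.Lib.H24.SzIso

set_option autoImplicit false
open Cfsg

namespace Cfsg.Agent.S5737

open H61.BinAct H61.BinSz H8.SuzSylow

/-- the centre of a Sylow 2-subgroup of the concrete model -/
theorem mem_center_iff {G : Type*} [Group G] {P : Subgroup G} {x : G} :
    x ∈ (Subgroup.center P).map P.subtype ↔ x ∈ P ∧ ∀ y ∈ P, y * x = x * y := by
  constructor
  · rintro ⟨z, hz, rfl⟩
    refine ⟨z.2, fun y hy => ?_⟩
    exact congrArg Subtype.val (Subgroup.mem_center_iff.1 hz ⟨y, hy⟩)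
  · rintro ⟨hx, h⟩
    refine ⟨⟨x, hx⟩, ?_, rfl⟩
    rw [SetLike.mem_coe, Subgroup.mem_center_iff]
    rintro ⟨y, hy⟩
    exact Subtype.ext (h y hy)

theorem center_cj {G : Type*} [Group G] (P : Subgroup G) (g : G) :
    (Subgroup.center (cj g P)).map (cj g P).subtype = cj g ((Subgroup.center P).map P.subtype) := by
  ext x
  rw [mem_center_iff, mem_cj, mem_cj, mem_center_iff]
  apply and_congr_right
  intro hx
  constructor
  · intro h y hy
    have := h (g * y * g⁻¹) (by rw [mem_cj]; simpa [mul_assoc] using hy)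
    calc y * (g⁻¹ * x * g) = g⁻¹ * (g * y * g⁻¹ * x) * g := by group
      _ = g⁻¹ * (x * (g * y * g⁻¹)) * g := by rw [this]
      _ = _ := by group
  · intro h y hy
    have := h _ (mem_cj.1 hy)
    calc y * x = g * (g⁻¹ * y * g * (g⁻¹ * x * g)) * g⁻¹ := by group
      _ = g * (g⁻¹ * x * g * (g⁻¹ * y * g)) * g⁻¹ := by rw [this]
      _ = _ := by group

theorem center_TT {F : Type*} [Field F] [Fintype F] {m : ℕ} (hm : 1 ≤ m) (hF : Fintype.card F = 2 ^ (2 * m + 1)) :
    (Subgroup.center (TT (m := m) hF)).map (TT (m := m) hF).subtype = Z0 (m := m) hF := by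
  ext x
  constructor
  · rintro ⟨⟨_, a, b, rfl⟩, hz, rfl⟩
    have := (center_TT_iff hm hF a b).1 hz
    exact ⟨b, by rw [this]; rfl⟩
  · rintro ⟨b, rfl⟩
    exact ⟨⟨tG hF 0 b, 0, b, rfl⟩, (center_TT_iff hm hF 0 b).2 rfl, rfl⟩

theorem comap_center {G G' : Type*} [Group G] [Group G'] (e : G ≃* G') (P : Subgroup G') :
    ((Subgroup.center P).map P.subtype).comap e.toMonoidHom =
      (Subgroup.center (P.comap e.toMonoidHom)).map (P.comap e.toMonoidHom).subtype := by
  ext x
  rw [mem_center_iff, Subgroup.mem_comap, Subgroup.mem_comap, mem_center_iff]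
  apply and_congr_right
  intro hx
  constructor
  · intro h y hy
    apply e.injective
    rw [map_mul, map_mul]
    exact h _ hy
  · intro h y hy
    obtain ⟨z, rfl⟩ := e.surjective y
    have := h z hy
    show e z * e x = e x * e z
    rw [← map_mul, ← map_mul, this]

/-- Let G = Sz(q) be a Suzuki group, q = 2^(2a+1) with a ≥ 1 (realised inside Sp₄ over the field with q elements), and let H be a proper subgroup of G. Then the action of G on the cosets of H is binary if and only if H is trivial or H is the centre of a Sylow 2-subgroup of G. Here an action is binary (relational complexity 2) when, for every n ≥ 2 and all n-tuples I, J of points, if for every pair of positions some group element carries the corresponding pair of entries of I to those of J, then a single group element carries I to J. -/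
theorem result {F : Type*} [Field F] [Fintype F] (a : ℕ) (ha : 1 ≤ a) (hF : Fintype.card F = 2 ^ (2 * a + 1))
    (H : Subgroup (Cfsg.Lie.Sz F (2 ^ (a + 1)))) (hH : H ≠ ⊤) :
    (∀ (n : ℕ) (I J : Fin n → (Cfsg.Lie.Sz F (2 ^ (a + 1))) ⧸ H), 2 ≤ n →
        (∀ i j : Fin n, i ≠ j → ∃ g : (Cfsg.Lie.Sz F (2 ^ (a + 1))), g • I i = J i ∧ g • I j = J j) → ∃ g : (Cfsg.Lie.Sz F (2 ^ (a + 1))), ∀ i, g • I i = J i) ↔
      (H = ⊥ ∨ ∃ P : Sylow 2 (Cfsg.Lie.Sz F (2 ^ (a + 1))), H = (Subgroup.center (P : Subgroup (Cfsg.Lie.Sz F (2 ^ (a + 1))))).map (P : Subgroup (Cfsg.Lie.Sz F (2 ^ (a + 1)))).subtype) := by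
  have hp : Fact (Nat.Prime 2) := ⟨Nat.prime_two⟩
  rw [bin_iff]
  set e := H24.SzIso.equiv hF ha with he
  rw [← bin_comap e.toMonoidHom e.surjective H]
  have hcomap : ∀ K L : Subgroup (Cfsg.Lie.Sz F (2 ^ (a + 1))), K.comap e.toMonoidHom = L.comap e.toMonoidHom → K = L :=
    fun K L h => Subgroup.comap_injective (f := e.toMonoidHom) e.surjective h
  have hfin : Finite (Cfsg.Lie.Sz F (2 ^ (a + 1))) := Finite.of_equiv _ e.toEquiv
  constructor
  · intro h
    rcases bin_cases ha hF h (fun h' => hH (hcomap _ _ (by rw [h', Subgroup.comap_top]))) with h' | ⟨g, hg⟩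
    · left
      apply hcomap
      rw [h']
      symm
      rw [eq_bot_iff]
      intro x hx
      rw [Subgroup.mem_comap, Subgroup.mem_bot] at hx
      rw [Subgroup.mem_bot]
      exact e.injective (by rw [map_one]; exact hx)
    · right
      -- the conjugated Sylow subgroup
      have hP : IsPGroup 2 ((cj g (TT (m := a) hF)).comap e.symm.toMonoidHom) := by
        apply IsPGroup.comap_of_injective _ _ e.symm.injective
        exact (isPGroup_TT hF).map _
      obtain ⟨P, hP1⟩ := hP.exists_le_sylow
      refine ⟨P, ?_⟩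
      have hPP : (P : Subgroup (Cfsg.Lie.Sz F (2 ^ (a + 1)))).comap e.toMonoidHom = cj g (TT (m := a) hF) := by
        have h1 : cj g (TT (m := a) hF) ≤ (P : Subgroup (Cfsg.Lie.Sz F (2 ^ (a + 1)))).comap e.toMonoidHom := by
          intro x hx
          apply hP1
          rw [Subgroup.mem_comap]
          show e.symm (e x) ∈ _
          rw [e.symm_apply_apply]; exact hx
        have h2 : TT (m := a) hF ≤ cj g⁻¹ ((P : Subgroup (Cfsg.Lie.Sz F (2 ^ (a + 1)))).comap e.toMonoidHom) := by
          have := cj_mono' (g := g⁻¹) h1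
          rwa [cj_cj', inv_mul_cancel, cj_one'] at this
        have h3 : IsPGroup 2 (cj g⁻¹ ((P : Subgroup (Cfsg.Lie.Sz F (2 ^ (a + 1)))).comap e.toMonoidHom)) := by
          apply IsPGroup.map
          exact IsPGroup.comap_of_injective P.2 _ e.injective
        have h4 := (PT (m := a) ha hF).is_maximal' h3 h2
        have h5 : cj g⁻¹ ((P : Subgroup (Cfsg.Lie.Sz F (2 ^ (a + 1)))).comap e.toMonoidHom) = TT (m := a) hF := h4
        rw [← h5, cj_cj', mul_inv_cancel, cj_one']
      apply hcomap
      rw [comap_center, hPP, center_cj, center_TT ha hF]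
      exact hg
  · rintro (rfl | ⟨P, rfl⟩)
    · rw [show (⊥ : Subgroup (Cfsg.Lie.Sz F (2 ^ (a + 1)))).comap e.toMonoidHom = ⊥ from ?_]
      · exact bin_bot
      · rw [eq_bot_iff]
        intro x hx
        rw [Subgroup.mem_comap, Subgroup.mem_bot] at hx
        rw [Subgroup.mem_bot]
        exact e.injective (by rw [map_one]; exact hx)
    · rw [comap_center]
      have hQ : IsPGroup 2 ((P : Subgroup (Cfsg.Lie.Sz F (2 ^ (a + 1)))).comap e.toMonoidHom) :=
        IsPGroup.comap_of_injective P.2 _ e.injective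
      obtain ⟨Q, hQ1⟩ := hQ.exists_le_sylow
      have hQ2 : (Q : Subgroup (Sz F a)) = (P : Subgroup (Cfsg.Lie.Sz F (2 ^ (a + 1)))).comap e.toMonoidHom := by
        apply le_antisymm _ hQ1
        have h1 : IsPGroup 2 ((Q : Subgroup (Sz F a)).comap e.symm.toMonoidHom) :=
          IsPGroup.comap_of_injective Q.2 _ e.symm.injective
        have h2 := P.is_maximal' h1 (by
          intro x hx
          apply hQ1
          rw [Subgroup.mem_comap]
          show e (e.symm x) ∈ _
          rw [e.apply_symm_apply]; exact hx)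
        intro x hx
        rw [← h2, Subgroup.mem_comap, Subgroup.mem_comap]
        show e.symm (e x) ∈ _
        rw [e.symm_apply_apply]; exact hx
      obtain ⟨g, hg⟩ := MulAction.exists_smul_eq (Sz F a) (PT (m := a) ha hF) Q
      have hg2 : (Q : Subgroup (Sz F a)) = cj g (TT (m := a) hF) := by
        rw [← hg, Sylow.coe_subgroup_smul]
        ext x
        rw [mem_cj, Subgroup.mem_pointwise_smul_iff_inv_smul_mem]
        have : (MulAut.conj g)⁻¹ • x = g⁻¹ * x * g := by
          rw [← map_inv, MulAut.smul_def, MulAut.conj_apply, inv_inv]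
        rw [this]; rfl
      rw [← hQ2, hg2, center_cj, center_TT ha hF]
      exact (bin_Z0 ha hF).cj g

end Cfsg.Agent.S5737
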