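import Cfsg.Statements.S3494
import Cfsg.Agent.Lib.H62.ExtPrim

set_option autoImplicit false
open Cfsg

namespace Cfsg.Agent.S3494

theorem result {G : Type*} [Group G] [Finite G] {Ω : Type*} [Fintype Ω] [MulAction G Ω] [FaithfulSMul G Ω] (hprim : MulAction.IsPreprimitive G Ω) (hH : ∀ α : Ω, MulAction.stabilizer G α ≠ ⊥) (hep : ∀ (α : Ω) (ω : Ω), MulAction.IsPreprimitive (MulAction.stabilizer G α) (MulAction.orbit (MulAction.stabilizer G α) ω))
    (α ω : Ω) (hω : ω ≠ α) (h : MulAction.stabilizer G α) (hfix : ∀ x ∈ MulAction.orbit (MulAction.stabilizer G α) ω, h • x = x) : h = 1 := by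
  have h1 := H62.ExtPrim.manning hH hep α ω hω
  have h2 : (h : G) ∈ H62.ExtPrim.kerOrb G α ω := by
    refine ⟨h.2, ?_⟩
    intro x hx
    exact hfix _ ⟨⟨x, hx⟩, rfl⟩
  rw [h1, Subgroup.mem_bot] at h2
  exact Subtype.ext h2

end Cfsg.Agent.S3494
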