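import Cfsg.Statements.S0213
import Cfsg.Agent.Lib.H5.BrauerFowler2

set_option autoImplicit false
open Cfsg

namespace Cfsg.Agent.S0213

open H5.BrauerFowler H5.BrauerFowler2 in
/-- The unique involution in a finite cyclic group generated by `w` of even order. -/
theorem invol_in_zpowers {G : Type*} [Group G] [Finite G] {w z : G} (hw : Even (orderOf w))
    (hz : orderOf z = 2) (hzw : z ∈ Subgroup.zpowers w) : z = w ^ (orderOf w / 2) := by
  obtain ⟨k, rfl⟩ := Subgroup.mem_zpowers_iff.mp hzw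
  obtain ⟨n, hn⟩ := hw
  have hpos := orderOf_pos w
  have h2 : w ^ (2 * k) = 1 := by
    have := H5.Dihedral.mul_self hz
    rw [two_mul, zpow_add]; exact this
  rw [← orderOf_dvd_iff_zpow_eq_one] at h2
  have h3 : ¬ ((orderOf w : ℤ) ∣ k) := by
    intro h
    have := orderOf_dvd_iff_zpow_eq_one.mp h
    exact H5.Dihedral.ne_one hz this
  have hn2 : orderOf w / 2 = n := by omega
  rw [hn2, ← zpow_natCast, zpow_eq_zpow_iff_modEq, Int.modEq_iff_dvd]
  rw [hn] at h2 h3 ⊢
  push_cast at h2 h3 ⊢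
  obtain ⟨c, hc⟩ := h2
  have hc2 : k = n * c := by
    have : 2 * k = 2 * (n * c) := by rw [hc]; ring
    omega
  subst hc2
  rcases Int.even_or_odd' c with ⟨m, rfl | rfl⟩
  · exfalso; apply h3; exact ⟨m, by ring⟩
  · exact ⟨-m, by ring⟩

/-- Thompson Order Formula, two-class case: if every involution of the finite group G is conjugate to exactly one of the non-conjugate involutions x₁, x₂, and nᵢ is the number of pairs (u, v) with u conjugate to x₁, v conjugate to x₂ and xᵢ in the cyclic group generated by uv, then |G| = |C(x₂)| n₁ + |C(x₁)| n₂. -/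
theorem result {G : Type*} [Group G] [Finite G] (x₁ x₂ : G) (h₁ : orderOf x₁ = 2) (h₂ : orderOf x₂ = 2) (hnc : ¬ IsConj x₁ x₂) (hall : ∀ t : G, orderOf t = 2 → IsConj x₁ t ∨ IsConj x₂ t) : Nat.card G = Nat.card (Subgroup.centralizer ({x₂} : Set G)) * Nat.card {p : G × G // IsConj x₁ p.1 ∧ IsConj x₂ p.2 ∧ x₁ ∈ Subgroup.zpowers (p.1 * p.2)} + Nat.card (Subgroup.centralizer ({x₁} : Set G)) * Nat.card {p : G × G // IsConj x₁ p.1 ∧ IsConj x₂ p.2 ∧ x₂ ∈ Subgroup.zpowers (p.1 * p.2)} := by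
  classical
  have : Fintype G := Fintype.ofFinite G
  -- A i = number of x in class i
  set c₁ := Nat.card (Subgroup.centralizer ({x₁} : Set G)) with hc₁
  set c₂ := Nat.card (Subgroup.centralizer ({x₂} : Set G)) with hc₂
  set N := Nat.card G with hN
  have hK₁ : Nat.card {x : G // IsConj x₁ x} * c₁ = N := H5.BrauerFowler.card_conj_mul_card_cent x₁
  have hK₂ : Nat.card {x : G // IsConj x₂ x} * c₂ = N := H5.BrauerFowler.card_conj_mul_card_cent x₂
  set k₁ := Nat.card {x : G // IsConj x₁ x}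
  set k₂ := Nat.card {x : G // IsConj x₂ x}
  -- invariance of the counts
  have hinv : ∀ (x y : G), IsConj x y →
      Nat.card {p : G × G // IsConj x₁ p.1 ∧ IsConj x₂ p.2 ∧ x ∈ Subgroup.zpowers (p.1 * p.2)} =
      Nat.card {p : G × G // IsConj x₁ p.1 ∧ IsConj x₂ p.2 ∧ y ∈ Subgroup.zpowers (p.1 * p.2)} := by
    intro x y hxy
    obtain ⟨g, rfl⟩ := isConj_iff.mp hxy
    have key : ∀ (g a b x : G), x ∈ Subgroup.zpowers (a * b) →
        g * x * g⁻¹ ∈ Subgroup.zpowers ((g * a * g⁻¹) * (g * b * g⁻¹)) := by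
      intro g a b x hx
      obtain ⟨k, rfl⟩ := Subgroup.mem_zpowers_iff.mp hx
      rw [Subgroup.mem_zpowers_iff]
      refine ⟨k, ?_⟩
      rw [← conj_zpow]; congr 1; group
    apply Nat.card_congr
    exact {
      toFun := fun p => ⟨(g * p.1.1 * g⁻¹, g * p.1.2 * g⁻¹),
        p.2.1.trans (isConj_iff.mpr ⟨g, rfl⟩), p.2.2.1.trans (isConj_iff.mpr ⟨g, rfl⟩),
        key g _ _ _ p.2.2.2⟩
      invFun := fun p => ⟨(g⁻¹ * p.1.1 * g⁻¹⁻¹, g⁻¹ * p.1.2 * g⁻¹⁻¹),
        p.2.1.trans (isConj_iff.mpr ⟨g⁻¹, rfl⟩), p.2.2.1.trans (isConj_iff.mpr ⟨g⁻¹, rfl⟩), by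
          have := key g⁻¹ _ _ _ p.2.2.2
          have e : g⁻¹ * (g * x * g⁻¹) * g⁻¹⁻¹ = x := by group
          rwa [e] at this⟩
      left_inv := fun p => by
        apply Subtype.ext; apply Prod.ext <;> simp [mul_assoc]
      right_inv := fun p => by
        apply Subtype.ext; apply Prod.ext <;> simp [mul_assoc] }
  -- fibration of pairs over involutions
  have hpairs : k₁ * k₂ = ∑ z ∈ H5.BrauerFowler2.invs G,
      Nat.card {p : G × G // IsConj x₁ p.1 ∧ IsConj x₂ p.2 ∧ z ∈ Subgroup.zpowers (p.1 * p.2)} := by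
    let A : Finset (G × G) := Finset.univ.filter (fun p => IsConj x₁ p.1 ∧ IsConj x₂ p.2)
    have hA : A.card = k₁ * k₂ := by
      rw [← Nat.card_prod, ← Fintype.card_coe, ← Nat.card_eq_fintype_card]
      apply Nat.card_congr
      exact {
        toFun := fun p => (⟨p.1.1, (Finset.mem_filter.mp p.2).2.1⟩, ⟨p.1.2, (Finset.mem_filter.mp p.2).2.2⟩)
        invFun := fun p => ⟨(p.1.1, p.2.1), Finset.mem_filter.mpr ⟨Finset.mem_univ _, p.1.2, p.2.2⟩⟩
        left_inv := fun p => rfl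
        right_inv := fun p => rfl }
    rw [← hA]
    have hev : ∀ p ∈ A, Even (orderOf (p.1 * p.2)) ∧
        orderOf ((p.1 * p.2) ^ (orderOf (p.1 * p.2) / 2)) = 2 := by
      intro p hp
      have hp' := (Finset.mem_filter.mp hp).2
      obtain ⟨d, hd⟩ := isConj_iff.mp hp'.1
      obtain ⟨e, he⟩ := isConj_iff.mp hp'.2
      have h1 : orderOf p.1 = 2 := by rw [← hd, H5.Dihedral.orderOf_conj]; exact h₁
      have h2 : orderOf p.2 = 2 := by rw [← he, H5.Dihedral.orderOf_conj]; exact h₂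
      have heven : Even (orderOf (p.1 * p.2)) := by
        by_contra hodd
        rw [Nat.not_even_iff_odd] at hodd
        obtain ⟨e, -, he⟩ := H5.Dihedral.conj_of_odd (H5.Dihedral.mul_self h1)
          (H5.Dihedral.mul_self h2) hodd
        exact hnc ((hp'.1.trans (isConj_iff.mpr ⟨e, he⟩ : IsConj p.1 p.2)).trans hp'.2.symm)
      exact ⟨heven, (H5.Dihedral.central_pow (H5.Dihedral.mul_self h1)
        (H5.Dihedral.mul_self h2) (orderOf_pos _).ne' heven).1⟩
    rw [Finset.card_eq_sum_card_fiberwise (f := fun p => (p.1 * p.2) ^ (orderOf (p.1 * p.2) / 2))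
      (t := H5.BrauerFowler2.invs G) (fun p hp => H5.BrauerFowler2.mem_invs.mpr (hev p hp).2)]
    apply Finset.sum_congr rfl
    intro z hz
    have hz2 := H5.BrauerFowler2.mem_invs.mp hz
    rw [← Fintype.card_coe, ← Nat.card_eq_fintype_card]
    apply Nat.card_congr
    apply Equiv.subtypeEquivRight
    intro p
    rw [Finset.mem_filter]
    constructor
    · rintro ⟨hp, hpz⟩
      have hp' := (Finset.mem_filter.mp hp).2
      refine ⟨hp'.1, hp'.2, ?_⟩
      rw [← hpz]
      exact Subgroup.pow_mem _ (Subgroup.mem_zpowers _) _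
    · rintro ⟨hp1, hp2, hpz⟩
      have hp : p ∈ A := Finset.mem_filter.mpr ⟨Finset.mem_univ _, hp1, hp2⟩
      exact ⟨hp, (invol_in_zpowers (hev p hp).1 hz2 hpz).symm⟩
  -- split involutions in the two classes
  have hsplit : ∑ z ∈ H5.BrauerFowler2.invs G,
      Nat.card {p : G × G // IsConj x₁ p.1 ∧ IsConj x₂ p.2 ∧ z ∈ Subgroup.zpowers (p.1 * p.2)} =
      k₁ * Nat.card {p : G × G // IsConj x₁ p.1 ∧ IsConj x₂ p.2 ∧ x₁ ∈ Subgroup.zpowers (p.1 * p.2)} +
      k₂ * Nat.card {p : G × G // IsConj x₁ p.1 ∧ IsConj x₂ p.2 ∧ x₂ ∈ Subgroup.zpowers (p.1 * p.2)} := by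
    have hU : H5.BrauerFowler2.invs G =
        (Finset.univ.filter (fun z => IsConj x₁ z)) ∪ (Finset.univ.filter (fun z => IsConj x₂ z)) := by
      ext z
      rw [H5.BrauerFowler2.mem_invs, Finset.mem_union, Finset.mem_filter, Finset.mem_filter]
      constructor
      · intro h
        rcases hall z h with h1 | h1
        · left; exact ⟨Finset.mem_univ _, h1⟩
        · right; exact ⟨Finset.mem_univ _, h1⟩
      · rintro (⟨-, h⟩ | ⟨-, h⟩)
        · obtain ⟨d, hd⟩ := isConj_iff.mp h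
          rw [← hd, H5.Dihedral.orderOf_conj]; exact h₁
        · obtain ⟨d, hd⟩ := isConj_iff.mp h
          rw [← hd, H5.Dihedral.orderOf_conj]; exact h₂
    have hdisj : Disjoint (Finset.univ.filter (fun z => IsConj x₁ z)) (Finset.univ.filter (fun z => IsConj x₂ z)) := by
      rw [Finset.disjoint_left]
      intro z hz1 hz2
      exact hnc ((Finset.mem_filter.mp hz1).2.trans (Finset.mem_filter.mp hz2).2.symm)
    rw [hU, Finset.sum_union hdisj]
    have hk : ∀ x : G, (Finset.univ.filter (fun z => IsConj x z)).card = Nat.card {z : G // IsConj x z} := by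
      intro x
      rw [← Fintype.card_coe, ← Nat.card_eq_fintype_card]
      exact Nat.card_congr (Equiv.subtypeEquivRight (fun z => by simp))
    congr 1
    · rw [show k₁ = _ from (hk x₁).symm, ← smul_eq_mul, ← Finset.sum_const]
      apply Finset.sum_congr rfl
      intro z hz
      exact (hinv x₁ z (Finset.mem_filter.mp hz).2).symm
    · rw [show k₂ = _ from (hk x₂).symm, ← smul_eq_mul, ← Finset.sum_const]
      apply Finset.sum_congr rfl
      intro z hz
      exact (hinv x₂ z (Finset.mem_filter.mp hz).2).symm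
  rw [hsplit] at hpairs
  set n₁ := Nat.card {p : G × G // IsConj x₁ p.1 ∧ IsConj x₂ p.2 ∧ x₁ ∈ Subgroup.zpowers (p.1 * p.2)}
  set n₂ := Nat.card {p : G × G // IsConj x₁ p.1 ∧ IsConj x₂ p.2 ∧ x₂ ∈ Subgroup.zpowers (p.1 * p.2)}
  have hNpos : 0 < N := Nat.card_pos
  apply Nat.eq_of_mul_eq_mul_left hNpos
  calc N * N = (k₁ * c₁) * (k₂ * c₂) := by rw [hK₁, hK₂]
    _ = (k₁ * k₂) * (c₁ * c₂) := by ring
    _ = (k₁ * n₁ + k₂ * n₂) * (c₁ * c₂) := by rw [hpairs]
    _ = (k₁ * c₁) * (c₂ * n₁) + (k₂ * c₂) * (c₁ * n₂) := by ring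
    _ = N * (c₂ * n₁ + c₁ * n₂) := by rw [hK₁, hK₂]; ring

end Cfsg.Agent.S0213
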