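import Cfsg.Statements.S0824
import Cfsg.Agent.Lib.H17.SmallOrth

set_option autoImplicit false
open Cfsg

namespace Cfsg.Agent.S0824

open Matrix H17.SmallOrth

abbrev Q2 : ((Fin 1 ⊕ Fin 1) ⊕ Fin 2 → ZMod 2) → ZMod 2 := Cfsg.quadFormMinus 1 (ZMod 2) 1 1

/-- The singular points. -/
abbrev X : Type := {v : (Fin 1 ⊕ Fin 1) ⊕ Fin 2 → ZMod 2 // v ≠ 0 ∧ Q2 v = 0}

theorem card_X : Nat.card X = 5 := by
  rw [Nat.card_eq_fintype_card]
  decide +kernel

theorem span_X : ∀ v : (Fin 1 ⊕ Fin 1) ⊕ Fin 2 → ZMod 2, ∃ x : (Fin 1 ⊕ Fin 1) ⊕ Fin 2 → ZMod 2,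
    Q2 x = 0 ∧ Q2 (v - x) = 0 := by
  decide +kernel

theorem two : Nonempty (↥(Cfsg.isometryGroup (ZMod 2) Q2) ≃* Equiv.Perm (Fin 5)) := by
  have hmem : ∀ g : ↥(Cfsg.isometryGroup (ZMod 2) Q2), ∀ v, Q2 (g.1.1 *ᵥ v) = Q2 v :=
    fun g => (H17.OrthDet.mem_isometryGroup_iff _ _).mp g.2
  have hne : ∀ g : ↥(Cfsg.isometryGroup (ZMod 2) Q2), ∀ v, v ≠ 0 → g.1.1 *ᵥ v ≠ 0 := by
    intro g v hv h
    apply hv
    have h1 : g.1⁻¹.1 *ᵥ (g.1.1 *ᵥ v) = v := by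
      rw [mulVec_mulVec]
      have : g.1⁻¹.1 * g.1.1 = 1 := by
        rw [← Units.val_mul, inv_mul_cancel]; rfl
      rw [this, one_mulVec]
    rw [← h1, h, mulVec_zero]
  obtain ⟨f, hf⟩ := exists_permHom (G := ↥(Cfsg.isometryGroup (ZMod 2) Q2)) (X := X)
    (fun g x => ⟨g.1.1 *ᵥ x.1, hne g _ x.2.1, by rw [hmem]; exact x.2.2⟩)
    (fun x => Subtype.ext (by
      change (1 : Matrix _ _ (ZMod 2)) *ᵥ x.1 = x.1
      exact one_mulVec _)) (fun g h x => Subtype.ext (by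
      change (g.1.1 * h.1.1) *ᵥ x.1 = g.1.1 *ᵥ (h.1.1 *ᵥ x.1)
      rw [mulVec_mulVec]))
  refine perm_of_faithful 5 card_X ?_ f ?_
  · have h1 : Nat.card ↥(Cfsg.isometryGroup (ZMod 2) Q2) = Nat.card (H7.Hyp.O Q2) :=
      H7.HypOrd.card_isometryGroup Q2
    have haniso : H7.AnisoPlane.Aniso (1 : ZMod 2) 1 := by
      unfold H7.AnisoPlane.Aniso
      decide
    have h2 := H7.MinusOrd.card_O_minus (F := ZMod 2) 1 haniso
    rw [H48.QuadStd.coe_qMinus] at h2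
    rw [h1, h2, Nat.card_zmod]
    decide
  · rw [injective_iff_map_eq_one]
    intro g hg
    have hfix : ∀ x, Q2 x = 0 → g.1.1 *ᵥ x = x := by
      intro x hx
      by_cases hx0 : x = 0
      · rw [hx0]; exact mulVec_zero _
      · have h1 := congrArg Subtype.val (hf g ⟨x, hx0, hx⟩)
        rw [hg] at h1
        exact h1.symm
    apply Subtype.ext
    apply Units.ext
    refine Matrix.ext_of_mulVec_single (fun i => ?_)
    generalize (Pi.single i 1 : (Fin 1 ⊕ Fin 1) ⊕ Fin 2 → ZMod 2) = v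
    obtain ⟨x, hx, hy⟩ := span_X v
    have h1 := congrArg₂ (· + ·) (hfix x hx) (hfix _ hy)
    simp only [← mulVec_add] at h1
    rw [add_sub_cancel] at h1
    rw [h1]
    exact (one_mulVec v).symm

/-- O⁻_4(2) ≅ S_5: the isometry group of the form x y + z_1² + z_1 z_2 + z_2² over the field with 2 elements is isomorphic to the symmetric group on 5 letters. -/
theorem result {F : Type*} [Field F] [Fintype F] (hF : Fintype.card F = 2) : Nonempty (↥(Cfsg.isometryGroup F (Cfsg.quadFormMinus 1 F 1 1)) ≃* Equiv.Perm (Fin 5)) := by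
  obtain ⟨σ⟩ := H17.SmallOrth.exists_ringEquiv_zmod 2 hF
  obtain ⟨e⟩ := two
  obtain ⟨f⟩ := H17.SmallOrth.equiv_isometryGroup σ (Cfsg.quadFormMinus 1 (ZMod 2) 1 1)
    (Cfsg.quadFormMinus 1 F 1 1) (fun v => by
      unfold Cfsg.quadFormMinus
      rw [map_add, map_sum]
      simp only [map_add, map_mul, map_pow, map_one])
  exact ⟨f.symm.trans e⟩

end Cfsg.Agent.S0824
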