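import Cfsg.Statements.S0804
import Cfsg.Agent.Lib.H17.PSL2Five

set_option autoImplicit false
open Cfsg

namespace Cfsg.Agent.S0804

/-- PSL_2(q) has a subgroup isomorphic to A_5 iff 5 ∣ q(q² − 1). -/
theorem result {F : Type*} [Field F] [Fintype F] {q : ℕ} (hF : Fintype.card F = q) : (∃ H : Subgroup (Matrix.ProjectiveSpecialLinearGroup (Fin 2) F), Nonempty (H ≃* alternatingGroup (Fin 5))) ↔ 5 ∣ q * (q ^ 2 - 1) := by
  classical
  have hq1 : 1 < q := by rw [← hF]; exact Fintype.one_lt_card
  obtain ⟨p, hp⟩ := CharP.exists F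
  have hpp : p.Prime := (CharP.char_is_prime_or_zero F p).resolve_right (by
    rintro rfl
    exact CharP.char_ne_zero_of_finite F 0 rfl)
  have : Fact p.Prime := ⟨hpp⟩
  obtain ⟨k, -, hk⟩ := FiniteField.card F p
  have e2 : (q + 1) * (q * (q - 1)) = q * (q ^ 2 - 1) := by
    have h4 : 1 ≤ q ^ 2 := Nat.one_le_pow _ _ (by omega)
    have h5 : 1 ≤ q := by omega
    zify [h4, h5]; ring
  constructor
  · rintro ⟨H, ⟨e⟩⟩
    have h60 : Nat.card H = 60 := by
      rw [Nat.card_congr e.toEquiv, nat_card_alternatingGroup, Nat.card_fin]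
      rfl
    have hdvd : 60 ∣ Nat.card (Matrix.ProjectiveSpecialLinearGroup (Fin 2) F) := by
      rw [← h60]; exact Subgroup.card_subgroup_dvd_card H
    have h2 := H98.DicksonPGL.card_psl_eq F
    rw [Nat.card_eq_fintype_card (α := F), hF, e2] at h2
    rw [← h2]
    exact Dvd.dvd.mul_left ((by norm_num : 5 ∣ 60).trans hdvd) _
  · intro h5
    have h5p : Nat.Prime 5 := by norm_num
    have hF4 : ∀ K : Type, ∀ (_ : Field K) (_ : Finite K) (m : ℕ),
        Nonempty (Matrix.ProjectiveSpecialLinearGroup (Fin 2) K ≃* alternatingGroup (Fin 5)) →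
        Nat.card K ^ m = Nat.card F →
        ∃ H : Subgroup (Matrix.ProjectiveSpecialLinearGroup (Fin 2) F),
          Nonempty (H ≃* alternatingGroup (Fin 5)) := by
      intro K _ _ m ⟨e⟩ hm
      obtain ⟨f⟩ := H17.SubfieldPSL.exists_ringHom (K := K) (F := F) m hm
      obtain ⟨φ, hφ⟩ := H17.SubfieldPSL.exists_pslHom f
      exact H17.SubfieldPSL.exists_subgroup (φ.comp e.symm.toMonoidHom) (hφ.comp e.symm.injective)
    have hnq : Nat.card F = p ^ (k : ℕ) := by rw [Nat.card_eq_fintype_card, hk]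
    have hqk : q = p ^ (k : ℕ) := by rw [← hF, hk]
    by_cases hp5 : p = 5
    · subst hp5
      exact hF4 (ZMod 5) inferInstance inferInstance k
        (H6.SmallIsoA.psl2_five (F := ZMod 5) (ZMod.card 5)) (by rw [Nat.card_zmod, hnq])
    have h5q : 5 ∣ q ^ 2 - 1 := by
      rcases (h5p.dvd_mul).mp h5 with h | h
      · exfalso
        rw [hqk] at h
        exact hp5 (((Nat.prime_dvd_prime_iff_eq h5p hpp).mp (h5p.dvd_of_dvd_pow h)).symm)
      · exact h
    by_cases hp2 : p = 2
    · subst hp2
      have hkeven : Even (k : ℕ) := by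
        by_contra hodd
        rw [Nat.not_even_iff_odd] at hodd
        obtain ⟨t, ht⟩ := hodd
        have h6 : q ^ 2 = 16 ^ t * 4 := by
          rw [hqk, ht, ← pow_mul, show (2 * t + 1) * 2 = 4 * t + 2 by ring, pow_add, pow_mul]
          norm_num
        have h7 : (16 ^ t * 4) % 5 = 4 := by
          rw [Nat.mul_mod, Nat.pow_mod]
          norm_num
        have h8 : 1 ≤ q ^ 2 := Nat.one_le_pow _ _ (by omega)
        omega
      obtain ⟨m, hm⟩ := hkeven
      refine hF4 (GaloisField 2 2) inferInstance inferInstance m ?_ ?_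
      · have := Fintype.ofFinite (GaloisField 2 2)
        apply H6.SmallIsoA.psl2_four
        rw [← Nat.card_eq_fintype_card, GaloisField.card 2 2 (by norm_num)]
        norm_num
      · rw [GaloisField.card 2 2 (by norm_num), hnq, ← pow_mul]
        congr 1
        omega
    · apply H17.PSL2Five.exists_A5
      · rw [hk]
        exact (hpp.odd_of_ne_two hp2).pow
      · rw [hF]; exact h5q

end Cfsg.Agent.S0804
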