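import Cfsg.Statements.S0803
import Cfsg.Agent.Lib.H17.PSL2FourB

set_option autoImplicit false
open Cfsg

namespace Cfsg.Agent.S0803

/-- PSL_2(q) has a subgroup isomorphic to S_4 iff q² ≡ 1 (mod 16). -/
theorem result {F : Type*} [Field F] [Fintype F] {q : ℕ} (hF : Fintype.card F = q) : (∃ H : Subgroup (Matrix.ProjectiveSpecialLinearGroup (Fin 2) F), Nonempty (H ≃* Equiv.Perm (Fin 4))) ↔ q ^ 2 % 16 = 1 := by
  classical
  have hcardF : 1 < Fintype.card F := Fintype.one_lt_card
  obtain ⟨p, hp⟩ := CharP.exists F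
  have hpp : p.Prime := (CharP.char_is_prime_or_zero F p).resolve_right (by
    rintro rfl
    exact CharP.char_ne_zero_of_finite F 0 rfl)
  have : Fact p.Prime := ⟨hpp⟩
  obtain ⟨k, -, hk⟩ := FiniteField.card F p
  constructor
  · rintro ⟨H, ⟨e⟩⟩
    by_cases hp2 : p = 2
    · exfalso
      subst hp2
      let f : Equiv.Perm (Fin 4) →* Matrix.ProjectiveSpecialLinearGroup (Fin 2) F :=
        H.subtype.comp e.symm.toMonoidHom
      have hf : Function.Injective f := H.subtype_injective.comp e.symm.injective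
      obtain ⟨c, hc4, hc2⟩ : ∃ c : Equiv.Perm (Fin 4), c ^ 4 = 1 ∧ c * c ≠ 1 :=
        ⟨finRotate 4, by decide, by decide⟩
      obtain ⟨C, hC⟩ := H17.QuatPair.exists_pr (f c)
      have h1 : C ^ 4 = 1 := by
        rw [← H17.PSL2Four.pr_one_iff]
        have : H17.QuatPair.pr (C ^ 4) = H17.QuatPair.pr C ^ 4 := rfl
        rw [this, hC, ← map_pow, hc4, map_one]
      have h2 := H17.PSL2Four.sq_of_pow_four h1
      rw [← H17.PSL2Four.pr_one_iff, H17.QuatPair.pr_mul, hC, ← map_mul] at h2
      exact hc2 (hf (by rw [h2, map_one]))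
    · have hodd : Odd q := by
        rw [← hF, hk]
        exact (hpp.odd_of_ne_two hp2).pow
      have h2 : (2 : F) ≠ 0 := H45.SL2.two_ne_zero_of_odd (by rw [hF]; exact hodd)
      have h24 : Nat.card H = 24 := by
        rw [Nat.card_congr e.toEquiv, Nat.card_eq_fintype_card, Fintype.card_perm]
        rfl
      have hdvd : 24 ∣ Nat.card (Matrix.ProjectiveSpecialLinearGroup (Fin 2) F) := by
        rw [← h24]; exact Subgroup.card_subgroup_dvd_card H
      have h3 : Nat.card (Matrix.SpecialLinearGroup (Fin 2) F) =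
          Nat.card (Matrix.ProjectiveSpecialLinearGroup (Fin 2) F) * 2 := by
        refine H17.LineCount.card_fib H17.QuatPair.pr 2 ?_
        intro a
        obtain ⟨x, rfl⟩ := H17.QuatPair.exists_pr a
        exact H17.QuatPair.negneg_card h2 x
      have h4 : 48 ∣ q * (q - 1) * (q + 1) := by
        rw [← hF, ← H45.SL2.card_SL2, h3]
        obtain ⟨r, hr⟩ := hdvd
        exact ⟨r, by rw [hr]; ring⟩
      obtain ⟨r, hr⟩ := hodd
      have h5 : 16 ∣ q * ((q - 1) * (q + 1)) := by
        rw [← mul_assoc]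
        exact (by norm_num : 16 ∣ 48).trans h4
      have hcop : Nat.Coprime 16 q := by
        rw [show 16 = 2 ^ 4 by norm_num]
        apply Nat.Coprime.pow_left
        rw [Nat.coprime_two_left, hr]
        exact ⟨r, rfl⟩
      have h6 := hcop.dvd_of_dvd_mul_left h5
      have h7 : (q - 1) * (q + 1) + 1 = q ^ 2 := by
        rw [hr]
        simp only [Nat.add_sub_cancel]
        ring
      rw [← h7]
      obtain ⟨s, hs⟩ := h6
      rw [hs]
      omega
  · intro h
    have hodd : Odd q := by
      rw [← Nat.not_even_iff_odd]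
      rintro ⟨r, rfl⟩
      have : (r + r) ^ 2 = 2 * (2 * (r * r)) := by ring
      rw [this] at h
      omega
    have h2 : (2 : F) ≠ 0 := H45.SL2.two_ne_zero_of_odd (by rw [hF]; exact hodd)
    apply H17.PSL2Four.exists_S4 h2
    rw [FiniteField.isSquare_two_iff, hF]
    have key : ∀ r : ℕ, q = 16 * r + 3 ∨ q = 16 * r + 5 ∨ q = 16 * r + 11 ∨ q = 16 * r + 13 →
        False := by
      intro r hr
      rcases hr with hr | hr | hr | hr
      · rw [hr, show (16 * r + 3) ^ 2 = 16 * (16 * r * r + 6 * r) + 9 by ring] at h; omega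
      · rw [hr, show (16 * r + 5) ^ 2 = 16 * (16 * r * r + 10 * r + 1) + 9 by ring] at h; omega
      · rw [hr, show (16 * r + 11) ^ 2 = 16 * (16 * r * r + 22 * r + 7) + 9 by ring] at h; omega
      · rw [hr, show (16 * r + 13) ^ 2 = 16 * (16 * r * r + 26 * r + 10) + 9 by ring] at h; omega
    constructor
    · intro h9
      apply key (q / 16)
      omega
    · intro h9
      apply key (q / 16)
      omega

end Cfsg.Agent.S0803
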