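import Cfsg.Statements.S5938
import Cfsg.Agent.Lib.H98.DicksonSmall
import Cfsg.Agent.S0803

set_option autoImplicit false
open Cfsg

namespace Cfsg.Agent.S5938

/-- Let p be a prime with p ≡ ±1 (mod 8) and F a field with p elements. Then PSL_2(F) has a maximal subgroup isomorphic to the symmetric group S_4. -/
theorem result {F : Type*} [Field F] [Fintype F] (p : ℕ) [Fact p.Prime] (hF : Fintype.card F = p) (hp : p % 8 = 1 ∨ p % 8 = 7) : ∃ H : Subgroup (Matrix.ProjectiveSpecialLinearGroup (Fin 2) F), IsCoatom H ∧ Nonempty (H ≃* Equiv.Perm (Fin 4)) := by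
  classical
  haveI hfG : Finite (Matrix.ProjectiveSpecialLinearGroup (Fin 2) F) := inferInstanceAs (Finite (_ ⧸ _))
  have hF' : Nat.card F = p := by rw [Nat.card_eq_fintype_card, hF]
  have hpp : p.Prime := Fact.out
  haveI : CharP F p := by
    obtain ⟨l, hl⟩ := CharP.exists F
    haveI : Fact l.Prime := ⟨CharP.char_is_prime F l⟩
    obtain ⟨n, h1, hn⟩ := H98.DicksonIdx.char_dvd (F := F) l
    rw [hF'] at hn
    have : l ∣ p := by rw [hn]; exact dvd_pow_self l (by omega)
    rwa [(Nat.prime_dvd_prime_iff_eq Fact.out hpp).mp this] at hl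
  obtain ⟨H, hH⟩ := (Cfsg.Agent.S0803.result (F := F) (q := p) hF).mpr (by
    rcases hp with h | h
    · obtain ⟨s, hs⟩ : ∃ s, p = 8 * s + 1 := ⟨p / 8, by omega⟩
      have : p ^ 2 = 16 * (4 * s * s + s) + 1 := by rw [hs]; ring
      omega
    · obtain ⟨s, hs⟩ : ∃ s, p = 8 * s + 7 := ⟨p / 8, by omega⟩
      have : p ^ 2 = 16 * (4 * s * s + 7 * s + 3) + 1 := by rw [hs]; ring
      omega)
  refine ⟨H, ?_, hH⟩
  have hp7 : 7 ≤ p := by
    have := hpp.two_le
    by_contra hlt
    have : p = 1 := by omega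
    rw [this] at hpp; exact Nat.not_prime_one hpp
  have hcH := H98.DicksonIdx.card_S4 hH
  have hpF := H98.DicksonPGL.card_psl_eq F
  rw [H98.DicksonIdx.gcd_odd (by rw [hF', Nat.odd_iff]; omega), hF'] at hpF
  apply H98.DicksonMax.coatom_of
  · intro htop
    rw [htop, Subgroup.card_top] at hcH
    rw [hcH] at hpF
    have : 8 * (7 * 6) ≤ (p + 1) * (p * (p - 1)) := Nat.mul_le_mul (by omega) (Nat.mul_le_mul hp7 (by omega))
    omega
  · intro M hle hM
    have hdM : Nat.card H ∣ Nat.card M := Subgroup.card_dvd_of_le hle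
    obtain ⟨⟨x, y, hxy⟩, a, b, hab, hab1⟩ := H98.DicksonSmall.S4_elts
    rcases H98.DicksonSmall.small_list' p (by omega) H M hM hle hH x y hxy a b hab hab1 with ⟨-, h⟩ | ⟨-, h⟩ | ⟨-, h⟩ | ⟨K, m, hm, hK, -⟩
    · rw [hcH, h] at hdM; norm_num at hdM
    · rw [hcH, h]
    · rw [hcH, h] at hdM; norm_num at hdM
    · exfalso
      rw [hF'] at hK
      have : ¬ p.Prime := by
        rw [← hK]
        exact Nat.Prime.not_prime_pow hm
      exact this hpp

end Cfsg.Agent.S5938
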