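import Cfsg.Statements.S5941
import Cfsg.Agent.Lib.H98.DicksonSub

set_option autoImplicit false
open Cfsg

namespace Cfsg.Agent.S5941

/-- Let K and F be finite fields of odd characteristic with #F = (#K)². Then PSL_2(F) has a maximal subgroup isomorphic to PGL_2(K). -/
theorem result {F K : Type*} [Field F] [Fintype F] [Field K] [Fintype K] (q : ℕ) (hK : Fintype.card K = q) (hF : Fintype.card F = q ^ 2) (hq : Odd q) : ∃ H : Subgroup (Matrix.ProjectiveSpecialLinearGroup (Fin 2) F), IsCoatom H ∧ Nonempty (H ≃* Matrix.ProjGenLinGroup (Fin 2) K) := by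
  classical
  haveI hfG : Finite (Matrix.ProjectiveSpecialLinearGroup (Fin 2) F) := inferInstanceAs (Finite (_ ⧸ _))
  have hK' : Nat.card K = q := by rw [Nat.card_eq_fintype_card, hK]
  have hF' : Nat.card F = q ^ 2 := by rw [Nat.card_eq_fintype_card, hF]
  have h1K : 1 < Nat.card K := Finite.one_lt_card
  have hFK : Nat.card F = Nat.card K ^ 2 := by rw [hF', hK']
  have hKo : Odd (Nat.card K) := by rw [hK']; exact hq
  have hFo : Odd (Nat.card F) := by rw [hF']; exact hq.pow
  have h1F : 1 < Nat.card F := Finite.one_lt_card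
  have hK3 : 3 ≤ Nat.card K := by obtain ⟨s, hs⟩ := hKo; omega
  obtain ⟨f⟩ := H98.DicksonSub.exists_ringHom K F 2 hFK
  let ψ := H98.DicksonSub.pslMap f
  have hψ : Function.Injective ψ := H98.DicksonSub.pslMap_injective f
  obtain ⟨p, hpc⟩ := CharP.exists F
  haveI hpp : Fact p.Prime := ⟨CharP.char_is_prime F p⟩
  let μ : Matrix.ProjGenLinGroup (Fin 2) K →* Matrix.ProjGenLinGroup (Fin 2) F := Matrix.ProjGenLinGroup.map f
  have hμ : Function.Injective μ := H98.DicksonPGL.map_injective f
  have hι : Function.Injective (H98.DicksonPSL.ιP F) := Matrix.ProjectiveSpecialLinearGroup.toPGL_injective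
  -- squares
  have hsq : ∀ d : K, d ≠ 0 → IsSquare (f d) := by
    intro d hd
    have hch : ringChar F ≠ 2 := by
      intro h
      haveI : CharP F 2 := h ▸ ringChar.charP F
      exact (Nat.not_even_iff_odd.mpr hFo) (H98.DicksonIdx.even_of_two (F := F))
    rw [FiniteField.isSquare_iff hch (by rwa [ne_eq, map_eq_zero])]
    have h1 : d ^ (Nat.card K - 1) = 1 := by
      rw [Nat.card_eq_fintype_card]; exact FiniteField.pow_card_sub_one_eq_one d hd
    have h2 : Fintype.card F / 2 = (Nat.card K - 1) * ((Nat.card K + 1) / 2) := by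
      rw [hF, ← hK']
      obtain ⟨s, hs⟩ := hKo
      rw [hs]
      have e1 : (2 * s + 1) ^ 2 = 2 * (2 * s * (s + 1)) + 1 := by ring
      have e2 : (2 * s + 1 + 1) / 2 = s + 1 := by omega
      rw [e2, e1, Nat.add_sub_cancel]; omega
    rw [h2, ← map_pow, pow_mul, h1, one_pow, map_one]
  have hrange : μ.range ≤ (H98.DicksonPSL.ιP F).range := by
    rintro _ ⟨g, rfl⟩
    induction g using Matrix.ProjGenLinGroup.induction_on with | mk g =>
    have hd0 : (Matrix.GeneralLinearGroup.det g : K) ≠ 0 := Units.ne_zero _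
    obtain ⟨c, hc⟩ := hsq _ hd0
    have hc0 : c ≠ 0 := by
      rintro rfl
      rw [mul_zero, map_eq_zero] at hc
      exact hd0 hc
    let u : Fˣ := Units.mk0 c hc0
    have hdet : ((Matrix.GeneralLinearGroup.scalar (Fin 2) u⁻¹ * Matrix.GeneralLinearGroup.map f g : Matrix.GeneralLinearGroup (Fin 2) F) :
        Matrix (Fin 2) (Fin 2) F).det = 1 := by
      rw [← Matrix.GeneralLinearGroup.val_det_apply, map_mul]
      have h1 : Matrix.GeneralLinearGroup.det (Matrix.GeneralLinearGroup.scalar (Fin 2) u⁻¹) = (u⁻¹) ^ 2 := by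
        apply Units.ext
        rw [Matrix.GeneralLinearGroup.val_det_apply, Matrix.GeneralLinearGroup.coe_scalar]
        simp
      have h2 : Matrix.GeneralLinearGroup.det (Matrix.GeneralLinearGroup.map f g) = u ^ 2 := by
        apply Units.ext
        rw [Matrix.GeneralLinearGroup.map_det]
        show f (Matrix.GeneralLinearGroup.det g : K) = _
        rw [hc, Units.val_pow_eq_pow_val, pow_two]; rfl
      rw [h1, h2, ← mul_pow, inv_mul_cancel, one_pow]; rfl
    let s : Matrix.SpecialLinearGroup (Fin 2) F := ⟨_, hdet⟩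
    refine ⟨(s : Matrix.ProjectiveSpecialLinearGroup (Fin 2) F), ?_⟩
    show Matrix.ProjectiveSpecialLinearGroup.toPGL _ = _
    rw [Matrix.ProjectiveSpecialLinearGroup.toPGL_mk]
    have h1 : Matrix.SpecialLinearGroup.toGL s = Matrix.GeneralLinearGroup.scalar (Fin 2) u⁻¹ * Matrix.GeneralLinearGroup.map f g := by
      apply Units.ext; rfl
    rw [h1, map_mul, Matrix.ProjGenLinGroup.mk_scalar, one_mul]
    rfl
  let H : Subgroup (Matrix.ProjectiveSpecialLinearGroup (Fin 2) F) := μ.range.comap (H98.DicksonPSL.ιP F)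
  have hHmap : H.map (H98.DicksonPSL.ιP F) = μ.range := Subgroup.map_comap_eq_self hrange
  have e : H ≃* Matrix.ProjGenLinGroup (Fin 2) K :=
    (H.equivMapOfInjective _ hι).trans ((MulEquiv.subgroupCongr hHmap).trans (MonoidHom.ofInjective hμ).symm)
  have hcH : Nat.card H = (Nat.card K + 1) * (Nat.card K * (Nat.card K - 1)) := by
    rw [Nat.card_congr e.toEquiv, H98.DicksonPGL.card_pgl_eq]
  have hψH : ψ.range ≤ H := by
    rintro _ ⟨x, rfl⟩
    show Matrix.ProjectiveSpecialLinearGroup.toPGL (ψ x) ∈ μ.range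
    rw [H98.DicksonSub.toPGL_pslMap]
    exact ⟨Matrix.ProjectiveSpecialLinearGroup.toPGL x, rfl⟩
  refine ⟨H, ?_, ⟨e⟩⟩
  have hpF := H98.DicksonPGL.card_psl_eq F
  rw [H98.DicksonIdx.gcd_odd hFo] at hpF
  apply H98.DicksonMax.coatom_of
  · intro htop
    rw [htop, Subgroup.card_top] at hcH
    rw [hcH] at hpF
    have h3 : (Nat.card K + 1) * (Nat.card K * (Nat.card K - 1)) = Nat.card K * (Nat.card F - 1) := by
      rw [hFK, ← H98.DicksonSub.sq_sub_one _ h1K.le]; ring
    rw [h3] at hpF
    have h4 : 3 * Nat.card K ≤ Nat.card F := by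
      rw [hFK, pow_two]; exact Nat.mul_le_mul_right _ hK3
    have h5 : 2 * (Nat.card K * (Nat.card F - 1)) < (Nat.card F + 1) * (Nat.card F * (Nat.card F - 1)) := by
      have h6 : 2 * (Nat.card K * (Nat.card F - 1)) ≤ Nat.card F * (Nat.card F - 1) := by
        rw [← mul_assoc]; exact Nat.mul_le_mul_right _ (by omega)
      have h7 : 2 * (Nat.card F * (Nat.card F - 1)) ≤ (Nat.card F + 1) * (Nat.card F * (Nat.card F - 1)) :=
        Nat.mul_le_mul_right _ (by omega)
      have h8 : 0 < Nat.card F * (Nat.card F - 1) := Nat.mul_pos (by omega) (by omega)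
      omega
    omega
  · intro M hle hM
    have hdM : Nat.card H ∣ Nat.card M := Subgroup.card_dvd_of_le hle
    have hleM := Nat.le_of_dvd Nat.card_pos hdM
    rcases H98.DicksonSub.sub_list p K 2 Nat.prime_two hFK (by omega) ψ hψ M hM (hψH.trans hle) with h | ⟨-, h⟩ | ⟨h2, h3, h⟩ | ⟨h2, h5, h⟩
    · rw [h, hcH]
    · rw [hcH, ← h] at hleM
      have : 0 < Nat.card M := Nat.card_pos
      omega
    · exfalso
      obtain ⟨a, ha1, ha⟩ := H98.DicksonIdx.char_dvd (F := F) p
      have hK5 : 5 ≤ Nat.card K := by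
        by_contra hlt
        have hK3' : Nat.card K = 3 := by obtain ⟨s, hs⟩ := hKo; omega
        rw [hFK, hK3'] at ha
        have : p ∣ 3 ^ 2 := by rw [ha]; exact dvd_pow_self p (by omega)
        exact h3 ((Nat.prime_dvd_prime_iff_eq hpp.out Nat.prime_three).mp (hpp.out.dvd_of_dvd_pow this))
      have : 6 * (5 * 4) ≤ (Nat.card K + 1) * (Nat.card K * (Nat.card K - 1)) :=
        Nat.mul_le_mul (by omega) (Nat.mul_le_mul hK5 (by omega))
      omega
    · exfalso
      have hK5 : Nat.card K < 5 := by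
        by_contra hge
        have : 6 * (5 * 4) ≤ (Nat.card K + 1) * (Nat.card K * (Nat.card K - 1)) :=
          Nat.mul_le_mul (by omega) (Nat.mul_le_mul (by omega) (by omega))
        omega
      have hK3' : Nat.card K = 3 := by obtain ⟨s, hs⟩ := hKo; omega
      rw [hcH, hK3', h] at hdM
      norm_num at hdM

end Cfsg.Agent.S5941
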