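import Cfsg.Statements.S5891
import Cfsg.Agent.Lib.H98.PGLMax15

set_option autoImplicit false
open Cfsg

namespace Cfsg.Agent.S5891

/-- Let F be a finite field of odd order q > 3 and characteristic p, and let M be a maximal subgroup of PGL₂(F) not containing the image L of SL₂(F) (a copy of PSL₂(F) of index 2). Then one of the following holds: |M| = q(q − 1) (M is the stabiliser of a point of the projective line); q ≠ 5 and M is dihedral of order 2(q − 1); M is dihedral of order 2(q + 1); q = p ≡ ±3 (mod 8) and M ≅ S₄; or q = q₀^r for an odd prime r and M ≅ PGL₂(F₀) with |F₀| = q₀. -/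
theorem result {F : Type*} [Field F] [Fintype F]
    (hodd : Odd (Fintype.card F)) (h3 : 3 < Fintype.card F) (M : Subgroup (Matrix.ProjGenLinGroup (Fin 2) F)) (hM : IsCoatom M)
    (hML : ¬ (Matrix.ProjGenLinGroup.mk.comp Matrix.SpecialLinearGroup.toGL).range ≤ M) :
    Nat.card M = Fintype.card F * (Fintype.card F - 1) ∨
    (Fintype.card F ≠ 5 ∧ Nonempty (M ≃* DihedralGroup (Fintype.card F - 1))) ∨
    Nonempty (M ≃* DihedralGroup (Fintype.card F + 1)) ∨
    ((Fintype.card F).Prime ∧ (Fintype.card F % 8 = 3 ∨ Fintype.card F % 8 = 5) ∧ Nonempty (M ≃* Equiv.Perm (Fin 4))) ∨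
    (∃ (F₀ : Type) (_ : Field F₀) (_ : Fintype F₀) (r : ℕ), r.Prime ∧ Odd r ∧ Fintype.card F = Fintype.card F₀ ^ r ∧
        Nonempty (M ≃* Matrix.ProjGenLinGroup (Fin 2) F₀)) := by
  classical
  have hFc : Nat.card F = Fintype.card F := Nat.card_eq_fintype_card
  obtain ⟨p, hpc⟩ := CharP.exists F
  haveI hpp : Fact p.Prime := ⟨CharP.char_is_prime F p⟩
  have hcov := covBy_top_iff.mpr hM
  rcases H98.PGLMax13.class_top p (by rw [hFc]; omega) hcov (Or.inr hML) with h | ⟨⟨f⟩⟩ | ⟨⟨f⟩⟩ | ⟨h1, h2, h3⟩ | ⟨K, r, hr, hro, hK, ⟨e⟩⟩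
  · left; rw [h, hFc]
  · right; left
    rw [hFc] at f
    refine ⟨?_, ⟨f⟩⟩
    intro h5
    apply H98.PGLMax15.no_pgl5 (by rw [hFc]; exact h5) hcov
    rw [Nat.card_congr f.toEquiv, h5, DihedralGroup.nat_card]
  · right; right; left
    rw [hFc] at f; exact ⟨f⟩
  · right; right; right; left
    rw [hFc] at h1
    exact ⟨by rw [h1]; exact hpp.out, by rw [h1]; exact h2, h3⟩
  · right; right; right; right
    obtain ⟨F₀, i1, i2, hc, hE⟩ := H98.PGLMax13.small_pgl K e
    exact ⟨F₀, i1, i2, r, hr, hro (by rw [hFc]; exact hodd), by rw [hc, hK, hFc], hE⟩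

end Cfsg.Agent.S5891
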