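import Cfsg.Statements.S3360
import Cfsg.Agent.Lib.H74.HupM
-- import your own Cfsg.Agent.* helpers here

set_option autoImplicit false
open Cfsg

namespace Cfsg.Agent.S3360

/-- Let q be a prime and V a non-trivial finite vector space over the field with q elements, and let G be a finite solvable group acting faithfully and linearly on V and transitively on the non-zero vectors. Then either V can be identified with the additive group of a finite field F in such a way that every element of G acts as x ↦ a·σ(x) for some a ∈ F and some field automorphism σ, or the number of elements of V is one of 3^2, 5^2, 7^2, 11^2, 23^2, 3^4. -/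
theorem result
    (q : ℕ) [Fact q.Prime] {V : Type*} [AddCommGroup V] [Module (ZMod q) V] [Finite V] [Nontrivial V]
    {G : Type*} [Group G] [Finite G] (hsol : Group.IsSolvable G)
    (ρ : G →* (V ≃ₗ[ZMod q] V)) (hρ : Function.Injective ρ)
    (htrans : ∀ v w : V, v ≠ 0 → w ≠ 0 → ∃ g : G, ρ g v = w) :
    (∃ (F : Type) (_ : Field F) (_ : Fintype F) (e : V ≃+ F),
        ∀ g : G, ∃ (a : F) (σ : F ≃+* F), ∀ v : V, e (ρ g v) = a * σ (e v)) ∨
    Nat.card V ∈ ({9, 25, 49, 121, 529, 81} : Set ℕ) := by
  classical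
  have hp : q.Prime := Fact.out
  have hfin : Finite (V ≃ₗ[ZMod q] V) :=
    Finite.of_injective (fun e : V ≃ₗ[ZMod q] V => (e : V → V)) DFunLike.coe_injective
  let E : G ≃* ρ.range := MonoidHom.ofInjective hρ
  have hE : ∀ (g : G) (v : V), ((E g : ρ.range) : V ≃ₗ[ZMod q] V) v = ρ g v := fun g v => rfl
  have hsol' : Group.IsSolvable ρ.range := Group.isSolvable_of_surjective E.surjective
  have hfaith : FaithfulSMul ρ.range V := ⟨by
    intro a b hab
    apply Subtype.ext
    exact LinearEquiv.ext hab⟩
  have htr : ∀ x y : V, x ≠ 0 → y ≠ 0 → ∃ b : ρ.range, b • x = y := by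
    intro v w hv hw
    obtain ⟨g, hg⟩ := htrans v w hv hw
    exact ⟨E g, hg⟩
  have hcard : Nat.card V = q ^ Module.finrank (ZMod q) V := by
    rw [Module.natCard_eq_pow_finrank (K := ZMod q), Nat.card_zmod]
  have hq : ∀ e : V, q • e = 0 := fun e => ZModModule.char_nsmul_eq_zero (n := q) e
  rcases H74.Hup.main (B := ρ.range) (E := V) hp hq hcard hsol' htr with ⟨A, hAn, hAc, hself⟩ | h
  · left
    obtain ⟨K, iK, iKf, φ, s, hker, hs⟩ := H16.OddLin.semilinear (B := ρ.range) (E := V) htr A hAc
      (fun b hb => hself b hb) hp hq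
    obtain ⟨F, iF, iFf, ⟨θ⟩⟩ := H74.Semi.exists_type0 K
    obtain ⟨e, s', h1, h2⟩ := H74.Semi.transport φ s θ
    refine ⟨F, iF, iFf, e, fun g => ?_⟩
    obtain ⟨c, hc⟩ := hs (E g)
    obtain ⟨c', hc'⟩ := h2 (E g) (fun v => ρ g v) c hc
    exact ⟨c', s' (E g), hc'⟩
  · exact Or.inr h

end Cfsg.Agent.S3360
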