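import Cfsg.Statements.S3761
import Cfsg.Agent.Lib.H65.CycSC3

set_option autoImplicit false
open Cfsg

namespace Cfsg.Agent.S3761

/-- Let G be a finite non-abelian p-group with a cyclic normal subgroup U of order p^n such that C_G(U) = U. Then either p = 2 and G is dihedral, generalized quaternion or semidihedral of order 2^(n+1); or, writing U₁ for the subgroup generated by the p-th powers of elements of U and M = C_G(U₁), the subgroup U has index p in M and the subgroup Ω₁(M) generated by the elements of M of order dividing p is elementary abelian of order p² and characteristic in G. -/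
theorem result {G : Type*} [Group G] [Finite G] {p : ℕ} [Fact p.Prime] (hG : IsPGroup p G) (hna : ¬ IsMulCommutative G) (U : Subgroup G) [U.Normal] (hU : IsCyclic U) (n : ℕ) (hUn : Nat.card U = p ^ n) (hC : Subgroup.centralizer (U : Set G) = U) : (p = 2 ∧ Nat.card G = 2 ^ (n + 1) ∧ ((∃ m : ℕ, Nonempty (G ≃* DihedralGroup m)) ∨ (∃ m : ℕ, Nonempty (G ≃* QuaternionGroup m)) ∨ Cfsg.IsQuasiDihedral G)) ∨ (U.relIndex (Subgroup.centralizer (Cfsg.powerClosure p 1 U : Set G)) = p ∧ Cfsg.IsElementaryAbelian p (Cfsg.omegaOne p (Subgroup.centralizer (Cfsg.powerClosure p 1 U : Set G))) ∧ Nat.card ↥(Cfsg.omegaOne p (Subgroup.centralizer (Cfsg.powerClosure p 1 U : Set G))) = p ^ 2 ∧ (Cfsg.omegaOne p (Subgroup.centralizer (Cfsg.powerClosure p 1 U : Set G))).Characteristic) := by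
  obtain ⟨⟨u, huU⟩, hgen⟩ := hU
  have hUz : U = Subgroup.zpowers u := by
    apply le_antisymm
    · intro x hx
      obtain ⟨i, hi⟩ := hgen ⟨x, hx⟩
      exact ⟨i, congrArg Subtype.val hi⟩
    · rw [Subgroup.zpowers_le]; exact huU
  have hUn' : U.Normal := inferInstance
  clear hgen
  subst hUz
  have h : H65.CycSC.SC p n u := by
    refine ⟨?_, ?_, ?_⟩
    · rw [← hUn, Nat.card_zpowers]
    · intro g
      obtain ⟨k, hk⟩ := Subgroup.mem_zpowers_iff.mp (hUn'.conj_mem u huU g)
      exact ⟨k, hk.symm⟩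
    · intro g hg
      rw [← hC, Subgroup.mem_centralizer_iff]
      intro x hx
      obtain ⟨i, rfl⟩ := Subgroup.mem_zpowers_iff.mp hx
      exact ((show Commute g u from hg).zpow_right i).eq.symm
  have hn : 2 ≤ n := H65.CycSC.two_le hG h hna
  have hne : ∃ g : G, g ∉ Subgroup.zpowers u := by
    by_contra hcon
    push Not at hcon
    apply hna
    refine ⟨⟨fun a b => ?_⟩⟩
    obtain ⟨i, rfl⟩ := Subgroup.mem_zpowers_iff.mp (hcon a)
    obtain ⟨j, rfl⟩ := Subgroup.mem_zpowers_iff.mp (hcon b)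
    exact ((Commute.refl u).zpow_zpow i j).eq
  have key : (p ≠ 2 ∨ 3 ≤ n) → ∀ t : G, t ∉ Subgroup.zpowers u → t * u ^ p = u ^ p * t →
      ((Subgroup.zpowers u).relIndex (Subgroup.centralizer (Cfsg.powerClosure p 1 (Subgroup.zpowers u) : Set G)) = p ∧ Cfsg.IsElementaryAbelian p (Cfsg.omegaOne p (Subgroup.centralizer (Cfsg.powerClosure p 1 (Subgroup.zpowers u) : Set G))) ∧ Nat.card ↥(Cfsg.omegaOne p (Subgroup.centralizer (Cfsg.powerClosure p 1 (Subgroup.zpowers u) : Set G))) = p ^ 2 ∧ (Cfsg.omegaOne p (Subgroup.centralizer (Cfsg.powerClosure p 1 (Subgroup.zpowers u) : Set G))).Characteristic) := by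
    intro hpn t ht1 ht2
    obtain ⟨s, c, hd⟩ := H65.CycSC2.exists_s hG h hn hpn ht1 ht2
    have h1 := H65.CycSC3.omega_facts hG h hn hpn hd
    exact ⟨H65.CycSC3.relIndex_MM h hn hd, h1.1, h1.2, H65.CycSC3.characteristic hG h hn hpn hd⟩
  by_cases hp : p = 2
  · subst hp
    by_cases hM : 3 ≤ n → ∀ t : G, t * u ^ 2 = u ^ 2 * t → t ∈ Subgroup.zpowers u
    · left
      exact ⟨rfl, H65.CycSC3.classification hG h hn hne hM⟩
    · right
      push Not at hM
      obtain ⟨h3, t, ht1, ht2⟩ := hM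
      exact key (Or.inr h3) t ht2 ht1
  · right
    obtain ⟨t, ht1, ht2⟩ := H65.CycSC.exists_t_odd hG h hn hp hne
    exact key (Or.inl hp) t ht1 ht2

end Cfsg.Agent.S3761
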