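import Cfsg.Statements.S2238
import Cfsg.Agent.Lib.H42.SuzPart

set_option autoImplicit false
open Cfsg

namespace Cfsg.Agent.S2238

open H8.SuzOvoid H8.SuzField H8.SuzMat H8.SuzStab H8.SuzGroup H8.SuzSylow H8.SuzCent H8.SuzSimple H8.TICount H8.SuzTorus H42.SuzPart
open scoped Pointwise

theorem comm_of_isCyclic {G : Type*} [Group G] {U : Subgroup G} (h : IsCyclic U) : ∀ a ∈ U, ∀ b ∈ U, a * b = b * a := by
  intro a ha b hb
  have := IsCyclic.commGroup (α := U)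
  obtain ⟨g, hg⟩ := h.exists_generator
  obtain ⟨i, hi⟩ := Subgroup.mem_zpowers_iff.1 (hg ⟨a, ha⟩)
  obtain ⟨j, hj⟩ := Subgroup.mem_zpowers_iff.1 (hg ⟨b, hb⟩)
  have h1 : (⟨a, ha⟩ : U) * ⟨b, hb⟩ = ⟨b, hb⟩ * ⟨a, ha⟩ := by
    rw [← hi, ← hj, ← zpow_add, ← zpow_add, add_comm]
  exact congrArg Subtype.val h1

/-- The partition of the Suzuki group: with q = 2^(2m+1), m ≥ 1, r = 2^m and the Suzuki group realised as the stabiliser in SL₄ of the Suzuki–Tits ovoid, every non-identity element lies in exactly one subgroup that is either a Sylow 2-subgroup or a cyclic subgroup of order q − 1, q + 2r + 1 or q − 2r + 1. -/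
theorem result {F : Type*} [Field F] [Fintype F] {m : ℕ} (hm : 1 ≤ m) (hF : Fintype.card F = 2 ^ (2 * m + 1)) (g : ↥(Cfsg.Sz F m)) (hg : g ≠ 1) :
    ∃! U : Subgroup ↥(Cfsg.Sz F m), ((∃ P : Sylow 2 ↥(Cfsg.Sz F m), U = (P : Subgroup ↥(Cfsg.Sz F m))) ∨
      (IsCyclic ↥U ∧ Nat.card ↥U ∈ ({2 ^ (2 * m + 1) - 1, 2 ^ (2 * m + 1) + 2 ^ (m + 1) + 1, 2 ^ (2 * m + 1) - 2 ^ (m + 1) + 1} : Set ℕ))) ∧ g ∈ U := by
  have hfact : Fact (Nat.Prime 2) := ⟨Nat.prime_two⟩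
  have hcent : ∀ U : Subgroup ↥(Cfsg.Sz F m), IsCyclic ↥U → Nat.card ↥U ∈ ({2 ^ (2 * m + 1) - 1, 2 ^ (2 * m + 1) + 2 ^ (m + 1) + 1, 2 ^ (2 * m + 1) - 2 ^ (m + 1) + 1} : Set ℕ) →
      ∀ u ∈ U, u ≠ 1 → Subgroup.centralizer {u} = U := by
    intro U hU hc u hu hu1
    have hcomm := comm_of_isCyclic hU
    simp only [Set.mem_insert_iff, Set.mem_singleton_iff] at hc
    rcases hc with h | h | h
    · exact centralizer_of_card_HH hm hF hcomm h u hu hu1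
    · exact (H42.SuzPart.Tor.of_card hm hF hcomm (Or.inl h)).centralizer hm hF hu hu1
    · exact (H42.SuzPart.Tor.of_card hm hF hcomm (Or.inr h)).centralizer hm hF hu hu1
  have hodd : ∀ U : Subgroup ↥(Cfsg.Sz F m), Nat.card ↥U ∈ ({2 ^ (2 * m + 1) - 1, 2 ^ (2 * m + 1) + 2 ^ (m + 1) + 1, 2 ^ (2 * m + 1) - 2 ^ (m + 1) + 1} : Set ℕ) →
      ∀ P : Sylow 2 ↥(Cfsg.Sz F m), g ∈ U → g ∉ (P : Subgroup ↥(Cfsg.Sz F m)) := by
    intro U hc P hU hP
    have h1 : ¬ 2 ∣ Nat.card U := by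
      have e1 : 2 ^ (2 * m + 1) = 2 * 2 ^ (2 * m) := by ring
      have e2 : 2 ^ (m + 1) = 2 * 2 ^ m := by ring
      have e3 := r_lt hm
      have e4 : 0 < 2 ^ (2 * m) := by positivity
      simp only [Set.mem_insert_iff, Set.mem_singleton_iff] at hc
      omega
    obtain ⟨k, hk⟩ := IsPGroup.iff_card.1 P.isPGroup'
    have h2 : orderOf g ∣ 2 ^ k := by
      rw [← hk]
      have := orderOf_dvd_natCard (⟨g, hP⟩ : (P : Subgroup ↥(Cfsg.Sz F m)))
      rwa [← Subgroup.orderOf_coe] at this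
    have h3 : orderOf g ∣ Nat.card U := by
      have := orderOf_dvd_natCard (⟨g, hU⟩ : U)
      rwa [← Subgroup.orderOf_coe] at this
    have h4 : Nat.Coprime (2 ^ k) (Nat.card U) :=
      Nat.Coprime.pow_left k ((Nat.Prime.coprime_iff_not_dvd Nat.prime_two).2 h1)
    have h5 := Nat.eq_one_of_dvd_coprimes h4 h2 h3
    exact hg (orderOf_eq_one_iff.1 h5)
  apply existsUnique_of_exists_of_unique
  · rcases cases_elem hm hF hg with h | h | ⟨r, hr, hd, hrq⟩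
    · obtain ⟨-, y, hy⟩ := h
      refine ⟨((y⁻¹ • PT hm hF : Sylow 2 ↥(Cfsg.Sz F m)) : Subgroup _), Or.inl ⟨_, rfl⟩, ?_⟩
      rw [Sylow.smul_def, Sylow.pointwise_smul_def, Subgroup.mem_pointwise_smul_iff_inv_smul_mem]
      rw [map_inv, inv_inv, MulAut.smul_def, MulAut.conj_apply]
      exact hy
    · obtain ⟨-, y, hy⟩ := h
      refine ⟨(HH (m := m) hF).map (MulAut.conj y⁻¹).toMonoidHom, Or.inr ⟨?_, ?_⟩, ?_⟩
      · have := isCyclic_HH (m := m) hF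
        exact isCyclic_of_surjective _ (Subgroup.equivMapOfInjective (HH (m := m) hF) _ (MulAut.conj y⁻¹).injective).surjective
      · rw [Nat.card_congr (Subgroup.equivMapOfInjective (HH (m := m) hF) _ (MulAut.conj y⁻¹).injective).toEquiv.symm,
          card_HH]
        exact Or.inl rfl
      · exact Subgroup.mem_map.2 ⟨_, hy, by
          change y⁻¹ * (y * g * y⁻¹) * y⁻¹⁻¹ = g
          group⟩
    · obtain ⟨c, hc⟩ := exists_pow_prime hr hd
      have hT : Tor (Subgroup.centralizer ({g ^ c} : Set (Sz F m))) := ⟨r, hr, hrq, _, hc, rfl⟩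
      refine ⟨_, Or.inr ⟨hT.isCyclic hF, ?_⟩, Subgroup.mem_centralizer_singleton_iff.2 (Commute.self_pow g c).eq⟩
      rcases H42.SuzPart.Tor.card_cases hm hF hT with h | h
      · exact Or.inr (Or.inl h)
      · exact Or.inr (Or.inr h)
  · rintro U V ⟨hU, hgU⟩ ⟨hV, hgV⟩
    rcases hU with ⟨P, rfl⟩ | ⟨hU1, hU2⟩
    · rcases hV with ⟨Q, rfl⟩ | ⟨hV1, hV2⟩
      · rw [sylow_eq hm hF P Q hg hgU hgV]
      · exact absurd hgU (hodd V hV2 P hgV)
    · rcases hV with ⟨Q, rfl⟩ | ⟨hV1, hV2⟩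
      · exact absurd hgV (hodd U hU2 Q hgU)
      · rw [← hcent U hU1 hU2 g hgU hg, ← hcent V hV1 hV2 g hgV hg]

end Cfsg.Agent.S2238
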