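import Cfsg.Statements.S3374

set_option autoImplicit false
open Cfsg

namespace Cfsg.Agent.S3374

/-- images in 2x2 matrices over F_11 (base 11 codes) of the matrices (a,b;c,d) over F_5 -/
def tbl : List ℕ := [0,0,0,0,0,0,0,0,0,0,0,0,0,0,0,0,0,0,0,0,0,0,0,0,0,0,0,0,0,0,0,0,0,0,0,0,0,0,0,0,0,0,0,0,0,11586,12400,10973,5746,6265,0,0,0,0,0,0,0,0,0,0,880,13818,6537,9424,1549,0,0,0,0,0,0,0,0,0,0,0,0,0,0,0,0,0,0,0,0,0,0,0,0,0,572,14555,5349,9446,2286,0,0,0,0,0,0,0,0,0,0,4518,9839,10358,5131,3704,0,0,0,0,0,0,0,0,0,0,0,0,0,0,0,0,1332,0,0,0,0,4620,0,0,0,0,11208,0,0,0,0,14220,0,0,0,0,828,0,0,0,0,234,0,0,0,0,0,8835,0,0,0,0,0,10420,0,0,0,0,0,6453,7597,0,0,0,0,0,13769,0,0,0,0,0,0,6034,0,2881,0,0,0,0,0,0,3797,0,0,0,0,0,0,5859,0,11659,0,0,0,0,0,0,0,9014,0,0,13931,0,0,3618,0,0,0,0,0,0,0,9969,0,0,5214,0,0,0,5036,0,0,0,0,0,0,0,0,8420,0,0,0,5462,0,0,0,8076,0,0,0,0,0,13531,0,0,0,0,12718,0,0,0,0,13048,0,0,0,0,14114,0,0,0,0,8189,0,0,0,0,8332,0,0,2701,0,0,0,0,0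,0,0,11752,0,0,14322,0,0,9742,0,0,0,0,0,0,0,13663,0,0,0,0,0,7366,4096,0,0,0,0,0,7501,0,0,0,0,0,14465,0,0,0,0,0,12168,0,0,0,307,0,0,0,2983,0,0,0,4118,0,0,0,0,0,0,0,0,11301,0,0,0,12696,0,9127,0,0,0,0,0,0,450,0,0,0,0,0,0,6794,0,3152,0,0,0,0,0,2573,0,0,0,0,7915,0,0,0,0,1990,0,0,0,0,3056,0,0,0,0,3386,0,0,0,0,3408,0,0,0,0,0,0,12831,0,9310,0,0,0,0,0,0,1013,0,6977,0,0,0,0,0,0,3936,0,0,0,4803,0,0,0,11865,0,0,0,0,0,0,0,0,13121,0,0,0,1156,0,0,0,2441,0,0,0,0,0,1628,0,0,0,0,0,8603,10677,0,0,0,0,0,8738,0,0,0,0,0,7772,0,0,6362,0,0,0,0,0,0,0,1771,0,0,4352,0,0,0,0,0,0,0,12072,0,0,0,0,13320,0,0,0,0,635,0,0,0,0,1884,0,0,0,0,4896,0,0,0,0,11473,0,0,0,0,10879,0,0,0,6697,0,0,0,10642,0,0,0,7684,0,0,0,11068,0,0,0,0,0,0,0,0,4445,0,0,6135,0,0,12486,0,0,0,0,0,0,0,2173,0,0,7090,0,0,0,0,0,0,0,2335,0,10245,0,0,0,0,0,0,12307,0,13223,0,0,0,0,0,0,10070,0,0,0,0,0,0,1229,8507,0,0,0,0,0,9651,0,0,0,0,0,5684,0,0,0,0,0,7148,0]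

def code (a b c d : ZMod 5) : ℕ := tbl.getD (((a.val * 5 + b.val) * 5 + c.val) * 5 + d.val) 0

def mat (k : ℕ) : Matrix (Fin 2) (Fin 2) (ZMod 11) :=
  !![((k / 1331 : ℕ) : ZMod 11), ((k / 121 : ℕ) : ZMod 11); ((k / 11 : ℕ) : ZMod 11), ((k : ℕ) : ZMod 11)]

def R (g : Matrix (Fin 2) (Fin 2) (ZMod 5)) : Matrix (Fin 2) (Fin 2) (ZMod 11) :=
  mat (code (g 0 0) (g 0 1) (g 1 0) (g 1 1))

set_option maxRecDepth 100000 in
theorem check1 : ∀ a b c d : ZMod 5, a * d - b * c = 1 →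
    mat (code a b c d) * mat (code 1 1 0 1) = mat (code a (a + b) c (c + d)) := by
  decide +kernel

set_option maxRecDepth 100000 in
theorem check2 : ∀ a b c d : ZMod 5, a * d - b * c = 1 →
    mat (code a b c d) * mat (code 1 0 1 1) = mat (code (a + b) b (c + d) d) := by
  decide +kernel

set_option maxRecDepth 100000 in
theorem check3 : ∀ a b c d : ZMod 5, a * d - b * c = 1 → ¬ (a = 1 ∧ b = 0 ∧ c = 0 ∧ d = 1) →
    (mat (code a b c d) - 1).det ≠ 0 := by
  decide +kernel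

theorem R_of (a b c d : ZMod 5) : R !![a, b; c, d] = mat (code a b c d) := rfl

abbrev SL5 := Matrix.SpecialLinearGroup (Fin 2) (ZMod 5)

def U (x : ZMod 5) : SL5 := ⟨!![1, x; 0, 1], by simp⟩
def Lw (x : ZMod 5) : SL5 := ⟨!![1, 0; x, 1], by simp⟩

theorem entries (g : SL5) : (g : Matrix (Fin 2) (Fin 2) (ZMod 5)) = !![g.1 0 0, g.1 0 1; g.1 1 0, g.1 1 1] :=
  Matrix.eta_fin_two g.1

theorem det' (g : SL5) : g.1 0 0 * g.1 1 1 - g.1 0 1 * g.1 1 0 = 1 := by
  have := g.2
  rwa [Matrix.det_fin_two] at this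

theorem RU (g : SL5) : R (g * U 1 : SL5).1 = R g.1 * R (U 1).1 := by
  have h1 : (g * U 1 : SL5).1 = !![g.1 0 0, g.1 0 0 + g.1 0 1; g.1 1 0, g.1 1 0 + g.1 1 1] := by
    rw [Matrix.SpecialLinearGroup.coe_mul]
    conv_lhs => rw [entries g]
    simp [U, Matrix.mul_fin_two]
  rw [h1, R_of, ← check1 _ _ _ _ (det' g)]
  rfl

theorem RL (g : SL5) : R (g * Lw 1 : SL5).1 = R g.1 * R (Lw 1).1 := by
  have h1 : (g * Lw 1 : SL5).1 = !![g.1 0 0 + g.1 0 1, g.1 0 1; g.1 1 0 + g.1 1 1, g.1 1 1] := by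
    rw [Matrix.SpecialLinearGroup.coe_mul]
    conv_lhs => rw [entries g]
    simp [Lw, Matrix.mul_fin_two]
  rw [h1, R_of, ← check2 _ _ _ _ (det' g)]
  rfl

theorem R_one : R (1 : SL5).1 = 1 := by
  have : (1 : SL5).1 = !![1, 0; 0, 1] := by
    rw [Matrix.SpecialLinearGroup.coe_one, Matrix.one_fin_two]
  rw [this, R_of]
  decide +kernel

/-- good elements -/
def good : Submonoid SL5 where
  carrier := {h | ∀ g : SL5, R (g * h : SL5).1 = R g.1 * R h.1}
  mul_mem' := by
    intro a b ha hb g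
    have ha' : ∀ g : SL5, R (g * a : SL5).1 = R g.1 * R a.1 := ha
    have hb' : ∀ g : SL5, R (g * b : SL5).1 = R g.1 * R b.1 := hb
    rw [← mul_assoc, hb', ha', hb', mul_assoc]
  one_mem' := by
    intro g
    rw [mul_one, R_one, mul_one]

theorem U_mul (x y : ZMod 5) : U x * U y = U (x + y) := by
  apply Subtype.ext
  rw [Matrix.SpecialLinearGroup.coe_mul]
  simp [U, Matrix.mul_fin_two, add_comm]

theorem L_mul (x y : ZMod 5) : Lw x * Lw y = Lw (x + y) := by
  apply Subtype.ext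
  rw [Matrix.SpecialLinearGroup.coe_mul]
  simp [Lw, Matrix.mul_fin_two]

theorem good_U (x : ZMod 5) : U x ∈ good := by
  have h : ∀ n : ℕ, U (n : ZMod 5) ∈ good := by
    intro n
    induction n with
    | zero =>
      have : U ((0 : ℕ) : ZMod 5) = 1 := by apply Subtype.ext; simp [U, Matrix.one_fin_two]
      rw [this]; exact good.one_mem
    | succ n ih =>
      push_cast
      rw [← U_mul]
      exact good.mul_mem ih RU
  have := h x.val
  rwa [ZMod.natCast_zmod_val] at this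

theorem good_L (x : ZMod 5) : Lw x ∈ good := by
  have h : ∀ n : ℕ, Lw (n : ZMod 5) ∈ good := by
    intro n
    induction n with
    | zero =>
      have : Lw ((0 : ℕ) : ZMod 5) = 1 := by apply Subtype.ext; simp [Lw, Matrix.one_fin_two]
      rw [this]; exact good.one_mem
    | succ n ih =>
      push_cast
      rw [← L_mul]
      exact good.mul_mem ih RL
  have := h x.val
  rwa [ZMod.natCast_zmod_val] at this

instance : Fact (Nat.Prime 5) := ⟨by norm_num⟩

theorem good_of_ne (g : SL5) (hc : g.1 1 0 ≠ 0) : g ∈ good := by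
  have h1 : g = U ((g.1 0 0 - 1) / g.1 1 0) * Lw (g.1 1 0) * U ((g.1 1 1 - 1) / g.1 1 0) := by
    apply Subtype.ext
    rw [Matrix.SpecialLinearGroup.coe_mul, Matrix.SpecialLinearGroup.coe_mul]
    conv_lhs => rw [entries g]
    have hd := det' g
    have hb : g.1 0 1 = (g.1 0 0 * g.1 1 1 - 1) / g.1 1 0 := by
      rw [eq_div_iff hc]; linear_combination -hd
    simp only [U, Lw]
    ext i j
    fin_cases i <;> fin_cases j
    · simp; field_simp; ring
    · simp [hb]; field_simp; ring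
    · simp
    · simp; field_simp; ring
  rw [h1]
  exact good.mul_mem (good.mul_mem (good_U _) (good_L _)) (good_U _)

theorem good_all (g : SL5) : g ∈ good := by
  by_cases hc : g.1 1 0 = 0
  · have h1 : (g * Lw 1 : SL5).1 1 0 ≠ 0 := by
      have h1 : (g * Lw 1 : SL5).1 = !![g.1 0 0 + g.1 0 1, g.1 0 1; g.1 1 0 + g.1 1 1, g.1 1 1] := by
        rw [Matrix.SpecialLinearGroup.coe_mul]
        conv_lhs => rw [entries g]
        simp [Lw, Matrix.mul_fin_two]
      rw [h1]
      have hd := det' g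
      rw [hc, mul_zero, sub_zero] at hd
      intro h0
      simp [hc] at h0
      rw [h0, mul_zero] at hd
      exact zero_ne_one hd
    have h2 := good_of_ne _ h1
    have h3 : g = (g * Lw 1) * Lw (-1) := by
      rw [mul_assoc, L_mul]
      have : Lw (1 + -1) = 1 := by apply Subtype.ext; simp [Lw, Matrix.one_fin_two]
      rw [this, mul_one]
    rw [h3]
    exact good.mul_mem h2 (good_L _)
  · exact good_of_ne g hc

/-- the representation over F_11 -/
def rho : SL5 →* Matrix (Fin 2) (Fin 2) (ZMod 11) where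
  toFun g := R g.1
  map_one' := R_one
  map_mul' g h := good_all h g

theorem rho_fpf (g : SL5) (hg : g ≠ 1) (v : Fin 2 → ZMod 11) (hv : (rho g).mulVec v = v) : v = 0 := by
  have h1 : (rho g - 1).det ≠ 0 := by
    have h0 : rho g = mat (code (g.1 0 0) (g.1 0 1) (g.1 1 0) (g.1 1 1)) := rfl
    rw [h0]
    apply check3 _ _ _ _ (det' g)
    rintro ⟨ha, hb, hc, hd⟩
    apply hg
    apply Subtype.ext
    rw [entries g, ha, hb, hc, hd, Matrix.SpecialLinearGroup.coe_one, Matrix.one_fin_two]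
  have : Fact (Nat.Prime 11) := ⟨by norm_num⟩
  have h2 : (rho g - 1).mulVec v = 0 := by
    rw [Matrix.sub_mulVec, hv, Matrix.one_mulVec, sub_self]
  exact Matrix.eq_zero_of_mulVec_eq_zero h1 h2

instance act : DistribMulAction SL5 (Fin 2 → ZMod 11) where
  smul g v := (rho g).mulVec v
  one_smul v := by change (rho 1).mulVec v = v; rw [map_one, Matrix.one_mulVec]
  mul_smul g h v := by change (rho (g * h)).mulVec v = (rho g).mulVec ((rho h).mulVec v); rw [map_mul, Matrix.mulVec_mulVec]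
  smul_zero g := Matrix.mulVec_zero _
  smul_add g v w := Matrix.mulVec_add _ _ _

def phi : SL5 →* MulAut (Multiplicative (Fin 2 → ZMod 11)) where
  toFun g := AddEquiv.toMultiplicative (DistribMulAction.toAddEquiv (Fin 2 → ZMod 11) g)
  map_one' := by ext v; simp
  map_mul' g h := by ext v; simp [mul_smul]

open scoped Pointwise in
/-- SL(2,5) occurs as a Frobenius complement: there is a finite group L with a subgroup H isomorphic to SL(2,5) which is a non-trivial proper subgroup meeting each conjugate gHg⁻¹ with g outside H trivially. -/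
theorem result :
    ∃ (L : Type) (_ : Group L) (_ : Finite L) (H : Subgroup L),
      Cfsg.IsFrobeniusComplement H ∧ Nonempty (H ≃* Matrix.SpecialLinearGroup (Fin 2) (ZMod 5)) := by
  have hfin : Finite (SemidirectProduct (Multiplicative (Fin 2 → ZMod 11)) SL5 phi) :=
    Finite.of_equiv _ (SemidirectProduct.equivProd (φ := phi)).symm
  refine ⟨SemidirectProduct (Multiplicative (Fin 2 → ZMod 11)) SL5 phi, inferInstance, hfin,
    (SemidirectProduct.inr : SL5 →* _).range, ⟨?_, ?_, ?_⟩, ⟨(MonoidHom.ofInjective SemidirectProduct.inr_injective).symm⟩⟩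
  · intro h
    have h1 : (SemidirectProduct.inr (U 1) : SemidirectProduct (Multiplicative (Fin 2 → ZMod 11)) SL5 phi) ∈ (SemidirectProduct.inr : SL5 →* _).range := ⟨_, rfl⟩
    rw [h, Subgroup.mem_bot] at h1
    have h2 : U 1 = 1 := SemidirectProduct.inr_injective (by rw [h1, map_one])
    have h3 := congrFun (congrFun (congrArg Subtype.val h2) 0) 1
    simp [U] at h3
  · intro h
    have h1 : (SemidirectProduct.inl (Multiplicative.ofAdd (fun _ => 1)) : SemidirectProduct (Multiplicative (Fin 2 → ZMod 11)) SL5 phi) ∈ (SemidirectProduct.inr : SL5 →* _).range := by rw [h]; trivial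
    obtain ⟨g, hg⟩ := h1
    have h2 := congrArg SemidirectProduct.left hg
    simp only [SemidirectProduct.left_inr, SemidirectProduct.left_inl] at h2
    have h3 := congrFun (Multiplicative.ofAdd.injective h2) 0
    have h4 : (0 : ZMod 11) = 1 := h3
    exact absurd h4 (by decide)
  · intro x hx
    rw [eq_bot_iff]
    intro y hy
    rw [Subgroup.mem_inf, Subgroup.mem_pointwise_smul_iff_inv_smul_mem] at hy
    obtain ⟨⟨h, rfl⟩, hk⟩ := hy
    simp only [MulAut.smul_def, ← map_inv, MulAut.conj_apply, inv_inv] at hk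
    obtain ⟨k, hk⟩ := hk
    -- inr k = x⁻¹ * inr h * x
    have hk' : x * SemidirectProduct.inr k = SemidirectProduct.inr h * x := by rw [hk]; group
    have hr := congrArg SemidirectProduct.right hk'
    have hl := congrArg SemidirectProduct.left hk'
    simp only [SemidirectProduct.mul_left, SemidirectProduct.left_inr, map_one, mul_one, SemidirectProduct.right_inr, one_mul] at hl
    -- x.left = phi h x.left
    rw [Subgroup.mem_bot]
    by_cases h1 : h = 1
    · rw [h1, map_one]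
    · exfalso
      apply hx
      have h2 : (rho h).mulVec (Multiplicative.toAdd x.left) = Multiplicative.toAdd x.left := by
        have := congrArg Multiplicative.toAdd hl
        exact this.symm
      have h3 := rho_fpf h h1 _ h2
      refine ⟨x.right, ?_⟩
      ext1
      · rw [SemidirectProduct.left_inr]
        exact (Multiplicative.toAdd.injective h3).symm
      · rfl

end Cfsg.Agent.S3374
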