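import Cfsg.Statements.S0868
import Cfsg.Agent.Lib.H83.Gallagher
import Cfsg.Agent.Lib.H18.CharCentral
import Cfsg.Agent.Lib.H31.FunBasic

set_option autoImplicit false
open scoped ComplexConjugate
open Cfsg

namespace Cfsg.Agent.S0868

open H18.CharBasic H18.CharOrtho H18.CharInd H18.CharQuot in
theorem coset_sum_zero {G : Type*} [Group G] [Fintype G] (N : Subgroup G) [hn : N.Normal]
    [Fintype N] {β : G → ℂ} (hβ : IsIrrCharacter G β) (hβN : ¬ ∀ n ∈ N, β n = β 1) (g : G) :
    ∑ n : N, β ((n : G) * g) = 0 := by
  classical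
  let θ : G → ℂ := fun g => if g ∈ N then 1 else 0
  have hθ : IsClassFunction G θ := by
    intro a x
    have h : (x * a * x⁻¹ ∈ N) ↔ a ∈ N := by
      constructor
      · intro h
        have := hn.conj_mem _ h x⁻¹
        simpa [mul_assoc] using this
      · intro h; exact hn.conj_mem _ h x
    simp only [θ, h]
  have hsum : ∀ f : G → ℂ, ∑ g : G, θ g * f g = ∑ n : N, f n := by
    intro f
    rw [H31.FunBasic.sum_subgroup_eq N (fun g => θ g * f g) (by
      intro g hg; simp [θ, hg])]
    refine Finset.sum_congr rfl fun n _ => ?_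
    simp [θ]
  have hshift : ∀ y : G, ∑ n : N, β ((n : G) * y) = (∑ n : N, β n) / β 1 * β y := by
    intro y
    have := H18.CharCentral.sum_mul_shift hβ hθ y
    rwa [hsum (fun g => β (g * y)), hsum β] at this
  have hβ1 := irr_one_ne_zero hβ
  have hs : ∑ n : N, β n = 0 := by
    by_contra hs
    apply hβN
    intro y hy
    have h1 := hshift y
    have h2 : ∑ n : N, β ((n : G) * y) = ∑ n : N, β n :=
      Fintype.sum_equiv (Equiv.mulRight (⟨y, hy⟩ : N)) _ _ (fun n => rfl)
    rw [h2] at h1
    field_simp at h1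
    exact h1.symm
  rw [hshift, hs]; simp

open H18.CharBasic H18.CharOrtho H18.CharInd H18.CharQuot in
theorem coset_avg {G : Type*} [Group G] [Fintype G] (N : Subgroup G) [hn : N.Normal] [Fintype N]
    (F : G → ℂ) (β : G → ℂ) (hβ : ∀ g : G, ∀ n ∈ N, β (g * n) = β g)
    (hβ' : ∀ g : G, ∀ n ∈ N, β (n * g) = β g) :
    classInner (fun g => (Nat.card N : ℂ)⁻¹ * ∑ n : N, F ((n : G) * g)) β = classInner F β := by
  classical
  unfold classInner
  congr 1
  have h1 : ∀ g : G, (Nat.card N : ℂ)⁻¹ * (∑ n : N, F ((n : G) * g)) * (starRingEnd ℂ) (β g) =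
      (Nat.card N : ℂ)⁻¹ * ∑ n : N, F ((n : G) * g) * (starRingEnd ℂ) (β ((n : G) * g)) := by
    intro g
    rw [mul_assoc, Finset.sum_mul]
    congr 1
    refine Finset.sum_congr rfl fun n _ => ?_
    rw [hβ' g n n.2]
  rw [Finset.sum_congr rfl (fun g _ => h1 g), ← Finset.mul_sum, Finset.sum_comm]
  have h2 : ∀ n : N, ∑ g : G, F ((n : G) * g) * (starRingEnd ℂ) (β ((n : G) * g)) =
      ∑ g : G, F g * (starRingEnd ℂ) (β g) := fun n =>
    Fintype.sum_equiv (Equiv.mulLeft (n : G)) _ _ (fun g => rfl)
  rw [Finset.sum_congr rfl (fun n _ => h2 n), Finset.sum_const, Finset.card_univ,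
    ← Nat.card_eq_fintype_card, nsmul_eq_mul]
  have h4 : (Nat.card N : ℂ) ≠ 0 := card_ne_zero'
  field_simp

/-- Let N be a normal subgroup of the finite group G, χ an irreducible character of G whose restriction ϑ to N is irreducible, and ψ an irreducible character of G. Define η on G by η g = (1 / order of N) * Σ over n in N of ψ (n * g) * conj (χ (n * g)). Then: if the restriction of ψ to N has nonzero inner product with ϑ, η is an irreducible character of G; if that inner product is zero, η vanishes identically; and if ψ = χ then η is identically 1. -/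
theorem result {G : Type*} [Group G] [Fintype G] (N : Subgroup G) [N.Normal] [Fintype N] (χ : G → ℂ) (hχ : Cfsg.IsIrrCharacter G χ) (hχN : Cfsg.IsIrrCharacter N (fun n : N => χ n)) (ψ : G → ℂ) (hψ : Cfsg.IsIrrCharacter G ψ) (η : G → ℂ) (hη : η = fun g => (Nat.card N : ℂ)⁻¹ * ∑ n : N, ψ ((n : G) * g) * conj (χ ((n : G) * g))) : (Cfsg.classInner (fun n : N => ψ n) (fun n : N => χ n) ≠ 0 → Cfsg.IsIrrCharacter G η) ∧ (Cfsg.classInner (fun n : N => ψ n) (fun n : N => χ n) = 0 → η = 0) ∧ (ψ = χ → η = fun _ => 1) := by
  classical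
  have hχc := H18.CharBasic.isClassFunction_of_isIrr hχ
  have hcos : ∀ g : G, (Nat.card N : ℂ)⁻¹ * ∑ n : N, χ ((n : G) * g) * conj (χ ((n : G) * g)) = 1 := by
    intro g
    have h1 := H83.Gallagher.coset_sum hχ N hχN g
    have h2 : ∀ n : N, χ ((n : G) * g) = χ (g * n) := fun n =>
      H18.CharBasic.classFunction_mul_comm hχc _ _
    rw [Finset.sum_congr rfl (fun n _ => by rw [h2 n]), h1]
    have h4 : (Nat.card N : ℂ) ≠ 0 := H18.CharOrtho.card_ne_zero'
    exact inv_mul_cancel₀ h4
  refine ⟨?_, ?_, ?_⟩
  · intro hne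
    obtain ⟨β, hβ, hβN, hψβ⟩ := H83.Gallagher.exists_eq_mul hχ N hχN hψ hne
    have : η = β := by
      rw [hη]
      funext g
      have h1 : ∀ n : N, ψ ((n : G) * g) * conj (χ ((n : G) * g)) =
          β g * (χ ((n : G) * g) * conj (χ ((n : G) * g))) := by
        intro n
        rw [hψβ]
        simp only
        rw [H18.CharQuot.char_mul_left (H18.CharBasic.isCharacter_of_isIrr hβ) (hβN n n.2)]
        ring
      rw [Finset.sum_congr rfl (fun n _ => h1 n), ← Finset.mul_sum, mul_left_comm, hcos, mul_one]
    rw [this]; exact hβ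
  · intro h0
    -- η is a class function; all inner products vanish
    have hηc : Cfsg.IsClassFunction G η := by
      intro g x
      rw [hη]
      show (Nat.card N : ℂ)⁻¹ * _ = (Nat.card N : ℂ)⁻¹ * _
      congr 1
      -- reindex n ↦ x⁻¹ n x
      refine Fintype.sum_equiv (MulAut.conjNormal x⁻¹).toEquiv _ _ (fun n => ?_)
      have e1 : (((MulAut.conjNormal x⁻¹).toEquiv n : N) : G) = x⁻¹ * n * x := by
        show ((MulAut.conjNormal x⁻¹ n : N) : G) = _
        rw [MulAut.conjNormal_apply, inv_inv]
      rw [e1]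
      have e2 : (n : G) * (x * g * x⁻¹) = x * (x⁻¹ * n * x * g) * x⁻¹ := by group
      rw [e2, H18.CharBasic.isClassFunction_of_isIrr hψ, hχc]
    refine H18.CharOrtho.classFun_eq_zero hηc fun β hβ => ?_
    by_cases hβN : ∀ n ∈ N, β n = β 1
    · have hβc := H18.CharBasic.isCharacter_of_isIrr hβ
      have h1 := coset_avg N (fun g => ψ g * conj (χ g)) β
        (fun g n hn => H18.CharQuot.char_mul_right hβc (hβN n hn) g)
        (fun g n hn => H18.CharQuot.char_mul_left hβc (hβN n hn) g)
      rw [hη]
      rw [h1]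
      -- (ψ conj χ, β) = (ψ, β χ) = 0
      have h2 : classInner (fun g => ψ g * conj (χ g)) β = classInner ψ (fun g => β g * χ g) := by
        unfold classInner
        congr 1
        refine Finset.sum_congr rfl fun g _ => ?_
        rw [map_mul]; ring
      rw [h2]
      have h3 := H83.Gallagher.isIrr_mul hχ N hχN hβ hβN
      by_cases h4 : ψ = fun g => β g * χ g
      · exfalso
        have h5 : (fun n : N => ψ n) = β 1 • (fun n : N => χ n) := by
          funext n
          rw [h4]
          simp only [Pi.smul_apply, smul_eq_mul]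
          rw [hβN n n.2]
        rw [h5, H18.CharOrtho.inner_smul_left, H18.CharOrtho.inner_irr_self hχN, mul_one] at h0
        exact H18.CharBasic.irr_one_ne_zero hβ h0
      · exact H18.CharOrtho.inner_irr_ne hψ h3 h4
    · -- η constant on cosets, β sums to zero on cosets
      have h1 := coset_sum_zero N hβ hβN
      have hηN : ∀ (n : N) (g : G), η ((n : G) * g) = η g := by
        intro n g
        rw [hη]
        simp only
        congr 1
        refine Fintype.sum_equiv (Equiv.mulRight n) _ _ (fun m => ?_)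
        simp [mul_assoc]
      unfold classInner
      have h2 : (Nat.card N : ℂ) * ∑ g : G, η g * conj (β g) = 0 := by
        have h3 : ∀ n : N, ∑ g : G, η g * conj (β g) = ∑ g : G, η g * conj (β ((n : G) * g)) := by
          intro n
          rw [← Fintype.sum_equiv (Equiv.mulLeft (n : G))
            (fun g => η ((n : G) * g) * conj (β ((n : G) * g))) (fun g => η g * conj (β g))
            (fun g => rfl)]
          refine Finset.sum_congr rfl fun g _ => ?_
          rw [hηN]
        calc (Nat.card N : ℂ) * ∑ g : G, η g * conj (β g) =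
            ∑ n : N, ∑ g : G, η g * conj (β g) := by
              rw [Finset.sum_const, Finset.card_univ, Nat.card_eq_fintype_card, nsmul_eq_mul]
          _ = ∑ n : N, ∑ g : G, η g * conj (β ((n : G) * g)) :=
              Finset.sum_congr rfl fun n _ => h3 n
          _ = ∑ g : G, η g * conj (∑ n : N, β ((n : G) * g)) := by
              rw [Finset.sum_comm]
              refine Finset.sum_congr rfl fun g _ => ?_
              rw [map_sum, Finset.mul_sum]
          _ = 0 := by
              refine Finset.sum_eq_zero fun g _ => ?_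
              rw [h1, map_zero, mul_zero]
      have h4 : (Nat.card N : ℂ) ≠ 0 := H18.CharOrtho.card_ne_zero'
      rw [(mul_eq_zero.1 h2).resolve_left h4, mul_zero]
  · rintro rfl
    rw [hη]
    funext g
    exact hcos g

end Cfsg.Agent.S0868
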