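import Cfsg.Statements.S4690
import Cfsg.Agent.Lib.H84.Star15

set_option autoImplicit false
open Cfsg

namespace Cfsg.Agent.S4690

/-- Fix a prime p and a maximal ideal M of the algebraic integers containing p, and a nilpotent p-block B of the finite group G with defect group P. Then there is a bijection from B onto the irreducible characters of P carrying the height of each χ ∈ B to the exponent of p in the degree of its image. -/
theorem result {G : Type*} [Group G] [Fintype G] (p : ℕ) [Fact p.Prime] (M : Ideal Cfsg.AlgInt) (hM : Cfsg.IsPModular p M) (B : Set (Cfsg.IrrCharacter G)) (hnil : Cfsg.IsNilpotentBlock p M B) (P : Subgroup G) (hP : Cfsg.IsDefectGroup p M B P) : ∃ Φ : B ≃ Cfsg.IrrCharacter P, ∀ χ : B, Cfsg.blockHeight p B ((χ : Cfsg.IrrCharacter G) : G → ℂ) = (Cfsg.charDegree ((Φ χ : Cfsg.IrrCharacter P) : P → ℂ)).factorization p := by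
  have : M.IsMaximal := hM.2.1
  have : CharP (H20.Loc.ResF M) p := H20.Loc.charP_resF hM
  let _ : Algebra (ZMod p) (H20.Loc.ResF M) := ZMod.algebra (H20.Loc.ResF M) p
  have : Algebra.IsAlgebraic (ZMod p) (H20.Loc.ResF M) := H80.BR1.isAlgebraic_resF hM
  have : IsAlgClosed (H20.Loc.ResF M) := H20.Loc.isAlgClosed_resF
  have hB : IsPBlock M B := hnil.1
  have hnil' := (H80.FS4.nilp_iff_top hB).1 hnil
  obtain ⟨e, hmax⟩ := H84.Star.exists_isMax_of_isDefectGroup hM hB hP
  obtain ⟨χ, hχ, h0⟩ := H20.Defect.exists_height_zero hM hB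
  refine ⟨(H84.Star.nilEquiv hM hmax hB hnil' hχ h0).symm, ?_⟩
  intro ψ
  have h1 := H84.Star.nilEquiv_height hM hmax hB hnil' hχ h0
    ((H84.Star.nilEquiv hM hmax hB hnil' hχ h0).symm ψ)
  rw [Equiv.apply_symm_apply] at h1
  exact h1

end Cfsg.Agent.S4690
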