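import Cfsg.Statements.S3559
import Cfsg.Agent.Lib.H63.SRingAbel

set_option autoImplicit false
open Cfsg

namespace Cfsg.Agent.S3559

/-- Let G act faithfully and transitively on a finite set whose number of points n ≥ 2 is not a prime power, and suppose G has a cyclic subgroup acting regularly (transitively with trivial point stabilizers). Then G is imprimitive or doubly transitive. -/
theorem result {G Ω : Type*} [Group G] [Finite G] [MulAction G Ω] [FaithfulSMul G Ω] [Finite Ω]
    (htrans : MulAction.IsPretransitive G Ω) (hn : 2 ≤ Nat.card Ω) (hnp : ¬ IsPrimePow (Nat.card Ω))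
    (C : Subgroup G) (hcyc : IsCyclic ↥C) (hC : MulAction.IsPretransitive ↥C Ω ∧ ∀ a : Ω, MulAction.stabilizer ↥C a = ⊥) :
    ¬ MulAction.IsPreprimitive G Ω ∨ MulAction.IsMultiplyPretransitive G Ω 2 := by
  classical
  by_cases hprim : MulAction.IsPreprimitive G Ω
  swap
  · exact Or.inl hprim
  right
  have : Fintype C := Fintype.ofFinite C
  have hnt : Nontrivial Ω := Finite.one_lt_card_iff_nontrivial.mp (by omega)
  obtain ⟨ω₀⟩ : Nonempty Ω := inferInstance
  obtain ⟨hC1, hC2⟩ := hC
  have hinj : ∀ x y : C, (x : G) • ω₀ = (y : G) • ω₀ → x = y := by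
    intro x y hxy
    have : x⁻¹ * y ∈ MulAction.stabilizer C ω₀ := by
      rw [MulAction.mem_stabilizer_iff, Subgroup.smul_def, Subgroup.coe_mul, mul_smul, ← hxy,
        Subgroup.coe_inv, inv_smul_smul]
    rw [hC2 ω₀, Subgroup.mem_bot, inv_mul_eq_one] at this
    exact this
  have hsurj : ∀ ω : Ω, ∃ x : C, (x : G) • ω₀ = ω := fun ω => MulAction.exists_smul_eq C ω₀ ω
  have hcard : Nat.card C = Nat.card Ω := Nat.card_congr
    (Equiv.ofBijective (fun x : C => (x : G) • ω₀) ⟨fun x y => hinj x y, hsurj⟩)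
  letI : CommGroup C := IsCyclic.commGroup
  have hS := H63.SR.isSRing_rel hinj hsurj
  have hP : H63.SR.Prim (H63.SR.rel C ω₀) := H63.SR.prim_rel hinj hsurj
  exact H63.SR.two_transitive_of_rel hsurj (fun x y hx hy =>
    H63.SR.IsSRing.cyclic (D := C) hS hP (by rwa [hcard]) hx hy)

end Cfsg.Agent.S3559
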