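import Cfsg.Statements.S4551
import Cfsg.Agent.Lib.H78.Dade2

set_option autoImplicit false
open Cfsg

namespace Cfsg.Agent.S4551


open H20.Loc H20.GA H20.Blk H20.Orth H20.Defect H78.PrincReal H78.Cover H78.Dade
open H18.CharBasic H18.CharOrtho H18.CharQuot H31.Clifford H18.CharInd

section

variable {G : Type*} [Group G] [Fintype G] {p : ℕ} {M : Ideal AlgInt} (N : Subgroup G)
  [hN : N.Normal]

/-- A character of the principal block with `N` in its kernel is trivial. -/
theorem eq_triv (hM : IsPModular p M) (hidx : ¬ p ∣ N.index) (P : Sylow p G)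
    (hsup : N ⊔ Subgroup.centralizer ((P : Subgroup G) : Set G) = ⊤) (χ : IrrCharacter G)
    (hχ : χ ∈ principalBlock M G) (hker : ∀ n ∈ N, (χ : G → ℂ) n = (χ : G → ℂ) 1) :
    χ = triv G := by
  classical
  have hMp := pm_isPrime hM
  have hp := pm_prime hM
  have hpf : Fact p.Prime := ⟨hp⟩
  have hχc := isCharacter_of_isIrr χ.2
  have h0 := irr_one_ne_zero χ.2
  -- values on the centralizer of P
  have h1 : ∀ c ∈ Subgroup.centralizer ((P : Subgroup G) : Set G),
      MemLocalIdeal M ((χ : G → ℂ) c / (χ : G → ℂ) 1 - 1) := by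
    intro c hc
    have h2 : MemLocalIdeal M (centralChar (fun _ : G => (1 : ℂ)) c - centralChar (χ : G → ℂ) c) :=
      hχ c
    have h3 : centralChar (fun _ : G => (1 : ℂ)) c - centralChar (χ : G → ℂ) c =
        ((Subgroup.centralizer ({c} : Set G)).index : ℂ) *
          (1 - (χ : G → ℂ) c / (χ : G → ℂ) 1) := by
      rw [centralChar, centralChar]
      ring
    have h4 : ¬ p ∣ (Subgroup.centralizer ({c} : Set G)).index := by
      intro h
      have h5 : (P : Subgroup G) ≤ Subgroup.centralizer ({c} : Set G) := by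
        intro x hx
        rw [Subgroup.mem_centralizer_singleton_iff]
        exact (Subgroup.mem_centralizer_iff.1 hc) x hx
      exact P.not_dvd_index (h.trans (Subgroup.index_dvd_of_le h5))
    have h5 := locR_natCast_inv hM h4
    have h6 : ((Subgroup.centralizer ({c} : Set G)).index : ℂ) ≠ 0 := by
      exact_mod_cast Subgroup.index_ne_zero_of_finite
    have h7 := locI_mul_left h5 h2
    rw [h3, ← mul_assoc, inv_mul_cancel₀ h6, one_mul] at h7
    have h8 := locI_neg h7
    rwa [neg_sub] at h8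
  have h2 : ∀ g : G, MemLocalIdeal M ((χ : G → ℂ) g / (χ : G → ℂ) 1 - 1) := by
    intro g
    have hg : g ∈ N ⊔ Subgroup.centralizer ((P : Subgroup G) : Set G) := by
      rw [hsup]; exact Subgroup.mem_top g
    rw [Subgroup.mem_sup_of_normal_left] at hg
    obtain ⟨n, hn, c, hc, rfl⟩ := hg
    rw [char_mul_left hχc (hker n hn)]
    exact h1 c hc
  -- sum over the quotient
  have hd := isIrrCharacter_deflate N χ.2 hker
  have hdm := deflate_mk N hχc hker
  by_contra hne
  letI : Fintype (G ⧸ N) := Fintype.ofFinite _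
  have h3 : deflate N (χ : G → ℂ) ≠ fun _ => 1 := by
    intro h
    apply hne
    apply Subtype.ext
    funext g
    have := congrFun h (QuotientGroup.mk g)
    rw [hdm] at this
    exact this
  have h4 := inner_irr_ne hd (isIrrCharacter_one (G := G ⧸ N)) h3
  have h5 : ∑ q : G ⧸ N, deflate N (χ : G → ℂ) q = 0 := by
    unfold classInner at h4
    rcases mul_eq_zero.1 h4 with h | h
    · exfalso
      exact (inv_ne_zero (by exact_mod_cast (Nat.card_pos (α := G ⧸ N)).ne')) h
    · simpa using h
  have h6 : MemLocalIdeal M (∑ q : G ⧸ N, (deflate N (χ : G → ℂ) q / (χ : G → ℂ) 1 - 1)) := by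
    refine locI_sum fun q _ => ?_
    obtain ⟨g, rfl⟩ := QuotientGroup.mk_surjective q
    rw [hdm]
    exact h2 g
  rw [Finset.sum_sub_distrib, ← Finset.sum_div, h5, zero_div, zero_sub, Finset.sum_const,
    nsmul_eq_mul, mul_one] at h6
  have h7 := locI_neg h6
  rw [neg_neg, locI_natCast_iff hM, Finset.card_univ] at h7
  apply hidx
  have h8 : Fintype.card (G ⧸ N) = N.index := by rw [← Nat.card_eq_fintype_card]; rfl
  rwa [h8] at h7

theorem sylow_le (hidx : ¬ p ∣ N.index) [Fact p.Prime] (P : Sylow p G) : (P : Subgroup G) ≤ N := by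
  intro x hx
  have hp : p.Prime := Fact.out
  obtain ⟨k, hk⟩ := (IsPGroup.iff_orderOf.1 P.2) ⟨x, hx⟩
  have h1 : orderOf x = p ^ k := by rw [← hk]; exact (Subgroup.orderOf_mk _ _).symm
  have h2 : orderOf (QuotientGroup.mk x : G ⧸ N) ∣ p ^ k := by
    rw [← h1]
    exact orderOf_map_dvd (QuotientGroup.mk' N) x
  have h3 : orderOf (QuotientGroup.mk x : G ⧸ N) ∣ N.index := by
    rw [Subgroup.index]
    exact orderOf_dvd_natCard _
  have h4 : Nat.Coprime N.index (p ^ k) :=
    Nat.Coprime.pow_right k ((Nat.Prime.coprime_iff_not_dvd hp).2 hidx).symm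
  have h5 : orderOf (QuotientGroup.mk x : G ⧸ N) = 1 := Nat.eq_one_of_dvd_coprimes h4 h3 h2
  rw [orderOf_eq_one_iff] at h5
  exact (QuotientGroup.eq_one_iff x).1 h5

theorem exists_reps (hM : IsPModular p M) (hidx : ¬ p ∣ N.index) (P : Sylow p G)
    (hsup : N ⊔ Subgroup.centralizer ((P : Subgroup G) : Set G) = ⊤) : Nonempty (Reps N p M) := by
  have hpf : Fact p.Prime := ⟨pm_prime hM⟩
  have hPN := sylow_le N hidx P
  have h1 : ∀ q : G ⧸ N, ∃ c ∈ Subgroup.centralizer ((P : Subgroup G) : Set G),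
      (QuotientGroup.mk c : G ⧸ N) = q := by
    intro q
    obtain ⟨g, rfl⟩ := QuotientGroup.mk_surjective q
    have hg : g ∈ N ⊔ Subgroup.centralizer ((P : Subgroup G) : Set G) := by
      rw [hsup]; exact Subgroup.mem_top g
    rw [Subgroup.mem_sup_of_normal_left] at hg
    obtain ⟨n, hn, c, hc, rfl⟩ := hg
    refine ⟨c, hc, ?_⟩
    rw [QuotientGroup.mk_mul, (QuotientGroup.eq_one_iff n).2 hn, one_mul]
  choose c hc hcq using h1
  exact ⟨{ c := c
           mk_c := hcq
           ct1 := fun q => not_dvd_ct N P hPN (hc q)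
           ct2 := fun q => not_dvd_ct N P hPN (Subgroup.inv_mem _ (hc q))
           princ := fun χ hχ hk => eq_triv N hM hidx P hsup χ hχ hk }⟩

end


/-- Let N be a normal subgroup of the finite group G of index prime to p, P a Sylow p-subgroup of G with G = N·C_G(P), and M a maximal ideal of the algebraic integers containing p. Then restriction to N is a bijection from the principal p-block of G onto the principal p-block of N: every member of the principal block of G restricts to a member of the principal block of N, and every member of the principal block of N is the restriction of exactly one member of the principal block of G. -/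
theorem result {G : Type*} [Group G] [Finite G] (p : ℕ) [Fact p.Prime] (M : Ideal Cfsg.AlgInt) (hM : Cfsg.IsPModular p M) (N : Subgroup G) [N.Normal] (hidx : ¬ p ∣ N.index) (P : Sylow p G) (hsup : N ⊔ Subgroup.centralizer ((P : Subgroup G) : Set G) = ⊤) : (∀ χ ∈ Cfsg.principalBlock M G, ∃ θ ∈ Cfsg.principalBlock M ↥N, ∀ n : N, (χ : G → ℂ) n = (θ : N → ℂ) n) ∧ ∀ θ ∈ Cfsg.principalBlock M ↥N, ∃! χ : Cfsg.IrrCharacter G, χ ∈ Cfsg.principalBlock M G ∧ ∀ n : N, (χ : G → ℂ) n = (θ : N → ℂ) n := by

  classical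
  have hMp := pm_isPrime hM
  letI := Fintype.ofFinite G
  letI := Fintype.ofFinite N
  letI := Fintype.ofFinite (IrrCharacter G)
  obtain ⟨R⟩ := exists_reps N hM hidx P hsup
  have key := fun θ hθ => sum_wt_eq_one (N := N) hM hidx R (θ := θ) hθ
  -- if `χ ∈ B₀(G)` lies over `θ` then `χ_N = θ`
  have hres : ∀ χ ∈ principalBlock M G, ∀ θ : IrrCharacter N,
      classInner (fun n : N => (χ : G → ℂ) n) (θ : N → ℂ) ≠ 0 →
      ∀ n : N, (χ : G → ℂ) n = (θ : N → ℂ) n := by
    intro χ hχ θ hin
    have hθ := mem_principal_of_over N hM hχ hin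
    have hinv := invariant hM R hθ
    have h1 := key θ hθ
    have h2 : wt N (θ : N → ℂ) (χ : G → ℂ) ≤ 1 := by
      rw [← h1]
      have h3 := Finset.single_le_sum (f := fun χ : IrrCharacter G =>
        if χ ∈ principalBlock M G then wt N (θ : N → ℂ) (χ : G → ℂ) else 0)
        (fun _ _ => Nat.zero_le _) (Finset.mem_univ χ)
      simp only [if_pos hχ] at h3
      exact h3
    have h3 := (wt_ne_zero_iff N χ.2 θ.2).2 hin
    have h4 : wt N (θ : N → ℂ) (χ : G → ℂ) = 1 := by omega
    have h5 := (wt_invariant θ.2 hinv χ.2 hin).1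
    obtain ⟨e, he⟩ := inner_char_natCast (isCharacter_restrict N (isCharacter_of_isIrr χ.2))
        (isCharacter_of_isIrr θ.2)
    rw [h4, he] at h5
    have h6 : 1 = e * e := by exact_mod_cast h5
    have h7 : e = 1 := by
      have := Nat.eq_one_of_mul_eq_one_left h6.symm
      exact this
    have h8 := restrict_of_invariant θ.2 hinv χ.2 hin
    rw [he, h7, Nat.cast_one, one_smul] at h8
    exact congrFun h8
  constructor
  · intro χ hχ
    obtain ⟨θ, hθi, hθ⟩ := exists_constituent_restrict N χ.2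
    refine ⟨⟨θ, hθi⟩, mem_principal_of_over N hM hχ (θ := ⟨θ, hθi⟩) hθ, ?_⟩
    exact hres χ hχ ⟨θ, hθi⟩ hθ
  · intro θ hθ
    have h1 := key θ hθ
    have h2 : (∑ χ : IrrCharacter G, if χ ∈ principalBlock M G then
        wt N (θ : N → ℂ) (χ : G → ℂ) else 0) ≠ 0 := by rw [h1]; exact one_ne_zero
    obtain ⟨χ, _, hχ0⟩ := Finset.exists_ne_zero_of_sum_ne_zero h2
    have hχ : χ ∈ principalBlock M G := by
      by_contra h
      rw [if_neg h] at hχ0
      exact hχ0 rfl
    rw [if_pos hχ] at hχ0
    have hin := (wt_ne_zero_iff N χ.2 θ.2).1 hχ0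
    refine ⟨χ, ⟨hχ, hres χ hχ θ hin⟩, ?_⟩
    rintro ψ ⟨hψ, hψr⟩
    by_contra hne
    have hin' : classInner (fun n : N => (ψ : G → ℂ) n) (θ : N → ℂ) ≠ 0 := by
      have : (fun n : N => (ψ : G → ℂ) n) = θ := funext hψr
      rw [this, inner_irr_self θ.2]
      exact one_ne_zero
    have h3 := (wt_ne_zero_iff N ψ.2 θ.2).2 hin'
    have h4 : ∑ χ' ∈ ({χ, ψ} : Finset (IrrCharacter G)), (if χ' ∈ principalBlock M G then
        wt N (θ : N → ℂ) (χ' : G → ℂ) else 0) ≤ 1 := by
      rw [← h1]
      exact Finset.sum_le_sum_of_subset (Finset.subset_univ _)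
    rw [Finset.sum_pair (fun h => hne h.symm), if_pos hχ, if_pos hψ] at h4
    omega


end Cfsg.Agent.S4551
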