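import Cfsg.Statements.S0888
import Mathlib
import Cfsg.Agent.Lib.H19.ProjExt2

set_option autoImplicit false
open Cfsg

namespace Cfsg.Agent.S0888

/-- Let N be a normal subgroup of the finite group G and ϑ an irreducible character of N invariant under conjugation by G. Suppose that for every prime p there are a subgroup P containing N, of index prime to p and with the index of N in P a power of p, and an irreducible character of P restricting to ϑ. Then ϑ is the restriction of an irreducible character of G. -/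
theorem result {G : Type*} [Group G] [Finite G] (N : Subgroup G) [hN : N.Normal] (ϑ : N → ℂ) (hϑ : Cfsg.IsIrrCharacter N ϑ) (hinv : ∀ (g : G) (n : N), ϑ ⟨g * n * g⁻¹, hN.conj_mem (n : G) n.2 g⟩ = ϑ n) (hsyl : ∀ p : ℕ, p.Prime → ∃ (P : Subgroup G) (hNP : N ≤ P) (η : P → ℂ), Nat.Coprime P.index p ∧ (∃ k : ℕ, N.relIndex P = p ^ k) ∧ Cfsg.IsIrrCharacter P η ∧ ∀ n : N, η ⟨(n : G), hNP n.2⟩ = ϑ n) : ∃ χ : G → ℂ, Cfsg.IsIrrCharacter G χ ∧ ∀ n : N, χ n = ϑ n := by
  classical
  haveI := Fintype.ofFinite N
  obtain ⟨d, ρ, hρ, rfl⟩ := hϑ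
  have hnorm : Cfsg.classInner ρ.character ρ.character = 1 :=
    H18.CharOrtho.inner_irr_self ⟨d, ρ, hρ, rfl⟩
  obtain ⟨σ, hσ⟩ := H19.ProjExt2.extend_of_subgroups ρ hρ (fun g n => by
    have := hinv g n
    rw [← this]
    congr 1) (by
    intro p hp
    obtain ⟨P, hNP, η, hcop, _, hη, hres⟩ := hsyl p hp
    obtain ⟨d', τ, hτ, rfl⟩ := hη
    have hd : d' = d := by
      have h1 := hres 1
      have h2 : (⟨((1 : N) : G), hNP (1 : N).2⟩ : P) = 1 := rfl
      rw [h2, Representation.char_one, Representation.char_one] at h1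
      simp only [Module.finrank_fintype_fun_eq_card, Fintype.card_fin] at h1
      exact_mod_cast h1
    subst hd
    let ι : N →* P := Subgroup.inclusion hNP
    let τN : Representation ℂ N (Fin d' → ℂ) := τ.comp ι
    have hτN : τN.character = ρ.character := by
      ext n
      exact hres n
    obtain ⟨e⟩ := H19.ProjExt.equiv_of_inner ρ τN hρ (by rw [hτN, hnorm]; exact one_ne_zero) rfl
    have hconj : ∀ n : N, ∀ v, e.toLinearEquiv.symm (τN n (e.toLinearEquiv v)) = ρ n v := by
      intro n v
      have h3 : e.toLinearEquiv (ρ n v) = τN n (e.toLinearEquiv v) :=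
        Representation.IntertwiningMap.isIntertwining ρ τN e.toIntertwiningMap n v
      rw [← h3, LinearEquiv.symm_apply_apply]
    let Y : P →* (Module.End ℂ (Fin d' → ℂ))ˣ :=
      (Units.map (e.toLinearEquiv.symm.conjRingEquiv : Module.End ℂ (Fin d' → ℂ) ≃+* Module.End ℂ (Fin d' → ℂ)).toMonoidHom).comp
        τ.toHomUnits
    refine ⟨P, hNP, Y, ?_, ?_⟩
    · intro hdvd
      have := Nat.Coprime.eq_one_of_dvd hcop.symm hdvd
      exact hp.one_lt.ne' this
    · intro n
      apply LinearMap.ext
      intro v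
      exact hconj n v)
  have hirr : σ.IsIrreducible := by
    apply H19.ProjExt2.isIrreducible_of_restrict (N := N)
    have : (σ.comp N.subtype : Representation ℂ N (Fin d → ℂ)) = ρ := by
      ext1 n
      exact hσ n
    rw [this]
    exact hρ
  refine ⟨σ.character, ⟨d, σ, hirr, rfl⟩, fun n => ?_⟩
  show LinearMap.trace ℂ _ (σ n) = LinearMap.trace ℂ _ (ρ n)
  rw [hσ]

end Cfsg.Agent.S0888
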