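import Cfsg.Statements.S0223
import Cfsg.Agent.Lib.H5.PLocal

set_option autoImplicit false
open Cfsg

namespace Cfsg.Agent.S0223

/-- Let H be a proper subgroup of even order of the finite group G. Then H is strongly embedded if and only if (i) C_G(t) ≤ H for every involution t of H and (ii) H controls fusion of its involutions: involutions of H conjugate in G are conjugate in H. -/
theorem result {G : Type*} [Group G] [Finite G] (H : Subgroup G) (hH : H ≠ ⊤) (heven : Even (Nat.card H)) : Cfsg.IsStronglyEmbedded H ↔ ((∀ t ∈ H, orderOf t = 2 → Subgroup.centralizer ({t} : Set G) ≤ H) ∧ (∀ t ∈ H, ∀ s ∈ H, orderOf t = 2 → orderOf s = 2 → IsConj t s → ∃ h ∈ H, h * t * h⁻¹ = s)) := by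
  constructor
  · rintro ⟨-, -, h⟩
    have key : ∀ g t : G, t ∈ H → orderOf t = 2 → g * t * g⁻¹ ∈ H → g ∈ H := by
      intro g t ht h2 hg
      by_contra hgH
      have := h g hgH
      rw [← Nat.not_even_iff_odd] at this
      apply this
      apply H5.PLocal.even_card_of_mem (t := g * t * g⁻¹)
      · exact ⟨hg, ⟨t, ht, by simp⟩⟩
      · have := orderOf_injective (MulAut.conj g).toMonoidHom (MulAut.conj g).injective t
        simpa [h2] using this
    refine ⟨?_, ?_⟩
    · intro t ht h2 g hg
      apply key g t ht h2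
      rw [Subgroup.mem_centralizer_singleton_iff] at hg
      rw [hg]; simpa using ht
    · intro t ht s hs h2 _ hconj
      rw [isConj_iff] at hconj
      obtain ⟨c, hc⟩ := hconj
      exact ⟨c, key c t ht h2 (hc ▸ hs), hc⟩
  · rintro ⟨h1, h2⟩
    refine ⟨hH, heven, ?_⟩
    intro g hg
    by_contra hodd
    rw [Nat.not_odd_iff_even] at hodd
    obtain ⟨s, hs, hs2⟩ := H5.PLocal.exists_involution_mem _ hodd
    obtain ⟨hsH, t, ht, hts⟩ := hs
    have hts' : g * t * g⁻¹ = s := by simpa using hts
    have ht2 : orderOf t = 2 := by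
      have := orderOf_injective (MulAut.conj g).toMonoidHom (MulAut.conj g).injective t
      rw [hts] at this
      rw [← this]; exact hs2
    obtain ⟨h, hh, hhs⟩ := h2 t ht s hsH ht2 hs2 (isConj_iff.mpr ⟨g, hts'⟩)
    apply hg
    have hc : h⁻¹ * g ∈ Subgroup.centralizer ({t} : Set G) := by
      rw [Subgroup.mem_centralizer_singleton_iff]
      have : g * t * g⁻¹ = h * t * h⁻¹ := hts'.trans hhs.symm
      calc h⁻¹ * g * t = h⁻¹ * (g * t * g⁻¹) * g := by group
      _ = h⁻¹ * (h * t * h⁻¹) * g := by rw [this]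
      _ = t * (h⁻¹ * g) := by group
    have := H.mul_mem hh (h1 t ht ht2 hc)
    simpa using this

end Cfsg.Agent.S0223
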