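import Cfsg.Statements.S4685
import Cfsg.Agent.Lib.H84.Star10
import Cfsg.Agent.Lib.H80.FS3

set_option autoImplicit false
open Cfsg

namespace Cfsg.Agent.S4685

open H20.Loc H20.GA H80.GA H80.GB H80.GD H80.GE H80.FS H18.CharBasic H18.CharOrtho
open H20.Blk H20.Orth H80.BR1 H80.BR2 H81.Section H81.Contrib H84.Star
open scoped ComplexConjugate

attribute [local instance 2000] Fintype.ofFinite

universe u

variable {G : Type u} [Group G] [Finite G] {p : ℕ} [Fact p.Prime] {M : Ideal Cfsg.AlgInt} [M.IsMaximal]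
    [CharP (ResF M) p] [Algebra (ZMod p) (ResF M)] [Algebra.IsAlgebraic (ZMod p) (ResF M)]
    {B : Set (IrrCharacter G)} {P : Subgroup G} {e : MonoidAlgebra (ResF M) G}

theorem defect_eq (hM : Cfsg.IsPModular p M) (hB : IsPBlock M B) (hmax : IsMax p ⊤ (ebar M B) P e)
    {z : G} (hzP : z ∈ P) (hzC : z ∈ Subgroup.centralizer (P : Set G))
    (S : BlkS M z) (hS : SLE p ⊤ (Subgroup.zpowers z) (bl M (C z) S.1) P e) :
    blockDefect p S.1 = blockDefect p B := by
  have hp : p.Prime := Fact.out
  have hPz : P ≤ C z := by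
    intro y hy
    rw [Subgroup.mem_centralizer_singleton_iff]
    exact Subgroup.mem_centralizer_iff.1 hzC y hy
  have hCH : CH P (Subgroup.zpowers z) = P := by
    have h1 := CZ_eq z
    unfold CZ at h1
    unfold CH
    rw [h1]
    exact inf_eq_right.2 hPz
  have hfc : (fsys hmax.of.pair).IsFullyCentralized (Subgroup.zpowers z) := by
    refine ⟨by rw [Subgroup.zpowers_le]; exact hzP, ?_⟩
    intro Q _
    rw [H80.FS3.cIn_eq, H80.FS3.cIn_eq, hCH]
    exact Subgroup.card_le_of_le inf_le_right
  have h2 := (H80.FS3.fc_iff hmax hS).1 hfc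
  rw [CH_eq, hCH] at h2
  have h3 : (P.subgroupOf (C z)).map (C z).subtype = P := by
    rw [Subgroup.subgroupOf_map_subtype]
    exact inf_eq_left.2 hPz
  have h4 : IsDefectGroup p M S.1 (P.subgroupOf (C z)) := by
    rw [H80.BR2.isDefectGroup_iff_isDef' hM S.2, h3]
    exact h2
  have h5 : IsDefectGroup p M B P := by
    rw [H80.BR2.isDefectGroup_iff_isDef hM hB]
    exact (isMax_iff_isDef hmax.of).1 hmax
  have h6 := H20.Defect.card_defectGroup hM S.2 h4
  have h7 := H20.Defect.card_defectGroup hM hB h5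
  rw [Nat.card_congr (Subgroup.subgroupOfEquivOfLe hPz).toEquiv, h7] at h6
  exact (Nat.pow_right_injective hp.two_le h6).symm

theorem dvd_height (hM : IsPModular p M) (hmax : IsMax p ⊤ (ebar M B) P e) (hB : IsPBlock M B) (h : ℕ) :
    ((P ⊓ Subgroup.centralizer (P : Set G) ⊓ (fsys hmax.of.pair).focalSubgroup).subgroupOf
      (P ⊓ Subgroup.centralizer (P : Set G))).index ∣ Nat.card (XH p B h) := by
  let _ := actionH hM hmax hB h
  set F := (fsys hmax.of.pair).focalSubgroup with hF
  set Z := P ⊓ Subgroup.centralizer (P : Set G) with hZ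
  have hZP : Z ≤ P := inf_le_left
  have hfin : Finite (LinF hmax.of.pair) := by
    apply Nat.finite_of_card_ne_zero
    rw [card_LinF]
    exact Subgroup.index_ne_zero_of_finite
  let N0 : Subgroup (LinF hmax.of.pair) :=
    { carrier := {l | ∀ x ∈ Z.subgroupOf P, l.1 x = 1}
      mul_mem' := fun {a b} ha hb x hx => by
        change (a.1 * b.1) x = 1
        rw [MonoidHom.mul_apply, ha x hx, hb x hx, mul_one]
      one_mem' := fun x _ => rfl
      inv_mem' := fun {a} ha x hx => by
        change (a.1)⁻¹ x = 1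
        rw [MonoidHom.inv_apply, ha x hx, inv_one] }
  have h1 := index_dvd_card (Γ := LinF hmax.of.pair) (X := XH p B h) N0 (by
    intro χ l hl x hx
    have h2 : actH hM hmax hB h l χ = χ := hl
    have h3 := actH_coe hM hmax hB h l χ
    rw [h2] at h3
    have hx' : (x : G) ∈ Z := Subgroup.mem_subgroupOf.1 hx
    apply eq_one_of_fix hM (fun u => (exists_unique_sle hmax.of.pair
      (by rw [Subgroup.zpowers_le]; exact u.2)).exists) (LinF_fst _ l) h3.symm x
      (order_of_mem hmax.of.pair.pgr x) hmax.of.pair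
    intro S hS
    have hu := order_of_mem hmax.of.pair.pgr x
    have hpo := (pairOf_of_sle hmax.of.pair hS).1 hmax.of
    have hind := (ind_iff hM hu S.2 hB).2 hpo
    exact comp_ne_zero_of_defect hM hu hind (defect_eq hM hB hmax hx'.1 hx'.2 S hS) χ.2.1)
  -- the index of `N0`
  have hcom : commutator P ≤ F.subgroupOf P := commutator_le_focal hmax.of.pair
  have hN : (F.subgroupOf P).Normal := Subgroup.Normal.of_commutator_le _ hcom
  have h2 : Nat.card N0 = (F.subgroupOf P ⊔ Z.subgroupOf P).index := by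
    rw [← card_lin _ (hcom.trans le_sup_left)]
    apply Nat.card_congr
    exact
      { toFun := fun l => ⟨l.1.1, fun x hx => by
          have h3 : F.subgroupOf P ⊔ Z.subgroupOf P ≤ l.1.1.ker := by
            apply sup_le
            · intro y hy; exact l.1.2 y hy
            · intro y hy; exact l.2 y hy
          exact h3 hx⟩
        invFun := fun l => ⟨⟨l.1, fun x hx => l.2 x (Subgroup.mem_sup_left hx)⟩,
          fun x hx => l.2 x (Subgroup.mem_sup_right hx)⟩
        left_inv := fun l => rfl
        right_inv := fun l => rfl }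
  have h3 : Nat.card N0 * N0.index = (F.subgroupOf P).index := by
    rw [Subgroup.card_mul_index, card_LinF]
  have h4 : (F.subgroupOf P).relIndex (F.subgroupOf P ⊔ Z.subgroupOf P) * (F.subgroupOf P ⊔ Z.subgroupOf P).index =
      (F.subgroupOf P).index := Subgroup.relIndex_mul_index le_sup_left
  rw [← h3, h2, mul_comm] at h4
  have h5 : (F.subgroupOf P).relIndex (F.subgroupOf P ⊔ Z.subgroupOf P) = N0.index :=
    Nat.eq_of_mul_eq_mul_left (Nat.pos_of_ne_zero Subgroup.index_ne_zero_of_finite) h4
  rw [sup_comm, Subgroup.relIndex_sup_right, Subgroup.relIndex_subgroupOf hZP] at h5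
  rw [← h5] at h1
  have h6 : ((Z ⊓ F).subgroupOf Z).index = F.relIndex Z := by
    rw [inf_comm]
    exact Subgroup.inf_relIndex_right F Z
  rw [h6]
  exact h1

/-- Fix a prime p and a maximal ideal M of the algebraic integers containing p, a p-block B of the finite group G with maximal Brauer pair (P, e) and fusion system F on P. Then for every h the number of irreducible characters of height h in B is divisible by the index of Z(P) ∩ foc(F) in Z(P), where foc(F) is the focal subgroup of F. -/
theorem result {G : Type*} [Group G] [Fintype G] (p : ℕ) [Fact p.Prime] (M : Ideal Cfsg.AlgInt) (hM : Cfsg.IsPModular p M) (B : Set (Cfsg.IrrCharacter G)) (P : Subgroup G) (e : Set (Cfsg.IrrCharacter (Subgroup.centralizer (P : Set G)))) (hmax : Cfsg.IsMaximalBrauerPair p M B P e) (F : Cfsg.FusionSystem P) (hF : Cfsg.IsBlockFusionSystemOn p M B P e F) (h : ℕ) : ((P ⊓ Subgroup.centralizer (P : Set G) ⊓ F.focalSubgroup).subgroupOf (P ⊓ Subgroup.centralizer (P : Set G))).index ∣ Nat.card {χ : Cfsg.IrrCharacter G // χ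 ∈ B ∧ Cfsg.blockHeight p B (χ : G → ℂ) = h} := by
  have : M.IsMaximal := hM.2.1
  have : CharP (H20.Loc.ResF M) p := H20.Loc.charP_resF hM
  let _ : Algebra (ZMod p) (H20.Loc.ResF M) := ZMod.algebra (H20.Loc.ResF M) p
  have : Algebra.IsAlgebraic (ZMod p) (H20.Loc.ResF M) := H80.BR1.isAlgebraic_resF hM
  obtain ⟨hB, he, h'⟩ := H80.BR3.maximal_iff.1 hmax
  have h1 := H80.FS2.eq_fsys hF h'.of.pair
  subst h1
  exact dvd_height hM h' hB h

end Cfsg.Agent.S4685
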