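import Cfsg.Statements.S2799
import Cfsg.Agent.Lib.H51.S4Free

set_option autoImplicit false
open Cfsg

namespace Cfsg.Agent.S2799

/-- Let S be a Sylow p-subgroup of the finite group G, J(S) the subgroup generated by the abelian subgroups of S of largest order, and x an element of S lying in the centre of N_G(J(S)). Assume that p is odd, or that x is a p-th power of an element of Z(S), or that the symmetric group of degree 4 is not involved in G. Then x is weakly closed in S with respect to G: every G-conjugate of x that lies in S equals x. -/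
theorem result {G : Type*} [Group G] [Finite G] {p : ℕ} [Fact p.Prime] (S : Sylow p G) (x : G) (hxS : x ∈ (S : Subgroup G)) (hxZ : x ∈ (Subgroup.center ↥(Subgroup.normalizer ((Cfsg.thompsonSubgroupAOf (S : Subgroup G)) : Set G))).map (Subgroup.normalizer ((Cfsg.thompsonSubgroupAOf (S : Subgroup G)) : Set G)).subtype) (h : p ≠ 2 ∨ (∃ z ∈ (S : Subgroup G) ⊓ Subgroup.centralizer ((S : Subgroup G) : Set G), z ^ p = x) ∨ ¬ Cfsg.Involves (Equiv.Perm (Fin 4)) G) : ∀ g : G, g * x * g⁻¹ ∈ (S : Subgroup G) → g * x * g⁻¹ = x := by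
  have hS : IsPGroup p (S : Subgroup G) := S.2
  have hSi : ¬ p ∣ (S : Subgroup G).index := S.not_dvd_index
  rw [H51.ThompsonA.thompsonSubgroupAOf_eq] at hxZ
  have hx : ∀ n ∈ Subgroup.normalizer (H51.ThompsonA.J (S : Subgroup G) : Set G), n * x * n⁻¹ = x := by
    intro n hn
    obtain ⟨c, hc, rfl⟩ := hxZ
    have h1 := Subgroup.mem_center_iff.1 hc ⟨n, hn⟩
    have h2 : n * (c : G) = c * n := congrArg Subtype.val h1
    show n * (c : G) * n⁻¹ = c
    rw [h2, mul_inv_cancel_right]
  have hxc : ∀ s ∈ (S : Subgroup G), s * x = x * s := by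
    intro s hs
    have h1 := hx s (H51.ThompsonA.normalizer_le_normalizer_J _ (Subgroup.le_normalizer hs))
    calc s * x = (s * x * s⁻¹) * s := by group
      _ = x * s := by rw [h1]
  have hodd : p ≠ 2 → ∀ g : G, g * x * g⁻¹ ∈ (S : Subgroup G) → g * x * g⁻¹ = x := by
    intro hp g hg
    have := H51.WeakClosOdd.weakly_closed hS hSi hxS hxc (e := 1) (Or.inl hp) (by rwa [pow_one]) (g₀ := g)
      (by rwa [pow_one])
    rwa [pow_one] at this
  rcases h with hp | ⟨z, hz, hzx⟩ | hfree
  · exact hodd hp
  · intro g hg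
    obtain ⟨hz1, hz2⟩ := Subgroup.mem_inf.1 hz
    have := H51.WeakClosOdd.weakly_closed hS hSi hz1 (fun s hs => Subgroup.mem_centralizer_iff.1 hz2 s hs) (e := p)
      (Or.inr dvd_rfl) (by rwa [hzx]) (g₀ := g) (by rwa [hzx])
    rwa [hzx] at this
  · by_cases hp : p = 2
    · subst hp
      exact H51.S4Free.main (Nat.card G) le_rfl hfree hS hSi (orderOf x) hxS le_rfl hx
    · exact hodd hp

end Cfsg.Agent.S2799
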