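import Cfsg.Statements.S5148
import Cfsg.Agent.Lib.H87.Inner

set_option autoImplicit false
open Cfsg

namespace Cfsg.Agent.S5148

/-- A quasisimple fusion system over a finite p-group S (saturated, equal to its p-residual subsystem, with simple — in particular nontrivial — factor system modulo its centre) has S nonabelian. -/
theorem result {Ω : Type*} [Group Ω] {S : Subgroup Ω} [Finite S] (p : ℕ) [Fact p.Prime] (hS : IsPGroup p S) (F : Cfsg.FusionSystem S) (hq : F.Quasisimple p) : ¬ IsMulCommutative S := by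
  intro hab'
  have hab : ∀ x ∈ S, ∀ y ∈ S, x * y = y * x := fun x hx y hy =>
    congrArg Subtype.val (hab'.is_comm.comm (⟨x, hx⟩ : S) ⟨y, hy⟩)
  obtain ⟨hF, hhyp, hsim⟩ := hq
  set Z := F.center with hZ
  have hZc : F.StronglyClosed Z :=
    H87.Basic.IsNormal.stronglyClosed (H87.Basic.IsCentral.isNormal (H87.Basic.isCentral_center F))
  set θ := QuotientGroup.mk' (Z.subgroupOf S) with hθ
  have hker : H87.Factor2.IsKer θ Z := by
    intro s hs
    rw [H87.Base.extFun_apply _ hs, hθ, QuotientGroup.mk'_apply, QuotientGroup.eq_one_iff]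
    exact Iff.rfl
  have hr : θ.range = ⊤ := MonoidHom.range_eq_top.2 (QuotientGroup.mk'_surjective _)
  obtain ⟨E, hE⟩ := H87.Factor.exists_factorSystem (F := F) (S' := ⊤) hZc hker hr
  have hsurj := H87.Factor2.factor_isSurjectiveMorphism hS hF hZc hE
  obtain ⟨hEs, hnt, hEsim⟩ := hsim E hE
  have hfin : Finite (⊤ : Subgroup (S ⧸ Z.subgroupOf S)) := Finite.of_equiv _ Subgroup.topEquiv.symm.toEquiv
  have hp' : IsPGroup p (⊤ : Subgroup (S ⧸ Z.subgroupOf S)) :=
    (hS.to_quotient _).of_equiv Subgroup.topEquiv.symm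
  have hab2 : ∀ x ∈ (⊤ : Subgroup (S ⧸ Z.subgroupOf S)), ∀ y ∈ (⊤ : Subgroup (S ⧸ Z.subgroupOf S)),
      x * y = y * x := by
    rintro x - y -
    obtain ⟨a, rfl⟩ := QuotientGroup.mk'_surjective _ x
    obtain ⟨b, rfl⟩ := QuotientGroup.mk'_surjective _ y
    rw [← map_mul, ← map_mul, hab'.is_comm.comm a b]
  rcases hEsim ⊤ (Cfsg.innerFusionSystem ⊤) (H87.Inner.inner_isNormalIn_of_abelian hp' hEs hab2) with h | ⟨-, h⟩
  · exact hnt h
  · apply hnt
    -- all maps of `E` are identities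
    have hid : ∀ (P' : Subgroup (S ⧸ Z.subgroupOf S)) (f' : (S ⧸ Z.subgroupOf S) → (S ⧸ Z.subgroupOf S)),
        H87.Base.IsMap E P' f' → ∀ y ∈ P', f' y = y := by
      rintro P' f' ⟨φ, hφ, e⟩ y hy
      have h1 : H87.Base.IsMap (Cfsg.innerFusionSystem ⊤) P' f' := ⟨φ, by rw [h P']; exact hφ, e⟩
      obtain ⟨-, g, hg, h3⟩ := H87.Inner.isMap_inner_iff.1 h1
      rw [h3 y hy, hab2 g hg y (Subgroup.mem_top _)]
      group
    have hle : F.hyperfocalSubgroup p ≤ Z := by
      unfold Cfsg.FusionSystem.hyperfocalSubgroup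
      rw [Subgroup.closure_le]
      rintro _ ⟨P, α, x, hP, -, rfl⟩
      have hα := (H87.Base.isIso_of_mem_autGroup hP α.2).isMap
      obtain ⟨f', hf', hi⟩ := (H87.Factor.isMorphism_iff.1 hsurj.1).2 P _ hα
      have h1 := hi x x.2
      have hxS := hP x.2
      have h2 := hid _ _ hf' _ (H87.Factor.mem_imageAlong.2 ⟨x, x.2, hxS, rfl⟩)
      rw [h2, H87.Base.extFun_coe] at h1
      have hαS : (((α : MulAut P) x : P) : Ω) ∈ S := hP ((α : MulAut P) x).2
      exact (hker.eq_iff hxS hαS).1 h1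
    rw [hhyp] at hle
    rw [eq_bot_iff]
    rintro y -
    obtain ⟨x, hx, rfl⟩ := H87.Factor.mem_range_iff.1 (hr ▸ Subgroup.mem_top y)
    exact (hker x hx).2 (hle hx)

end Cfsg.Agent.S5148
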