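import Cfsg.Statements.S2602
import Cfsg.Agent.Lib.H50.PSLOut

set_option autoImplicit false
open Cfsg

namespace Cfsg.Agent.S2602

/-- Structure of the outer automorphism group of PSL_2(q), q = p^f ≥ 4: it has a normal cyclic subgroup of order gcd(2, q − 1) (diagonal automorphisms) with cyclic quotient of order f (field automorphisms); there is no graph automorphism in dimension 2. -/
theorem result {F : Type*} [Field F] [Fintype F] {p f : ℕ} [Fact p.Prime] (hf : 1 ≤ f) (hF : Fintype.card F = p ^ f) (h4 : 4 ≤ p ^ f) : ∃ φ : Cfsg.Out (Matrix.ProjectiveSpecialLinearGroup (Fin 2) F) →* Multiplicative (ZMod f), Function.Surjective φ ∧ IsCyclic φ.ker ∧ Nat.card φ.ker = Nat.gcd 2 (p ^ f - 1) := by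
  have hFn : Nat.card F = p ^ f := by rw [Nat.card_eq_fintype_card, hF]
  have hchar : CharP F p := H50.FieldAut.charP_of_card p hFn
  have hcyc : IsCyclic (F ≃+* F) := H50.FieldAut.isCyclic_ringAut p
  have hcard : Nat.card (F ≃+* F) = Nat.card (Multiplicative (ZMod f)) := by
    rw [H50.FieldAut.card_ringAut p hFn, Nat.card_congr Multiplicative.toAdd, Nat.card_zmod]
  have : NeZero f := ⟨by omega⟩
  let e : (F ≃+* F) ≃* Multiplicative (ZMod f) := mulEquivOfCyclicCardEq hcard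
  obtain ⟨Φ, hΦ1, hΦ2⟩ := H50.PSLOut.exists_fieldPart (F := F) p (n := 2) (by omega)
  let φ₀ : MulAut (Matrix.ProjectiveSpecialLinearGroup (Fin 2) F) →* Multiplicative (ZMod f) :=
    e.toMonoidHom.comp Φ
  have hφ₀1 : ∀ α, φ₀ α = 1 ↔ Φ α = 1 := by
    intro α
    change e (Φ α) = 1 ↔ _
    rw [map_eq_one_iff e e.injective]
  have hinn : Cfsg.Inn (Matrix.ProjectiveSpecialLinearGroup (Fin 2) F) ≤ φ₀.ker := by
    rintro _ ⟨a, rfl⟩
    obtain ⟨s, rfl⟩ := QuotientGroup.mk_surjective a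
    rw [MonoidHom.mem_ker, H50.PSLPure.conj_eq_psi, hφ₀1, hΦ1]
    rfl
  let φ : Cfsg.Out (Matrix.ProjectiveSpecialLinearGroup (Fin 2) F) →* Multiplicative (ZMod f) :=
    QuotientGroup.lift _ φ₀ hinn
  have hφ : ∀ α, φ (QuotientGroup.mk α) = φ₀ α := fun _ => rfl
  have hker : φ.ker = (H50.PSLOut.diagOut (F := F) (0 : Fin 2)).range := by
    ext x
    rw [H50.PSLOut.diagOut_range le_rfl]
    obtain ⟨α, rfl⟩ := QuotientGroup.mk_surjective x
    rw [MonoidHom.mem_ker, hφ, hφ₀1]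
    constructor
    · intro h1
      obtain ⟨g, σ, h | ⟨h, -⟩⟩ := H50.AutPSL2.aut_psl (p := p) (le_refl 2) α
      · rw [h, hΦ1] at h1
        refine ⟨g, ?_⟩
        rw [h, h1]; rfl
      · omega
    · rintro ⟨g, hg⟩
      have h1 : φ₀ α = φ₀ (H50.PSLBasic.psi g (RingEquiv.refl F)) := by
        rw [← hφ, ← hφ, hg]
      rw [← hφ₀1, h1, hφ₀1, hΦ1]
      rfl
  refine ⟨φ, ?_, ?_, ?_⟩
  · intro y
    obtain ⟨σ, hσ⟩ := e.surjective y
    refine ⟨QuotientGroup.mk (H50.PSLBasic.psi 1 σ), ?_⟩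
    rw [hφ]
    change e (Φ _) = _
    rw [hΦ1, hσ]
  · rw [hker]
    exact isCyclic_of_surjective (H50.PSLOut.diagOut (F := F) (0 : Fin 2)).rangeRestrict
      (MonoidHom.rangeRestrict_surjective _)
  · rw [hker, H50.PSLOut.card_diagOut_range le_rfl _ hFn]

end Cfsg.Agent.S2602
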