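import Cfsg.Statements.S0802
import Cfsg.Agent.Lib.H17.PSL2FourB

set_option autoImplicit false
open Cfsg

namespace Cfsg.Agent.S0802

theorem a4_elems : ∃ a b t : alternatingGroup (Fin 4),
    a * a = 1 ∧ b * b = 1 ∧ a * b = b * a ∧ a ≠ 1 ∧ a ≠ b ∧ t ^ 3 = 1 ∧ t * a * t⁻¹ = b := by
  refine ⟨⟨Equiv.swap 0 1 * Equiv.swap 2 3, by rw [Equiv.Perm.mem_alternatingGroup]; decide⟩,
    ⟨Equiv.swap 0 3 * Equiv.swap 1 2, by rw [Equiv.Perm.mem_alternatingGroup]; decide⟩,
    ⟨Equiv.swap 0 1 * Equiv.swap 1 2, by rw [Equiv.Perm.mem_alternatingGroup]; decide⟩, ?_, ?_, ?_, ?_, ?_, ?_, ?_⟩ <;> decide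

/-- PSL_2(p^n) has a subgroup isomorphic to A_4 if and only if it is not the case that p = 2 and n is odd. -/
theorem result {F : Type*} [Field F] [Fintype F] (p n : ℕ) [Fact p.Prime] [CharP F p] (hF : Fintype.card F = p ^ n) : (∃ H : Subgroup (Matrix.ProjectiveSpecialLinearGroup (Fin 2) F), Nonempty (H ≃* alternatingGroup (Fin 4))) ↔ ¬ (p = 2 ∧ Odd n) := by
  classical
  have hp : p.Prime := Fact.out
  have hn0 : n ≠ 0 := by
    rintro rfl
    have := Fintype.one_lt_card (α := F)
    rw [hF, pow_zero] at this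
    omega
  constructor
  · rintro ⟨H, ⟨e⟩⟩ ⟨hp2, hn⟩
    subst hp2
    -- elements of `A₄`
    obtain ⟨a, b, t, h1, h2, h3, h4, h5, h6, h7⟩ := a4_elems
    let f : alternatingGroup (Fin 4) →* Matrix.ProjectiveSpecialLinearGroup (Fin 2) F :=
      H.subtype.comp e.symm.toMonoidHom
    have hf : Function.Injective f := H.subtype_injective.comp e.symm.injective
    obtain ⟨A, hA⟩ := H17.QuatPair.exists_pr (f a)
    obtain ⟨B, hB⟩ := H17.QuatPair.exists_pr (f b)
    obtain ⟨T, hT⟩ := H17.QuatPair.exists_pr (f t)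
    obtain ⟨w, hw⟩ := H17.PSL2Four.exists_omega (a := A) (b := B) (t := T)
      (by rw [← H17.PSL2Four.pr_one_iff, H17.QuatPair.pr_mul, hA, ← map_mul, h1, map_one])
      (by rw [← H17.PSL2Four.pr_one_iff, H17.QuatPair.pr_mul, hB, ← map_mul, h2, map_one])
      (by rw [← H17.PSL2Four.pr_inj, H17.QuatPair.pr_mul, H17.QuatPair.pr_mul, hA, hB,
        ← map_mul, ← map_mul, h3])
      (by
        intro h
        rw [← H17.PSL2Four.pr_one_iff, hA] at h
        exact h4 (hf (by rw [h, map_one])))
      (by
        intro h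
        rw [h, hB] at hA
        exact h5 (hf hA.symm))
      (by
        rw [← H17.PSL2Four.pr_one_iff]
        have : H17.QuatPair.pr (T ^ 3) = H17.QuatPair.pr T ^ 3 := rfl
        rw [this, hT, ← map_pow, h6, map_one])
      (by
        rw [← H17.PSL2Four.pr_inj, H17.QuatPair.pr_mul, H17.QuatPair.pr_mul, H17.QuatPair.pr_inv,
          hA, hB, hT, ← map_mul, ← map_inv, ← map_mul, h7])
    -- `w` has order three
    have hw0 : w ≠ 0 := by
      rintro rfl
      norm_num at hw
    have hw1 : w ≠ 1 := by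
      rintro rfl
      have h20 : (2 : F) = 0 := CharTwo.two_eq_zero
      have : (1 : F) = 0 := by linear_combination hw - h20
      exact one_ne_zero this
    have hw3 : w ^ 3 = 1 := by linear_combination (w - 1) * hw
    have h3 : 3 ∣ 2 ^ n - 1 := by
      have h8 : orderOf (Units.mk0 w hw0) = 3 := by
        have : Fact (Nat.Prime 3) := ⟨by norm_num⟩
        apply orderOf_eq_prime
        · apply Units.ext
          rw [Units.val_pow_eq_pow_val, Units.val_mk0, hw3, Units.val_one]
        · intro h
          exact hw1 (congrArg Units.val h)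
      have h9 := orderOf_dvd_card (x := Units.mk0 w hw0)
      rwa [h8, Fintype.card_units, hF] at h9
    obtain ⟨k, rfl⟩ := hn
    have h10 : 2 ^ (2 * k + 1) % 3 = 2 := by
      rw [pow_succ, pow_mul]
      norm_num [Nat.mul_mod, Nat.pow_mod]
    generalize 2 ^ (2 * k + 1) = m at h3 h10
    omega
  · intro h
    by_cases hp2 : p = 2
    · subst hp2
      have hn : Even n := by
        rw [← Nat.not_odd_iff_even]
        intro ho
        exact h ⟨rfl, ho⟩
      -- a primitive third root of unity
      have h3 : 3 ∣ Fintype.card Fˣ := by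
        rw [Fintype.card_units, hF]
        obtain ⟨k, rfl⟩ := hn
        have h10 : 2 ^ (k + k) % 3 = 1 := by
          rw [← two_mul, pow_mul]
          norm_num [Nat.pow_mod]
        have : 1 ≤ 2 ^ (k + k) := Nat.one_le_two_pow
        omega
      have : Fact (Nat.Prime 3) := ⟨by norm_num⟩
      obtain ⟨w, hw⟩ := exists_prime_orderOf_dvd_card 3 h3
      have hw3 : (w : F) ^ 3 = 1 := by
        have := pow_orderOf_eq_one w
        rw [hw] at this
        have h4 := congrArg Units.val this
        rwa [Units.val_pow_eq_pow_val, Units.val_one] at h4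
      have hw1 : (w : F) ≠ 1 := by
        intro h4
        have : w = 1 := Units.ext h4
        rw [this, orderOf_one] at hw
        omega
      apply H17.PSL2Four.exists_A4_two (w : F)
      have h5 : ((w : F) - 1) * ((w : F) ^ 2 + w + 1) = 0 := by linear_combination hw3
      exact (mul_eq_zero.mp h5).resolve_left (sub_ne_zero.mpr hw1)
    · apply H17.PSL2Four.exists_A4
      apply H45.SL2.two_ne_zero_of_odd
      rw [hF]
      exact (hp.odd_of_ne_two hp2).pow

end Cfsg.Agent.S0802
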