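import Cfsg.Statements.S0220
import Cfsg.Agent.Lib.H5.IndexTwo
import Cfsg.Agent.Lib.H5.InvTools

set_option autoImplicit false
open Cfsg

namespace Cfsg.Agent.S0220

theorem aux {G : Type*} [Group G] [Finite G] (x : G) (hx : orderOf x = 2) (C : Subgroup G)
    (hC : ∀ y, y ∈ C ↔ y * x = x * y) (S : Sylow 2 C) (hS : IsCyclic (S : Subgroup C)) :
    ∃ H : Subgroup G, H.index = 2 := by
  have : Fact (Nat.Prime 2) := ⟨Nat.prime_two⟩
  have hxx := H5.Dihedral.mul_self hx
  have hxC : x ∈ C := (hC x).mpr rfl
  -- S as a subgroup of G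
  set S' : Subgroup G := (S : Subgroup C).map C.subtype with hS'
  have hS'p : IsPGroup 2 S' := S.2.map _
  have hS'C : S' ≤ C := Subgroup.map_subtype_le _
  -- x ∈ S
  have hxS : (⟨x, hxC⟩ : C) ∈ (S : Subgroup C) := by
    have hz : (⟨x, hxC⟩ : C) ∈ Subgroup.center C := by
      rw [Subgroup.mem_center_iff]
      intro g
      apply Subtype.ext
      exact (hC _).mp g.2
    have hp : IsPGroup 2 (Subgroup.zpowers (⟨x, hxC⟩ : C)) := by
      apply H5.PLocal.isPGroup_zpowers_involution
      rw [← hx]; simp
    have hn : (Subgroup.zpowers (⟨x, hxC⟩ : C)).Normal := by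
      constructor
      intro n hn g
      have : n ∈ Subgroup.center C := (Subgroup.zpowers_le.mpr hz) hn
      have h3 : g * n * g⁻¹ = n := by
        rw [(Subgroup.mem_center_iff.mp this) g]; group
      rw [h3]; exact hn
    exact hp.le_sylow_of_normal S (Subgroup.mem_zpowers _)
  have hxS' : x ∈ S' := ⟨⟨x, hxC⟩, hxS, rfl⟩
  have hcyc : IsCyclic S' := by
    have := Subgroup.equivMapOfInjective (S : Subgroup C) C.subtype C.subtype_injective
    exact (MulEquiv.isCyclic this).mp hS
  obtain ⟨T, hT⟩ := hS'p.exists_le_sylow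
  have hST : S' = (T : Subgroup G) := by
    apply H5.PLocal.eq_of_normalizer_inf_le T.2 hT
    have hN : Subgroup.normalizer (S' : Set G) ⊓ T ≤ C := by
      rintro y ⟨hy1, hy2⟩
      have hyx : y * x * y⁻¹ = x := by
        apply H5.InvTools.cyclic_involution_unique_mem S' hcyc _ hxS' _ hx
        · exact ((Subgroup.mem_normalizer_iff.mp hy1) x).mp hxS'
        · rw [H5.Dihedral.orderOf_conj]; exact hx
      rw [hC]
      nth_rewrite 2 [← hyx]; group
    have := H5.InvTools.eq_map_sylow_of_le C S (Subgroup.normalizer (S' : Set G) ⊓ T)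
      (T.2.to_le inf_le_right) hN (le_inf Subgroup.le_normalizer hT)
    exact this.le
  apply H5.IndexTwo.exists_index_two_of_cyclic_sylow (T := T)
  · exact H5.PLocal.even_card_of_mem (H := ⊤) (Subgroup.mem_top x) hx |> fun h => by simpa using h
  · rw [← hST]; exact hcyc

/-- If x is an involution of a finite group G and a Sylow 2-subgroup of the centralizer of x is cyclic, then G has a subgroup of index 2; in particular G is not simple unless it has order 2. -/
theorem result {G : Type*} [Group G] [Finite G] (x : G) (hx : orderOf x = 2) (S : Sylow 2 ↥(Subgroup.centralizer ({x} : Set G))) (hS : IsCyclic (S : Subgroup ↥(Subgroup.centralizer ({x} : Set G)))) : ∃ H : Subgroup G, H.index = 2 := by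
  exact aux x hx _ (fun y => Subgroup.mem_centralizer_singleton_iff) S hS

end Cfsg.Agent.S0220
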