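import Cfsg.Statements.S0224
import Cfsg.Agent.Lib.H5.PLocal

set_option autoImplicit false
open Cfsg

namespace Cfsg.Agent.S0224

/-- Let H be a proper subgroup of even order of the finite group G. Then H is strongly embedded if and only if each involution of H fixes exactly one point (namely the coset H) in the action of G on the cosets of H. -/
theorem result {G : Type*} [Group G] [Finite G] (H : Subgroup G) (hH : H ≠ ⊤) (heven : Even (Nat.card H)) : Cfsg.IsStronglyEmbedded H ↔ ∀ t ∈ H, orderOf t = 2 → Nat.card {c : G ⧸ H // t • c = c} = 1 := by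
  have hfix : ∀ (t g : G), t • (QuotientGroup.mk g : G ⧸ H) = QuotientGroup.mk g ↔ g⁻¹ * t * g ∈ H := by
    intro t g
    rw [MulAction.Quotient.smul_mk, eq_comm, QuotientGroup.eq]
    simp [mul_assoc]
  constructor
  · rintro ⟨-, -, h⟩ t ht h2
    rw [Nat.card_eq_one_iff_unique]
    have h1 : t • (QuotientGroup.mk 1 : G ⧸ H) = QuotientGroup.mk 1 := by
      rw [hfix]; simpa using ht
    have h3 : ∀ c : G ⧸ H, t • c = c → c = QuotientGroup.mk 1 := by
      intro c hc
      induction c using QuotientGroup.induction_on with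
      | H g =>
        rw [hfix] at hc
        rw [QuotientGroup.eq]
        by_contra hg
        have hg' : g ∉ H := by
          intro hgH; apply hg; simpa using H.inv_mem hgH
        have := h g hg'
        rw [← Nat.not_even_iff_odd] at this
        apply this
        apply H5.PLocal.even_card_of_mem (t := t) _ h2
        refine ⟨ht, ⟨g⁻¹ * t * g, hc, ?_⟩⟩
        simp [mul_assoc]
    exact ⟨⟨fun x y => Subtype.ext ((h3 x.1 x.2).trans (h3 y.1 y.2).symm)⟩, ⟨⟨_, h1⟩⟩⟩
  · intro h
    refine ⟨hH, heven, ?_⟩
    intro g hg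
    by_contra hodd
    rw [Nat.not_odd_iff_even] at hodd
    obtain ⟨s, hs, hs2⟩ := H5.PLocal.exists_involution_mem _ hodd
    obtain ⟨hsH, t, ht, hts⟩ := hs
    have hts' : g * t * g⁻¹ = s := by simpa using hts
    have h1 := h s hsH hs2
    rw [Nat.card_eq_one_iff_unique] at h1
    obtain ⟨hsub, -⟩ := h1
    have e1 : s • (QuotientGroup.mk 1 : G ⧸ H) = QuotientGroup.mk 1 := by
      rw [hfix]; simpa using hsH
    have e2 : s • (QuotientGroup.mk g : G ⧸ H) = QuotientGroup.mk g := by
      rw [hfix]
      have : g⁻¹ * s * g = t := by rw [← hts']; group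
      rw [this]; exact ht
    have := congrArg Subtype.val (hsub.elim ⟨_, e1⟩ ⟨_, e2⟩)
    simp only at this
    rw [QuotientGroup.eq] at this
    apply hg
    simpa using this

end Cfsg.Agent.S0224
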