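import Cfsg.Statements.S0593
import Cfsg.Agent.Lib.H3.QuadGen2

set_option autoImplicit false
set_option linter.all false
open Cfsg

namespace Cfsg.Agent.S0593

open H3.QuadGen H3.QuadGen2 Subgroup

/-- For odd p, a faithful group on an elementary abelian p-group generated by two quadratically acting elements is a p-group or has non-abelian Sylow 2-subgroups. -/
theorem result {G : Type*} [Group G] [Finite G] {p : ℕ} [Fact p.Prime] (hp : p ≠ 2) (V H : Subgroup G) (hV : Cfsg.IsElementaryAbelian p V) (hHV : H ≤ Subgroup.normalizer (V : Set G)) (hf : H ⊓ Subgroup.centralizer (V : Set G) = ⊥) (a b : G) (hab : H = Subgroup.closure {a, b}) (ha : ⁅⁅V, Subgroup.zpowers a⁆, Subgroup.zpowers a⁆ = ⊥) (hb : ⁅⁅V, Subgroup.zpowers b⁆, Subgroup.zpowers b⁆ = ⊥) (hnp : ¬ IsPGroup p H) (T : Sylow 2 H) : ¬ IsMulCommutative T := by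
  subst hab
  have haH : a ∈ Subgroup.closure {a, b} := Subgroup.subset_closure (by simp)
  have hbH : b ∈ Subgroup.closure {a, b} := Subgroup.subset_closure (by simp)
  rcases group_form hp hV (hHV haH) (hHV hbH) (quad_of_comm (hHV haH) ha) (quad_of_comm (hHV hbH) hb) with h | h
  · exfalso
    apply hnp
    rintro ⟨x, hx⟩
    obtain ⟨m, hm⟩ := h x hx
    refine ⟨m, ?_⟩
    apply Subtype.ext
    have h2 : x ^ (p ^ m) ∈ Subgroup.closure {a, b} ⊓ Subgroup.centralizer (V : Set G) :=
      Subgroup.mem_inf.mpr ⟨pow_mem hx _, hm⟩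
    rw [hf, Subgroup.mem_bot] at h2
    exact h2
  · exact not_comm_of_involves hp h T

end Cfsg.Agent.S0593
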