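import Cfsg.Statements.S0594
import Cfsg.Agent.Lib.H3.QuadGen2
import Cfsg.Agent.Lib.H28.RelHall
import Cfsg.Agent.S0590

set_option autoImplicit false
set_option linter.all false
open Cfsg

namespace Cfsg.Agent.S0594

open H3.QuadGen H3.QuadGen2 Subgroup
open scoped commutatorElement

/-- For odd p, two quadratic generators of a faithful group that is not a p-group, one of which acts nontrivially on a normal subgroup of order prime to p, force p = 3 and a section isomorphic to SL(2,3). -/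
theorem result {G : Type*} [Group G] [Finite G] {p : ℕ} [Fact p.Prime] (hp : p ≠ 2) (V H : Subgroup G) (hV : Cfsg.IsElementaryAbelian p V) (hHV : H ≤ Subgroup.normalizer (V : Set G)) (hf : H ⊓ Subgroup.centralizer (V : Set G) = ⊥) (a b : G) (hab : H = Subgroup.closure {a, b}) (ha : ⁅⁅V, Subgroup.zpowers a⁆, Subgroup.zpowers a⁆ = ⊥) (hb : ⁅⁅V, Subgroup.zpowers b⁆, Subgroup.zpowers b⁆ = ⊥) (hnp : ¬ IsPGroup p H) (Q : Subgroup G) (hQH : Q ≤ H) (hQn : H ≤ Subgroup.normalizer (Q : Set G)) (hQ : (Nat.card Q).Coprime p) (hQa : ⁅Q, Subgroup.zpowers a⁆ ≠ ⊥) : p = 3 ∧ ∃ (K L : Subgroup G) (hL : (L.subgroupOf K).Normal), K ≤ H ∧ Nonempty ((K ⧸ L.subgroupOf K) ≃* Matrix.SpecialLinearGroup (Fin 2) (ZMod 3)) := by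
  have haH : a ∈ H := by rw [hab]; exact Subgroup.subset_closure (by simp)
  have hppr : p.Prime := Fact.out
  set Z := Subgroup.zpowers a with hZ
  set M : Subgroup G := Q ⊔ Z with hM
  have hZH : Z ≤ H := by rw [hZ, Subgroup.zpowers_le]; exact haH
  have hMH : M ≤ H := sup_le hQH hZH
  have haM : a ∈ M := Subgroup.mem_sup_right (Subgroup.mem_zpowers a)
  have hap : a ^ p = 1 := by
    have h1 := (Cfsg.Agent.S0590.result V Z hV (hZH.trans hHV) ha).2 a (Subgroup.mem_zpowers a)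
    have h2 : a ^ p ∈ H ⊓ Subgroup.centralizer (V : Set G) := Subgroup.mem_inf.mpr ⟨pow_mem haH _, h1⟩
    rw [hf, Subgroup.mem_bot] at h2
    exact h2
  have hZp : IsPGroup p Z := by
    rintro ⟨_, k, rfl⟩
    refine ⟨1, ?_⟩
    apply Subtype.ext
    show (a ^ k) ^ (p ^ 1) = 1
    rw [pow_one, ← zpow_natCast, ← zpow_mul, mul_comm, zpow_mul, zpow_natCast, hap, one_zpow]
  have hMf : M ⊓ Subgroup.centralizer (V : Set G) = ⊥ := by
    rw [eq_bot_iff, ← hf]
    exact inf_le_inf_right _ hMH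
  have hQM : Q ≤ M := le_sup_left
  have hMQ : M ≤ Subgroup.normalizer (Q : Set G) := hMH.trans hQn
  haveI hQMn : (Q.subgroupOf M).Normal := Subgroup.normal_subgroupOf_of_le_normalizer hMQ
  have hQMc : ¬ p ∣ Nat.card (Q.subgroupOf M) := by
    rw [Nat.card_congr (Subgroup.subgroupOfEquivOfLe hQM).toEquiv]
    exact (Nat.Prime.coprime_iff_not_dvd hppr).mp hQ.symm
  have hidx : ∃ k, (Q.subgroupOf M).index = p ^ k := by
    obtain ⟨k, hk⟩ := hZp.exists_card_eq
    have h1 : Q.relIndex M ∣ Nat.card Z := by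
      have h2 : Q.relIndex M = Q.relIndex Z := by
        rw [hM, sup_comm]
        exact H28.RelHall.relIndex_sup_eq (hZH.trans hQn)
      rw [h2]
      exact Subgroup.relIndex_dvd_card _ _
    rw [hk] at h1
    obtain ⟨m, _, hm⟩ := (Nat.dvd_prime_pow hppr).mp h1
    exact ⟨m, hm⟩
  obtain ⟨k, hk⟩ := hidx
  have hnpc : Cfsg.HasNormalPComplement p M := H2.NPC.of_card_index (Q.subgroupOf M) hQMc hk
  haveI := H1.Cores.pCore_normal (G := M) p
  have hMs : Cfsg.IsPSolvable p M := H14.GlNPC2.isPSolvable_of_quotient (H2.NPC.quotient hnpc _)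
  have hna : (⟨a, haM⟩ : M) ∉ Cfsg.pCore p M := by
    intro hmem
    apply hQa
    rw [eq_bot_iff, Subgroup.commutator_le]
    intro x hx y hy
    -- ⁅x, y⁆ ∈ Q ∩ O_p(M)
    have hyM : y ∈ M := Subgroup.mem_sup_right hy
    have hyc : (⟨y, hyM⟩ : M) ∈ Cfsg.pCore p M := by
      obtain ⟨j, rfl⟩ := hy
      exact zpow_mem hmem j
    have h1 : ⁅(⟨x, hQM hx⟩ : M), ⟨y, hyM⟩⁆ ∈ Cfsg.pCore p M := by
      rw [commutatorElement_def]
      exact mul_mem (this.conj_mem _ hyc _) (inv_mem hyc)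
    have h2 : ⁅(⟨x, hQM hx⟩ : M), ⟨y, hyM⟩⁆ ∈ Q.subgroupOf M := by
      rw [commutatorElement_def, mul_assoc, mul_assoc]
      refine mul_mem hx ?_
      rw [← mul_assoc]
      exact hQMn.conj_mem _ (inv_mem hx) _
    have h3 : Cfsg.pCore p M ⊓ Q.subgroupOf M = ⊥ :=
      H1.Cores.disjoint_of_isPGroup (H1.Cores.isPGroup_pCore p) (by
        exact ((Nat.Prime.coprime_iff_not_dvd hppr).mpr hQMc).symm)
    have h4 : ⁅(⟨x, hQM hx⟩ : M), ⟨y, hyM⟩⁆ ∈ Cfsg.pCore p M ⊓ Q.subgroupOf M := Subgroup.mem_inf.mpr ⟨h1, h2⟩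
    rw [h3, Subgroup.mem_bot] at h4
    rw [Subgroup.mem_bot]
    exact congrArg Subtype.val h4
  have h1 := involves_of_not_mem_pCore hp hV (hMH.trans hHV) hMf haM (quad_of_comm (hHV haH) ha) hna
  have h3 := eq_three_of_involves hp h1 hMs
  refine ⟨h3, ?_⟩
  subst h3
  obtain ⟨K, L, hL, hK, e⟩ := section_of_involves h1
  exact ⟨K, L, hL, hK.trans hMH, e⟩

end Cfsg.Agent.S0594
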