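import Cfsg.Statements.S0647
import Cfsg.Agent.Lib.H14.PBasic

set_option autoImplicit false
open Cfsg

namespace Cfsg.Agent.S0647

/-- For a nonempty family of maximal abelian subgroups of a finite group, the intersection of the family is the centre of the subgroup it generates, which is also the full centralizer of that subgroup. -/
theorem result {S : Type*} [Group S] [Finite S] (𝒜 : Set (Subgroup S)) (hne : 𝒜.Nonempty) (hab : ∀ A ∈ 𝒜, IsMulCommutative A) (hmax : ∀ A ∈ 𝒜, ∀ B : Subgroup S, IsMulCommutative B → A ≤ B → B = A) : sInf 𝒜 = sSup 𝒜 ⊓ Subgroup.centralizer ((sSup 𝒜 : Subgroup S) : Set S) ∧ sInf 𝒜 = Subgroup.centralizer ((sSup 𝒜 : Subgroup S) : Set S) := by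
  have hC : ∀ A ∈ 𝒜, Subgroup.centralizer (A : Set S) = A := by
    intro A hA
    haveI := hab A hA
    refine le_antisymm (fun x hx => ?_) A.le_centralizer
    have h1 := H14.PBasic.isMulCommutative_closure_insert (hab A hA) hx
    have h2 := hmax A hA _ h1 (H14.PBasic.le_closure_insert A x)
    rw [← h2]
    exact H14.PBasic.mem_closure_insert A x
  have h2 : sInf 𝒜 = Subgroup.centralizer ((sSup 𝒜 : Subgroup S) : Set S) := by
    apply le_antisymm
    · rw [← Subgroup.le_centralizer_iff]
      refine sSup_le fun A hA => ?_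
      calc A = Subgroup.centralizer (A : Set S) := (hC A hA).symm
        _ ≤ _ := Subgroup.centralizer_le (SetLike.coe_subset_coe.mpr (sInf_le hA))
    · refine le_sInf fun A hA => ?_
      conv_rhs => rw [← hC A hA]
      exact Subgroup.centralizer_le (SetLike.coe_subset_coe.mpr (le_sSup hA))
  refine ⟨?_, h2⟩
  rw [← h2]
  obtain ⟨A, hA⟩ := hne
  exact (inf_eq_right.mpr ((sInf_le hA).trans (le_sSup hA))).symm

end Cfsg.Agent.S0647
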