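import Cfsg.Statements.S0994
import Mathlib
import Cfsg.Agent.Lib.H21.SylowTools

set_option autoImplicit false
open Cfsg

namespace Cfsg.Agent.S0994

open Subgroup H21.SimpleBasic H21.SylowTools

/-- No finite simple group has order 1188 = 2^2 * 3^3 * 11. -/
theorem result {G : Type*} [Group G] [Finite G] [IsSimpleGroup G] : Nat.card G ≠ 1188 := by
  intro h
  have hG : ¬ IsMulCommutative G := not_comm_of_card_not_prime (by rw [h]; norm_num)
  have : Fact (Nat.Prime 11) := ⟨by norm_num⟩
  have h1 : Nat.card (Sylow 11 G) ∣ 108 := card_sylow_dvd_of_card (a := 1) (by rw [h]; norm_num)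
  have h2 : Nat.card (Sylow 11 G) ≡ 1 [MOD 11] := card_sylow_modEq_one 11 G
  have h3 : Nat.card (Sylow 11 G) ≠ 1 := card_sylow_ne_one hG (by rw [h]; norm_num)
  have h4 : Nat.card (Sylow 11 G) = 12 := by
    have h5 : Nat.card (Sylow 11 G) ≤ 108 := Nat.le_of_dvd (by norm_num) h1
    generalize Nat.card (Sylow 11 G) = n at *
    unfold Nat.ModEq at h2
    interval_cases n <;> simp_all
  exact gcd_ne_one_of_simple hG (p := 11) (k := 12) (l := 9) (by rw [h]) (by norm_num) h4 (by norm_num)

end Cfsg.Agent.S0994
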