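import Cfsg.Statements.S1154
import Cfsg.Agent.Lib.H24.ReeSyl

set_option autoImplicit false
open Cfsg

namespace Cfsg.Agent.S1154

open H24.ReeStr H24.ReeAct H24.ReeInt H24.ReeSub H24.ReeUni H24.ReeGrp in
theorem ord3_iff {K : Type*} [Field K] {e : ℕ} [H24.ReeGrp.RF K e] [Finite K] (t u v : K) :
    orderOf (uG t u v : G1 K e) = 3 ↔ t = 0 ∧ (u, v) ≠ ((0 : K), (0 : K)) := by
  have h3 := three0 (K := K)
  haveI : Fact (Nat.Prime 3) := ⟨Nat.prime_three⟩
  have hcube : (uG t u v : G1 K e) ^ 3 = uG 0 0 (-(t ^ 2 * ph K e t)) := by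
    rw [pow_succ, pow_two, uG_mul, uG_mul]
    congr 1
    · linear_combination t * h3
    · linear_combination (u - t * ph K e t) * h3
    · linear_combination (v - t * u) * h3
  rw [orderOf_eq_prime_iff, hcube]
  constructor
  · rintro ⟨h1, h2⟩
    rw [← uG_zero] at h1
    have h4 := (uG_inj h1).2.2
    have ht : t = 0 := by
      by_contra ht
      have : ph K e t ≠ 0 := by simpa using ht
      apply mul_ne_zero (pow_ne_zero 2 ht) this
      linear_combination -h4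
    refine ⟨ht, fun h => h2 ?_⟩
    rw [Prod.mk.injEq] at h
    rw [ht, h.1, h.2, uG_zero]
  · rintro ⟨rfl, h⟩
    refine ⟨by simp [uG_zero], fun h2 => h ?_⟩
    rw [← uG_zero] at h2
    obtain ⟨-, h5, h6⟩ := uG_inj h2
    rw [h5, h6]

/-- In the small Ree group ²G₂(q), q = 3^(2m+1) with m ≥ 1, realised as G¹ inside the Chevalley group G₂ over the field with q elements (θ the 3^m-th power map), with `U¹ = G¹ ∩ U` (U the positive unipotent subgroup of the ambient G₂): `U¹` has exactly `q² - 1` elements of order 3. -/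
theorem result {K : Type*} [Field K] [Fintype K] {m : ℕ} (hm : 1 ≤ m) (hK : Fintype.card K = 3 ^ (2 * m + 1)) :
    Nat.card {u : ↥(Cfsg.Lie.chevG2.posUnipotent K ⊓ Cfsg.Lie.twistedG2 K (3 ^ m)) // orderOf u = 3} = (3 ^ (2 * m + 1)) ^ 2 - 1 := by
  haveI := H24.ReeGrp.rf_of_card hK
  classical
  have h2 : Nat.card K = 3 ^ (2 * m + 1) := by rw [Nat.card_eq_fintype_card, hK]
  have hmem : ∀ t u v : K, H24.ReeAct.uE t u v ∈ Cfsg.Lie.chevG2.posUnipotent K ⊓ Cfsg.Lie.twistedG2 K (3 ^ m) :=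
    fun t u v => H24.ReeSub.mem_U_inf.2 ⟨t, u, v, rfl⟩
  have hord : ∀ t u v : K, orderOf (⟨H24.ReeAct.uE t u v, hmem t u v⟩ : ↥(Cfsg.Lie.chevG2.posUnipotent K ⊓ Cfsg.Lie.twistedG2 K (3 ^ m))) =
      orderOf (H24.ReeStr.uG t u v : H24.ReeStr.G1 K (3 ^ m)) := by
    intro t u v
    rw [← Subgroup.orderOf_coe, ← Subgroup.orderOf_coe]
    rfl
  have e1 : {p : K × K // p ≠ (0, 0)} ≃ {u : ↥(Cfsg.Lie.chevG2.posUnipotent K ⊓ Cfsg.Lie.twistedG2 K (3 ^ m)) // orderOf u = 3} :=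
    Equiv.ofBijective (fun p => ⟨⟨H24.ReeAct.uE 0 p.1.1 p.1.2, hmem 0 p.1.1 p.1.2⟩, by
        rw [hord, ord3_iff]; exact ⟨rfl, p.2⟩⟩) (by
      constructor
      · rintro ⟨⟨u, v⟩, hp⟩ ⟨⟨u', v'⟩, hp'⟩ h
        have h1 := congrArg Subtype.val (congrArg Subtype.val h)
        have h4 : (H24.ReeStr.uG 0 u v : H24.ReeStr.G1 K (3 ^ m)) = H24.ReeStr.uG 0 u' v' := Subtype.ext h1
        obtain ⟨-, rfl, rfl⟩ := H24.ReeUni.uG_inj h4
        rfl
      · rintro ⟨⟨g, hg⟩, ho⟩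
        obtain ⟨t, u, v, rfl⟩ := H24.ReeSub.mem_U_inf.1 hg
        rw [hord, ord3_iff] at ho
        obtain ⟨rfl, h⟩ := ho
        exact ⟨⟨(u, v), h⟩, rfl⟩)
  rw [← Nat.card_congr e1]
  haveI : Fintype {p : K × K // p ≠ (0, 0)} := Fintype.ofFinite _
  rw [Nat.card_eq_fintype_card, Fintype.card_subtype_compl, Fintype.card_prod, Fintype.card_subtype_eq, hK]
  rw [pow_two]

end Cfsg.Agent.S1154
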