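import Cfsg.Statements.S1156
import Cfsg.Agent.Lib.H24.ReeDat

set_option autoImplicit false
open Cfsg

namespace Cfsg.Agent.S1156

/-- In the small Ree group ²G₂(q), q = 3^(2m+1) with m ≥ 1, realised as G¹ inside the Chevalley group G₂ over the field with q elements (θ the 3^m-th power map): for every prime `p > 3` the Sylow `p`-subgroups of `G¹` are cyclic. -/
theorem result {K : Type*} [Field K] [Fintype K] {m : ℕ} (hm : 1 ≤ m) (hK : Fintype.card K = 3 ^ (2 * m + 1))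
    {p : ℕ} [Fact p.Prime] (hp : 3 < p) (P : Sylow p ↥(Cfsg.Lie.twistedG2 K (3 ^ m))) : IsCyclic (P : Subgroup ↥(Cfsg.Lie.twistedG2 K (3 ^ m))) := by
  haveI := H24.ReeGrp.rf_of_card hK
  have hn : Nat.card K = 3 ^ (2 * m + 1) := by rw [Nat.card_eq_fintype_card, hK]
  have hpr : p.Prime := Fact.out
  obtain ⟨A1, A2, C2, A3, A4, h1, h2, h3, h4, c1, c2, c3, c4, -, -, -, hM⟩ := H24.ReeDat.tori4 (K := K) (e := 3 ^ m) hm hn
  by_cases hb : (P : Subgroup ↥(Cfsg.Lie.twistedG2 K (3 ^ m))) = ⊥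
  · rw [hb]; infer_instance
  obtain ⟨z, hz, hzp, hzc⟩ := H24.ReeDat.exists_central P.isPGroup' hb
  have hq : 1 < Nat.card K := Finite.one_lt_card
  obtain ⟨k, hk, hk2⟩ := H24.ReeTor.exists_s hn
  have hco2 : Nat.Coprime p 2 := (Nat.coprime_primes hpr Nat.prime_two).2 (by omega)
  rcases H24.ReeTor.prime_cases (K := K) (e := 3 ^ m) hn hpr hzp with h | h | ⟨-, h⟩ | ⟨-, h⟩ | h
  · omega
  · omega
  · refine h1.sylow_cyclic (p := p) ?_ P.isPGroup'
    rw [c1]
    apply hco2.dvd_of_dvd_mul_left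
    rw [show 2 * ((Nat.card K - 1) / 2) = Nat.card K - 1 by omega]; exact h
  · refine h2.sylow_cyclic (p := p) ?_ P.isPGroup'
    rw [c2]
    have h4 : Nat.Coprime p 4 := by
      rw [show 4 = 2 ^ 2 by norm_num]; exact hco2.pow_right 2
    apply h4.dvd_of_dvd_mul_left
    rw [show 4 * ((Nat.card K + 1) / 4) = Nat.card K + 1 by omega]; exact h
  · rw [hM] at h
    rcases (Nat.Prime.dvd_mul hpr).1 h with h | h
    · exact h3.sylow_cyclic (p := p) h P.isPGroup'
    · exact h4.sylow_cyclic (p := p) h P.isPGroup'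

end Cfsg.Agent.S1156
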