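import Cfsg.Statements.S1159
import Cfsg.Agent.Lib.H24.ReeDat

set_option autoImplicit false
open Cfsg

namespace Cfsg.Agent.S1159

theorem exists_of_dvd {G : Type*} [Group G] [Finite G] {n d : ℕ} (x : G) (hx : orderOf x = n) (hd : d ∣ n) : ∃ g : G, orderOf g = d := by
  subst hx
  exact ⟨x ^ (orderOf x / d), orderOf_pow_orderOf_div (orderOf_pos x).ne' hd⟩

theorem exists_of_cyclic {G : Type*} [Group G] [Finite G] {A : Subgroup G} (hA : IsCyclic A) {n d : ℕ} (hn : Nat.card A = n) (hd : d ∣ n) :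
    ∃ g : G, orderOf g = d := by
  obtain ⟨g, hg⟩ := hA.exists_generator
  refine exists_of_dvd (g : G) ?_ hd
  rw [Subgroup.orderOf_coe, ← hn, orderOf_eq_card_of_forall_mem_zpowers hg]

/-- In the small Ree group ²G₂(q), q = 3^(2m+1) with m ≥ 1, realised as G¹ inside the Chevalley group G₂ over the field with q elements (θ the 3^m-th power map), with `r = 3^(m+1)`: a natural number is the order of an element of `G¹` iff it divides one of `6`, `9`, `q - 1`, `(q + 1)/2`, `q - r + 1`, `q + r + 1`. -/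
theorem result {K : Type*} [Field K] [Fintype K] {m : ℕ} (hm : 1 ≤ m) (hK : Fintype.card K = 3 ^ (2 * m + 1)) (d : ℕ) :
    (∃ g : ↥(Cfsg.Lie.twistedG2 K (3 ^ m)), orderOf g = d) ↔
      (d ∣ 6 ∨ d ∣ 9 ∨ d ∣ 3 ^ (2 * m + 1) - 1 ∨ d ∣ (3 ^ (2 * m + 1) + 1) / 2 ∨
        d ∣ 3 ^ (2 * m + 1) - 3 ^ (m + 1) + 1 ∨ d ∣ 3 ^ (2 * m + 1) + 3 ^ (m + 1) + 1) := by
  haveI := H24.ReeGrp.rf_of_card hK
  have hn : Nat.card K = 3 ^ (2 * m + 1) := by rw [Nat.card_eq_fintype_card, hK]
  obtain ⟨A1, A2, C2, A3, A4, h1, h2, h3, h4, c1, c2, c3, c4, c5, c6, ⟨y, hy, c7⟩, c8⟩ := H24.ReeDat.tori4 (K := K) (e := 3 ^ m) hm hn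
  obtain ⟨k, hk, hk2⟩ := H24.ReeTor.exists_s hn
  have h27 : 3 ^ 3 ≤ Nat.card K := by rw [hn]; exact Nat.pow_le_pow_right (by norm_num) (by omega)
  rw [← hn]
  constructor
  · rintro ⟨g, rfl⟩
    have conjo : ∀ {B : Subgroup ↥(Cfsg.Lie.twistedG2 K (3 ^ m))} {x : ↥(Cfsg.Lie.twistedG2 K (3 ^ m))}, x * g * x⁻¹ ∈ B → orderOf g ∣ Nat.card B := by
      intro B x hx
      have := H24.ReeDat.order_dvd hx
      rwa [H24.ReeTor.orderOf_conj'] at this
    rcases H24.ReeCnt.order_cases hm hn g with h | (h | h | h) | h | h | h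
    · exact Or.inl (h.trans (by norm_num))
    · exact Or.inl (by rw [h]; norm_num)
    · exact Or.inl (by rw [h])
    · exact Or.inr (Or.inl (by rw [h]))
    · exact Or.inr (Or.inr (Or.inl h.1))
    · right; right; right; left
      obtain ⟨r, hr, hr2, hrx⟩ := H24.ReeTor.exists_odd_prime hn (H24.ReeCnt.sq_of_two h.2)
      obtain ⟨x, hx⟩ := h2.conj r hr (by
        rw [c2]
        have h4 : Nat.Coprime r 4 := by
          rw [show 4 = 2 ^ 2 by norm_num]
          exact ((Nat.coprime_primes hr Nat.prime_two).2 hr2).pow_right 2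
        apply h4.dvd_of_dvd_mul_left
        rw [show 4 * ((Nat.card K + 1) / 4) = Nat.card K + 1 by omega]; exact hrx.trans h.1) g hrx
      have := c6 _ hx
      rwa [H24.ReeTor.orderOf_conj'] at this
    · obtain ⟨a1, a2⟩ := H24.ReeCnt.MS_order hn h
      obtain ⟨r, hr, hrx⟩ := Nat.exists_prime_and_dvd a1
      have a3 := hrx.trans a2
      rw [c8] at a3
      rcases (Nat.Prime.dvd_mul hr).1 a3 with h | h
      · right; right; right; right; left
        obtain ⟨x, hx⟩ := h3.conj r hr h g hrx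
        rw [← c3]; exact conjo hx
      · right; right; right; right; right
        obtain ⟨x, hx⟩ := h4.conj r hr h g hrx
        rw [← c4]; exact conjo hx
  · rintro (h | h | h | h | h | h)
    · exact exists_of_dvd _ (H24.ReeCnt.order_ui (K := K) (e := 3 ^ m) (t := 0) (u := 1) (v := 0) (by simp)) h
    · exact exists_of_dvd _ (H24.ReeCnt.order_ut (K := K) (e := 3 ^ m) (t := 1) (u := 0) (v := 0) one_ne_zero) h
    · exact exists_of_cyclic H24.ReeTor.cyclic_T1 H24.ReeTor.card_T1 h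
    · exact exists_of_dvd y c7 h
    · exact exists_of_cyclic h3.cyc c3 h
    · exact exists_of_cyclic h4.cyc c4 h

end Cfsg.Agent.S1159
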