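import Cfsg.Statements.S1292
import Cfsg.Agent.Lib.H26.LocalFitting
import Cfsg.Agent.Lib.H1.Coprime2

set_option autoImplicit false
open Cfsg

namespace Cfsg.Agent.S1292

theorem result {G : Type*} [Group G] [Finite G] (h : ∀ t : G, orderOf t = 2 → Cfsg.generalizedFittingSubgroup ↥(Subgroup.centralizer ({t} : Set G)) = Cfsg.pCore 2 ↥(Subgroup.centralizer ({t} : Set G))) (T : Subgroup G) (hT : IsPGroup 2 ↥T) (hT1 : T ≠ ⊥) : Cfsg.generalizedFittingSubgroup ↥(Subgroup.normalizer (T : Set G)) = Cfsg.pCore 2 ↥(Subgroup.normalizer (T : Set G)) := by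
  have : Fact (Nat.Prime 2) := ⟨Nat.prime_two⟩
  have hTnil := hT.isNilpotent
  -- a central involution of `T`
  have : Nontrivial T := (Subgroup.nontrivial_iff_ne_bot T).mpr hT1
  have hZ : Nontrivial (Subgroup.center T) := hT.center_nontrivial
  obtain ⟨z, hz⟩ := exists_prime_orderOf_dvd_card' (G := Subgroup.center T) 2 (by
    obtain ⟨n, hn⟩ := IsPGroup.iff_card.mp (hT.to_subgroup (Subgroup.center T))
    rw [hn]
    refine dvd_pow_self 2 ?_
    rintro rfl
    rw [pow_zero] at hn
    have := Finite.one_lt_card (α := Subgroup.center T)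
    omega)
  set t : G := ((z : T) : G) with ht
  have hto : orderOf t = 2 := by
    rw [ht, Subgroup.orderOf_coe, Subgroup.orderOf_coe, hz]
  have htT : t ∈ T := (z : T).2
  have hC : IsPGroup 2 (generalizedFittingSubgroup (Subgroup.centralizer ({t} : Set G))) := by
    rw [h t hto]; exact H1.Cores.isPGroup_pCore 2
  have hC' : IsPGroup 2 (generalizedFittingSubgroup
      (Subgroup.centralizer ((Subgroup.zpowers t : Subgroup G) : Set G))) := by
    have e : Subgroup.centralizer ((Subgroup.zpowers t : Subgroup G) : Set G) =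
        Subgroup.centralizer ({t} : Set G) := by
      rw [Subgroup.zpowers_eq_closure, Subgroup.centralizer_closure]
    rw [e]; exact hC
  have hCT := H26.LocalFitting.isPGroup_gFitting_centralizer hT _ (Subgroup.zpowers t)
    (by rwa [Subgroup.zpowers_le]) rfl hC'
  rw [H26.LocalFitting.isPGroup_gFitting_iff_pc] at hCT
  set N := Subgroup.normalizer (T : Set G) with hN
  have hTpc : T ≤ H26.LocalFitting.pc 2 N :=
    H26.LocalFitting.le_pc Subgroup.le_normalizer le_rfl hT
  have hCN : Subgroup.centralizer (T : Set G) ≤ N := Subgroup.centralizer_le_normalizer _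
  have hNC : N ≤ Subgroup.normalizer ((Subgroup.centralizer (T : Set G) : Subgroup G) : Set G) :=
    H1.Coprime2.le_normalizer_centralizer le_rfl
  apply H26.LocalFitting.gFitting_eq_pCore_of'
  intro X hXN hNX hXpc hup
  have hXC : X ≤ Subgroup.centralizer (T : Set G) := by
    rw [← Subgroup.commutator_eq_bot_iff_le_centralizer, eq_bot_iff, ← hXpc]
    exact Subgroup.commutator_mono le_rfl hTpc
  have hpc : H26.LocalFitting.pc 2 (Subgroup.centralizer (T : Set G)) ≤ H26.LocalFitting.pc 2 N :=
    H26.LocalFitting.le_pc ((H26.LocalFitting.pc_le _ _).trans hCN)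
      (hNC.trans (H26.LocalFitting.normalizer_le_normalizer_pc _ _))
      (H26.LocalFitting.isPGroup_pc _ _)
  have hX2 : X ≤ H26.LocalFitting.pc 2 (Subgroup.centralizer (T : Set G)) := by
    refine le_trans (le_inf hXC ?_) hCT
    rw [← Subgroup.commutator_eq_bot_iff_le_centralizer, eq_bot_iff, ← hXpc]
    exact Subgroup.commutator_mono le_rfl hpc
  rw [← hup]
  exact H26.LocalFitting.opUp_eq_bot_of_isPGroup ((H26.LocalFitting.isPGroup_pc _ _).to_le hX2)

end Cfsg.Agent.S1292
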