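import Cfsg.Statements.S1293
import Cfsg.Agent.S1327
import Cfsg.Agent.Lib.H26.SolvBal

set_option autoImplicit false
open Cfsg

namespace Cfsg.Agent.S1293

theorem result {G : Type*} [Group G] [Finite G] (p : ℕ) [Fact p.Prime] (hL : Cfsg.pLayer p G = ⊥) (P : Subgroup G) (hP : IsPGroup p ↥P) (hP1 : P ≠ ⊥) : Cfsg.pLayer p ↥(Subgroup.normalizer (P : Set G)) = ⊥ ∧ (Cfsg.pPrimeCore p ↥(Subgroup.normalizer (P : Set G))).map (Subgroup.normalizer (P : Set G)).subtype ≤ Cfsg.pPrimeCore p G := by
  have _ := hP1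
  have h1 : IsPConstrained p G := (Cfsg.Agent.S1327.result p).mpr hL
  refine ⟨(Cfsg.Agent.S1327.result p).mp (H59.PCons.isPConstrained_normalizer h1 P hP), ?_⟩
  have h2 : Subgroup.centralizer (pCore p (G ⧸ pPrimeCore p G) : Set (G ⧸ pPrimeCore p G)) ≤
      pCore p (G ⧸ pPrimeCore p G) :=
    (H59.PCons.isPConstrained_iff.mp h1).centralizer_pCore_le
  have h3 : P ≤ H26.LocalFitting.pc p (Subgroup.normalizer (P : Set G)) :=
    H26.LocalFitting.le_pc Subgroup.le_normalizer le_rfl hP
  change H26.LocalFitting.ppc p (Subgroup.normalizer (P : Set G)) ≤ _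
  have hle : H26.LocalFitting.ppc p (Subgroup.normalizer (P : Set G)) ≤
      Subgroup.normalizer (P : Set G) := H26.LocalFitting.ppc_le _ _
  apply H26.SolvBal.le_pPrimeCore_of_normal_in_centralizer h2 hP (H26.LocalFitting.card_ppc p _)
  · rw [← Subgroup.commutator_eq_bot_iff_le_centralizer, Subgroup.commutator_comm]
    exact H26.LocalFitting.commutator_eq_bot_of_coprime hP (H26.LocalFitting.card_ppc p _)
      (Subgroup.le_normalizer.trans (H26.LocalFitting.le_normalizer_ppc p _)) hle
  · exact (Subgroup.centralizer_le_normalizer _).trans (H26.LocalFitting.le_normalizer_ppc p _)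

end Cfsg.Agent.S1293
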