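import Cfsg.Statements.S1295
import Cfsg.Agent.S0217
import Cfsg.Agent.Lib.H27.LayerFree

set_option autoImplicit false
open Cfsg

namespace Cfsg.Agent.S1295

theorem result {G : Type*} [Group G] [Finite G] (p : ℕ) [Fact p.Prime] (hO : Cfsg.pPrimeCore p G = ⊥) (hrk : ¬ Cfsg.PRankLE p 2 G) (hconn : Cfsg.IsRankGraphConnected p 2 G) (hL : ∀ a : G, (orderOf a = p ∧ ¬ Cfsg.PRankLE p 2 ↥(Subgroup.centralizer ({a} : Set G))) → Cfsg.pLayer p ↥(Subgroup.centralizer ({a} : Set G)) = ⊥ ∧ Group.IsSolvable ↥(Cfsg.centralizerPPrimeCore p a)) (a : G) (ha : (orderOf a = p ∧ ¬ Cfsg.PRankLE p 2 ↥(Subgroup.centralizer ({a} : Set G)))) : Cfsg.generalizedFittingSubgroup ↥(Subgroup.centralizer ({a} : Set G)) = Cfsg.pCore p ↥(Subgroup.centralizer ({a} : Set G)) := by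
  have hS : H27.EquivSig.SSFT p G := fun A h1 h2 h3 θ' h4 h5 h6 h7 h8 =>
    Cfsg.Agent.S0217.result A h1 h2 h3 θ' h4 h5 h6 h7 h8
  exact H27.LayerFree.main hS hO hconn hL a ha

end Cfsg.Agent.S1295
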