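import Cfsg.Statements.S1301
import Cfsg.Agent.S0215
import Cfsg.Agent.Lib.H27.LBalTwo

set_option autoImplicit false
open Cfsg

namespace Cfsg.Agent.S1301

theorem result {X : Type*} [Group X] [Finite X] (T : Subgroup X) (hT : IsPGroup 2 ↥T) : (Cfsg.pLayer 2 ↥(Subgroup.centralizer (T : Set X))).map (Subgroup.centralizer (T : Set X)).subtype ≤ Cfsg.pLayer 2 X := by
  exact H27.LBalTwo.map_pLayer_le (fun G _ _ P u h1 h2 h3 => Cfsg.Agent.S0215.result P u h1 h2 h3) hT

end Cfsg.Agent.S1301
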