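import Cfsg.Statements.S1305
import Cfsg.Agent.S0215
import Cfsg.Agent.Lib.H27.PRank
import Cfsg.Agent.Lib.H27.MaxComp

set_option autoImplicit false
open Cfsg
open Subgroup H26.Basic H27.CompAct H27.Tricho
open scoped commutatorElement

namespace Cfsg.Agent.S1305

theorem result {G : Type*} [Group G] [Finite G] (hO : Cfsg.oddCore G = ⊥) (hB : Cfsg.HasBProperty G) (hct : Cfsg.IsComponentType G) (a : G) (ha : orderOf a = 2) (K : Subgroup G) (hKa : K ≤ Subgroup.centralizer ({a} : Set G)) (hK : Cfsg.IsComponent (K.subgroupOf (Subgroup.centralizer ({a} : Set G)))) (hmax : ∀ y : G, orderOf y = 2 → ∀ K' : Subgroup G, K' ≤ Subgroup.centralizer ({y} : Set G) → Cfsg.IsComponent (K'.subgroupOf (Subgroup.centralizer ({y} : Set G))) → Nat.card ↥K' ≤ Nat.card ↥K ∧ (Nat.card ↥K' = Nat.card ↥K → ∀ k : ℕ, Cfsg.PRankLE 2 k ↥(Subgroup.centralizer ({a} : Set G) ⊓ Subgroup.centralizer (K : Set G)) → Cfsg.PRankLE 2 k ↥(Subgroup.centralizer ({y} : Set G) ⊓ Subgroup.centralizer (K' : Set G)))) (hrk : ¬ Cfsg.PRankLE 2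 1 ↥K) (B : Subgroup G) (hBle : B ≤ Subgroup.centralizer ({a} : Set G) ⊓ Subgroup.centralizer (K : Set G)) (hBel : Cfsg.IsElementaryAbelian 2 B) (hBmax : ∀ B' : Subgroup G, B' ≤ Subgroup.centralizer ({a} : Set G) ⊓ Subgroup.centralizer (K : Set G) → Cfsg.IsElementaryAbelian 2 B' → Nat.card ↥B' ≤ Nat.card ↥B) (b : G) (hb : b ∈ B) (hb1 : b ≠ 1) : K ≤ Subgroup.centralizer ({b} : Set G) ∧ Cfsg.IsComponent (K.subgroupOf (Subgroup.centralizer ({b} : Set G))) := by
  classical
  have hZ : H26.ZStarUse.ZStarHyp := fun G _ _ P u h1 h2 h3 => Cfsg.Agent.S0215.result P u h1 h2 h3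
  have hbb : b * b = 1 := by rw [← pow_two]; exact hBel.2 b hb
  have hb2 : orderOf b = 2 := orderOf_eq_prime (hBel.2 b hb) hb1
  have haa : a * a = 1 := by rw [← pow_two, ← ha]; exact pow_orderOf_eq_one a
  have hbC := mem_inf.mp (hBle hb)
  have hab : a * b = b * a := (mem_centralizer_singleton_iff.mp hbC.1).symm
  have hKb : K ≤ centralizer {b} := by
    intro k hk
    rw [mem_centralizer_singleton_iff]
    exact mem_centralizer_iff.mp hbC.2 k hk
  refine ⟨hKb, ?_⟩
  -- `a ∈ B`
  have hza : IsElementaryAbelian 2 (zpowers a) := by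
    apply H27.ElAb.of_comm
    · intro x hx y hy
      obtain ⟨i, rfl⟩ := mem_zpowers_iff.mp hx
      obtain ⟨j, rfl⟩ := mem_zpowers_iff.mp hy
      exact Commute.zpow_zpow_self a i j
    · intro x hx
      obtain ⟨i, rfl⟩ := mem_zpowers_iff.mp hx
      rw [← zpow_natCast, ← zpow_mul, mul_comm, zpow_mul, zpow_natCast, pow_two, haa, one_zpow]
  have hBa : ⁅B, zpowers a⁆ = ⊥ := by
    rw [Subgroup.commutator_eq_bot_iff_le_centralizer, zpowers_eq_closure, centralizer_closure]
    exact hBle.trans inf_le_left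
  have haCK : zpowers a ≤ centralizer {a} ⊓ centralizer (K : Set G) := by
    rw [zpowers_le]
    refine mem_inf.mpr ⟨mem_centralizer_singleton_iff.mpr rfl, ?_⟩
    rw [mem_centralizer_iff]
    intro k hk
    exact mem_centralizer_singleton_iff.mp (hKa hk)
  have haB : a ∈ B := by
    have h1 := hBmax (B ⊔ zpowers a) (sup_le hBle haCK) (H27.ElAb.sup hBel hza hBa)
    have h2 : B = B ⊔ zpowers a := Subgroup.eq_of_le_of_card_ge le_sup_left h1
    rw [h2]; exact le_sup_right (a := B) (mem_zpowers a)
  set H := centralizer ({b} : Set G) with hH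
  have haH : a ∈ H := mem_centralizer_singleton_iff.mpr hab
  set a' : H := ⟨a, haH⟩ with ha'
  have haa' : a' * a' = 1 := Subtype.ext haa
  set K' := K.subgroupOf H with hK'
  have hcardK' : Nat.card K' = Nat.card K := H1.SZ.card_subgroupOf_of_le hKb
  -- `K` is a component of `C_H(a)`
  have hK'C : K' ≤ centralizer {a'} := by
    intro k hk
    rw [mem_centralizer_singleton_iff]
    exact Subtype.ext (mem_centralizer_singleton_iff.mp (hKa hk))
  have hKqs : IsQuasisimple K := (H26.Components.isQuasisimple_subgroupOf hKa).mp hK.2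
  have hK'c : CompIn (centralizer {a'}) K' := by
    refine ⟨hK'C, ?_, ?_⟩
    · let ι : (centralizer {a'} : Subgroup H) →* (centralizer {a} : Subgroup G) :=
        { toFun := fun x => ⟨((x : H) : G), by
            rw [mem_centralizer_singleton_iff]
            exact congrArg Subtype.val (mem_centralizer_singleton_iff.mp x.2)⟩
          map_one' := rfl
          map_mul' := fun _ _ => rfl }
      exact hK.1.comap ι
    · rw [H26.Components.isQuasisimple_subgroupOf hK'C, hK',
        H26.Components.isQuasisimple_subgroupOf hKb]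
      exact hKqs
  have heven : 2 ∣ Nat.card K := by
    by_contra h
    apply hrk
    intro A hA1 hA2
    have h1 : Nat.card A = 1 := by
      by_contra h2
      obtain ⟨x, hx, hx1⟩ : ∃ x ∈ A, x ≠ 1 := by
        by_contra h3
        push Not at h3
        exact h2 ((Subgroup.eq_bot_iff_forall A).mpr h3 ▸ Subgroup.card_bot)
      have h3 : orderOf x = 2 := orderOf_eq_prime (hA2 x hx) hx1
      exact h (h3 ▸ orderOf_dvd_natCard x)
    rw [h1]; norm_num
  have hK'p : K' ≤ pLayer 2 H :=
    H27.MaxComp.le_pLayer_of_compIn hZ haa' hK'c (by rw [hcardK']; exact heven)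
  have hlay : pLayer 2 H ≤ layer H := by
    apply H27.LBalTwo.pLayer_le_layer_of_comm
    have h1 := hB b hb2
    rw [hO, le_bot_iff, Subgroup.map_eq_bot_iff_of_injective _ (Subgroup.subtype_injective _)] at h1
    exact h1
  obtain ⟨D, hD, hcases⟩ := trichotomy haa' hK'c (hK'p.trans hlay)
  have hDmap : (D.map H.subtype).subgroupOf H = D := by
    rw [Subgroup.subgroupOf, Subgroup.comap_map_eq_self_of_injective H.subtype_injective]
  have hmaxD := hmax b hb2 (D.map H.subtype) (Subgroup.map_subtype_le _) (by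
    have := hDmap.symm ▸ hD
    exact this)
  have hcardD : Nat.card (D.map H.subtype) = Nat.card D :=
    Subgroup.card_map_of_injective H.subtype_injective
  rw [hcardD] at hmaxD
  rcases hcases with h | ⟨h, -, -⟩ | ⟨hDa, hcommD, hKd⟩
  · rw [h]; exact hD
  · exfalso
    have h1 : Nat.card K' < Nat.card D := by
      refine lt_of_le_of_ne (Subgroup.card_le_of_le h.le) fun h2 => h.ne ?_
      exact Subgroup.eq_of_le_of_card_ge h.le h2.ge
    have := hmaxD.1
    omega
  · exfalso
    have hBH : B ≤ H := by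
      intro β hβ
      exact mem_centralizer_singleton_iff.mpr (H27.ElAb.comm hBel β hβ b hb)
    have hB'el : IsElementaryAbelian 2 (B.subgroupOf H) := by
      apply H27.ElAb.of_comm
      · intro x hx y hy
        exact Subtype.ext (H27.ElAb.comm hBel x hx y hy)
      · intro x hx
        exact Subtype.ext (hBel.2 x hx)
    have hB'K : ⁅B.subgroupOf H, K'⁆ = ⊥ := by
      rw [subgroupOf_commutator_eq_bot_iff hBH hKb, Subgroup.commutator_eq_bot_iff_le_centralizer]
      exact hBle.trans inf_le_right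
    have hrk' : ¬ PRankLE 2 1 K' := fun h =>
      hrk ((H27.PRank.pRankLE_congr (subgroupOfEquivOfLe hKb)).mp h)
    obtain ⟨W, hW1, hW2, hW3⟩ := H27.MaxComp.diag_case haa' hK'c hD hDa hcommD hKd
      (by rw [hcardK']; exact hmaxD.1) hrk' (B.subgroupOf H) hB'el haB hB'K
    have hcardeq : Nat.card D = Nat.card K := by
      apply le_antisymm hmaxD.1
      rw [← hcardK', hKd]
      exact Nat.card_le_card_of_surjective _ (diag hcommD).rangeRestrict_surjective
    obtain ⟨m, hm⟩ := IsPGroup.iff_card.mp (H27.ElAb.isPGroup hBel)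
    have hrkB : PRankLE 2 m ↥(centralizer {a} ⊓ centralizer (K : Set G)) := by
      intro A hA1 hA2
      rw [← hm]
      have h1 := hBmax (A.map (centralizer {a} ⊓ centralizer (K : Set G)).subtype)
        (Subgroup.map_subtype_le _) (by
        apply H27.ElAb.of_comm
        · rintro _ ⟨x, hx, rfl⟩ _ ⟨y, hy, rfl⟩
          rw [← map_mul, ← map_mul]
          congr 1
          exact congrArg Subtype.val (hA1.is_comm.comm ⟨x, hx⟩ ⟨y, hy⟩)
        · rintro _ ⟨x, hx, rfl⟩
          rw [← map_pow, hA2 x hx, map_one])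
      rwa [Subgroup.card_map_of_injective (Subgroup.subtype_injective _)] at h1
    have hrkD := hmaxD.2 hcardeq m hrkB
    set Q := centralizer ({b} : Set G) ⊓ centralizer ((D.map H.subtype : Subgroup G) : Set G)
      with hQ
    have hWQ : W.map H.subtype ≤ Q := by
      rintro _ ⟨w, hw, rfl⟩
      refine mem_inf.mpr ⟨w.2, ?_⟩
      rw [mem_centralizer_iff]
      rintro _ ⟨d, hd, rfl⟩
      exact congrArg Subtype.val (mem_centralizer_iff.mp (hW2 hw) d hd)
    have hW4 := hrkD ((W.map H.subtype).subgroupOf Q) (by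
      constructor; constructor
      rintro ⟨⟨x, hx0⟩, hx⟩ ⟨⟨y, hy0⟩, hy⟩
      obtain ⟨w, hw, hwx⟩ := hx
      obtain ⟨v, hv, hvy⟩ := hy
      apply Subtype.ext
      apply Subtype.ext
      change x * y = y * x
      have e1 : (w : G) = x := hwx
      have e2 : (v : G) = y := hvy
      rw [← e1, ← e2]
      exact congrArg Subtype.val (H27.ElAb.comm hW1 w hw v hv)) (by
      rintro ⟨x, hx0⟩ hx
      obtain ⟨w, hw, hwx⟩ := hx
      apply Subtype.ext
      change x ^ 2 = 1
      have e1 : (w : G) = x := hwx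
      rw [← e1]
      exact congrArg Subtype.val (hW1.2 w hw))
    rw [H1.SZ.card_subgroupOf_of_le hWQ, Subgroup.card_map_of_injective H.subtype_injective,
      ← hm] at hW4
    rw [H1.SZ.card_subgroupOf_of_le hBH] at hW3
    have : 0 < Nat.card B := Nat.card_pos
    omega

end Cfsg.Agent.S1305
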