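import Cfsg.Statements.S1307
import Cfsg.Agent.S0215
import Cfsg.Agent.Lib.H27.RankOne
import Cfsg.Agent.Lib.H26.Components

set_option autoImplicit false
open Cfsg

namespace Cfsg.Agent.S1307

theorem result {G : Type*} [Group G] [Finite G] (x : G) (hx : orderOf x = 2) (L : Subgroup G) (hLx : L ≤ Subgroup.centralizer ({x} : Set G)) (hL : Cfsg.IsComponent (L.subgroupOf (Subgroup.centralizer ({x} : Set G)))) (heven : Even (Nat.card ↥L)) (hrk : Cfsg.PRankLE 2 1 ↥L) (hne : ∀ y : G, orderOf y = 2 → y ∈ Subgroup.centralizer (L : Set G) → L ≤ Subgroup.centralizer ({y} : Set G) ∧ Cfsg.IsComponent (L.subgroupOf (Subgroup.centralizer ({y} : Set G)))) : ∃ t ∈ L, Cfsg.IsClassicalInvolution t := by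
  have hLqs : IsQuasisimple L := (H26.Components.isQuasisimple_subgroupOf hLx).mp hL.2
  obtain ⟨t, ht2, htc, S, n, e⟩ := H27.RankOne.exists_central (fun G _ _ P u h1 h2 h3 => Cfsg.Agent.S0215.result P u h1 h2 h3) hLqs
    (even_iff_two_dvd.mp heven) hrk
  have ht2' : orderOf (t : G) = 2 := (Subgroup.orderOf_coe t).trans ht2
  have htC : (t : G) ∈ Subgroup.centralizer (L : Set G) := by
    rw [Subgroup.mem_centralizer_iff]
    intro h hh
    exact congrArg Subtype.val (Subgroup.mem_center_iff.mp htc ⟨h, hh⟩)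
  obtain ⟨h1, h2⟩ := hne t ht2' htC
  exact ⟨t, t.2, ht2', L, h1, t.2, h2.1, S, n, e⟩

end Cfsg.Agent.S1307
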