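import Cfsg.Statements.S1322
import Cfsg.Agent.S0215
import Cfsg.Agent.S0205
import Cfsg.Agent.Lib.H27.MaxComp

set_option autoImplicit false
open Cfsg
open scoped Pointwise commutatorElement
namespace Cfsg.Agent.S1322

theorem result {G : Type*} [Group G] [Finite G] (hL2 : Cfsg.pLayer 2 G = Cfsg.layer G) (t : G) (ht : orderOf t = 2) (L : Subgroup G) (hLt : L ≤ Subgroup.centralizer ({t} : Set G)) (hL : Cfsg.IsComponent (L.subgroupOf (Subgroup.centralizer ({t} : Set G)))) : ∃ D : Subgroup G, Cfsg.IsComponent D ∧ (L = D ∨ (L < D ∧ D = ⁅D, Subgroup.zpowers t⁆) ∨ (D.map (MulAut.conj t).toMonoidHom ≠ D ∧ L = (Cfsg.layer ↥((D ⊔ D.map (MulAut.conj t).toMonoidHom) ⊓ Subgroup.centralizer ({t} : Set G))).map ((D ⊔ D.map (MulAut.conj t).toMonoidHom) ⊓ Subgroup.centralizer ({t} : Set G)).subtype)) := by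

  have htt : t * t = 1 := by
    have := pow_orderOf_eq_one t
    rwa [ht, pow_two] at this
  have hK : H27.CompAct.CompIn (Subgroup.centralizer ({t} : Set G)) L := ⟨hLt, hL⟩
  have heven : 2 ∣ Nat.card L := by
    by_contra h
    have h1 : Odd (Nat.card L) := by
      rw [← Nat.not_even_iff_odd, even_iff_two_dvd]; exact h
    exact H26.Quasisimple.not_isSolvable hK.qs (Cfsg.Agent.S0205.result h1)
  have hLE : L ≤ layer G := by
    rw [← hL2]
    exact H27.MaxComp.le_pLayer_of_compIn (fun G _ _ P u h1 h2 h3 => Cfsg.Agent.S0215.result P u h1 h2 h3) htt hK heven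
  obtain ⟨D, hD, h⟩ := H27.Tricho.trichotomy htt hK hLE
  refine ⟨D, hD, ?_⟩
  rcases h with h | ⟨h1, -, h2⟩ | ⟨h1, hcomm, h2⟩
  · exact Or.inl h
  · exact Or.inr (Or.inl ⟨h1, h2⟩)
  right; right
  rw [H1.SZ.conj_smul_eq_map] at h1
  refine ⟨h1, ?_⟩
  rw [← H1.SZ.conj_smul_eq_map]
  set X := (D ⊔ MulAut.conj t • D) ⊓ Subgroup.centralizer ({t} : Set G) with hX
  have hLX : L ≤ X := by rw [h2]; exact H27.Tricho.diag_le htt hcomm
  have hXL : X ≤ L ⊔ (D ⊓ MulAut.conj t • D) := by rw [h2]; exact H27.Tricho.fixed_le htt hcomm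
  set Z := D ⊓ MulAut.conj t • D with hZ
  have hZF : ⁅D ⊔ MulAut.conj t • D, Z⁆ = ⊥ := by
    apply H26.Basic.commutator_sup_left_eq_bot
    · exact H26.Basic.commutator_eq_bot_mono hcomm le_rfl inf_le_right
    · rw [Subgroup.commutator_comm]
      exact H26.Basic.commutator_eq_bot_mono hcomm inf_le_left le_rfl
  have hLZ : ⁅L, Z⁆ = ⊥ := H26.Basic.commutator_eq_bot_mono hZF (hLX.trans inf_le_left) le_rfl
  -- components of X
  have hLc : IsComponent (L.subgroupOf X) := by
    refine ⟨?_, (H26.Components.isQuasisimple_subgroupOf hLX).mpr hK.qs⟩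
    exact hL.1.comap (Subgroup.inclusion (inf_le_right : X ≤ Subgroup.centralizer ({t} : Set G)))
  have hlay : layer X = L.subgroupOf X := by
    apply le_antisymm
    · refine sSup_le fun K hKc => ?_
      have hKc' : IsComponent K := hKc
      by_contra hne
      have hne' : K ≠ L.subgroupOf X := fun h => hne h.le
      have h3 := H26.Components.commutator_eq_bot_of_ne hKc' hLc hne'
      apply H26.Components.not_commutative hKc'
      rw [H26.Basic.commutator_eq_bot_iff_forall]
      intro x hx y hy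
      -- y = l * z
      have hsup : (y : G) ∈ L ⊔ Z := hXL y.2
      obtain ⟨l, hl, z, hz, hlz⟩ := (H26.Basic.mem_sup_of_commutator_eq_bot hLZ).mp hsup
      have e1 : (x : G) * l = l * x := by
        have := H26.Basic.commute_of_commutator_eq_bot h3 hx (show (⟨l, hLX hl⟩ : X) ∈ L.subgroupOf X from hl)
        exact congrArg Subtype.val this
      have e2 : (x : G) * z = z * x :=
        H26.Basic.commute_of_commutator_eq_bot hZF (Subgroup.mem_inf.mp x.2).1 hz
      apply Subtype.ext
      change (x : G) * y = y * x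
      rw [← hlz, ← mul_assoc, e1, mul_assoc, e2, mul_assoc]
    · exact H26.Components.le_layer hLc
  rw [hlay, Subgroup.map_subgroupOf_eq_of_le hLX]

end Cfsg.Agent.S1322
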