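import Cfsg.Statements.S1323
import Cfsg.Agent.Lib.H27.AltSub
import Cfsg.Agent.Lib.H26.Quasisimple

set_option autoImplicit false
open Cfsg
open H27.AltSub
open scoped Pointwise

namespace Cfsg.Agent.S1323

theorem result (n : ℕ) (h4 : 4 ≤ n) (hn : 9 ≤ n) : Cfsg.IsStandardSubgroup (⨅ i : Fin 4, MulAction.stabilizer ↥(alternatingGroup (Fin n)) (Fin.castLE h4 i : Fin n)) := by
  set S : Finset (Fin n) := (Finset.univ : Finset (Fin 4)).image (Fin.castLE h4) with hS
  have hScard : S.card = 4 := by
    rw [hS, Finset.card_image_of_injective _ (Fin.castLE_injective h4)]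
    rfl
  set T : Finset (Fin n) := Sᶜ with hT
  have hTcard : T.card = n - 4 := by
    rw [hT, Finset.card_compl, hScard, Fintype.card_fin]
  have hL : (⨅ i : Fin 4, MulAction.stabilizer ↥(alternatingGroup (Fin n))
      (Fin.castLE h4 i : Fin n)) = A T := by
    ext g
    rw [Subgroup.mem_iInf, mem_A']
    constructor
    · intro h x hx
      rw [hT, Finset.mem_compl, not_not, hS, Finset.mem_image] at hx
      obtain ⟨i, -, rfl⟩ := hx
      exact MulAction.mem_stabilizer_iff.mp (h i)
    · intro h i
      rw [MulAction.mem_stabilizer_iff]
      apply h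
      rw [hT, Finset.mem_compl, not_not, hS, Finset.mem_image]
      exact ⟨i, Finset.mem_univ _, rfl⟩
  rw [hL]
  have hC : Subgroup.centralizer (A T : Set (alternatingGroup (Fin n))) = A S := by
    rw [centralizer_A (by omega), hT, compl_compl]
  have hsm : ∀ g : alternatingGroup (Fin n), g • T = (g • S)ᶜ := by
    intro g
    rw [hT, Finset.compl_eq_univ_sdiff, Finset.compl_eq_univ_sdiff, Finset.smul_finset_sdiff,
      Finset.smul_finset_univ]
  have hN : Subgroup.normalizer (A T : Set (alternatingGroup (Fin n))) =
      Subgroup.normalizer (A S : Set (alternatingGroup (Fin n))) := by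
    ext g
    rw [mem_normalizer_A (by omega), mem_normalizer_A (by omega), hsm, hT, compl_inj_iff]
  refine ⟨?_, ?_, ?_, ?_⟩
  · have hsimp : IsSimpleGroup (alternatingGroup T) := by
      apply alternatingGroup.isSimpleGroup
      rw [Nat.card_eq_fintype_card, Fintype.card_coe]; omega
    have e : alternatingGroup T ≃* A T :=
      MonoidHom.ofInjective (alternatingGroup.ofSubtype_injective (s := T))
    have hsA : IsSimpleGroup (A T) := e.isSimpleGroup_congr.mp hsimp
    have hnc : ¬ IsMulCommutative (A T) := by
      intro hcomm
      obtain ⟨x, hx⟩ : T.Nonempty := Finset.card_pos.mp (by omega)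
      obtain ⟨c, hcA, hcx⟩ := exists_move' hx (by omega)
      have hAC : A T ≤ A S := by
        rw [← hC]
        exact Subgroup.le_centralizer_iff_isMulCommutative.mpr hcomm
      have := subset_of_A_le (by omega) hAC hx
      rw [hT, Finset.mem_compl] at hx
      exact hx this
    refine ⟨?_, ?_⟩
    · rcases hsA.eq_bot_or_eq_top_of_normal (commutator (A T)) inferInstance with h | h
      · exfalso
        apply hnc
        exact (commutator_eq_bot_iff _).mp h
      · exact ⟨h⟩
    · have hZ : Subgroup.center (A T) = ⊥ := by
        rcases hsA.eq_bot_or_eq_top_of_normal (Subgroup.center (A T)) inferInstance with h | h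
        · exact h
        · exact absurd (Subgroup.center_eq_top_iff.mp h) hnc
      exact ((QuotientGroup.quotientMulEquivOfEq hZ).trans
        (QuotientGroup.quotientBot (G := A T))).isSimpleGroup_congr.mpr hsA
  · rw [hC]
    refine ⟨?_, ?_⟩
    · rw [card_A]
      haveI : Nontrivial S := by
        rw [← Finite.one_lt_card_iff_nontrivial, Nat.card_eq_fintype_card, Fintype.card_coe,
          hScard]
        norm_num
      have h2 := two_mul_nat_card_alternatingGroup (α := S)
      rw [Nat.card_perm, Nat.card_eq_fintype_card (α := S), Fintype.card_coe, hScard] at h2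
      have h3 : Nat.factorial 4 = 24 := rfl
      exact ⟨6, by omega⟩
    · intro g hg
      rw [mem_normalizer_A (by omega)] at hg
      rw [conj_A, inf_A]
      apply odd_card_A
      by_contra hlt
      push Not at hlt
      have h1 : (g • S).card = S.card := Finset.card_smul_finset g S
      have h2 : S ∩ g • S = S := Finset.eq_of_subset_of_card_le Finset.inter_subset_left (by omega)
      have h3 : S ⊆ g • S := Finset.inter_eq_left.mp h2
      exact hg (Finset.eq_of_subset_of_card_le h3 (by omega)).symm
  · intro g _ hc
    rw [Subgroup.commutator_eq_bot_iff_le_centralizer, conj_A] at hc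
    have h1 : A (g • T) ≤ A S := by
      rw [← hC]
      exact Subgroup.le_centralizer_iff.mp hc
    have h2 : (g • T).card = T.card := Finset.card_smul_finset g T
    have h3 := Finset.card_le_card (subset_of_A_le (by omega) h1)
    omega
  · rw [hC, hN]

end Cfsg.Agent.S1323
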