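import Cfsg.Statements.S1346
import Cfsg.Agent.Lib.H69.CoreBal4

set_option autoImplicit false
open Cfsg

namespace Cfsg.Agent.S1346

/-- Let G be a finite group all of whose 2-local subgroups have known non-abelian composition factors, and x, y commuting involutions. Then the extended 2-layer of L*_{2'}(C_G(x)) ∩ C_G(y) (as a group) is contained in L*_{2'}(C_G(y)). -/
theorem result {G : Type*} [Group G] [Finite G] (hK : ∀ T : Subgroup G, IsPGroup 2 ↥T → T ≠ ⊥ → Cfsg.IsCompositionKGroup ↥(Subgroup.normalizer (T : Set G))) (x y : G) (hx : orderOf x = 2) (hy : orderOf y = 2) (hxy : x * y = y * x) : (Cfsg.extendedTwoLayer ↥((Cfsg.extendedTwoLayer ↥(Subgroup.centralizer ({x} : Set G))).map (Subgroup.centralizer ({x} : Set G)).subtype ⊓ Subgroup.centralizer ({y} : Set G))).map ((Cfsg.extendedTwoLayer ↥(Subgroup.centralizer ({x} : Set G))).map (Subgroup.centralizer ({x} : Set G)).subtype ⊓ Subgroup.centralizer ({y} : Set G)).subtype ≤ (Cfsg.extendedTwoLayer ↥(Subgroup.centralizer ({y} : Set G))).map (Subgroup.centralizer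 ({y} : Set G)).subtype := by
  set Cx := Subgroup.centralizer ({x} : Set G) with hCx
  set Cy := Subgroup.centralizer ({y} : Set G) with hCy
  set A := (Cfsg.extendedTwoLayer ↥Cx).map Cx.subtype with hA
  set D := A ⊓ Cy with hD
  have hDCy : D ≤ Cy := inf_le_right
  have hAx : A ≤ Cx := Subgroup.map_subtype_le _
  have hxCy : x ∈ Cy := by rw [hCy, Subgroup.mem_centralizer_singleton_iff]; exact hxy
  set x' : Cy := ⟨x, hxCy⟩ with hx'
  have hR : IsPGroup 2 ↥(Subgroup.zpowers x') := IsPGroup.of_card (n := 1) (by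
    rw [Nat.card_zpowers, hx', Subgroup.orderOf_mk, hx, pow_one])
  have hmem : ∀ c : Cy, c ∈ Subgroup.centralizer ((Subgroup.zpowers x' : Subgroup Cy) : Set Cy) ↔ (c : G) ∈ Cx := by
    intro c
    rw [hCx, Subgroup.mem_centralizer_singleton_iff, Subgroup.mem_centralizer_iff]
    constructor
    · intro h
      exact (congrArg Subtype.val (h x' (Subgroup.mem_zpowers x'))).symm
    · rintro h _ ⟨n, rfl⟩
      have h4 : Commute x' c := Subtype.ext h.symm
      exact (h4.zpow_left n).eq
  have hAn : Cx ≤ Subgroup.normalizer (A : Set G) := by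
    have h1 : (Cfsg.extendedTwoLayer ↥Cx).Normal := H28.ELayer.ext_normal
    have h2 : A.subgroupOf Cx = Cfsg.extendedTwoLayer ↥Cx := by
      rw [hA, Subgroup.subgroupOf, Subgroup.comap_map_eq_self_of_injective Cx.subtype_injective]
    rw [← Subgroup.normal_subgroupOf_iff_le_normalizer hAx, h2]
    exact h1
  have hran : (Subgroup.inclusion hDCy).range = D.subgroupOf Cy := Subgroup.inclusion_range hDCy
  have key := H69.CoreBal.map_ext_le (f := Subgroup.inclusion hDCy) (Subgroup.inclusion_injective hDCy) hR (by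
    rw [hran]
    intro c hc
    rw [hmem]
    exact hAx (show (c : G) ∈ D from hc).1) (by
    rw [hran]
    intro c hc
    rw [hmem] at hc
    rw [Subgroup.mem_normalizer_iff]
    intro d
    have h1 := Subgroup.mem_normalizer_iff.mp (hAn hc) (d : G)
    constructor
    · intro hd
      refine ⟨h1.mp hd.1, ?_⟩
      exact (c * d * c⁻¹).2
    · intro hd
      exact ⟨h1.mpr hd.1, d.2⟩)
  have h3 := Subgroup.map_mono (f := Cy.subtype) key
  rw [Subgroup.map_map] at h3
  exact h3

end Cfsg.Agent.S1346
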