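import Cfsg.Statements.S1447
import Cfsg.Agent.Lib.H12.MetacycAct2

set_option autoImplicit false
open Cfsg

namespace Cfsg.Agent.S1447

open scoped commutatorElement in
/-- Let G be a finite group, p an odd prime, R a metacyclic p-subgroup and A a subgroup of order coprime to p normalizing R. Then [R, A] is abelian; R is generated by [R, A] and R ∩ C_G(A), which meet trivially; and if R is non-abelian and A does not centralize R, then [R, A] and R ∩ C_G(A) are nontrivial cyclic groups and [R, R] ≤ [R, A]. -/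
theorem result {G : Type*} [Group G] [Finite G] (p : ℕ) [Fact p.Prime] (hp : p ≠ 2) (R A : Subgroup G) (hR : IsPGroup p R) (hRm : Cfsg.IsMetacyclic R)
    (hA : (A ≤ Subgroup.normalizer (R : Set G))) (hcop : (Nat.card A).Coprime p) :
    IsMulCommutative ↥⁅R, A⁆ ∧ ⁅R, A⁆ ⊔ (R ⊓ Subgroup.centralizer (A : Set G)) = R ∧ ⁅R, A⁆ ⊓ (R ⊓ Subgroup.centralizer (A : Set G)) = ⊥ ∧
      (¬ IsMulCommutative R → ¬ A ≤ Subgroup.centralizer (R : Set G) →
        ⁅R, A⁆ ≠ ⊥ ∧ IsCyclic ↥⁅R, A⁆ ∧ (R ⊓ Subgroup.centralizer (A : Set G)) ≠ ⊥ ∧ IsCyclic ↥(R ⊓ Subgroup.centralizer (A : Set G)) ∧ ⁅R, R⁆ ≤ ⁅R, A⁆) := by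
  have hs : Group.IsSolvable A ∨ Group.IsSolvable R := by
    right
    have := hR.isNilpotent
    infer_instance
  have hcc := H12.MetacycAct.coprime_card hR hcop
  have hTR : ⁅R, A⁆ ≤ R := H1.Coprime2.commutator_le_left hA
  have hTT : ⁅⁅R, A⁆, A⁆ = ⁅R, A⁆ := H1.Coprime2.commutator_commutator_eq A R hA hcc hs
  have hTA : A ≤ Subgroup.normalizer ((⁅R, A⁆ : Subgroup G) : Set G) :=
    H1.Coprime2.le_normalizer_commutator_right R A
  have hTRn : R ≤ Subgroup.normalizer ((⁅R, A⁆ : Subgroup G) : Set G) :=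
    H1.Coprime2.le_normalizer_commutator_left R A
  have hab := H12.MetacycAct.comm_bracket hp hR hRm hA hcop
  have hsup := H1.Coprime2.commutator_sup_centralizer A R hA hcc hs
  have hinf : ⁅R, A⁆ ⊓ Subgroup.centralizer (A : Set G) = ⊥ := by
    have h1 := H13.Fix.comm_inf_centralizer (V := ⁅R, A⁆) (Q := A) (p := p)
      (by
        intro x hx
        rw [Subgroup.mem_centralizer_iff]
        intro y hy
        exact hab y hy x hx) (hR.to_le hTR) hcop hTA
    rwa [hTT] at h1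
  have hinf2 : ⁅R, A⁆ ⊓ (R ⊓ Subgroup.centralizer (A : Set G)) = ⊥ := by
    rw [eq_bot_iff, ← hinf]
    exact inf_le_inf le_rfl inf_le_right
  refine ⟨⟨⟨fun a b => Subtype.ext (hab _ a.2 _ b.2)⟩⟩, hsup, hinf2, ?_⟩
  intro hna hnc
  have hT1 : ⁅R, A⁆ ≠ ⊥ := by
    intro h
    apply hnc
    rw [← Subgroup.commutator_eq_bot_iff_le_centralizer, Subgroup.commutator_comm]
    exact h
  have hC1 : R ⊓ Subgroup.centralizer (A : Set G) ≠ ⊥ := by
    intro h
    rw [h, sup_bot_eq] at hsup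
    apply hna
    rw [hsup] at hab
    exact ⟨⟨fun a b => Subtype.ext (hab _ a.2 _ b.2)⟩⟩
  have hCcyc : IsCyclic ↥(R ⊓ Subgroup.centralizer (A : Set G)) :=
    H12.MetacycAct.isCyclic_left hp hR hRm inf_le_left hTR (by rw [inf_comm]; exact hinf2) hT1
  refine ⟨hT1, H12.MetacycAct.isCyclic_left hp hR hRm hTR inf_le_left hinf2 hC1, hC1, hCcyc, ?_⟩
  -- `R / [R, A]` is an image of `C`
  have hCab : ∀ x ∈ R ⊓ Subgroup.centralizer (A : Set G),
      ∀ y ∈ R ⊓ Subgroup.centralizer (A : Set G), x * y = y * x := by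
    intro x hx y hy
    letI := hCcyc.commGroup
    exact congrArg Subtype.val (mul_comm (⟨x, hx⟩ : ↥(R ⊓ Subgroup.centralizer (A : Set G))) ⟨y, hy⟩)
  set T : Subgroup G := ⁅R, A⁆ with hT
  set C : Subgroup G := R ⊓ Subgroup.centralizer (A : Set G) with hC
  have hCR : C ≤ R := inf_le_left
  have hTn : (T.subgroupOf R).Normal := (Subgroup.normal_subgroupOf_iff_le_normalizer hTR).2 hTRn
  have hsup' : T.subgroupOf R ⊔ C.subgroupOf R = ⊤ := by
    rw [← Subgroup.subgroupOf_sup hTR hCR, hsup, Subgroup.subgroupOf_self]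
  have hq : ∀ x y : R ⧸ T.subgroupOf R, x * y = y * x := by
    have h1 : ∀ x : R ⧸ T.subgroupOf R, ∃ c : R, (c : G) ∈ C ∧ QuotientGroup.mk' _ c = x := by
      intro x
      obtain ⟨r, rfl⟩ := QuotientGroup.mk'_surjective _ x
      have hr : r ∈ T.subgroupOf R ⊔ C.subgroupOf R := by rw [hsup']; trivial
      obtain ⟨t, ht, c, hc, rfl⟩ := Subgroup.mem_sup_of_normal_left.1 hr
      refine ⟨c, Subgroup.mem_subgroupOf.1 hc, ?_⟩
      rw [map_mul]
      have : QuotientGroup.mk' (T.subgroupOf R) t = 1 := (QuotientGroup.eq_one_iff _).2 ht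
      rw [this, one_mul]
    intro x y
    obtain ⟨c, hc, rfl⟩ := h1 x
    obtain ⟨d, hd, rfl⟩ := h1 y
    rw [← map_mul, ← map_mul]
    congr 1
    exact Subtype.ext (hCab _ hc _ hd)
  rw [Subgroup.commutator_le]
  intro x hx y hy
  have h1 : QuotientGroup.mk' (T.subgroupOf R) ⁅(⟨x, hx⟩ : R), (⟨y, hy⟩ : R)⁆ = 1 := by
    rw [map_commutatorElement]
    exact commutatorElement_eq_one_iff_mul_comm.2 (hq _ _)
  have h2 := (QuotientGroup.eq_one_iff _).1 h1
  exact Subgroup.mem_subgroupOf.1 h2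

end Cfsg.Agent.S1447
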