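import Cfsg.Statements.S1458
import Cfsg.Agent.Lib.H3.CFun
import Cfsg.Agent.Lib.H30.PStab
import Cfsg.Agent.Lib.H1.Solv

set_option autoImplicit false
open Cfsg

namespace Cfsg.Agent.S1458

open Subgroup in
theorem zj_aux {G : Type*} [Group G] [Finite G] [Group.IsSolvable G] (hodd : Odd (Nat.card G)) (p : ℕ) [hpf : Fact p.Prime]
    (hp2 : p ≠ 2) (P : Sylow p G) (hc : pPrimeCore p G = ⊥) : (H3.ZE.ZE p (P : Subgroup G)).Normal := by
  apply H3.ZE.zj_normal hp2 P
  · intro V hVn hVp A hAP hA
    have h1 := H30.PStab.map_le_pCore hodd p hp2 V A hVp hA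
    refine ⟨(pCore p (G ⧸ centralizer (V : Set G))).comap (QuotientGroup.mk' (centralizer (V : Set G))), inferInstance, ?_, ?_⟩
    · rwa [← Subgroup.map_le_iff_le_comap]
    · have h2 := H1.Cores.pCore_le_sylow (P.mapSurjective (f := QuotientGroup.mk' (centralizer (V : Set G)))
        (QuotientGroup.mk'_surjective _))
      refine (Subgroup.comap_mono h2).trans ?_
      rw [Sylow.coe_mapSurjective, Subgroup.comap_map_eq, QuotientGroup.ker_mk', sup_comm]
  · exact H1.Solv.centralizer_pCore_le inferInstance p hc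

/-- Let G be a solvable group of odd order, p a prime and S a Sylow p-subgroup of G. Then the subgroup generated by the centre of the Thompson subgroup of S and O_{p'}(G) is normal in G. -/
theorem result {G : Type*} [Group G] [Finite G] [Group.IsSolvable G] (hodd : Odd (Nat.card G)) (p : ℕ) [Fact p.Prime] (S : Sylow p G) :
    (Cfsg.centerThompsonOf p (S : Subgroup G) ⊔ Cfsg.pPrimeCore p G).Normal := by
  rcases eq_or_ne p 2 with hp2 | hp2
  · have h1 : Cfsg.pPrimeCore p G = ⊤ := by
      rw [eq_top_iff]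
      apply H1.Cores.le_pPrimeCore inferInstance
      rw [Subgroup.card_top, hp2, Nat.coprime_comm]
      exact (Nat.coprime_two_left).2 hodd
    rw [h1, sup_top_eq]
    infer_instance
  · set K := Cfsg.pPrimeCore p G with hK
    have hKc : (Nat.card K).Coprime p := H1.Cores.coprime_card_pPrimeCore p
    have h1 : Cfsg.centerThompsonOf p (S : Subgroup G) = H3.ZE.ZE p (S : Subgroup G) := by
      rw [centerThompsonOf, H3.ZE.thompsonSubgroupOf_eq]; rfl
    have h2 := H3.CFun.W_quotient (H3.CFun.zeFun p) S hKc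
    change H3.ZE.ZE p ((S : Subgroup G).map (QuotientGroup.mk' K)) = (H3.ZE.ZE p (S : Subgroup G)).map (QuotientGroup.mk' K) at h2
    have hodd' : Odd (Nat.card (G ⧸ K)) := Odd.of_dvd_nat hodd (Subgroup.card_quotient_dvd_card K)
    have h3 := zj_aux hodd' p hp2 (S.mapSurjective (f := QuotientGroup.mk' K) (QuotientGroup.mk'_surjective K))
      (H1.Cores.pPrimeCore_quotient_pPrimeCore p)
    rw [Sylow.coe_mapSurjective, h2] at h3
    have h4 : Cfsg.centerThompsonOf p (S : Subgroup G) ⊔ K =
        ((H3.ZE.ZE p (S : Subgroup G)).map (QuotientGroup.mk' K)).comap (QuotientGroup.mk' K) := by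
      rw [h1, Subgroup.comap_map_eq, QuotientGroup.ker_mk']
    rw [h4]
    exact h3.comap _

end Cfsg.Agent.S1458
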