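import Cfsg.Statements.S1580
import Cfsg.Agent.Lib.H33.Leech9

set_option autoImplicit false
open Cfsg

namespace Cfsg.Agent.S1580
open H33.Leech1 H33.Leech2 H33.Leech4 H33.Leech7 H33.Leech8 H33.Leech9 H9.LeechGood

/-- The McLaughlin configuration: for u of customary norm 6 and v minimal with u − v minimal, there are 275 further such summands x of customary inner product 2 with v, permuted transitively by the stabiliser of u and v. -/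
theorem result (u v : ↥Cfsg.leechLattice) (hu : Cfsg.sqNorm (u : Cfsg.GolayPt → ℤ) = 48) (hv : Cfsg.sqNorm (v : Cfsg.GolayPt → ℤ) = 32 ∧ Cfsg.sqNorm ((u - v) : Cfsg.GolayPt → ℤ) = 32) : {x : ↥Cfsg.leechLattice | Cfsg.sqNorm (x : Cfsg.GolayPt → ℤ) = 32 ∧ Cfsg.sqNorm ((u - x) : Cfsg.GolayPt → ℤ) = 32 ∧ Cfsg.dotInt (v : Cfsg.GolayPt → ℤ) (x : Cfsg.GolayPt → ℤ) = 16}.ncard = 275 ∧ ∀ x ∈ {x : ↥Cfsg.leechLattice | Cfsg.sqNorm (x : Cfsg.GolayPt → ℤ) = 32 ∧ Cfsg.sqNorm ((u - x) : Cfsg.GolayPt → ℤ) = 32 ∧ Cfsg.dotInt (v : Cfsg.GolayPt → ℤ) (x : Cfsg.GolayPt → ℤ) = 16}, ∀ x' ∈ {x : ↥Cfsg.leechLattice | Cfsg.sqNorm (x : Cfsg.GolayPt → ℤ) = 32 ∧ Cfsg.sqNorm ((u - x) : Cfsg.GolayPt → ℤ) = 32 ∧ Cfsg.dotInt (v : Cfsg.GolayPt → ℤ) (x : Cfsg.GolayPt → ℤ) = 16}, ∃ g : ↥Cfsg.Co0, g • u = u ∧ g • v = v ∧ g • x = x' := by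
  obtain ⟨g, h1, h2, h3⟩ := toM hu hv
  refine ⟨?_, ?_⟩
  · refine (ncard_smul g _ {x | InM x} ?_).trans count275
    intro x
    exact h3 x
  · intro x hx x' hx'
    obtain ⟨k, k1, k2, k3⟩ := tripleM ((h3 x).1 hx)
    obtain ⟨k', k1', k2', k3'⟩ := tripleM ((h3 x').1 hx')
    have e1 : (k'⁻¹ * k) • A = A := by rw [mul_smul, k1, inv_smul_eq_iff, k1']
    have e2 : (k'⁻¹ * k) • W0 = W0 := by rw [mul_smul, k2, inv_smul_eq_iff, k2']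
    have hv' : (g⁻¹ * (k'⁻¹ * k) * g) • v = v := by
      rw [mul_smul, mul_smul, h1, e1, inv_smul_eq_iff, h1]
    have hw' : (g⁻¹ * (k'⁻¹ * k) * g) • (u - v) = u - v := by
      rw [mul_smul, mul_smul, h2, e2, inv_smul_eq_iff, h2]
    refine ⟨g⁻¹ * (k'⁻¹ * k) * g, ?_, hv', ?_⟩
    · have := fix_u (g := g⁻¹ * (k'⁻¹ * k) * g) (g' := 1) (u := u) (v := v) (by rw [hv', one_smul]) (by rw [hw', one_smul])
      rw [one_smul] at this
      exact this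
    · rw [mul_smul, mul_smul, mul_smul, k3, inv_smul_eq_iff, inv_smul_eq_iff, k3']

end Cfsg.Agent.S1580
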