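import Cfsg.Statements.S1644
import Cfsg.Agent.Lib.H58.J1J
-- import your own Cfsg.Agent.* helpers here

set_option autoImplicit false
open Cfsg

namespace Cfsg.Agent.S1644

/-- The first Janko group recognised by an involution centraliser, at the level of isomorphism: a finite simple group with abelian Sylow 2-subgroups of order 8 and an involution whose centraliser is isomorphic to Z/2 × A₅ is isomorphic to the subgroup of GL(7, 11) generated by the two explicit Janko matrices. -/
theorem result {G : Type*} [Group G] [Finite G] [IsSimpleGroup G] (S : Sylow 2 G) (hS : IsMulCommutative (S : Subgroup G)) (h8 : Nat.card S = 8) (t : G) (ht : orderOf t = 2) (e : (Subgroup.centralizer ({t} : Set G)) ≃* Multiplicative (ZMod 2) × alternatingGroup (Fin 5)) : Cfsg.Spor.IsoJ1 G := by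
  apply H58.J1.main' t (H58.J1.two_central_of_odd ht ?_) e
  intro h
  have h1 := (Subgroup.centralizer ({t} : Set G)).card_mul_index
  have hc : Nat.card (Subgroup.centralizer ({t} : Set G)) = 120 := H94.J1.card_cent e
  have h16 : ¬ 16 ∣ Nat.card G := by
    intro h16
    have : Fact (Nat.Prime 2) := ⟨Nat.prime_two⟩
    have h2 := S.pow_dvd_card_of_pow_dvd_card (n := 4) (by norm_num; exact h16)
    rw [h8] at h2
    omega
  apply h16
  rw [← h1, hc]
  obtain ⟨c, hc2⟩ := h
  rw [hc2]
  exact ⟨15 * c, by ring⟩


end Cfsg.Agent.S1644
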