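import Cfsg.Statements.S1910
import Cfsg.Agent.Lib.H37.Syl
import Cfsg.Agent.Lib.H37.PBasic

set_option autoImplicit false
set_option maxHeartbeats 1000000
open Cfsg

namespace Cfsg.Agent.S1910

open Subgroup H1.Coprime2

/-- embedding lemma -/
theorem embed {G : Type*} [Group G] [Finite G] {Q₁ T R S : Subgroup G}
    (hodd : ∀ x : G, x ∉ normalizer (Q₁ : Set G) → Odd (Nat.card ↥(Q₁ ⊓ Q₁.map (MulAut.conj x).toMonoidHom)))
    (hTQ : T ≤ Q₁) (hQT : Q₁ ⊓ (T ⊔ R) = T) (hdis : T ⊓ R = ⊥) (hcomm : R ≤ centralizer (T : Set G))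
    (hT2 : IsPGroup 2 T) (hS2 : IsPGroup 2 S) (hSn : S ⊓ normalizer (T : Set G) = T ⊔ R) (hne : T ⊔ R ≠ S) :
    ∃ f : T →* R, Function.Injective f := by
  have hle : T ⊔ R ≤ S := by rw [← hSn]; exact inf_le_left
  -- the normalizer condition
  obtain ⟨s, hsS, hsN, hsnot⟩ : ∃ s ∈ S, s ∈ normalizer ((T ⊔ R : Subgroup G) : Set G) ∧ s ∉ T ⊔ R := by
    have hlt : (T ⊔ R).subgroupOf S < ⊤ := by
      rw [lt_top_iff_ne_top, Ne, subgroupOf_eq_top]
      intro h
      exact hne (le_antisymm hle h)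
    haveI := hS2.isNilpotent
    have h1 := Group.normalizerCondition_of_isNilpotent (G := S) _ hlt
    obtain ⟨s, hs1, hs2⟩ := SetLike.exists_of_lt h1
    refine ⟨s, s.2, ?_, fun h => hs2 (mem_subgroupOf.mpr h)⟩
    rw [← subgroupOf_normalizer_eq hle] at hs1
    exact hs1
  have hsT : s ∉ normalizer (T : Set G) := by
    intro h
    apply hsnot
    rw [← hSn]
    exact ⟨hsS, h⟩
  set T' := T.map (MulAut.conj s).toMonoidHom with hT'
  have hT'le : T' ≤ T ⊔ R := by
    rw [mem_normalizer_iff_map_conj_eq] at hsN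
    have h1 : T' ≤ (T ⊔ R).map (MulAut.conj s).toMonoidHom := map_mono le_sup_left
    exact h1.trans (le_of_eq hsN)
  have hcardT' : Nat.card T' = Nat.card T := card_map_of_injective (MulAut.conj s).injective
  have hsQ : s ∉ normalizer (Q₁ : Set G) := by
    intro h
    have h1 : T' ≤ T := by
      conv_rhs => rw [← hQT]
      refine le_inf ?_ hT'le
      rw [mem_normalizer_iff_map_conj_eq] at h
      have h1 : T' ≤ Q₁.map (MulAut.conj s).toMonoidHom := map_mono hTQ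
      exact h1.trans (le_of_eq h)
    apply hsT
    rw [mem_normalizer_iff_map_conj_eq]
    exact Subgroup.eq_of_le_of_card_ge h1 hcardT'.ge
  have hT'T : T' ⊓ T = ⊥ := by
    have h1 := hodd s hsQ
    have h2 : T' ⊓ T ≤ Q₁ ⊓ Q₁.map (MulAut.conj s).toMonoidHom :=
      le_inf (inf_le_right.trans hTQ) (inf_le_left.trans (map_mono hTQ))
    have h3 : IsPGroup 2 (T' ⊓ T : Subgroup G) := hT2.to_le inf_le_right
    have h4 : Odd (Nat.card (T' ⊓ T : Subgroup G)) := Odd.of_dvd_nat h1 (card_dvd_of_le h2)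
    obtain ⟨k, hk⟩ := IsPGroup.iff_card.mp h3
    rw [← Subgroup.card_eq_one, hk]
    rw [hk] at h4
    rcases Nat.eq_zero_or_pos k with h | h
    · rw [h, pow_zero]
    · exfalso
      have : Even (2 ^ k) := (Nat.even_pow.mpr ⟨even_two, h.ne'⟩)
      exact (Nat.not_even_iff_odd.mpr h4) this
  -- the quotient (T ⊔ R)/T
  haveI hTn : (T.subgroupOf (T ⊔ R)).Normal := by
    rw [normal_subgroupOf_iff_le_normalizer le_sup_left]
    exact sup_le le_normalizer (hcomm.trans (centralizer_le_normalizer _))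
  let π := QuotientGroup.mk' (T.subgroupOf (T ⊔ R))
  let g : R →* (↥(T ⊔ R) ⧸ T.subgroupOf (T ⊔ R)) := π.comp (inclusion le_sup_right)
  have hg_inj : Function.Injective g := by
    rw [injective_iff_map_eq_one]
    intro r hr
    have h1 : (inclusion (le_sup_right : R ≤ T ⊔ R) r) ∈ T.subgroupOf (T ⊔ R) := (QuotientGroup.eq_one_iff _).mp hr
    have h2 : (r : G) ∈ T := mem_subgroupOf.mp h1
    have h3 : (r : G) ∈ T ⊓ R := ⟨h2, r.2⟩
    rw [hdis, mem_bot] at h3
    exact Subtype.ext h3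
  have hg_surj : Function.Surjective g := by
    intro x
    obtain ⟨⟨y, hy⟩, rfl⟩ := QuotientGroup.mk'_surjective _ x
    have hy' := hy
    rw [sup_comm] at hy'
    obtain ⟨r, hr, t, ht, hrt⟩ := H37.Syl.exists_mul_of_mem_sup (hcomm.trans (centralizer_le_normalizer _)) hy'
    refine ⟨⟨r, hr⟩, ?_⟩
    apply QuotientGroup.eq.mpr
    rw [mem_subgroupOf]
    have : ((inclusion (le_sup_right : R ≤ T ⊔ R) ⟨r, hr⟩ : ↥(T ⊔ R)) : G)⁻¹ * y = t := by
      rw [← hrt]; simp
    show ((inclusion (le_sup_right : R ≤ T ⊔ R) ⟨r, hr⟩ : ↥(T ⊔ R)) : G)⁻¹ * y ∈ T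
    rw [this]; exact ht
  let e : R ≃* (↥(T ⊔ R) ⧸ T.subgroupOf (T ⊔ R)) := MulEquiv.ofBijective g ⟨hg_inj, hg_surj⟩
  let φ : T →* T' := ((MulAut.conj s).toMonoidHom.subgroupMap T)
  let h : T →* (↥(T ⊔ R) ⧸ T.subgroupOf (T ⊔ R)) := (π.comp (inclusion hT'le)).comp φ
  have hh : Function.Injective h := by
    rw [injective_iff_map_eq_one]
    intro t ht
    have h1 : (inclusion hT'le (φ t)) ∈ T.subgroupOf (T ⊔ R) := (QuotientGroup.eq_one_iff _).mp ht
    have h2 : ((φ t : T') : G) ∈ T := mem_subgroupOf.mp h1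
    have h3 : ((φ t : T') : G) ∈ T' ⊓ T := ⟨(φ t).2, h2⟩
    rw [hT'T, mem_bot] at h3
    have h4 : ((φ t : T') : G) = MulAut.conj s t := rfl
    rw [h4, MulEquiv.map_eq_one_iff] at h3
    exact Subtype.ext h3
  exact ⟨e.symm.toMonoidHom.comp h, e.symm.injective.comp hh⟩

theorem equiv_of_inj {A B : Type*} [Group A] [Group B] [Finite A] [Finite B] (f : A →* B) (hf : Function.Injective f)
    (h : Nat.card B ≤ Nat.card A) : Nonempty (A ≃* B) := by
  have : Function.Bijective f := by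
    rw [Nat.bijective_iff_injective_and_card]
    exact ⟨hf, le_antisymm (Nat.card_le_card_of_injective f hf) h⟩
  exact ⟨MulEquiv.ofBijective f this⟩



/-- Let Q be a tightly embedded subgroup of a finite group G, g an element outside N_G(Q), T a nontrivial Sylow 2-subgroup of Q^g ∩ N_G(Q), and S a Sylow 2-subgroup of QT containing T. Then T ∩ Q = 1, and N_S(T) is the direct product of T and N_S(T) ∩ Q, with N_S(T) ∩ Q isomorphic to T. -/
theorem result {G : Type*} [Group G] [Finite G] (Q : Subgroup G) (hQ : Cfsg.IsTightlyEmbedded Q)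
    (g : G) (hg : g ∉ Subgroup.normalizer (Q : Set G))
    (T : Subgroup G) (hT1 : T ≠ ⊥) (hT : T ≤ Q.map (MulAut.conj g).toMonoidHom ⊓ Subgroup.normalizer (Q : Set G))
    (hTsyl : IsPGroup 2 T ∧ ¬ 2 ∣ T.relIndex (Q.map (MulAut.conj g).toMonoidHom ⊓ Subgroup.normalizer (Q : Set G)))
    (S : Subgroup G) (hTS : T ≤ S) (hS : S ≤ Q ⊔ T) (hSsyl : IsPGroup 2 S ∧ ¬ 2 ∣ S.relIndex (Q ⊔ T)) :
    T ⊓ Q = ⊥ ∧
      T ⊓ (S ⊓ Subgroup.normalizer (T : Set G) ⊓ Q) = ⊥ ∧
      ⁅T, S ⊓ Subgroup.normalizer (T : Set G) ⊓ Q⁆ = ⊥ ∧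
      T ⊔ (S ⊓ Subgroup.normalizer (T : Set G) ⊓ Q) = S ⊓ Subgroup.normalizer (T : Set G) ∧
      Nonempty (↥(S ⊓ Subgroup.normalizer (T : Set G) ⊓ Q) ≃* T) := by
  haveI : Fact (Nat.Prime 2) := ⟨Nat.prime_two⟩
  obtain ⟨hQeven, hQodd⟩ := hQ
  set Q₁ := Q.map (MulAut.conj g).toMonoidHom with hQ₁
  have hTQ₁ : T ≤ Q₁ := hT.trans inf_le_left
  have hTN : T ≤ Subgroup.normalizer (Q : Set G) := hT.trans inf_le_right
  have hodd_bot : ∀ (X : Subgroup G), IsPGroup 2 X → Odd (Nat.card X) → X = ⊥ := by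
    intro X hX hX'
    obtain ⟨k, hk⟩ := IsPGroup.iff_card.mp hX
    rw [← Subgroup.card_eq_one, hk]
    rw [hk] at hX'
    rcases Nat.eq_zero_or_pos k with h | h
    · rw [h, pow_zero]
    · exfalso
      have : Even (2 ^ k) := (Nat.even_pow.mpr ⟨even_two, h.ne'⟩)
      exact (Nat.not_even_iff_odd.mpr hX') this
  -- the tight embedding property for Q₁
  have hQodd₁ : ∀ x : G, x ∉ Subgroup.normalizer (Q₁ : Set G) →
      Odd (Nat.card ↥(Q₁ ⊓ Q₁.map (MulAut.conj x).toMonoidHom)) := by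
    intro x hx
    have hx' : g⁻¹ * x * g ∉ Subgroup.normalizer (Q : Set G) := by
      intro h
      apply hx
      rw [Subgroup.mem_normalizer_iff_map_conj_eq] at h ⊢
      show Q₁.map (MulAut.conj x).toMonoidHom = Q₁
      rw [hQ₁, Subgroup.map_map]
      have e1 : (MulAut.conj x).toMonoidHom.comp (MulAut.conj g).toMonoidHom =
          (MulAut.conj g).toMonoidHom.comp (MulAut.conj (g⁻¹ * x * g)).toMonoidHom := by
        ext y
        simp only [MonoidHom.comp_apply, MulEquiv.coe_toMonoidHom, MulAut.conj_apply]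
        group
      rw [e1, ← Subgroup.map_map]
      congr 1
    have h1 := hQodd _ hx'
    have e2 : Q₁ ⊓ Q₁.map (MulAut.conj x).toMonoidHom =
        (Q ⊓ Q.map (MulAut.conj (g⁻¹ * x * g)).toMonoidHom).map (MulAut.conj g).toMonoidHom := by
      rw [Subgroup.map_inf _ _ _ (MulAut.conj g).injective, hQ₁, Subgroup.map_map, Subgroup.map_map]
      congr 2
      ext y
      simp only [MonoidHom.comp_apply, MulEquiv.coe_toMonoidHom, MulAut.conj_apply]
      group
    rw [e2, Subgroup.card_map_of_injective (MulAut.conj g).injective]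
    exact h1
  -- T ⊓ Q = ⊥
  have hTQ : T ⊓ Q = ⊥ := by
    apply hodd_bot _ (hTsyl.1.to_le inf_le_left)
    refine Odd.of_dvd_nat (hQodd g hg) (Subgroup.card_dvd_of_le ?_)
    exact le_inf inf_le_right (inf_le_left.trans hTQ₁)
  have hQQT : Q ⊔ T ≤ Subgroup.normalizer (Q : Set G) := sup_le Subgroup.le_normalizer hTN
  set R := S ⊓ Subgroup.normalizer (T : Set G) ⊓ Q with hR
  have hRQ : R ≤ Q := inf_le_right
  have hRS : R ≤ S := inf_le_left.trans inf_le_left
  have hR2 : IsPGroup 2 R := hSsyl.1.to_le hRS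
  have hTR : T ⊓ R = ⊥ := by
    rw [eq_bot_iff, ← hTQ]
    exact inf_le_inf_left _ hRQ
  have hcomm : ⁅T, R⁆ = ⊥ := by
    rw [eq_bot_iff, ← hTQ]
    refine le_inf ?_ ?_
    · exact H1.Coprime2.commutator_le_left (inf_le_left.trans inf_le_right)
    · exact (Subgroup.commutator_mono le_rfl hRQ).trans (H1.Coprime2.commutator_le_right hTN)
  have hRcT : R ≤ Subgroup.centralizer (T : Set G) := by
    rw [← Subgroup.commutator_eq_bot_iff_le_centralizer, Subgroup.commutator_comm]; exact hcomm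
  have hTcR : T ≤ Subgroup.centralizer (R : Set G) := by
    rw [← Subgroup.commutator_eq_bot_iff_le_centralizer]; exact hcomm
  have hTRS : T ⊔ R = S ⊓ Subgroup.normalizer (T : Set G) := by
    apply le_antisymm
    · exact sup_le (le_inf hTS Subgroup.le_normalizer) inf_le_left
    · intro x hx
      obtain ⟨t, ht, q, hq, rfl⟩ := H37.Syl.exists_mul_of_mem_sup hTN (by rw [sup_comm]; exact hS hx.1)
      apply mul_mem (Subgroup.mem_sup_left ht)
      apply Subgroup.mem_sup_right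
      have h2 : q = t⁻¹ * (t * q) := by group
      refine ⟨?_, hq⟩
      rw [h2]
      exact Subgroup.mul_mem _ (Subgroup.inv_mem _ (Subgroup.mem_inf.mpr ⟨hTS ht, Subgroup.le_normalizer ht⟩)) hx
  refine ⟨hTQ, hTR, hcomm, hTRS, ?_⟩
  -- S ⊓ Q Sylow in Q
  have hSsyl' : H1.Coprime2.IsSylIn 2 (Q ⊔ T) S := H37.Syl.iff.mpr ⟨hS, hSsyl.1, hSsyl.2⟩
  have hSQ : H1.Coprime2.IsSylIn 2 Q (S ⊓ Q) := H37.Syl.inf_of_normal hSsyl' le_sup_left hQQT
  have hSQne : S ⊓ Q ≠ ⊥ := by
    intro h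
    have h1 := (H37.Syl.iff.mp hSQ).2.2
    rw [h, Subgroup.relIndex_bot_left] at h1
    exact h1 (even_iff_two_dvd.mp hQeven)
  have hRne : R ≠ ⊥ := by
    intro h
    obtain ⟨x, hx, hx1, hxT⟩ := H37.PBasic.exists_fixed_of_pgroup_normalizes (p := 2) T (S ⊓ Q)
      hTsyl.1 (hSsyl.1.to_le inf_le_left) hSQne
      (H1.Coprime2.le_normalizer_inf (hTS.trans Subgroup.le_normalizer) hTN)
    apply hx1
    have h2 : x ∈ R := by
      refine ⟨⟨hx.1, ?_⟩, hx.2⟩
      exact Subgroup.centralizer_le_normalizer _ (Subgroup.mem_centralizer_iff.mpr hxT)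
    rwa [h, Subgroup.mem_bot] at h2
  -- N(T) ≤ N(Q₁), N(R) ≤ N(Q)
  have hNT : Subgroup.normalizer (T : Set G) ≤ Subgroup.normalizer (Q₁ : Set G) := by
    intro x hx
    by_contra hcon
    apply hT1
    apply hodd_bot _ hTsyl.1
    refine Odd.of_dvd_nat (hQodd₁ x hcon) (Subgroup.card_dvd_of_le ?_)
    refine le_inf hTQ₁ ?_
    rw [Subgroup.mem_normalizer_iff_map_conj_eq] at hx
    exact (le_of_eq hx.symm).trans (Subgroup.map_mono hTQ₁)
  have hNR : Subgroup.normalizer (R : Set G) ≤ Subgroup.normalizer (Q : Set G) := by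
    intro x hx
    by_contra hcon
    apply hRne
    apply hodd_bot _ hR2
    refine Odd.of_dvd_nat (hQodd x hcon) (Subgroup.card_dvd_of_le ?_)
    refine le_inf hRQ ?_
    rw [Subgroup.mem_normalizer_iff_map_conj_eq] at hx
    exact (le_of_eq hx.symm).trans (Subgroup.map_mono hRQ)
  have hRN₁ : R ≤ Subgroup.normalizer (Q₁ : Set G) := (hRcT.trans (Subgroup.centralizer_le_normalizer _)).trans hNT
  have hTsyl' : H1.Coprime2.IsSylIn 2 (Q₁ ⊓ Subgroup.normalizer (Q : Set G)) T := H37.Syl.iff.mpr ⟨hT, hTsyl.1, hTsyl.2⟩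
  have hTR2 : IsPGroup 2 (T ⊔ R : Subgroup G) := hSsyl.1.to_le (by rw [hTRS]; exact inf_le_left)
  have hTRN : T ⊔ R ≤ Subgroup.normalizer (Q : Set G) := sup_le hTN (hRQ.trans Subgroup.le_normalizer)
  -- Q₁ ∩ TR = T
  have hQ₁TR : Q₁ ⊓ (T ⊔ R) = T := by
    apply H37.Syl.eq_of_le hTsyl' (le_inf hTQ₁ le_sup_left) (inf_le_inf_left _ hTRN) (hTR2.to_le inf_le_right)
  have hQTR : Q ⊓ (R ⊔ T) = R := by
    apply le_antisymm
    · intro x hx
      obtain ⟨r, hr, t, ht, rfl⟩ := H37.Syl.exists_mul_of_mem_sup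
        (hRcT.trans (Subgroup.centralizer_le_normalizer _)) hx.2
      have h2 : t ∈ T ⊓ Q := by
        refine ⟨ht, ?_⟩
        have : t = r⁻¹ * (r * t) := by group
        rw [this]
        exact Subgroup.mul_mem _ (Subgroup.inv_mem _ (hRQ hr)) hx.1
      rw [hTQ, Subgroup.mem_bot] at h2
      rw [h2, mul_one]; exact hr
    · exact le_inf hRQ le_sup_left
  -- claim 1
  have claim1 : (∃ f : T →* R, Function.Injective f) ∨ H1.Coprime2.IsSylIn 2 Q R := by
    by_cases hne : T ⊔ R = S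
    · right
      have : S ⊓ Q = R := by rw [← hne, inf_comm, sup_comm]; exact hQTR
      rw [← this]; exact hSQ
    · left
      exact embed hQodd₁ hTQ₁ hQ₁TR hTR hRcT hTsyl.1 hSsyl.1 hTRS.symm hne
  -- claim 2
  have claim2 : (∃ f : R →* T, Function.Injective f) ∨ H1.Coprime2.IsSylIn 2 Q₁ T := by
    obtain ⟨S₁, hS₁, hle₁⟩ := H37.Syl.exists_ge (p := 2) (K := Q₁ ⊔ R) (U := R ⊔ T)
      (sup_le le_sup_right (hTQ₁.trans le_sup_left)) (by rw [sup_comm]; exact hTR2)
    have hNS₁ : S₁ ⊓ Subgroup.normalizer (R : Set G) = R ⊔ T := by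
      apply le_antisymm
      · intro x hx
        obtain ⟨r, hr, q, hq, rfl⟩ := H37.Syl.exists_mul_of_mem_sup hRN₁ (by rw [sup_comm]; exact hS₁.1 hx.1)
        apply mul_mem (Subgroup.mem_sup_left hr)
        apply Subgroup.mem_sup_right
        have h2 : q = r⁻¹ * (r * q) := by group
        have h3 : q ∈ S₁ ⊓ Subgroup.normalizer (R : Set G) := by
          rw [h2]
          exact Subgroup.mul_mem _ (Subgroup.inv_mem _ (Subgroup.mem_inf.mpr ⟨hle₁ (Subgroup.mem_sup_left hr), Subgroup.le_normalizer hr⟩)) hx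
        have h4 : Q₁ ⊓ (S₁ ⊓ Subgroup.normalizer (R : Set G)) = T := by
          apply H37.Syl.eq_of_le hTsyl'
          · refine le_inf hTQ₁ (le_inf (le_sup_right.trans hle₁) (hTcR.trans (Subgroup.centralizer_le_normalizer _)))
          · exact inf_le_inf_left _ (inf_le_right.trans hNR)
          · exact hS₁.isPGroup.to_le (inf_le_right.trans inf_le_left)
        rw [← h4]
        exact ⟨hq, h3⟩
      · exact sup_le (le_inf (le_sup_left.trans hle₁) Subgroup.le_normalizer)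
          (le_inf (le_sup_right.trans hle₁) (hTcR.trans (Subgroup.centralizer_le_normalizer _)))
    by_cases hne : R ⊔ T = S₁
    · right
      have h5 : H1.Coprime2.IsSylIn 2 Q₁ (S₁ ⊓ Q₁) := H37.Syl.inf_of_normal hS₁ le_sup_left
        (sup_le Subgroup.le_normalizer hRN₁)
      have : S₁ ⊓ Q₁ = T := by rw [← hne, inf_comm, sup_comm]; exact hQ₁TR
      rw [← this]; exact h5
    · left
      exact embed hQodd hRQ hQTR (by rw [inf_comm]; exact hTR) hTcR hR2 hS₁.isPGroup hNS₁ hne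
  have hcardQ : Nat.card Q₁ = Nat.card Q := Subgroup.card_map_of_injective (MulAut.conj g).injective
  have hcards : ∀ {K U V : Subgroup G}, H1.Coprime2.IsSylIn 2 K U → IsPGroup 2 V → Nat.card V ∣ Nat.card K →
      Nat.card V ≤ Nat.card U := by
    intro K U V hU hV hVK
    obtain ⟨k, hk⟩ := IsPGroup.iff_card.mp hV
    rw [hU.2, hk]
    rw [hk] at hVK
    exact Nat.pow_le_pow_right (by norm_num) ((Nat.prime_two.pow_dvd_iff_le_factorization Nat.card_pos.ne').mp hVK)
  rcases claim1 with ⟨f, hf⟩ | h1 <;> rcases claim2 with ⟨f', hf'⟩ | h2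
  · exact equiv_of_inj f' hf' (Nat.card_le_card_of_injective f hf)
  · obtain ⟨e⟩ := equiv_of_inj f hf (hcards h2 hR2 (by rw [hcardQ]; exact Subgroup.card_dvd_of_le hRQ))
    exact ⟨e.symm⟩
  · exact equiv_of_inj f' hf' (hcards h1 hTsyl.1 (by rw [← hcardQ]; exact Subgroup.card_dvd_of_le hTQ₁))
  · exact H37.Syl.mulEquiv_of_conj h1 h2

end Cfsg.Agent.S1910
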