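import Cfsg.Statements.S1915
import Cfsg.Agent.Lib.H68.FourOp5
import Cfsg.Agent.Lib.H26.Components

set_option autoImplicit false
open Cfsg

namespace Cfsg.Agent.S1915

/-- Let A be a semisimple subgroup (A = E(A)) of a finite group and U a Klein four-group normalizing A. If the subgroup of A generated by the normalizers N_A(V) of the nontrivial subgroups V of U has 2-rank exactly 1, then A has 2-rank exactly 1. -/
theorem result {G : Type*} [Group G] [Finite G] (A : Subgroup G) (hA : Cfsg.layer ↥A = ⊤)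
    (U : Subgroup G) (hU : IsKleinFour U) (hUA : U ≤ Subgroup.normalizer (A : Set G))
    (hΓ : Cfsg.PRankLE 2 1 ↥(⨆ V : {V : Subgroup G // V ≤ U ∧ V ≠ ⊥}, A ⊓ Subgroup.normalizer ((V : Subgroup G) : Set G)) ∧
      ¬ Cfsg.PRankLE 2 0 ↥(⨆ V : {V : Subgroup G // V ≤ U ∧ V ≠ ⊥}, A ⊓ Subgroup.normalizer ((V : Subgroup G) : Set G))) :
    Cfsg.PRankLE 2 1 A ∧ ¬ Cfsg.PRankLE 2 0 A := by
  obtain ⟨Γ, hΓe⟩ : ∃ Γ, Γ = (⨆ V : {V : Subgroup G // V ≤ U ∧ V ≠ ⊥}, A ⊓ Subgroup.normalizer ((V : Subgroup G) : Set G)) :=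
    ⟨_, rfl⟩
  rw [← hΓe] at hΓ
  obtain ⟨hΓ1, hΓ0⟩ := hΓ
  have hΓA : Γ ≤ A := by
    rw [hΓe]
    exact iSup_le fun V => inf_le_left
  have hperf : commutator A = ⊤ := by
    have h1 := H26.Components.commutator_layer_self (G := A)
    rw [hA] at h1
    rw [commutator_def]
    exact h1
  have hA2 : ∀ M : Subgroup A, M.index ≠ 2 := by
    intro M h
    haveI : M.Normal := Subgroup.normal_of_index_eq_two h
    have hA : Nat.card (A ⧸ M) = 2 := h
    haveI : Fact (Nat.Prime 2) := ⟨Nat.prime_two⟩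
    haveI : IsCyclic (A ⧸ M) := isCyclic_of_prime_card (p := 2) hA
    letI : CommGroup (A ⧸ M) := IsCyclic.commGroup
    have h1 : commutator A ≤ (QuotientGroup.mk' M).ker := Abelianization.commutator_subset_ker _
    rw [QuotientGroup.ker_mk', hperf, top_le_iff] at h1
    rw [h1, Subgroup.index_top] at h
    omega
  have hfix : ∀ u ∈ U, u ≠ 1 → ∀ V : Subgroup G, V ≤ A → IsKleinFour V →
      ¬ (∀ v ∈ V, u * v = v * u) := by
    intro u hu hu1 V hVA hV hc
    have hVΓ : V ≤ Γ := by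
      intro v hv
      rw [hΓe]
      have h1 : Subgroup.zpowers u ≤ U := by rw [Subgroup.zpowers_le]; exact hu
      have h2 : Subgroup.zpowers u ≠ ⊥ := by
        intro h; exact hu1 (Subgroup.zpowers_eq_bot.1 h)
      refine (le_iSup (fun V : {V : Subgroup G // V ≤ U ∧ V ≠ ⊥} =>
        A ⊓ Subgroup.normalizer ((V : Subgroup G) : Set G)) ⟨Subgroup.zpowers u, h1, h2⟩) ?_
      refine Subgroup.mem_inf.2 ⟨hVA hv, ?_⟩
      have hcv : ∀ i : ℤ, v * u ^ i * v⁻¹ = u ^ i := by
        intro i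
        have : v * u ^ i = u ^ i * v := ((show Commute u v from hc v hv).zpow_left i).eq.symm
        rw [this]; group
      rw [Subgroup.mem_normalizer_iff]
      intro x
      constructor
      · intro hx
        obtain ⟨i, rfl⟩ := Subgroup.mem_zpowers_iff.1 hx
        rw [hcv]; exact hx
      · intro hx
        obtain ⟨i, hi⟩ := Subgroup.mem_zpowers_iff.1 hx
        have h3 : x = u ^ i := by
          have h4 := hcv i
          have h5 : v * x * v⁻¹ = v * u ^ i * v⁻¹ := by rw [h4, hi]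
          exact mul_left_cancel (mul_right_cancel h5)
        rw [h3]
        exact Subgroup.mem_zpowers_iff.2 ⟨i, rfl⟩
    have h4 := H68.FourOp.klein_subgroupOf hVΓ hV
    have h5 : Nat.card (V.subgroupOf Γ) ≤ 2 ^ 1 := by
      refine hΓ1 (V.subgroupOf Γ) ?_ ?_
      · refine ⟨⟨fun x y => ?_⟩⟩
        haveI := h4
        have hsq : ∀ x : V.subgroupOf Γ, x * x = 1 := fun x => IsKleinFour.mul_self x
        have h1 : x⁻¹ = x := inv_eq_of_mul_eq_one_right (hsq x)
        have h2 : y⁻¹ = y := inv_eq_of_mul_eq_one_right (hsq y)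
        have h3 : (x * y)⁻¹ = x * y := inv_eq_of_mul_eq_one_right (hsq _)
        rw [← h3, mul_inv_rev, h1, h2]
      · intro x hx
        haveI := h4
        rw [pow_two]
        exact congrArg Subtype.val (IsKleinFour.mul_self (⟨x, hx⟩ : V.subgroupOf Γ))
    rw [h4.card_four] at h5
    norm_num at h5
  refine ⟨?_, ?_⟩
  · intro B hB hB2
    by_contra hcard
    rw [not_le, pow_one] at hcard
    have h1 : 2 < (B : Set A).ncard := by rw [← Nat.card_coe_set_eq]; exact hcard
    obtain ⟨a, b, ha, hb, ha1, hb1, hab⟩ : ∃ a b : A, a ∈ B ∧ b ∈ B ∧ a ≠ 1 ∧ b ≠ 1 ∧ a ≠ b := by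
      obtain ⟨a, b, c, ha, hb, hc, hab, hac, hbc⟩ := (Set.two_lt_ncard_iff (Set.toFinite _)).1 h1
      by_cases ha1 : a = 1
      · exact ⟨b, c, hb, hc, fun h => hab (ha1.trans h.symm), fun h => hac (ha1.trans h.symm), hbc⟩
      · by_cases hb1 : b = 1
        · exact ⟨a, c, ha, hc, ha1, fun h => hbc (hb1.trans h.symm), hac⟩
        · exact ⟨a, b, ha, hb, ha1, hb1, hab⟩
    have hp : H17.FourGrp.IsPair a b := ⟨ha1, hb1, hab, by rw [← pow_two]; exact hB2 a ha,
      by rw [← pow_two]; exact hB2 b hb, congrArg Subtype.val (hB.is_comm.comm (⟨a, ha⟩ : B) ⟨b, hb⟩)⟩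
    exact H68.FourOp.main A U hUA hU hA2 hfix ((H17.FourGrp.four a b hp).map A.subtype)
      (Subgroup.map_subtype_le _) (H68.FourOp.klein_map _ A.subtype_injective
        (H17.FourGrp.isKlein_four hp))
  · intro h0
    apply hΓ0
    intro B hB hB2
    have h1 := h0 (B.map (Subgroup.inclusion hΓA)) (by
      refine ⟨⟨?_⟩⟩
      rintro ⟨_, x, hx, rfl⟩ ⟨_, y, hy, rfl⟩
      apply Subtype.ext
      have h2 : x * y = y * x := congrArg Subtype.val (hB.is_comm.comm (⟨x, hx⟩ : B) ⟨y, hy⟩)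
      change Subgroup.inclusion hΓA x * Subgroup.inclusion hΓA y =
        Subgroup.inclusion hΓA y * Subgroup.inclusion hΓA x
      rw [← map_mul, h2, map_mul]) (by
      rintro _ ⟨x, hx, rfl⟩
      rw [← map_pow, hB2 x hx, map_one])
    rw [Subgroup.card_map_of_injective (Subgroup.inclusion_injective hΓA)] at h1
    exact h1

end Cfsg.Agent.S1915
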