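import Cfsg.Statements.S1921
import Cfsg.Agent.Lib.H26.Components
import Cfsg.Agent.Lib.H38.Basic
open H38.Basic H26.Basic H26.Components

set_option autoImplicit false
open Cfsg

namespace Cfsg.Agent.S1921

/-- Let a be an involution of a finite group H and L a component of H with a L a⁻¹ ≠ L; put M = ⟨L, aLa⁻¹⟩ and let J be the subgroup generated by the elements x · a x a⁻¹ with x ∈ L (the diagonal). Then every element of M outside J·Z(M) generates M together with J. -/
theorem result {H : Type*} [Group H] [Finite H] (a : H) (ha : orderOf a = 2) (L : Subgroup H) (hL : Cfsg.IsComponent L)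
    (hLa : L.map (MulAut.conj a).toMonoidHom ≠ L) (x : H) (hxM : x ∈ L ⊔ L.map (MulAut.conj a).toMonoidHom)
    (hxJ : x ∉ Subgroup.closure {y : H | ∃ l ∈ L, y = l * (a * l * a⁻¹)} ⊔
      ((L ⊔ L.map (MulAut.conj a).toMonoidHom) ⊓ Subgroup.centralizer ((L ⊔ L.map (MulAut.conj a).toMonoidHom : Subgroup H) : Set H))) :
    Subgroup.closure {y : H | ∃ l ∈ L, y = l * (a * l * a⁻¹)} ⊔ Subgroup.zpowers x = L ⊔ L.map (MulAut.conj a).toMonoidHom := by
  set f : H →* H := (MulAut.conj a).toMonoidHom with hf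
  have hfa : ∀ w : H, f w = a * w * a⁻¹ := fun w => rfl
  set J := Subgroup.closure {y : H | ∃ l ∈ L, y = l * (a * l * a⁻¹)} with hJ
  set M := L ⊔ L.map f with hM
  have hLa' : IsComponent (L.map f) := (map_conj_iff a).2 hL
  have hcomm : ⁅L, L.map f⁆ = ⊥ := commutator_eq_bot_of_ne hL hLa' (fun h => hLa h.symm)
  have hjmem : ∀ l ∈ L, l * (a * l * a⁻¹) ∈ J := fun l hl => Subgroup.subset_closure ⟨l, hl, rfl⟩
  have hJM : J ≤ M := by
    rw [hJ, Subgroup.closure_le]
    rintro _ ⟨l, hl, rfl⟩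
    exact M.mul_mem (Subgroup.mem_sup_left hl) (Subgroup.mem_sup_right ⟨l, hl, rfl⟩)
  obtain ⟨u, hu, v, ⟨w, hw, rfl⟩, huv⟩ := (mem_sup_of_commutator_eq_bot hcomm).1 hxM
  rw [hfa] at huv
  have hw' : w ∈ L := hw
  set y := u * w⁻¹ with hy
  have hyL : y ∈ L := L.mul_mem hu (L.inv_mem hw')
  have hxy : x = y * (w * (a * w * a⁻¹)) := by rw [← huv, hy]; group
  set X := J ⊔ Subgroup.zpowers x with hX
  have hyX : y ∈ X := by
    have : y = x * (w * (a * w * a⁻¹))⁻¹ := by rw [hxy]; group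
    rw [this]
    exact X.mul_mem (Subgroup.mem_sup_right (Subgroup.mem_zpowers x))
      (X.inv_mem (Subgroup.mem_sup_left (hjmem w hw')))
  have hconj : ∀ l ∈ L, l * y * l⁻¹ ∈ X := by
    intro l hl
    have h1 : y * (a * l * a⁻¹) = (a * l * a⁻¹) * y :=
      commute_of_commutator_eq_bot hcomm hyL ⟨l, hl, rfl⟩
    have h2 : l * y * l⁻¹ = (l * (a * l * a⁻¹)) * y * (l * (a * l * a⁻¹))⁻¹ := by
      have : (l * (a * l * a⁻¹)) * y * (l * (a * l * a⁻¹))⁻¹ = l * ((a * l * a⁻¹) * y) * (a * l * a⁻¹)⁻¹ * l⁻¹ := by group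
      rw [this, ← h1]; group
    rw [h2]
    have h3 : l * (a * l * a⁻¹) ∈ X := Subgroup.mem_sup_left (hjmem l hl)
    exact X.mul_mem (X.mul_mem h3 hyX) (X.inv_mem h3)
  set N := Subgroup.closure {n : H | ∃ l ∈ L, n = l * y * l⁻¹} with hN
  have hNX : N ≤ X := by
    rw [hN, Subgroup.closure_le]
    rintro _ ⟨l, hl, rfl⟩; exact hconj l hl
  have hNL : N ≤ L := by
    rw [hN, Subgroup.closure_le]
    rintro _ ⟨l, hl, rfl⟩; exact L.mul_mem (L.mul_mem hl hyL) (L.inv_mem hl)
  have hyN : y ∈ N := Subgroup.subset_closure ⟨1, L.one_mem, by group⟩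
  have hLN : L ≤ Subgroup.normalizer (N : Set H) := by
    intro l hl
    rw [mem_normalizer_iff']
    refine Subgroup.eq_of_le_of_card_ge ?_ (by rw [card_conj])
    rw [hN, MonoidHom.map_closure, Subgroup.closure_le]
    rintro _ ⟨_, ⟨m, hm, rfl⟩, rfl⟩
    exact Subgroup.subset_closure ⟨l * m, L.mul_mem hl hm, by
      show l * (m * y * m⁻¹) * l⁻¹ = _
      group⟩
  have hNn : (N.subgroupOf L).Normal := by
    refine ⟨fun n hn g => ?_⟩
    rw [Subgroup.mem_subgroupOf] at hn ⊢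
    exact (Subgroup.mem_normalizer_iff.1 (hLN g.2) n).1 hn
  have hLX : L ≤ X := by
    rcases normal_eq_or_le_center_of_le hL.2 hNn hNL with h | h
    · rw [← h]; exact hNX
    · exfalso
      apply hxJ
      rw [hxy]
      refine Subgroup.mul_mem _ (Subgroup.mem_sup_right ⟨Subgroup.mem_sup_left hyL, ?_⟩)
        (Subgroup.mem_sup_left (hjmem w hw'))
      refine Subgroup.mem_centralizer_iff.2 ?_
      intro m hm
      obtain ⟨b, hb, c, hc, rfl⟩ := (mem_sup_of_commutator_eq_bot hcomm).1 hm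
      have e1 : y * b = b * y := commute_of_commutator_eq_bot h hyN hb
      have e2 : y * c = c * y := commute_of_commutator_eq_bot hcomm hyL hc
      rw [mul_assoc, ← e2, ← mul_assoc, ← e1, mul_assoc]
  apply le_antisymm
  · exact sup_le hJM (by rw [Subgroup.zpowers_le]; exact hxM)
  · apply sup_le hLX
    rintro _ ⟨l, hl, rfl⟩
    rw [hfa]
    have : a * l * a⁻¹ = l⁻¹ * (l * (a * l * a⁻¹)) := by group
    rw [this]
    exact X.mul_mem (X.inv_mem (hLX hl)) (Subgroup.mem_sup_left (hjmem l hl))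

end Cfsg.Agent.S1921
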