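import Cfsg.Statements.S1922
import Cfsg.Agent.Lib.H38.Involution
import Cfsg.Agent.Lib.H38.Basic
import Cfsg.Agent.Lib.H42.Pronormal
import Cfsg.Agent.Lib.H72.ClassSize
open H38.Basic

set_option autoImplicit false
open Cfsg

namespace Cfsg.Agent.S1922

/-- Let z be an involution of a finite group G and H a proper subgroup such that z lies in gHg⁻¹ exactly when g ∈ H. Then the following are equivalent: (1) for every conjugate t ≠ z of z commuting with z, the product zt lies in gHg⁻¹ exactly when g ∈ H; (2) z lies in the centre of some Sylow 2-subgroup of G, and for every conjugate t ≠ z of z commuting with z, the centralizer of zt is contained in H. -/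
theorem result {G : Type*} [Group G] [Finite G] (z : G) (hz : orderOf z = 2) (H : Subgroup G) (hH : H ≠ ⊤)
    (h0 : ∀ g : G, z ∈ H.map (MulAut.conj g).toMonoidHom ↔ g ∈ H) :
    (∀ t : G, IsConj z t → t ≠ z → t * z = z * t → ∀ g : G, z * t ∈ H.map (MulAut.conj g).toMonoidHom ↔ g ∈ H) ↔
      ((∃ P : Sylow 2 G, z ∈ (Subgroup.center ↥(P : Subgroup G)).map (P : Subgroup G).subtype) ∧
        ∀ t : G, IsConj z t → t ≠ z → t * z = z * t → Subgroup.centralizer ({z * t} : Set G) ≤ H) := by
  have hz1 : z ≠ 1 := by rintro rfl; simp at hz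
  have hzz : z * z = 1 := by rw [← pow_two, ← hz, pow_orderOf_eq_one]
  have : Fact (Nat.Prime 2) := ⟨Nat.prime_two⟩
  have hfixH : ∀ w g : G, w • ((g : G) : G ⧸ H) = ((g : G) : G ⧸ H) ↔ w ∈ H.map (MulAut.conj g).toMonoidHom := by
    intro w g
    rw [mem_conj, MulAction.Quotient.smul_coe, eq_comm, QuotientGroup.eq, smul_eq_mul, ← mul_assoc]
  set o : G ⧸ H := ((1 : G) : G ⧸ H) with ho
  have hgo : ∀ g : G, ((g : G) : G ⧸ H) = o ↔ g ∈ H := by
    intro g
    rw [ho, eq_comm, QuotientGroup.eq, inv_one, one_mul]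
  have hz0 : ∀ ω : G ⧸ H, z • ω = ω ↔ ω = o := by
    intro ω
    obtain ⟨g, rfl⟩ := QuotientGroup.mk_surjective ω
    rw [hfixH, h0, ← hgo]
  have hcz : Subgroup.centralizer ({z} : Set G) ≤ H := by
    intro g hg
    rw [← h0, mem_conj]
    rw [Subgroup.mem_centralizer_singleton_iff] at hg
    have : g⁻¹ * z * g = z := by rw [mul_assoc, ← hg]; group
    rw [this]
    exact (by simpa using (h0 1).2 H.one_mem)
  constructor
  · intro h1
    have hcw : ∀ t : G, IsConj z t → t ≠ z → t * z = z * t → Subgroup.centralizer ({z * t} : Set G) ≤ H := by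
      intro t ht htz hc g hg
      rw [← h1 t ht htz hc, mem_conj]
      rw [Subgroup.mem_centralizer_singleton_iff] at hg
      have : g⁻¹ * (z * t) * g = z * t := by rw [mul_assoc, ← hg]; group
      rw [this]
      exact (by simpa using (h1 t ht htz hc 1).2 H.one_mem)
    refine ⟨?_, hcw⟩
    have hodd := H38.Involution.odd_class (Ω := G ⧸ H) (z := z) (o := o) hzz hz0 (by
      intro t ht htz hc ω hω
      obtain ⟨g, rfl⟩ := QuotientGroup.mk_surjective ω
      rw [hfixH, h1 t ht htz hc, ← hgo] at hω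
      exact hω) (by
      by_contra hcon
      push Not at hcon
      apply hH
      rw [eq_top_iff]
      intro g _
      exact (hgo g).1 (hcon _))
    rw [← H72.ClassSize.index_eq_card_conj] at hodd
    obtain ⟨P, hP⟩ := (H72.ClassSize.not_dvd_index_iff 2 z).1 (by
      rw [← even_iff_two_dvd, Nat.not_even_iff_odd]; exact hodd)
    refine ⟨P, ?_⟩
    have hcomm : ∀ x ∈ (P : Subgroup G), x * z = z * x := fun x hx => by
      have := hP hx
      rwa [Subgroup.mem_centralizer_singleton_iff] at this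
    have hzP : z ∈ (P : Subgroup G) := by
      have hpz : IsPGroup 2 ↥(Subgroup.zpowers z) := IsPGroup.of_card (n := 1) (by
        rw [Nat.card_zpowers, hz, pow_one])
      have h2 : IsPGroup 2 ↥((P : Subgroup G) ⊔ Subgroup.zpowers z) := by
        refine P.isPGroup'.to_sup_of_normal_right' hpz ?_
        intro x hx
        rw [mem_normalizer_iff', MonoidHom.map_zpowers]
        have : (MulAut.conj x).toMonoidHom z = z := by
          show x * z * x⁻¹ = z
          rw [hcomm x hx]; group
        rw [this]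
      have h3 := P.is_maximal' h2 le_sup_left
      rw [← h3]
      exact Subgroup.mem_sup_right (Subgroup.mem_zpowers z)
    exact ⟨⟨z, hzP⟩, Subgroup.mem_center_iff.2 (fun x => Subtype.ext (hcomm x.1 x.2)), rfl⟩
  · rintro ⟨⟨P, hP⟩, h2⟩ t ht htz hc
    obtain ⟨⟨z', hz'P⟩, hz'c, hz'⟩ := hP
    obtain rfl : z' = z := hz'
    have hcomm : ∀ x ∈ (P : Subgroup G), x * z' = z' * x := fun x hx =>
      congrArg Subtype.val (Subgroup.mem_center_iff.1 hz'c ⟨x, hx⟩)
    have hPH : (P : Subgroup G) ≤ H := fun x hx => hcz (by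
      rw [Subgroup.mem_centralizer_singleton_iff]; exact hcomm x hx)
    have hidx : ¬ 2 ∣ H.index := fun h => P.not_dvd_index (h.trans (Subgroup.index_dvd_of_le hPH))
    have hwH : z' * t ∈ H := h2 t ht htz hc (by rw [Subgroup.mem_centralizer_singleton_iff])
    intro g
    constructor
    · intro hg
      have htt : t * t = 1 := by
        obtain ⟨c, rfl⟩ := isConj_iff.1 ht
        calc c * z' * c⁻¹ * (c * z' * c⁻¹) = c * (z' * z') * c⁻¹ := by group
          _ = 1 := by rw [hzz]; group
      have hw2 : (z' * t) ^ 2 = 1 := by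
        rw [pow_two]
        calc z' * t * (z' * t) = z' * (t * z') * t := by group
          _ = (z' * z') * (t * t) := by rw [hc]; group
          _ = 1 := by rw [hzz, htt, one_mul]
      have hpw : IsPGroup 2 ↥(Subgroup.zpowers (z' * t)) := by
        rintro ⟨_, i, rfl⟩
        refine ⟨1, Subtype.ext ?_⟩
        show ((z' * t) ^ i) ^ 2 ^ 1 = 1
        rw [pow_one, ← zpow_natCast, ← zpow_mul, mul_comm, zpow_mul, zpow_natCast, hw2, one_zpow]
      have hPg : IsSyl 2 ((P : Subgroup G).map (MulAut.conj g).toMonoidHom) (H.map (MulAut.conj g).toMonoidHom) := by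
        have := ((isSyl_sylow P).conj g).of_le (conj_mono hPH g) (conj_mono le_top g)
        exact this
      obtain ⟨k, hk, hkw⟩ := hPg.exists_conj_le hpw (by rw [Subgroup.zpowers_le]; exact hg)
      have hkw' : k * (z' * t) * k⁻¹ ∈ (P : Subgroup G).map (MulAut.conj g).toMonoidHom :=
        hkw ⟨_, Subgroup.mem_zpowers _, rfl⟩
      rw [mem_conj] at hkw'
      have h3 := hcomm _ hkw'
      -- `z'` conjugated by `k⁻¹ g` commutes with `z' t`
      have h4 : (k⁻¹ * g) * z' * (k⁻¹ * g)⁻¹ ∈ Subgroup.centralizer ({z' * t} : Set G) := by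
        rw [Subgroup.mem_centralizer_singleton_iff]
        calc (k⁻¹ * g) * z' * (k⁻¹ * g)⁻¹ * (z' * t)
            = (k⁻¹ * g) * (z' * (g⁻¹ * (k * (z' * t) * k⁻¹) * g)) * (k⁻¹ * g)⁻¹ := by group
          _ = (k⁻¹ * g) * ((g⁻¹ * (k * (z' * t) * k⁻¹) * g) * z') * (k⁻¹ * g)⁻¹ := by rw [h3]
          _ = _ := by group
      have h5 := h2 t ht htz hc h4
      have h6 : g⁻¹ * k ∈ H := by
        rw [← h0, mem_conj]
        have e : (g⁻¹ * k)⁻¹ * z' * (g⁻¹ * k) = k⁻¹ * g * z' * (k⁻¹ * g)⁻¹ := by group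
        rw [e]; exact h5
      rw [mem_conj] at hk
      have h9 : g = (g⁻¹ * k)⁻¹ * (g⁻¹ * k * g) := by group
      rw [h9]
      exact H.mul_mem (H.inv_mem h6) hk
    · intro hg
      rw [conj_eq_of_mem hg]; exact hwH

end Cfsg.Agent.S1922
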