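import Cfsg.Statements.S1936
import Cfsg.Agent.Lib.H69.PPA5
import Cfsg.Agent.Lib.H69.PPA6
import Cfsg.Agent.Lib.H4.Burnside
import Cfsg.Agent.Lib.H29.OddFinal

set_option autoImplicit false
set_option linter.all false
open Cfsg

namespace Cfsg.Agent.S1936

open Subgroup H69.PPA

universe u

def Hyp (p : ℕ) (G : Type*) [Group G] : Prop :=
  ∀ H : Subgroup G, (Nat.card ↥H).Coprime p → IsMulCommutative ↥H ∧ ∀ x ∈ H, x ^ (p - 1) = 1

theorem Hyp.subgroup {p : ℕ} {G : Type*} [Group G] (h : Hyp p G) (K : Subgroup G) : Hyp p K := by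
  intro H hH
  have h1 := h (H.map K.subtype) (by rwa [card_map_of_injective K.subtype_injective])
  refine ⟨⟨⟨fun a b => ?_⟩⟩, ?_⟩
  · apply Subtype.ext
    apply Subtype.ext
    have h2 := congrArg Subtype.val
      (h1.1.is_comm.comm ⟨_, mem_map_of_mem K.subtype a.2⟩ ⟨_, mem_map_of_mem K.subtype b.2⟩)
    exact h2
  · intro x hx
    apply Subtype.ext
    exact h1.2 x (mem_map_of_mem K.subtype hx)

theorem solvable_of_quot {G : Type*} [Group G] (N : Subgroup G) [N.Normal] (h1 : Group.IsSolvable N)
    (h2 : Group.IsSolvable (G ⧸ N)) : Group.IsSolvable G := by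
  refine solvable_of_ker_le_range N.subtype (QuotientGroup.mk' N) ?_
  rw [QuotientGroup.ker_mk', Subgroup.range_subtype]

theorem solvable_of_comm {G : Type*} [Group G] {H : Subgroup G} (h : IsMulCommutative H) : Group.IsSolvable H :=
  Group.isSolvable_of_comm fun a b => h.is_comm.comm a b

/-- the quotient is a `p'`-group -/
theorem quot_coprime {p : ℕ} [hp : Fact p.Prime] {G : Type u} [Group G] [Finite G] (h : Hyp p G)
    (hsub : ∀ K : Subgroup G, K ≠ ⊤ → Group.IsSolvable K) (N : Subgroup G) [N.Normal] (hN : N ≠ ⊤)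
    (hc : (Nat.card (G ⧸ N)).Coprime p) : Group.IsSolvable G := by
  obtain ⟨P⟩ : Nonempty (Sylow p N) := inferInstance
  set Q := (P : Subgroup N).map N.subtype with hQ
  have hfr : normalizer (Q : Set G) ⊔ N = ⊤ := P.normalizer_sup_eq_top
  by_cases hQn : normalizer (Q : Set G) = ⊤
  · haveI : Q.Normal := normalizer_eq_top_iff.1 hQn
    have hQp : IsPGroup p Q := P.isPGroup'.map _
    have hidx : (Q.index).Coprime p := by
      have h1 : Q.relIndex N * N.index = Q.index := relIndex_mul_index (map_subtype_le _)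
      rw [← h1]
      apply Nat.Coprime.mul_left
      · have h2 : Q.relIndex N = (P : Subgroup N).index := by
          rw [relIndex, hQ, subgroupOf, comap_map_eq_self_of_injective N.subtype_injective]
        rw [h2]
        exact ((Nat.Prime.coprime_iff_not_dvd hp.out).2 P.not_dvd_index).symm
      · rw [index_eq_card]; exact hc
    obtain ⟨n, hn⟩ := IsPGroup.iff_card.mp hQp
    obtain ⟨H, hH⟩ := exists_right_complement'_of_coprime (N := Q) (by
      rw [hn]; exact (Nat.Coprime.pow_left _ hidx.symm))
    have hHc : Nat.card H = Q.index := hH.symm.index_eq_card.symm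
    have hHs := solvable_of_comm (h H (by rw [hHc]; exact hidx)).1
    haveI := hQp.isNilpotent
    have hQs : Group.IsSolvable Q := inferInstance
    apply solvable_of_quot Q hQs
    have hsurj : Function.Surjective ((QuotientGroup.mk' Q).comp H.subtype) := by
      intro x
      obtain ⟨g, rfl⟩ := QuotientGroup.mk_surjective x
      obtain ⟨⟨q, k⟩, hqk⟩ := hH.2 g
      refine ⟨k, ?_⟩
      have h3 : (q : G) * k = g := hqk
      show ((k : G) : G ⧸ Q) = (g : G ⧸ Q)
      rw [← h3, QuotientGroup.mk_mul, (QuotientGroup.eq_one_iff (q : G)).2 q.2, one_mul]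
    exact Group.isSolvable_of_surjective hsurj
  · have hs := hsub _ hQn
    apply solvable_of_quot N (hsub N hN)
    have hsurj : Function.Surjective ((QuotientGroup.mk' N).comp (normalizer (Q : Set G)).subtype) := by
      intro x
      obtain ⟨g, rfl⟩ := QuotientGroup.mk_surjective x
      have hg : g ∈ normalizer (Q : Set G) ⊔ N := by rw [hfr]; trivial
      obtain ⟨a, ha, b, hb, hab⟩ := Subgroup.mem_sup_of_normal_right.1 hg
      refine ⟨⟨a, ha⟩, ?_⟩
      show ((a : G) : G ⧸ N) = (g : G ⧸ N)
      rw [← hab, QuotientGroup.mk_mul, (QuotientGroup.eq_one_iff b).2 hb, mul_one]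
    exact Group.isSolvable_of_surjective hsurj

/-- the hypothesis passes to quotients which are not `p'`-groups -/
theorem Hyp.quot {p : ℕ} [hp : Fact p.Prime] {G : Type u} [Group G] [Finite G] (h : Hyp p G)
    (hsub : ∀ K : Subgroup G, K ≠ ⊤ → Group.IsSolvable K) (N : Subgroup G) [N.Normal]
    (hc : ¬ (Nat.card (G ⧸ N)).Coprime p) : Hyp p (G ⧸ N) := by
  intro Kb hKb
  set K := Kb.comap (QuotientGroup.mk' N) with hK
  have hKt : K ≠ ⊤ := by
    intro h1
    apply hc
    have h2 : Kb = ⊤ := by
      rw [← map_comap_eq_self_of_surjective (QuotientGroup.mk'_surjective N) Kb, ← hK, h1, ← MonoidHom.range_eq_map,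
        QuotientGroup.range_mk']
    rw [h2, card_top] at hKb
    exact hKb
  have hKs := hsub K hKt
  -- a Hall `p'`-subgroup of `K`
  obtain ⟨k, m, hm, hkm⟩ := Nat.exists_eq_pow_mul_and_not_dvd (Nat.card_pos (α := K)).ne' p hp.out.ne_one
  have hmc : m.Coprime p := ((Nat.Prime.coprime_iff_not_dvd hp.out).2 hm).symm
  obtain ⟨H, hH⟩ := H1.Hall.exists_card_eq hKs m (p ^ k) (by rw [hkm, mul_comm]) (Nat.Coprime.pow_right _ hmc)
  set H' := H.map K.subtype with hH'
  have hH'c : (Nat.card H').Coprime p := by
    rw [hH', card_map_of_injective K.subtype_injective, hH]; exact hmc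
  have hH'K : H' ≤ K := map_subtype_le _
  obtain ⟨hcomm, hexp⟩ := h H' hH'c
  -- its image is `Kb`
  have hle : H'.map (QuotientGroup.mk' N) ≤ Kb := by
    rw [map_le_iff_le_comap]; exact hH'K
  have himg : H'.map (QuotientGroup.mk' N) = Kb := by
    set f : K →* Kb := (QuotientGroup.mk' N).subgroupComap Kb with hf
    have hfs : Function.Surjective f := (QuotientGroup.mk' N).subgroupComap_surjective_of_surjective Kb
      (QuotientGroup.mk'_surjective N)
    have h1 : (H.map f).index ∣ H.index := index_map_dvd H hfs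
    have h2 : H.index = p ^ k := by
      have h3 := H.index_mul_card
      rw [hH, hkm] at h3
      have hmpos : 0 < m := Nat.pos_of_ne_zero (by rintro rfl; simp at hm)
      exact Nat.eq_of_mul_eq_mul_right hmpos h3
    rw [h2] at h1
    have h3 : (H.map f).index ∣ Nat.card Kb := index_dvd_card _
    have h4 : (H.map f).index = 1 := by
      exact Nat.Coprime.eq_one_of_dvd
        (Nat.Coprime.coprime_dvd_left h3 (Nat.Coprime.coprime_dvd_right h1 (Nat.Coprime.pow_right _ hKb))) dvd_rfl
    rw [index_eq_one] at h4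
    apply le_antisymm hle
    intro x hx
    have h5 : (⟨x, hx⟩ : Kb) ∈ H.map f := by rw [h4]; trivial
    obtain ⟨y, hy, hyx⟩ := h5
    exact ⟨y, ⟨y, hy, rfl⟩, congrArg Subtype.val hyx⟩
  refine ⟨⟨⟨fun a b => ?_⟩⟩, ?_⟩
  · apply Subtype.ext
    obtain ⟨a, ha⟩ := a
    obtain ⟨b, hb⟩ := b
    rw [← himg] at ha hb
    obtain ⟨x, hx, rfl⟩ := ha
    obtain ⟨y, hy, rfl⟩ := hb
    have h1 : x * y = y * x := congrArg Subtype.val (hcomm.is_comm.comm ⟨x, hx⟩ ⟨y, hy⟩)
    show (QuotientGroup.mk' N) x * (QuotientGroup.mk' N) y = (QuotientGroup.mk' N) y * (QuotientGroup.mk' N) x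
    rw [← map_mul, h1, map_mul]
  · intro a ha
    rw [← himg] at ha
    obtain ⟨x, hx, rfl⟩ := ha
    rw [← map_pow, hexp x hx, map_one]

theorem main {p : ℕ} [hp : Fact p.Prime] (n : ℕ) : ∀ (G : Type u) [Group G] [Finite G], Nat.card G = n →
    Hyp p G → Group.IsSolvable G := by
  induction n using Nat.strong_induction_on with
  | _ n ih =>
  intro G _ _ hn h
  have hsub : ∀ K : Subgroup G, K ≠ ⊤ → Group.IsSolvable K := by
    intro K hK
    refine ih (Nat.card K) ?_ K rfl (h.subgroup K)
    rw [← hn]
    apply lt_of_le_of_ne (Subgroup.card_le_card_group K)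
    intro h1
    exact hK (Subgroup.eq_top_of_card_eq K h1)
  -- `p'`-elements
  have helem : ∀ x : G, ¬ p ∣ orderOf x → x ^ (p - 1) = 1 := by
    intro x hx
    exact (h (zpowers x) (coprime_zpowers hx)).2 x (mem_zpowers x)
  have hprime : ∀ q : ℕ, q.Prime → q ∣ Nat.card G → q ≠ p → q ∣ p - 1 := by
    intro q hq hqd hqp
    haveI : Fact q.Prime := ⟨hq⟩
    obtain ⟨x, hx⟩ := exists_prime_orderOf_dvd_card' q hqd
    rw [← hx]
    apply orderOf_dvd_of_pow_eq_one
    apply helem
    rw [hx]
    intro h1
    exact hqp ((Nat.prime_dvd_prime_iff_eq hp.out hq).1 h1).symm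
  by_cases hp5 : 5 ≤ p
  · by_cases hodd : Odd (Nat.card G)
    · exact H29.OddFinal.odd_order hodd
    rw [Nat.not_odd_iff_even, even_iff_two_dvd] at hodd
    by_cases hs : IsSimpleGroup G
    · by_cases hc : IsMulCommutative G
      · exact Group.isSolvable_of_comm fun a b => hc.is_comm.comm a b
      · exfalso
        have hctx : Ctx p G := ⟨hs, hc, hp5, fun H hH => (h H hH).1, fun H hH => (h H hH).2, hsub, hodd⟩
        haveI : Fact (Nat.Prime 2) := ⟨Nat.prime_two⟩
        obtain ⟨T⟩ : Nonempty (Sylow 2 G) := inferInstance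
        obtain ⟨M, hM, ⟨-, h2⟩ | ⟨h1, h2⟩⟩ := hctx.exists_emb T
        · subst h2
          exact CaseA.false hctx T hM
        · exact CaseB.false hctx T hM h1 h2
    · -- a proper nontrivial normal subgroup
      have hnt : Nontrivial G := by
        rw [← Finite.one_lt_card_iff_nontrivial]
        have := Nat.le_of_dvd Nat.card_pos hodd
        omega
      obtain ⟨N, hNn, hN1, hN2⟩ : ∃ N : Subgroup G, N.Normal ∧ N ≠ ⊥ ∧ N ≠ ⊤ := by
        by_contra hcon
        push Not at hcon
        apply hs
        refine ⟨fun N hN => ?_⟩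
        by_cases h1 : N = ⊥
        · exact Or.inl h1
        · exact Or.inr (hcon N hN h1)
      haveI := hNn
      by_cases hc : (Nat.card (G ⧸ N)).Coprime p
      · exact quot_coprime h hsub N hN2 hc
      · apply solvable_of_quot N (hsub N hN2)
        refine ih (Nat.card (G ⧸ N)) ?_ (G ⧸ N) rfl (h.quot hsub N hc)
        rw [← hn, ← index_eq_card]
        have h1 := N.index_mul_card
        have h2 : 1 < Nat.card N := by
          rw [Finite.one_lt_card_iff_nontrivial, nontrivial_iff_ne_bot]
          exact hN1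
        have h3 : 0 < N.index := Nat.pos_of_ne_zero index_ne_zero_of_finite
        rw [← h1]
        exact lt_mul_of_one_lt_right h3 h2
  · -- `p ≤ 3`
    have hp23 : p = 2 ∨ p = 3 := by
      have h2 := hp.out.two_le
      have h4 : p ≠ 4 := by
        rintro rfl
        have := hp.out
        norm_num at this
      omega
    have hG : ∀ q : ℕ, q.Prime → q ∣ Nat.card G → q = 2 ∨ q = 3 := by
      intro q hq hqd
      by_cases hqp : q = p
      · rw [hqp]; exact hp23
      · have h1 := hprime q hq hqd hqp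
        left
        rcases hp23 with h2 | h2
        · rw [h2] at h1
          have := Nat.le_of_dvd (by norm_num) h1
          have := hq.two_le
          omega
        · rw [h2] at h1
          have := Nat.le_of_dvd (by norm_num) h1
          have := hq.two_le
          omega
    apply H4.Burnside.isSolvable_of_card_eq 2 3 Nat.prime_two Nat.prime_three (Nat.card G) G rfl
    obtain ⟨a, m, hm, ham⟩ := Nat.exists_eq_pow_mul_and_not_dvd (Nat.card_pos (α := G)).ne' 2 (by norm_num)
    refine ⟨a, m.primeFactorsList.length, ?_⟩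
    rw [ham]
    congr 1
    have hm0 : m ≠ 0 := by rintro rfl; simp at hm
    apply Nat.eq_prime_pow_of_unique_prime_dvd hm0
    intro d hd hdm
    rcases hG d hd (by rw [ham]; exact hdm.mul_left _) with h1 | h1
    · exact absurd (h1 ▸ hdm) hm
    · exact h1

/-- Let p be a prime and G a finite group in which every subgroup of order prime to p is abelian of exponent dividing p − 1. Then G is solvable. -/
theorem result {G : Type*} [Group G] [Finite G] (p : ℕ) [Fact p.Prime] (h : ∀ H : Subgroup G, (Nat.card ↥H).Coprime p → IsMulCommutative ↥H ∧ ∀ x ∈ H, x ^ (p - 1) = 1) : Group.IsSolvable G :=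
  main (p := p) (Nat.card G) G rfl h

end Cfsg.Agent.S1936
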