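import Cfsg.Statements.S1952
import Cfsg.Agent.Lib.H38.TransferNorm
import Cfsg.Agent.Lib.H38.NilComm
import Cfsg.Agent.Lib.H39.Degree
import Cfsg.Agent.Lib.H13.Thompson
open H38.Basic H38.TransferNorm

set_option autoImplicit false
open Cfsg
open scoped Nat

namespace Cfsg.Agent.S1952

/-- Let P be a finite p-group with a normal elementary abelian subgroup A of index p, and let x ∈ A and y ∈ P with y outside A. If the product of the p conjugates y^(-i) x y^i (i = 0, …, p−1) is not the identity, then the wreath product Z_p ≀ Z_p, realised as a Sylow p-subgroup of the symmetric group of degree p², is a homomorphic image of P. -/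
theorem result {P : Type*} [Group P] [Finite P] {p : ℕ} [Fact p.Prime] (hP : IsPGroup p P) (A : Subgroup P) [A.Normal]
    (hA : Cfsg.IsElementaryAbelian p A) (hidx : A.index = p) (x y : P) (hx : x ∈ A) (hy : y ∉ A)
    (hprod : ((List.range p).map (fun i => (y ^ i)⁻¹ * x * y ^ i)).prod ≠ 1) :
    ∃ (Q : Sylow p (Equiv.Perm (Fin (p ^ 2)))) (f : P →* ↥(Q : Subgroup (Equiv.Perm (Fin (p ^ 2))))), Function.Surjective f := by
  have hpp : p.Prime := Fact.out
  set z : P := ((List.range p).map (fun i => (y ^ i)⁻¹ * x * y ^ i)).prod with hz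
  have hab : ∀ a ∈ A, ∀ b ∈ A, a * b = b * a := fun a ha b hb =>
    congrArg Subtype.val (hA.1.is_comm.comm (⟨a, ha⟩ : ↥A) ⟨b, hb⟩)
  have hAn : A.Normal := inferInstance
  have hzA : z ∈ A := by
    rw [hz]
    apply Subgroup.list_prod_mem
    intro a ha
    rw [List.mem_map] at ha
    obtain ⟨i, -, rfl⟩ := ha
    have := hAn.conj_mem x hx (y ^ i)⁻¹
    rwa [inv_inv] at this
  -- a subgroup of index `p` in `A` not containing `z`
  obtain ⟨K, hK⟩ := (Set.toFinite {K : Subgroup P | K ≤ A ∧ z ∉ K}).exists_maximal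
    ⟨⊥, bot_le, fun h => hprod (Subgroup.mem_bot.1 h)⟩
  have hKA : K ≤ A := hK.prop.1
  have hzK : z ∉ K := hK.prop.2
  have hzp : z ^ p = 1 := hA.2 z hzA
  have hordz : orderOf z = p := by
    rcases (Nat.dvd_prime hpp).1 (orderOf_dvd_of_pow_eq_one hzp) with h | h
    · exact absurd (orderOf_eq_one_iff.1 h) hprod
    · exact h
  have hKn : ∀ B : Subgroup P, B ≤ A → B ≤ Subgroup.normalizer (K : Set P) := by
    intro B hB b hb
    rw [mem_normalizer_iff']
    refine Subgroup.eq_of_le_of_card_ge ?_ (by rw [card_conj])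
    rintro _ ⟨k, hk, rfl⟩
    show b * k * b⁻¹ ∈ K
    rw [hab b (hB hb) k (hKA hk), mul_inv_cancel_right]; exact hk
  have hAeq : A = Subgroup.zpowers z ⊔ K := by
    apply le_antisymm _ (sup_le (by rw [Subgroup.zpowers_le]; exact hzA) hKA)
    intro a ha
    by_cases haK : a ∈ K
    · exact Subgroup.mem_sup_right haK
    have h1 : ¬ (K ⊔ Subgroup.zpowers a ≤ A ∧ z ∉ K ⊔ Subgroup.zpowers a) := by
      intro h
      have := hK.le_of_ge h le_sup_left
      exact haK (this (Subgroup.mem_sup_right (Subgroup.mem_zpowers a)))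
    have h2 : z ∈ K ⊔ Subgroup.zpowers a := by
      by_contra hcon
      exact h1 ⟨sup_le hKA (by rw [Subgroup.zpowers_le]; exact ha), hcon⟩
    rw [sup_comm] at h2
    obtain ⟨k, hk, w, ⟨j, rfl⟩, hzk⟩ := (H38.Goldschmidt.mem_sup_iff_of_le_normalizer (hKn _ (by
      rw [Subgroup.zpowers_le]; exact ha))).1 h2
    simp only at hzk
    -- `a` is a power of `a ^ j` as `p ∤ j`
    have hap : a ^ p = 1 := hA.2 a ha
    have hane : a ≠ 1 := fun h => haK (h ▸ K.one_mem)
    have horda : orderOf a = p := by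
      rcases (Nat.dvd_prime hpp).1 (orderOf_dvd_of_pow_eq_one hap) with h | h
      · exact absurd (orderOf_eq_one_iff.1 h) hane
      · exact h
    have hj : ¬ (p : ℤ) ∣ j := by
      intro hd
      have : a ^ j = 1 := by rw [← orderOf_dvd_iff_zpow_eq_one, horda]; exact hd
      rw [this, mul_one] at hzk
      exact hzK (hzk ▸ hk)
    have hcop : IsCoprime (p : ℤ) j := (Nat.prime_iff_prime_int.1 hpp).irreducible.coprime_iff_not_dvd.2 hj
    obtain ⟨u, v, huv⟩ := hcop
    have h3 : (a ^ j) ^ v = a := by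
      rw [← zpow_mul]
      have e : j * v = 1 - p * u := by linarith
      rw [e, zpow_sub, zpow_one, zpow_mul, zpow_natCast, hap, one_zpow, inv_one, mul_one]
    have h4 : a ^ j = k⁻¹ * z := by rw [hzk]; group
    have hcomm : Commute k⁻¹ z := hab _ (A.inv_mem (hKA hk)) _ hzA
    rw [h4, hcomm.mul_zpow] at h3
    rw [← h3, sup_comm]
    exact Subgroup.mul_mem_sup (K.zpow_mem (K.inv_mem hk) v) (Subgroup.zpow_mem _ (Subgroup.mem_zpowers z) v)
  have hKidx : K.relIndex A = p := by
    have h1 : (Nat.card ↥A) = p * Nat.card ↥K := by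
      have h2 := H13.Thompson.card_sup_mul_card_inf (A := Subgroup.zpowers z) (B := K) (hKn _ (by
        rw [Subgroup.zpowers_le]; exact hzA))
      have h3 : Subgroup.zpowers z ⊓ K = ⊥ := by
        rw [eq_bot_iff]
        rintro w ⟨⟨j, rfl⟩, hw⟩
        simp only at hw ⊢
        by_cases hd : (p : ℤ) ∣ j
        · rw [Subgroup.mem_bot, ← orderOf_dvd_iff_zpow_eq_one, hordz]; exact hd
        · exfalso
          obtain ⟨u, v, huv⟩ : IsCoprime (p : ℤ) j :=
            (Nat.prime_iff_prime_int.1 hpp).irreducible.coprime_iff_not_dvd.2 hd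
          apply hzK
          have h4 : (z ^ j) ^ v = z := by
            rw [← zpow_mul]
            have e : j * v = 1 - p * u := by linarith
            rw [e, zpow_sub, zpow_one, zpow_mul, zpow_natCast, hzp, one_zpow, inv_one, mul_one]
          rw [← h4]; exact K.zpow_mem hw v
      rw [← hAeq, h3, Subgroup.card_bot, mul_one, Nat.card_zpowers, hordz] at h2
      exact h2
    have h2 : K.relIndex A * Nat.card ↥K = Nat.card ↥A := by
      rw [mul_comm, ← Subgroup.relIndex_bot_left, ← Subgroup.relIndex_bot_left]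
      exact Subgroup.relIndex_mul_relIndex _ _ _ bot_le hKA
    have h3 : 0 < Nat.card ↥K := Nat.card_pos
    exact Nat.eq_of_mul_eq_mul_right h3 (by rw [h2, h1])
  have hKindex : K.index = p ^ 2 := by
    rw [← Subgroup.relIndex_mul_index hKA, hKidx, hidx, pow_two]
  -- the core
  set C := K.normalCore with hC
  have hCn : C.Normal := inferInstance
  have hCK : C ≤ K := Subgroup.normalCore_le K
  have hyn : Subgroup.zpowers y ≤ Subgroup.normalizer (A : Set P) := by
    rw [Subgroup.normalizer_eq_top]; exact le_top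
  have hiter : ¬ Cfsg.iterCommutator A (Subgroup.zpowers y) (p - 1) ≤ C := by
    intro h
    apply hzK
    apply hCK
    have h1 := geom_list (p := p) (U := A) (Y := C) hAn hCn (by
      have : ⁅A, A⁆ = ⊥ := by
        rw [Subgroup.commutator_eq_bot_iff_le_centralizer]
        intro a ha
        rw [Subgroup.mem_centralizer_iff]
        intro b hb
        exact hab b hb a ha
      rw [this]; exact bot_le) (fun u hu => by rw [hA.2 u hu]; exact C.one_mem) (t := y⁻¹) (by
      rw [Subgroup.zpowers_inv]; exact h) x hx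
    rw [hz]
    have e : (fun i : ℕ => (y ^ i)⁻¹ * x * y ^ i) = (fun i : ℕ => y⁻¹ ^ i * x * (y⁻¹ ^ i)⁻¹) := by
      funext i; rw [inv_pow, inv_inv]
    rw [e]; exact h1
  -- the chain in the quotient
  set π := QuotientGroup.mk' C with hπ
  have hπs : Function.Surjective π := QuotientGroup.mk'_surjective C
  have hPC : IsPGroup p (P ⧸ C) := hP.to_quotient C
  have hyn' : Subgroup.zpowers (π y) ≤ Subgroup.normalizer ((A.map π : Subgroup (P ⧸ C)) : Set (P ⧸ C)) := by
    have : (A.map π).Normal := Subgroup.Normal.map hAn _ hπs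
    rw [Subgroup.normalizer_eq_top]; exact le_top
  have hitne : Cfsg.iterCommutator (A.map π) (Subgroup.zpowers (π y)) (p - 1) ≠ ⊥ := by
    intro h
    apply hiter
    have h1 := H39.Degree.iter_map π A (Subgroup.zpowers y) (p - 1)
    rw [MonoidHom.map_zpowers, h] at h1
    intro w hw
    have : π w ∈ (Cfsg.iterCommutator A (Subgroup.zpowers y) (p - 1)).map π := ⟨w, hw, rfl⟩
    rw [h1, Subgroup.mem_bot] at this
    exact (QuotientGroup.eq_one_iff w).1 this
  have hchain : ∀ n, n ≤ p - 1 → p ^ n * Nat.card ↥(Cfsg.iterCommutator (A.map π) (Subgroup.zpowers (π y)) n) ≤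
      Nat.card ↥(A.map π) := by
    intro n
    induction n with
    | zero => intro _; rw [pow_zero, one_mul]; exact le_rfl
    | succ n ih =>
      intro hn
      have h1 := ih (by omega)
      set B := Cfsg.iterCommutator (A.map π) (Subgroup.zpowers (π y)) n with hB
      set B' := Cfsg.iterCommutator (A.map π) (Subgroup.zpowers (π y)) (n + 1) with hB'
      have hB'B : B' ≤ B := H39.Degree.iter_succ_le hyn' n
      have hBne : B' ≠ B := by
        intro heq
        have h2 : B = ⊥ := by
          refine H38.NilComm.eq_bot_of_le_commutator (P := (⊤ : Subgroup (P ⧸ C))) (hPC.to_subgroup ⊤) le_top ?_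
          conv_lhs => rw [← heq]
          exact Subgroup.commutator_mono le_rfl le_top
        apply hitne
        rw [← le_bot_iff, ← h2]
        exact H39.Degree.iter_anti hyn' (by omega)
      have h2 : p * Nat.card ↥B' ≤ Nat.card ↥B := by
        have h3 : B'.relIndex B * Nat.card ↥B' = Nat.card ↥B := by
          rw [mul_comm, ← Subgroup.relIndex_bot_left, ← Subgroup.relIndex_bot_left]
          exact Subgroup.relIndex_mul_relIndex _ _ _ bot_le hB'B
        have h4 : B'.relIndex B ≠ 1 := by
          intro h; rw [Subgroup.relIndex_eq_one] at h; exact hBne (le_antisymm hB'B h)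
        obtain ⟨k, hk⟩ := (hPC.to_subgroup B).index (B'.subgroupOf B)
        have h5 : B'.relIndex B = p ^ k := hk
        have h6 : p ≤ B'.relIndex B := by
          rw [h5]
          rcases Nat.eq_zero_or_pos k with rfl | hk0
          · rw [pow_zero] at h5; exact absurd h5 h4
          · exact Nat.le_of_dvd (pow_pos hpp.pos _) (dvd_pow_self p hk0.ne')
        rw [← h3]; exact Nat.mul_le_mul_right _ h6
      calc p ^ (n + 1) * Nat.card ↥B' = p ^ n * (p * Nat.card ↥B') := by ring
        _ ≤ p ^ n * Nat.card ↥B := Nat.mul_le_mul_left _ h2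
        _ ≤ _ := h1
  have hcardA : p ^ p ≤ Nat.card ↥(A.map π) := by
    have h1 := hchain (p - 1) le_rfl
    have h2 : p ≤ Nat.card ↥(Cfsg.iterCommutator (A.map π) (Subgroup.zpowers (π y)) (p - 1)) := by
      obtain ⟨k, hk⟩ := IsPGroup.iff_card.1 (hPC.to_subgroup (Cfsg.iterCommutator (A.map π) (Subgroup.zpowers (π y)) (p - 1)))
      rw [hk]
      rcases Nat.eq_zero_or_pos k with rfl | hk0
      · exfalso; apply hitne; rw [pow_zero] at hk; exact Subgroup.card_eq_one.1 hk
      · exact Nat.le_of_dvd (pow_pos hpp.pos _) (dvd_pow_self p hk0.ne')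
    calc p ^ p = p ^ (p - 1) * p := by rw [← pow_succ]; congr 1; have := hpp.pos; omega
      _ ≤ _ := (Nat.mul_le_mul_left _ h2).trans h1
  have hcardPC : p ^ (p + 1) ≤ Nat.card (P ⧸ C) := by
    have h1 : (A.map π).index = p := by
      rw [Subgroup.index_map, QuotientGroup.ker_mk', sup_eq_left.2 (hCK.trans hKA), hidx,
        MonoidHom.range_eq_top.2 hπs, Subgroup.index_top, mul_one]
    rw [← Subgroup.card_mul_index (A.map π), h1, pow_succ]
    exact Nat.mul_le_mul_right _ hcardA
  -- the permutation representation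
  have hfin : Nat.card (P ⧸ K) = p ^ 2 := hKindex
  let e : (P ⧸ K) ≃ Fin (p ^ 2) := (Finite.equivFin (P ⧸ K)).trans (finCongr hfin)
  let f : P →* Equiv.Perm (Fin (p ^ 2)) := (Equiv.permCongrHom e).toMonoidHom.comp (MulAction.toPermHom P (P ⧸ K))
  have hker : f.ker = C := by
    have h1 : f.ker = (MulAction.toPermHom P (P ⧸ K)).ker := by
      ext g
      rw [MonoidHom.mem_ker, MonoidHom.mem_ker]
      show (Equiv.permCongrHom e) _ = 1 ↔ _
      exact map_eq_one_iff _ (Equiv.permCongrHom e).injective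
    rw [h1, hC, Subgroup.normalCore_eq_ker]
  have hrange : IsPGroup p ↥f.range := by
    intro g
    obtain ⟨g, a, rfl⟩ := g
    obtain ⟨k, hk⟩ := hP a
    exact ⟨k, Subtype.ext (by show (f a) ^ p ^ k = 1; rw [← map_pow, hk, map_one])⟩
  obtain ⟨Q, hQ⟩ := hrange.exists_le_sylow
  have hcardQ : Nat.card ↥(Q : Subgroup (Equiv.Perm (Fin (p ^ 2)))) = p ^ (p + 1) := by
    rw [Sylow.card_eq_multiplicity]
    congr 1
    rw [Nat.card_perm, Nat.card_fin, Nat.factorization_def _ hpp, pow_two, padicValNat_factorial_mul]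
    have : padicValNat p (p !) = 1 := by
      have h1 := padicValNat_factorial_mul (p := p) 1
      rw [mul_one] at h1
      rw [h1]; simp
    rw [this, add_comm]
  have hcardf : Nat.card ↥f.range = Nat.card (P ⧸ C) := by
    rw [← hker]
    exact (Nat.card_congr (QuotientGroup.quotientKerEquivRange f).toEquiv).symm
  have hQeq : f.range = (Q : Subgroup (Equiv.Perm (Fin (p ^ 2)))) :=
    Subgroup.eq_of_le_of_card_ge hQ (by rw [hcardQ, hcardf]; exact hcardPC)
  refine ⟨Q, f.codRestrict _ (fun g => hQ ⟨g, rfl⟩), ?_⟩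
  rintro ⟨q, hq⟩
  rw [← hQeq] at hq
  obtain ⟨g, rfl⟩ := hq
  exact ⟨g, rfl⟩

end Cfsg.Agent.S1952
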