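import Cfsg.Statements.S2000
import Cfsg.Agent.Lib.H52.SFLast2
import Cfsg.Agent.Lib.H39.PStab

set_option autoImplicit false
universe u
open Cfsg

namespace Cfsg.Agent.S2000

/-- Let p be a prime and G a finite group. Then Qd(p) (the natural semidirect product of an elementary abelian group of order p² by SL₂(p)) is not involved in G if and only if there is a set 𝓦 of isomorphism-invariant p-group functors (each nontrivial on nontrivial finite p-groups and carried onto W(R) by every isomorphism from a finite p-group Q onto R, hence with characteristic values on finite p-groups) whose induced conjugacy functors control strong fusion in every section of G. -/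
theorem result {G : Type u} [Group G] [Finite G] {p : ℕ} [Fact p.Prime] : ¬ Cfsg.Involves ↥(Cfsg.qd p) G ↔ ∃ 𝓦 : Set (∀ (Q : Type u) [Group Q], Subgroup Q), (∀ W ∈ 𝓦, Cfsg.IsCharPFunctor.{u} p W) ∧ ∀ (K R : Subgroup G) [hR : (R.subgroupOf K).Normal], Cfsg.FamilyControlsStrongFusionIn p ((fun W => Cfsg.inducedFunctor (G := (↥K ⧸ R.subgroupOf K)) W) '' 𝓦) ⊤ := by
  classical
  constructor
  · intro h
    by_cases hp2 : p = 2
    · subst hp2
      have h4 : ¬ Cfsg.Involves (Equiv.Perm (Fin 4)) G := by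
        intro h1
        obtain ⟨e2⟩ := H39.QdTwo.equiv
        exact h (H51.Involves.involves_trans (H51.Involves.involves_of_equiv e2) h1)
      refine ⟨{H52.SFLast.zFun, H52.SFLast.jFun}, H52.SFLast.chars, ?_⟩
      intro K R hR
      exact H52.SFLast.sf h4 (↥K ⧸ R.subgroupOf K) ⟨K, R, hR, ⟨MulEquiv.refl _⟩⟩
    · have hW : Cfsg.IsCharPFunctor.{u} p Cfsg.kInfLower := H39.KLocal.kInf_charPFunctor (p := p) (Or.inl rfl)
      have hW' : ∀ W ∈ ({Cfsg.kInfLower} : Set (∀ (Q : Type u) [Group Q], Subgroup Q)), Cfsg.IsCharPFunctor.{u} p W := by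
        rintro W rfl; exact hW
      have hst : ∀ (K R : Subgroup G) [(R.subgroupOf K).Normal], Cfsg.IsNormalizerPStable p (↥K ⧸ R.subgroupOf K) := by
        intro K R hR
        exact H51.QdStab2.stable hp2 (fun h1 => h (H51.Involves.involves_trans h1 ⟨K, R, hR, ⟨MulEquiv.refl _⟩⟩))
      refine ⟨{Cfsg.kInfLower}, hW', ?_⟩
      intro K R hR
      refine H39.SFInd.sf_of_local (G := G) {Cfsg.kInfLower} hW' (fun K R hR hC => ?_) (↥K ⧸ R.subgroupOf K)
        ⟨K, R, hR, ⟨MulEquiv.refl _⟩⟩
      rw [H39.SFInd.sf_singleton hW]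
      intro S A x _ hA hxA
      refine ⟨x, ?_, fun _ _ => rfl⟩
      have hnorm : (Cfsg.inducedFunctor (G := (↥K ⧸ R.subgroupOf K)) Cfsg.kInfLower ((S : Subgroup (↥K ⧸ R.subgroupOf K)))).Normal := by
        refine H39.PStab.kInf_normal (Or.inl rfl) ?_ hC S
        intro N hN
        exact H39.PStab.stable_of_involves hst _ (H51.Involves.involves_trans (H39.SectInd.involves_quotient N) (H39.SectInd.involves_section K R))
      rw [Subgroup.normalizer_eq_top_iff.2 hnorm]
      trivial
  · rintro ⟨𝓦, h𝓦, h⟩ ⟨K, R, hR, ⟨e⟩⟩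
    have e' : (↥K ⧸ R.subgroupOf K) ≃* Cfsg.qdOver (ZMod p) := e
    exact H39.QdTwo.not_family (F := ZMod p) e' 𝓦 h𝓦 (h K R)

end Cfsg.Agent.S2000
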