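import Cfsg.Statements.S2066
import Cfsg.Agent.Lib.H63.J2Aut2

set_option autoImplicit false
open Cfsg

namespace Cfsg.Agent.S2066

/-- The outer automorphism group of the Hall–Janko group J₂ (the icosian reflection group modulo its centre) has order 2. -/
theorem result : Nat.card (Cfsg.Out Cfsg.Spor.J2) = 2 := by
  exact H63.J2.out_J2

end Cfsg.Agent.S2066
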