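import Cfsg.Statements.S2212
import Cfsg.Agent.S1136
import Cfsg.Agent.Lib.H62.PGU3H

set_option autoImplicit false
open Cfsg

namespace Cfsg.Agent.S2212

/-- Characterization of the three-dimensional projective unitary groups over finite fields of characteristic two by the centralizer of an involution. Let q = 2^n > 2 and let PGU₃(q) be the quotient of the full unitary group of a non-degenerate Hermitian form in three variables over the field with q² elements by its centre. Let G be a finite group of even order in which all involutions are conjugate, the centralizer of an involution is isomorphic to the centralizer of an involution in PGU₃(q), and a Sylow 2-subgroup is not normal. Then G ≅ PGU₃(q). -/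
theorem result {G : Type*} [Group G] [Finite G] {F : Type*} [Field F] [Fintype F] [CharP F 2] (q : ℕ) (hq : 2 < q) (hF : Fintype.card F = q ^ 2)
    (heven : Even (Nat.card G)) (hconj : ∀ s t : G, orderOf s = 2 → orderOf t = 2 → IsConj s t)
    (hC : ∀ (x : G) (y : (↥(Cfsg.GU 3 F q) ⧸ Subgroup.center ↥(Cfsg.GU 3 F q))), orderOf x = 2 → orderOf y = 2 →
      Nonempty (↥(Subgroup.centralizer ({x} : Set G)) ≃* ↥(Subgroup.centralizer ({y} : Set (↥(Cfsg.GU 3 F q) ⧸ Subgroup.center ↥(Cfsg.GU 3 F q))))))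
    (hS : ∀ P : Sylow 2 G, ¬ (P : Subgroup G).Normal) :
    Nonempty (G ≃* (↥(Cfsg.GU 3 F q) ⧸ Subgroup.center ↥(Cfsg.GU 3 F q))) := by
  classical
  have hf2 : Fact (Nat.Prime 2) := ⟨Nat.prime_two⟩
  have two : (2 : F) = 0 := CharTwo.two_eq_zero
  obtain ⟨n, hn, hqn⟩ : ∃ n, 2 ≤ n ∧ q = 2 ^ n := by
    obtain ⟨k, hk⟩ := FiniteField.card F 2
    have h1 : q ∣ 2 ^ (k : ℕ) := by rw [← hk.2, hF]; exact dvd_pow_self q two_ne_zero
    obtain ⟨n, -, hn⟩ := (Nat.dvd_prime_pow Nat.prime_two).mp h1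
    refine ⟨n, ?_, hn⟩
    by_contra h
    have : n = 0 ∨ n = 1 := by omega
    rcases this with rfl | rfl
    · rw [hn] at hq; norm_num at hq
    · rw [hn] at hq; norm_num at hq
  obtain ⟨θ, hθ⟩ := H7.QuadExt.exists_trace_eq hF (c := (1 : F)) (one_pow q)
  have c : H62.PG.Ctx G Fˣ n q :=
    { hn := hn
      hq := hqn
      cyc := inferInstance
      conj := fun s t hs ht => by
        obtain ⟨g, hg⟩ := isConj_iff.mp (hconj s t hs.order ht.order)
        exact ⟨g, hg⟩
      loc := fun t ht => by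
        obtain ⟨e⟩ := hC t (H62.PG.y0 two hF hθ) ht.order (H62.PG.y0_inv two hF hθ).order
        exact ⟨_, ((H62.PG.WT.locA two hF hq).transfer (e.trans (H62.PG.cequiv two hF hθ hq).symm)).loc⟩
      nn := hS
      ev := heven }
  obtain ⟨S⟩ : Nonempty (Sylow 2 G) := inferInstance
  obtain ⟨t, Q, hset⟩ := H62.PG.exists_setup c S
  have hfaith := H62.PG.faithful c
  obtain ⟨x, y, hx, -, hy, -, hxy, hcomm, -⟩ := H62.PG.exists_two c S
  obtain ⟨L, hL, hodd, h⟩ := Cfsg.Agent.S1136.result hset ⟨x, y, hx.1, hy.1, hxy, hx.2, hy.2, hcomm⟩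
  rcases h with ⟨F', iF, iFf, ⟨m, hm, hcard⟩, ⟨e⟩⟩ | ⟨F', iF, iFf, m, hm, hcard, ⟨e⟩⟩ | ⟨F', iF, iFf, m, hm, hcard, ⟨e⟩⟩
  · exact (H62.PG.not_psl c hL hodd hcard hm e).elim
  · exact (H62.PG.not_sz c hL hodd hm hcard e).elim
  · have h1 := H62.PG.psu_q c hL hodd hm hcard e
    rw [h1] at hcard e
    let r : F' ≃+* F := FiniteField.ringEquivOfCardEq (by rw [hcard, hF])
    let e1 : Cfsg.PSU 3 F' q ≃* Cfsg.PSU 3 F q := H6.Frame.quotCenterCongr (H64.U34.suCongr hcard hF r)
    exact H62.PG.identify c two hodd hF (e.trans e1)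

end Cfsg.Agent.S2212
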