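import Cfsg.Statements.S2228
import Cfsg.Agent.Lib.H58.J3S
import Cfsg.Agent.Lib.H58.J3O
-- import your own Cfsg.Agent.* helpers here

set_option autoImplicit false
open Cfsg

namespace Cfsg.Agent.S2228

/-- Let G be a finite simple group in which all involutions are conjugate and the centralizer of an involution has a normal extraspecial subgroup of order 32 complemented by a subgroup isomorphic to the alternating group of degree 5 (a group of J₃-type). Then a Sylow 19-subgroup of G is self-centralizing with normalizer-quotient cyclic of order 9, and a Sylow 17-subgroup is self-centralizing with normalizer-quotient cyclic of order 8. -/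
theorem result {G : Type*} [Group G] [Finite G] [IsSimpleGroup G]
    (hone : ∀ x y : G, orderOf x = 2 → orderOf y = 2 → IsConj x y)
    (t : G) (ht : orderOf t = 2) (E A : Subgroup ↥(Subgroup.centralizer ({t} : Set G))) [E.Normal]
    (hE : Cfsg.IsExtraspecial 2 ↥E) (hE32 : Nat.card ↥E = 32) (hEA : E.IsComplement' A)
    (eA : ↥A ≃* ↥(alternatingGroup (Fin 5))) :
    (∀ X : Sylow 19 G, Subgroup.centralizer ((X : Subgroup G) : Set G) = X ∧
        ∃ h : ((X : Subgroup G).subgroupOf (Subgroup.normalizer ((X : Subgroup G) : Set G))).Normal,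
          IsCyclic (↥(Subgroup.normalizer ((X : Subgroup G) : Set G)) ⧸ (X : Subgroup G).subgroupOf _) ∧
          Nat.card (↥(Subgroup.normalizer ((X : Subgroup G) : Set G)) ⧸ (X : Subgroup G).subgroupOf _) = 9) ∧
    (∀ Y : Sylow 17 G, Subgroup.centralizer ((Y : Subgroup G) : Set G) = Y ∧
        ∃ h : ((Y : Subgroup G).subgroupOf (Subgroup.normalizer ((Y : Subgroup G) : Set G))).Normal,
          IsCyclic (↥(Subgroup.normalizer ((Y : Subgroup G) : Set G)) ⧸ (Y : Subgroup G).subgroupOf _) ∧
          Nat.card (↥(Subgroup.normalizer ((Y : Subgroup G) : Set G)) ⧸ (Y : Subgroup G).subgroupOf _) = 8) := by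
  classical
  haveI : Fact (Nat.Prime 17) := ⟨by norm_num⟩
  haveI : Fact (Nat.Prime 19) := ⟨by norm_num⟩
  have e : (Subgroup.centralizer ({t} : Set G)) ⧸ E ≃* alternatingGroup (Fin 5) :=
    (Subgroup.IsComplement'.QuotientMulEquiv hEA.symm).trans eA
  have h2 := H58.J3M.faithful2 ht E hE hE32 e
  obtain ⟨ι, hT⟩ := H58.J3B.exists_HT t ht E hE hE32 h2 e
  have hG : Nat.card G = 50232960 := H58.J3O.order ⟨hone, t, ht, E, inferInstance, hE, hE32, ⟨e⟩⟩
  have hcen := H58.J3R.hcen hT hone
  have h16 := H58.J3R.no16 hT hone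
  refine ⟨fun X => ?_, fun Y => ?_⟩
  · have hX : Nat.card (X : Subgroup G) = 19 := H58.J3S.card_syl (by rw [hG]; norm_num) (by rw [hG]; norm_num) X
    obtain ⟨x, hx, hxX⟩ := H58.J3S.exists_zp (by norm_num : Nat.Prime 19) (X : Subgroup G) hX
    have h1 : Nat.card (Subgroup.centralizer ({x} : Set G)) = 19 ∧ Nat.card (Subgroup.normalizer ((Subgroup.zpowers x : Subgroup G) : Set G)) = 9 * 19 := by
      rcases H58.J3S.c19 hG hcen hx with h3 | ⟨h3, h4⟩
      · exact h3
      · exact (H58.J3S.no33 hT hone hG hx h3 h4).elim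
    exact H58.J3S.concl (by norm_num : Nat.Prime 19) (X : Subgroup G) hx hxX h1.1 9 h1.2
  · have hY : Nat.card (Y : Subgroup G) = 17 := H58.J3S.card_syl (by rw [hG]; norm_num) (by rw [hG]; norm_num) Y
    obtain ⟨y, hy, hyY⟩ := H58.J3S.exists_zp (by norm_num : Nat.Prime 17) (Y : Subgroup G) hY
    obtain ⟨h3, h4⟩ := H58.J3S.c17 hG hcen h16 hy
    exact H58.J3S.concl (by norm_num : Nat.Prime 17) (Y : Subgroup G) hy hyY h3 8 h4


end Cfsg.Agent.S2228
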