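import Cfsg.Statements.S2271
import Mathlib

set_option autoImplicit false
open Cfsg

namespace Cfsg.Agent.S2271

open Equiv MulAction

variable {n : ℕ}

/-- number of common arcs -/
def F (a b g : Perm (Fin n)) : ℕ := (Finset.univ.filter (fun u => a (g u) = g (b u))).card

/-- number of fixed points -/
def fx (a : Perm (Fin n)) : ℕ := (Finset.univ.filter (fun u => a u = u)).card

/-- uniform fibres -/
theorem uniform {G X : Type*} [Group G] [Fintype G] [MulAction G X] [Fintype X]
    (ht : ∀ x y : X, ∃ g : G, g • x = y) (x0 : X) (φ : X → Prop) [DecidablePred φ] [DecidableEq X] :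
    (Finset.univ.filter (fun g : G => φ (g • x0))).card * Fintype.card X =
      Fintype.card G * (Finset.univ.filter φ).card := by
  classical
  have htt : IsPretransitive G X := ⟨ht⟩
  have hfib : ∀ x : X, (Finset.univ.filter (fun g : G => g • x0 = x)).card = Fintype.card (stabilizer G x0) := by
    intro x
    obtain ⟨h, rfl⟩ := exists_smul_eq G x0 x
    rw [Fintype.card_subtype]
    apply Finset.card_nbij' (fun g => h⁻¹ * g) (fun g => h * g)
    · intro g hg
      simp only [Finset.coe_filter, Finset.mem_univ, true_and, Set.mem_ofPred_eq] at hg ⊢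
      rw [mem_stabilizer_iff, mul_smul, hg, inv_smul_smul]
    · intro g hg
      simp only [Finset.coe_filter, Finset.mem_univ, true_and, Set.mem_ofPred_eq] at hg ⊢
      rw [mul_smul, mem_stabilizer_iff.1 hg]
    · intro g _; simp
    · intro g _; simp
  have h1 : (Finset.univ.filter (fun g : G => φ (g • x0))).card =
      (Finset.univ.filter φ).card * Fintype.card (stabilizer G x0) := by
    rw [Finset.card_eq_sum_card_fiberwise (f := fun g : G => g • x0) (t := Finset.univ.filter φ) (by
      intro g hg
      simp only [Finset.coe_filter, Finset.mem_univ, true_and, Set.mem_ofPred_eq] at hg ⊢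
      exact hg)]
    rw [Finset.sum_congr rfl (g := fun _ => Fintype.card (stabilizer G x0)), Finset.sum_const, smul_eq_mul]
    intro x hx
    rw [← hfib x]
    congr 1
    ext g
    simp only [Finset.mem_filter, Finset.mem_univ, true_and] at hx ⊢
    constructor
    · rintro ⟨-, h⟩; exact h
    · intro h; exact ⟨by rw [h]; exact hx, h⟩
  have h2 : Fintype.card X * Fintype.card (stabilizer G x0) = Fintype.card G := by
    rw [← card_orbit_mul_card_stabilizer_eq_card_group G x0]
    congr 1
    apply Fintype.card_congr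
    rw [orbit_eq_univ]
    exact (Equiv.Set.univ X).symm
  rw [h1, ← h2]
  ring

theorem fx_add (a : Perm (Fin n)) : (Finset.univ.filter (fun u => a u ≠ u)).card = n - fx a := by
  have := Finset.card_filter_add_card_filter_not (s := (Finset.univ : Finset (Fin n))) (fun u => a u = u)
  rw [Finset.card_univ, Fintype.card_fin] at this
  unfold fx
  simp only [ne_eq]
  omega

theorem fx_le (a : Perm (Fin n)) : fx a ≤ n := by
  unfold fx
  refine (Finset.card_filter_le _ _).trans ?_
  rw [Finset.card_univ, Fintype.card_fin]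

theorem fx_le' {a : Perm (Fin n)} (ha : a ≠ 1) : fx a + 2 ≤ n := by
  have h1 := Perm.two_le_card_support_of_ne_one ha
  have h2 := fx_add a
  have h3 : a.support = Finset.univ.filter (fun u => a u ≠ u) := by
    ext u; simp
  rw [← h3] at h2
  have := fx_le a
  omega

/-- the average -/
theorem average (hn : 5 ≤ n) (a b : Perm (Fin n)) :
    (∑ g : alternatingGroup (Fin n), F a b g) * (n * (n - 1)) =
      Fintype.card (alternatingGroup (Fin n)) * ((n - 1) * (fx a * fx b) + (n - fx a) * (n - fx b)) := by
  classical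
  have hnc : Nat.card (Fin n) = n := by rw [Nat.card_eq_fintype_card, Fintype.card_fin]
  have hm := alternatingGroup.isMultiplyPretransitive (Fin n)
  rw [hnc] at hm
  have ht2 : IsMultiplyPretransitive (alternatingGroup (Fin n)) (Fin n) 2 :=
    isMultiplyPretransitive_of_le (n := n - 2) (by omega) (by rw [hnc]; omega)
  have ht1 : IsPretransitive (alternatingGroup (Fin n)) (Fin n) := by
    rw [← is_one_pretransitive_iff]
    exact isMultiplyPretransitive_of_le (n := n - 2) (by omega) (by rw [hnc]; omega)
  have c1 : ∀ u, b u = u → (Finset.univ.filter (fun g : alternatingGroup (Fin n) => a (g.1 u) = g.1 (b u))).card * (n * (n - 1)) =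
      Fintype.card (alternatingGroup (Fin n)) * ((n - 1) * fx a) := by
    intro u hu
    have := uniform (G := alternatingGroup (Fin n)) ht1.exists_smul_eq u (fun x => a x = x)
    rw [Fintype.card_fin] at this
    have e : (Finset.univ.filter (fun g : alternatingGroup (Fin n) => a (g.1 u) = g.1 (b u))) =
        (Finset.univ.filter (fun g : alternatingGroup (Fin n) => a (g • u) = g • u)) := by
      ext g; simp only [Finset.mem_filter, Finset.mem_univ, true_and, hu]; rfl
    rw [e]
    unfold fx
    calc _ = ((Finset.univ.filter (fun g : alternatingGroup (Fin n) => a (g • u) = g • u)).card * n) * (n - 1) := by ring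
      _ = _ := by rw [this]; ring
  have c2 : ∀ u, b u ≠ u → (Finset.univ.filter (fun g : alternatingGroup (Fin n) => a (g.1 u) = g.1 (b u))).card * (n * (n - 1)) =
      Fintype.card (alternatingGroup (Fin n)) * (n - fx a) := by
    intro u hu
    have hinj : Function.Injective ![u, b u] := by
      intro i j hij
      fin_cases i <;> fin_cases j
      · rfl
      · exact absurd (show u = b u from hij).symm hu
      · exact absurd (show b u = u from hij) hu
      · rfl
    have := uniform (G := alternatingGroup (Fin n)) (X := Fin 2 ↪ Fin n) (by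
      intro x y
      obtain ⟨g, hg⟩ := (isMultiplyPretransitive_iff.1 ht2) x y
      exact ⟨g, hg⟩) ⟨![u, b u], hinj⟩ (fun f => a (f 0) = f 1)
    rw [Fintype.card_embedding_eq, Fintype.card_fin, Fintype.card_fin] at this
    have hd : n.descFactorial 2 = n * (n - 1) := by
      rw [Nat.descFactorial_succ, Nat.descFactorial_one, mul_comm]
    rw [hd] at this
    have e1 : (Finset.univ.filter (fun f : Fin 2 ↪ Fin n => a (f 0) = f 1)).card = n - fx a := by
      rw [← fx_add]
      apply Finset.card_bij (fun f _ => f 0)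
      · intro f hf
        simp only [Finset.mem_filter, Finset.mem_univ, true_and] at hf ⊢
        rw [hf]
        intro h
        exact absurd (f.injective h) (by decide)
      · intro f hf f' hf' h
        simp only [Finset.mem_filter, Finset.mem_univ, true_and] at hf hf'
        ext i
        fin_cases i
        · simpa using congrArg Fin.val h
        · have : f 1 = f' 1 := by rw [← hf, ← hf', h]
          simpa using congrArg Fin.val this
      · intro x hx
        simp only [Finset.mem_filter, Finset.mem_univ, true_and] at hx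
        refine ⟨⟨![x, a x], ?_⟩, ?_, rfl⟩
        · intro i j hij
          fin_cases i <;> fin_cases j
          · rfl
          · exact absurd (show x = a x from hij).symm hx
          · exact absurd (show a x = x from hij) hx
          · rfl
        · rw [Finset.mem_filter]
          exact ⟨Finset.mem_univ _, rfl⟩
    rw [e1] at this
    rw [← this]
    congr 1
  -- sum exchange
  have hs : ∑ g : alternatingGroup (Fin n), F a b g =
      ∑ u : Fin n, (Finset.univ.filter (fun g : alternatingGroup (Fin n) => a (g.1 u) = g.1 (b u))).card := by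
    simp only [F, Finset.card_filter]
    rw [Finset.sum_comm]
  rw [hs, Finset.sum_mul]
  rw [← Finset.sum_filter_add_sum_filter_not Finset.univ (fun u => b u = u)]
  have s1 : ∑ u ∈ Finset.univ.filter (fun u => b u = u), (Finset.univ.filter (fun g : alternatingGroup (Fin n) => a (g.1 u) = g.1 (b u))).card * (n * (n - 1))
      = fx b * (Fintype.card (alternatingGroup (Fin n)) * ((n - 1) * fx a)) := by
    rw [Finset.sum_congr rfl (g := fun _ => Fintype.card (alternatingGroup (Fin n)) * ((n - 1) * fx a)) (by
      intro u hu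
      rw [Finset.mem_filter] at hu
      exact c1 u hu.2), Finset.sum_const, smul_eq_mul]
    rfl
  have s2 : ∑ u ∈ Finset.univ.filter (fun u => ¬ b u = u), (Finset.univ.filter (fun g : alternatingGroup (Fin n) => a (g.1 u) = g.1 (b u))).card * (n * (n - 1))
      = (n - fx b) * (Fintype.card (alternatingGroup (Fin n)) * (n - fx a)) := by
    rw [Finset.sum_congr rfl (g := fun _ => Fintype.card (alternatingGroup (Fin n)) * (n - fx a)) (by
      intro u hu
      rw [Finset.mem_filter] at hu
      exact c2 u hu.2), Finset.sum_const, smul_eq_mul, ← fx_add b]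
  rw [s1, s2]
  ring

theorem F_symm (a b g : Perm (Fin n)) : F a b g = F b a g⁻¹ := by
  unfold F
  apply Finset.card_nbij' (fun u => g u) (fun u => g⁻¹ u)
  · intro u hu
    simp only [Finset.coe_filter, Finset.mem_univ, true_and, Set.mem_ofPred_eq] at hu ⊢
    rw [hu]; simp
  · intro u hu
    simp only [Finset.coe_filter, Finset.mem_univ, true_and, Set.mem_ofPred_eq] at hu ⊢
    rw [hu]; simp
  · intro u _; simp
  · intro u _; simp

/-- aligning fixed points -/
theorem exists_min {a b : Perm (Fin n)} (hb : b ≠ 1) (h : fx b ≤ fx a) :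
    ∃ g ∈ alternatingGroup (Fin n), fx b ≤ F a b g := by
  classical
  unfold fx at h
  obtain ⟨t, ht, htc⟩ := Finset.exists_subset_card_eq h
  have e : {x // x ∈ Finset.univ.filter (fun u => b u = u)} ≃ {x // x ∈ t} :=
    Finset.equivOfCardEq htc.symm
  have key : ∀ g : Perm (Fin n), (∀ x, b x = x → a (g x) = g x) → fx b ≤ F a b g := by
    intro g hg
    unfold fx F
    apply Finset.card_le_card
    intro x hx
    rw [Finset.mem_filter] at hx ⊢
    exact ⟨Finset.mem_univ _, by rw [hg x hx.2, hx.2]⟩
  have h1 : ∀ x, b x = x → a (e.extendSubtype x) = e.extendSubtype x := by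
    intro x hx
    have h2 := Equiv.extendSubtype_mem e x (by rw [Finset.mem_filter]; exact ⟨Finset.mem_univ _, hx⟩)
    have h3 := ht h2
    rw [Finset.mem_filter] at h3
    exact h3.2
  rcases Int.units_eq_one_or (Perm.sign e.extendSubtype) with hs | hs
  · exact ⟨e.extendSubtype, hs, key _ h1⟩
  · obtain ⟨x, hx⟩ : ∃ x, b x ≠ x := by
      by_contra h
      push Not at h
      exact hb (Equiv.ext h)
    refine ⟨e.extendSubtype * swap x (b x), ?_, key _ ?_⟩
    · rw [Perm.mem_alternatingGroup, map_mul, hs, Perm.sign_swap hx.symm]; rfl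
    · intro y hy
      rw [Perm.mul_apply, swap_apply_of_ne_of_ne]
      · exact h1 y hy
      · rintro rfl; exact hx hy
      · rintro rfl; exact hx (b.injective hy)

theorem two_le_F {a b g : Perm (Fin n)} {u v : Fin n} (huv : u ≠ v) (hu : a (g u) = g (b u))
    (hv : a (g v) = g (b v)) : 2 ≤ F a b g := by
  unfold F
  rw [← Finset.card_pair huv]
  apply Finset.card_le_card
  intro x hx
  rw [Finset.mem_insert, Finset.mem_singleton] at hx
  rw [Finset.mem_filter]
  rcases hx with rfl | rfl
  · exact ⟨Finset.mem_univ _, hu⟩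
  · exact ⟨Finset.mem_univ _, hv⟩

theorem three_trans (hn : 5 ≤ n) {x y z x' y' z' : Fin n} (hxy : x ≠ y) (hxz : x ≠ z) (hyz : y ≠ z)
    (hxy' : x' ≠ y') (hxz' : x' ≠ z') (hyz' : y' ≠ z') :
    ∃ g ∈ alternatingGroup (Fin n), g x = x' ∧ g y = y' ∧ g z = z' := by
  have hnc : Nat.card (Fin n) = n := by rw [Nat.card_eq_fintype_card, Fintype.card_fin]
  have hm := alternatingGroup.isMultiplyPretransitive (Fin n)
  rw [hnc] at hm
  have ht3 : IsMultiplyPretransitive (alternatingGroup (Fin n)) (Fin n) 3 :=
    isMultiplyPretransitive_of_le (n := n - 2) (by omega) (by rw [hnc]; omega)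
  have i1 : Function.Injective ![x, y, z] := by
    intro i j hij
    fin_cases i <;> fin_cases j
    · rfl
    · exact absurd (show x = y from hij) hxy
    · exact absurd (show x = z from hij) hxz
    · exact absurd (show y = x from hij).symm hxy
    · rfl
    · exact absurd (show y = z from hij) hyz
    · exact absurd (show z = x from hij).symm hxz
    · exact absurd (show z = y from hij).symm hyz
    · rfl
  have i2 : Function.Injective ![x', y', z'] := by
    intro i j hij
    fin_cases i <;> fin_cases j
    · rfl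
    · exact absurd (show x' = y' from hij) hxy'
    · exact absurd (show x' = z' from hij) hxz'
    · exact absurd (show y' = x' from hij).symm hxy'
    · rfl
    · exact absurd (show y' = z' from hij) hyz'
    · exact absurd (show z' = x' from hij).symm hxz'
    · exact absurd (show z' = y' from hij).symm hyz'
    · rfl
  obtain ⟨g, hg⟩ := (isMultiplyPretransitive_iff.1 ht3) ⟨![x, y, z], i1⟩ ⟨![x', y', z'], i2⟩
  refine ⟨g, g.2, ?_, ?_, ?_⟩
  · exact congrArg (fun f : Fin 3 ↪ Fin n => f 0) hg
  · exact congrArg (fun f : Fin 3 ↪ Fin n => f 1) hg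
  · exact congrArg (fun f : Fin 3 ↪ Fin n => f 2) hg

theorem L2 (hn : 5 ≤ n) {a b : Perm (Fin n)} {x y : Fin n} (hx : a (a x) ≠ x) (hy : b (b y) ≠ y) :
    ∃ g ∈ alternatingGroup (Fin n), 2 ≤ F a b g := by
  have hx1 : a x ≠ x := fun h => hx (by rw [h, h])
  have hy1 : b y ≠ y := fun h => hy (by rw [h, h])
  have hx2 : a (a x) ≠ a x := fun h => hx1 (a.injective h)
  have hy2 : b (b y) ≠ b y := fun h => hy1 (b.injective h)
  obtain ⟨g, hg, h1, h2, h3⟩ := three_trans hn hy1.symm hy.symm hy2.symm hx1.symm hx.symm hx2.symm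
  exact ⟨g, hg, two_le_F hy1.symm (by rw [h1, h2]) (by rw [h2, h3])⟩

theorem exists_moved {a : Perm (Fin n)} (s : Finset (Fin n)) (h : fx a + s.card < n) :
    ∃ x, a x ≠ x ∧ x ∉ s := by
  by_contra hc
  push Not at hc
  have h1 : (Finset.univ.filter (fun u => a u ≠ u)) ⊆ s := by
    intro x hx
    rw [Finset.mem_filter] at hx
    exact hc x hx.2
  have h2 := Finset.card_le_card h1
  rw [fx_add] at h2
  omega

theorem L1 (hn : 5 ≤ n) {a b : Perm (Fin n)} (ha2 : ∀ x, a (a x) = x) (ha : fx a + 4 ≤ n) (hb : fx b + 4 ≤ n) :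
    ∃ g ∈ alternatingGroup (Fin n), 2 ≤ F a b g := by
  obtain ⟨p, hp, -⟩ := exists_moved (a := a) ∅ (by simp; omega)
  obtain ⟨r, hr, hr'⟩ := exists_moved (a := a) {p, a p} (by
    have := Finset.card_le_two (a := p) (b := a p)
    omega)
  obtain ⟨u, hu, -⟩ := exists_moved (a := b) ∅ (by simp; omega)
  obtain ⟨w, hw, hw'⟩ := exists_moved (a := b) {u, b u, b⁻¹ u} (by
    have := Finset.card_le_three (a := u) (b := b u) (c := b⁻¹ u)
    omega)
  simp only [Finset.mem_insert, Finset.mem_singleton, not_or] at hr' hw'
  obtain ⟨rp, rap⟩ := hr'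
  obtain ⟨wu, wbu, wbi⟩ := hw'
  have arp : a r ≠ p := fun h => rap (by rw [← h, ha2])
  have arap : a r ≠ a p := fun h => rp (a.injective h)
  have bwu : b w ≠ u := fun h => wbi (by rw [← h]; simp)
  have bwbu : b w ≠ b u := fun h => wu (b.injective h)
  have i1 : Function.Injective ![u, b u, w, b w] := by
    intro i j hij
    fin_cases i <;> fin_cases j
    · rfl
    · exact absurd (show u = b u from hij).symm hu
    · exact absurd (show u = w from hij).symm wu
    · exact absurd (show u = b w from hij).symm bwu
    · exact absurd (show b u = u from hij) hu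
    · rfl
    · exact absurd (show b u = w from hij).symm wbu
    · exact absurd (show b u = b w from hij).symm bwbu
    · exact absurd (show w = u from hij) wu
    · exact absurd (show w = b u from hij) wbu
    · rfl
    · exact absurd (show w = b w from hij).symm hw
    · exact absurd (show b w = u from hij) bwu
    · exact absurd (show b w = b u from hij) bwbu
    · exact absurd (show b w = w from hij) hw
    · rfl
  have i2 : Function.Injective ![p, a p, r, a r] := by
    intro i j hij
    fin_cases i <;> fin_cases j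
    · rfl
    · exact absurd (show p = a p from hij).symm hp
    · exact absurd (show p = r from hij).symm rp
    · exact absurd (show p = a r from hij).symm arp
    · exact absurd (show a p = p from hij) hp
    · rfl
    · exact absurd (show a p = r from hij).symm rap
    · exact absurd (show a p = a r from hij).symm arap
    · exact absurd (show r = p from hij) rp
    · exact absurd (show r = a p from hij) rap
    · rfl
    · exact absurd (show r = a r from hij).symm hr
    · exact absurd (show a r = p from hij) arp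
    · exact absurd (show a r = a p from hij) arap
    · exact absurd (show a r = r from hij) hr
    · rfl
  obtain ⟨g, hg⟩ := Equiv.Perm.exists_extending_pair _ _ i1 i2
  have g0 : g u = p := hg 0
  have g1 : g (b u) = a p := hg 1
  have g2 : g w = r := hg 2
  have g3 : g (b w) = a r := hg 3
  rcases Int.units_eq_one_or (Perm.sign g) with hs | hs
  · exact ⟨g, hs, two_le_F (Ne.symm wu) (by rw [g0, g1]) (by rw [g2, g3])⟩
  · refine ⟨swap p (a p) * g, ?_, two_le_F (Ne.symm wu) ?_ ?_⟩
    · rw [Perm.mem_alternatingGroup, map_mul, hs, Perm.sign_swap hp.symm]; rfl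
    · rw [Perm.mul_apply, Perm.mul_apply, g0, g1, swap_apply_left, swap_apply_right, ha2]
    · rw [Perm.mul_apply, Perm.mul_apply, g2, g3, swap_apply_of_ne_of_ne rp rap,
        swap_apply_of_ne_of_ne arp arap]

/-- Let n ≥ 5 and let a, b be non-identity permutations in the symmetric group S_n. Then the number of fixed points is not constant on the set of products a′b′ with a′ conjugate to a and b′ conjugate to b under the alternating group: there are even permutations g₁, h₁, g₂, h₂ such that (g₁ a g₁⁻¹)(h₁ b h₁⁻¹) and (g₂ a g₂⁻¹)(h₂ b h₂⁻¹) have different numbers of fixed points. -/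
theorem result (n : ℕ) (hn : 5 ≤ n) (a b : Equiv.Perm (Fin n)) (ha : a ≠ 1) (hb : b ≠ 1) :
    ∃ g₁ h₁ g₂ h₂ : Equiv.Perm (Fin n), g₁ ∈ alternatingGroup (Fin n) ∧ h₁ ∈ alternatingGroup (Fin n) ∧ g₂ ∈ alternatingGroup (Fin n) ∧ h₂ ∈ alternatingGroup (Fin n) ∧
      Nat.card (Function.fixedPoints ⇑(g₁ * a * g₁⁻¹ * (h₁ * b * h₁⁻¹))) ≠
        Nat.card (Function.fixedPoints ⇑(g₂ * a * g₂⁻¹ * (h₂ * b * h₂⁻¹))) := by
  classical
  by_contra hcon
  push Not at hcon
  have hF : ∀ g : Perm (Fin n), F a⁻¹ b g = Nat.card (Function.fixedPoints ⇑((1 : Perm (Fin n)) * a * (1 : Perm (Fin n))⁻¹ * (g * b * g⁻¹))) := by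
    intro g
    rw [Nat.card_eq_fintype_card, ← Set.toFinset_card]
    unfold F
    apply Finset.card_nbij' (fun u => g u) (fun u => g⁻¹ u)
    · intro u hu
      simp only [Finset.coe_filter, Finset.mem_univ, true_and, Set.mem_ofPred_eq] at hu
      rw [Finset.mem_coe, Set.mem_toFinset, Function.mem_fixedPoints]
      change ((1 : Perm (Fin n)) * a * (1 : Perm (Fin n))⁻¹ * (g * b * g⁻¹)) (g u) = g u
      simp only [one_mul, inv_one, mul_one, Perm.mul_apply]
      rw [show g⁻¹ (g u) = u by simp, ← hu]; simp
    · intro u hu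
      rw [Finset.mem_coe, Set.mem_toFinset, Function.mem_fixedPoints] at hu
      simp only [Finset.coe_filter, Finset.mem_univ, true_and, Set.mem_ofPred_eq]
      have hu' : ((1 : Perm (Fin n)) * a * (1 : Perm (Fin n))⁻¹ * (g * b * g⁻¹)) u = u := hu
      simp only [one_mul, inv_one, mul_one, Perm.mul_apply] at hu'
      apply a.injective
      rw [hu']; simp
    · intro u _; simp
    · intro u _; simp
  have hconst : ∀ g ∈ alternatingGroup (Fin n), F a⁻¹ b g = F a⁻¹ b 1 := by
    intro g hg
    rw [hF, hF]
    exact hcon 1 g 1 1 (one_mem _) hg (one_mem _) (one_mem _)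
  have ha' : a⁻¹ ≠ 1 := fun h => ha (inv_eq_one.1 h)
  generalize a⁻¹ = a' at *
  clear hF hcon ha a
  obtain ⟨c, hc⟩ : ∃ c, F a' b 1 = c := ⟨_, rfl⟩
  rw [hc] at hconst
  have hα := fx_le' ha'
  have hβ := fx_le' hb
  have havg := average hn a' b
  have hsum : ∑ g : alternatingGroup (Fin n), F a' b g = Fintype.card (alternatingGroup (Fin n)) * c := by
    have : ∀ g ∈ (Finset.univ : Finset (alternatingGroup (Fin n))), F a' b (g : Perm (Fin n)) = c :=
      fun g _ => hconst _ (Subtype.property g)
    rw [Finset.sum_congr rfl this, Finset.sum_const, Finset.card_univ, smul_eq_mul]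
  rw [hsum, mul_assoc] at havg
  have havg' := Nat.eq_of_mul_eq_mul_left Fintype.card_pos havg
  obtain ⟨α, hαe⟩ : ∃ x, fx a' = x := ⟨_, rfl⟩
  obtain ⟨β, hβe⟩ : ∃ x, fx b = x := ⟨_, rfl⟩
  rw [hαe] at hα havg'
  rw [hβe] at hβ havg'
  -- key equation
  have key : (c : ℤ) * (n - 1) = α * β + n - α - β := by
    have h1 : (c : ℤ) * (n * (n - 1)) = (n - 1) * (α * β) + (n - α) * (n - β) := by
      have := congrArg (Nat.cast : ℕ → ℤ) havg'
      push_cast [Nat.cast_sub (show 1 ≤ n by omega), Nat.cast_sub (show α ≤ n by omega), Nat.cast_sub (show β ≤ n by omega)] at this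
      exact this
    have h2 : (n : ℤ) ≠ 0 := by positivity
    apply mul_left_cancel₀ h2
    linear_combination h1
  have hn' : (5 : ℤ) ≤ n := by exact_mod_cast hn
  have hα' : (α : ℤ) + 2 ≤ n := by exact_mod_cast hα
  have hβ' : (β : ℤ) + 2 ≤ n := by exact_mod_cast hβ
  -- both have at least two fixed points
  by_cases h22 : 2 ≤ α ∧ 2 ≤ β
  · obtain ⟨h2α, h2β⟩ := h22
    have h2α' : (2 : ℤ) ≤ α := by exact_mod_cast h2α
    have h2β' : (2 : ℤ) ≤ β := by exact_mod_cast h2β
    rcases le_total β α with hle | hle
    · obtain ⟨g, hg, hgF⟩ := exists_min hb (by rw [hαe, hβe]; exact hle : fx b ≤ fx a')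
      rw [hconst g hg, hβe] at hgF
      have : (β : ℤ) ≤ c := by exact_mod_cast hgF
      nlinarith
    · obtain ⟨g, hg, hgF⟩ := exists_min ha' (by rw [hαe, hβe]; exact hle : fx a' ≤ fx b)
      rw [F_symm, hconst _ (inv_mem hg), hαe] at hgF
      have : (α : ℤ) ≤ c := by exact_mod_cast hgF
      nlinarith
  -- both at least one
  by_cases h11 : 1 ≤ α ∧ 1 ≤ β
  · have hc1 : c = 1 := by
      have : (c : ℤ) = 1 := by
        have h3 : (α : ℤ) = 1 ∨ (β : ℤ) = 1 := by
          by_contra h
          push Not at h
          apply h22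
          have h4 : α ≠ 1 := by exact_mod_cast h.1
          have h5 : β ≠ 1 := by exact_mod_cast h.2
          omega
        have h6 : (n : ℤ) - 1 ≠ 0 := by linarith
        apply mul_right_cancel₀ h6
        rcases h3 with h3 | h3 <;> rw [key, h3] <;> ring
      exact_mod_cast this
    obtain ⟨p, hp⟩ : ∃ p, a' p = p := by
      have : 0 < fx a' := by rw [hαe]; exact h11.1
      obtain ⟨p, hp⟩ := Finset.card_pos.1 this
      rw [Finset.mem_filter] at hp
      exact ⟨p, hp.2⟩
    obtain ⟨q, hq⟩ : ∃ p, b p = p := by
      have : 0 < fx b := by rw [hβe]; exact h11.2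
      obtain ⟨p, hp⟩ := Finset.card_pos.1 this
      rw [Finset.mem_filter] at hp
      exact ⟨p, hp.2⟩
    obtain ⟨u, hu, -⟩ := exists_moved (a := a') ∅ (by simp; omega)
    obtain ⟨v, hv, -⟩ := exists_moved (a := b) ∅ (by simp; omega)
    have e1 : q ≠ v := by rintro rfl; exact hv hq
    have e2 : q ≠ b v := by
      intro h; apply e1; apply b.injective; rw [hq, ← h]
    have e3 : p ≠ u := by rintro rfl; exact hu hp
    have e4 : p ≠ a' u := by
      intro h; apply e3; apply a'.injective; rw [hp, ← h]
    obtain ⟨g, hg, h1, h2, h3⟩ := three_trans hn e1 e2 hv.symm e3 e4 hu.symm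
    have := two_le_F (a := a') (b := b) (g := g) e1 (by rw [hq, h1, hp]) (by rw [h2, h3])
    rw [hconst g hg, hc1] at this
    omega
  -- remaining
  have hrem : (α = 0 ∧ β = 1 ∨ α = 1 ∧ β = 0) ∧ c = 1 := by
    have h3 : α = 0 ∨ β = 0 := by omega
    have aux : ∀ γ : ℕ, (γ : ℤ) + 2 ≤ n → (c : ℤ) * (n - 1) = n - γ → γ = 1 ∧ c = 1 := by
      intro γ hγ hkey
      have hcpos : 1 ≤ (c : ℤ) := by
        by_contra h
        have : (c : ℤ) = 0 := by omega
        rw [this] at hkey
        linarith
      have hγ1 : (γ : ℤ) ≤ 1 := by nlinarith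
      have h0 : (0 : ℤ) ≤ γ := by positivity
      have hc2 : (c : ℤ) < 2 := by nlinarith
      have hc1 : (c : ℤ) = 1 := by omega
      rw [hc1] at hkey
      constructor
      · have : (γ : ℤ) = 1 := by linarith
        exact_mod_cast this
      · exact_mod_cast hc1
    rcases h3 with h3 | h3
    · obtain ⟨e1, e2⟩ := aux β hβ' (by rw [key, h3]; push_cast; ring)
      exact ⟨Or.inl ⟨h3, e1⟩, e2⟩
    · obtain ⟨e1, e2⟩ := aux α hα' (by rw [key, h3]; push_cast; ring)
      exact ⟨Or.inr ⟨e1, h3⟩, e2⟩
  obtain ⟨hab, hc1⟩ := hrem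
  have hα4 : fx a' + 4 ≤ n := by omega
  have hβ4 : fx b + 4 ≤ n := by omega
  have hex : ∃ g ∈ alternatingGroup (Fin n), 2 ≤ F a' b g := by
    by_cases h1 : ∀ x, a' (a' x) = x
    · exact L1 hn h1 hα4 hβ4
    by_cases h2 : ∀ x, b (b x) = x
    · obtain ⟨g, hg, h⟩ := L1 hn h2 hβ4 hα4
      exact ⟨g⁻¹, inv_mem hg, by rw [F_symm, inv_inv]; exact h⟩
    push Not at h1 h2
    obtain ⟨x, hx⟩ := h1
    obtain ⟨y, hy⟩ := h2
    exact L2 hn hx hy
  obtain ⟨g, hg, h⟩ := hex
  rw [hconst g hg, hc1] at h
  omega

end Cfsg.Agent.S2271
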