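import Cfsg.Statements.S2276
import Mathlib
import Cfsg.Agent.Lib.H56.Al9

set_option autoImplicit false
open Cfsg

namespace Cfsg.Agent.S2276

/-- Let n ≥ 5, p ≥ 3 a prime, and u, w non-identity elements of p-power order in the alternating group A_n. Then there is g ∈ A_n such that u·(g w g⁻¹) does not have p-power order and ⟨u, g w g⁻¹⟩ is not solvable. -/
theorem result (n : ℕ) (hn : 5 ≤ n) (p : ℕ) (hp : p.Prime) (hp3 : 3 ≤ p) (u w : alternatingGroup (Fin n)) (hu : u ≠ 1) (hw : w ≠ 1)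
    (hu' : ∃ k : ℕ, orderOf u = p ^ k) (hw' : ∃ k : ℕ, orderOf w = p ^ k) :
    ∃ g : alternatingGroup (Fin n), (¬ ∃ k : ℕ, orderOf (u * (g * w * g⁻¹)) = p ^ k) ∧
      ¬ Group.IsSolvable ↥(Subgroup.closure ({u, g * w * g⁻¹} : Set (alternatingGroup (Fin n)))) := by
  obtain ⟨i, hi⟩ := hu'
  obtain ⟨k, hk⟩ := hw'
  obtain ⟨g, hg, hG⟩ := H56.Al.main (α := Fin n) hp hp3 (by rw [Fintype.card_fin]; exact hn)
    (u := (u : Equiv.Perm (Fin n))) (w := (w : Equiv.Perm (Fin n)))
    (fun e => hu (Subtype.ext e)) (fun e => hw (Subtype.ext e))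
    (i := i) (k := k) (by rw [Subgroup.orderOf_coe]; exact hi)
    (by rw [Subgroup.orderOf_coe]; exact hk)
  let g' : alternatingGroup (Fin n) := ⟨g, Equiv.Perm.mem_alternatingGroup.2 hg⟩
  refine ⟨g', ?_, ?_⟩
  · rintro ⟨j, hj⟩
    apply hG.1
    refine ⟨j, ?_⟩
    rw [← hj, ← Subgroup.orderOf_coe]
    rfl
  · intro hs
    apply hG.2
    have h1 : (Subgroup.closure ({u, g' * w * g'⁻¹} : Set (alternatingGroup (Fin n)))).map
        (alternatingGroup (Fin n)).subtype =
        Subgroup.closure ({(u : Equiv.Perm (Fin n)), g * w * g⁻¹} : Set (Equiv.Perm (Fin n))) := by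
      rw [MonoidHom.map_closure, Set.image_pair]
      rfl
    rw [← h1]
    haveI := hs
    exact solvable_of_surjective
      ((alternatingGroup (Fin n)).subtype.subgroupMap_surjective
        (Subgroup.closure ({u, g' * w * g'⁻¹} : Set (alternatingGroup (Fin n)))))

end Cfsg.Agent.S2276
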