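import Cfsg.Statements.S2413
import Cfsg.Agent.Lib.H43.OmTwoE
import Cfsg.Agent.S0301
import Cfsg.Agent.S2411

set_option autoImplicit false
open Cfsg

namespace Cfsg.Agent.S2413

/-- The simple orthogonal group `PΩ_{2m+1}(q)` (commutator subgroup of the orthogonal group of `x₀² + Σ x_i y_i` modulo its centre) with `m ≥ 2` and `q` odd is generated by two of its elements. -/
theorem result {F : Type*} [Field F] [Fintype F] (hodd : Odd (Fintype.card F)) (m : ℕ) (hm : 2 ≤ m) :
    ∃ a b : Cfsg.POmega F (Cfsg.quadFormOdd m F), Subgroup.closure ({a, b} : Set (Cfsg.POmega F (Cfsg.quadFormOdd m F))) = ⊤ := by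
  by_cases h2 : m = 2
  · subst h2
    obtain ⟨e⟩ := Cfsg.Agent.S0301.result hodd
    exact H43.OmTwoC.two_gen_quot e.symm.toMonoidHom e.symm.surjective (Cfsg.Agent.S2411.result 2 (by norm_num) (fun _ => by
      have h1 : 1 < Fintype.card F := Fintype.one_lt_card
      rcases hodd with ⟨j, hj⟩
      omega))
  · obtain ⟨k, rfl⟩ : ∃ k, m = k + 3 := ⟨m - 3, by omega⟩
    exact H43.OmTwoE.odd (H7.OmegaIso.two_ne_zero_of_odd hodd) k

end Cfsg.Agent.S2413
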