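import Cfsg.Statements.S2468
import Cfsg.Agent.Lib.H46.PSLAdj

set_option autoImplicit false
open Cfsg

namespace Cfsg.Agent.S2468

open Module H46.ProdUnit H46.ProjOrder H46.Fpf H46.PSLAdj


/-- Adjacency of two odd primes in the prime graph of PSL(n,q): let F be a finite field of characteristic p with q elements, n ≥ 2 with PSL(n,F) simple, and let r ≠ s be odd primes different from p dividing the order of PSL(n,F). Let k and l be the multiplicative orders of q modulo r and modulo s, and suppose 2 ≤ k ≤ l. Then PSL(n,F) has NO element of order r·s if and only if k + l > n and k does not divide l. -/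
theorem result {F : Type*} [Field F] [Fintype F] (p : ℕ) [Fact p.Prime] [CharP F p] (n : ℕ) (hn : 2 ≤ n) (hsmall : n = 2 → 4 ≤ Fintype.card F)
    (r s : ℕ) (hr : r.Prime) (hs : s.Prime) (hr2 : r ≠ 2) (hs2 : s ≠ 2) (hrp : r ≠ p) (hsp : s ≠ p) (hrs : r ≠ s)
    (hrG : r ∣ Nat.card (Matrix.ProjectiveSpecialLinearGroup (Fin n) F)) (hsG : s ∣ Nat.card (Matrix.ProjectiveSpecialLinearGroup (Fin n) F))
    (k l : ℕ) (hk : k = orderOf ((Fintype.card F : ℕ) : ZMod r)) (hl : l = orderOf ((Fintype.card F : ℕ) : ZMod s))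
    (h2k : 2 ≤ k) (hkl : k ≤ l) :
    (r * s ∉ Set.range (orderOf : Matrix.ProjectiveSpecialLinearGroup (Fin n) F → ℕ)) ↔ (n < k + l ∧ ¬ k ∣ l) := by
  have hcF : Nat.card F = Fintype.card F := Nat.card_eq_fintype_card
  have hq : 1 < Fintype.card F := Fintype.one_lt_card
  obtain ⟨hln, hl0⟩ := orderOf_le (F := F) p (by omega) hs hsp hsG
  rw [← hl] at hln hl0
  have hk0 : 0 < k := by omega
  have hcopr : Nat.Coprime r (Nat.card F - 1) := by
    rw [Nat.Prime.coprime_iff_not_dvd hr]
    intro h
    have h1 := orderOf_dvd (r := r) (Fintype.card F) 1 (by omega) (by rw [pow_one, ← hcF]; exact h)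
    rw [← hk] at h1
    have := Nat.le_of_dvd one_pos h1
    omega
  have hcops : Nat.Coprime s (Nat.card F - 1) := by
    rw [Nat.Prime.coprime_iff_not_dvd hs]
    intro h
    have h1 := orderOf_dvd (r := s) (Fintype.card F) 1 (by omega) (by rw [pow_one, ← hcF]; exact h)
    rw [← hl] at h1
    have := Nat.le_of_dvd one_pos h1
    omega
  have hcop : Nat.Coprime (r * s) (Nat.card F - 1) := Nat.Coprime.mul_left hcopr hcops
  have hrs' : Nat.Coprime r s := (Nat.coprime_primes hr hs).mpr hrs
  have hrs0 : r * s ≠ 0 := mul_ne_zero hr.ne_zero hs.ne_zero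
  have hrF : (r : F) ≠ 0 := by
    rw [Ne, CharP.cast_eq_zero_iff F p]
    intro h
    exact hrp ((Nat.prime_dvd_prime_iff_eq Fact.out hr).mp h).symm
  have hsF : (s : F) ≠ 0 := by
    rw [Ne, CharP.cast_eq_zero_iff F p]
    intro h
    exact hsp ((Nat.prime_dvd_prime_iff_eq Fact.out hs).mp h).symm
  have hrk : r ∣ Nat.card F ^ k - 1 := by
    rw [hcF]; exact dvd_of_orderOf _ _ (by omega) (by rw [← hk])
  have hsl : s ∣ Nat.card F ^ l - 1 := by
    rw [hcF]; exact dvd_of_orderOf _ _ (by omega) (by rw [← hl])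
  constructor
  · intro hnot
    refine ⟨?_, ?_⟩
    · by_contra hcon
      push Not at hcon
      apply hnot
      obtain ⟨K₁, _, _, _, u₁, hK₁, hu₁⟩ := exists_model F k r hk0 hrk
      obtain ⟨K₂, _, _, _, u₂, hK₂, hu₂⟩ := exists_model F l s hl0 hsl
      haveI : Module.Finite F K₁ := Module.finite_of_finrank_pos (by omega)
      haveI : Module.Finite F K₂ := Module.finite_of_finrank_pos (by omega)
      rw [mem_iff_coprime (F := F) (by omega) (K₁ × (K₂ × (Fin (n - k - l) → F))) (by
        rw [Module.finrank_prod, Module.finrank_prod, hK₁, hK₂, Module.finrank_fin_fun]; omega) hrs0 hcop]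
      refine ⟨prodUnit u₁ (prodUnit u₂ 1), ?_⟩
      rw [H46.Irr.orderOf_prodUnit, H46.Irr.orderOf_prodUnit, orderOf_one, Nat.lcm_one_right, hu₁, hu₂]
      exact hrs'.lcm_eq_mul
    · intro hkl'
      apply hnot
      have hrl : r ∣ Nat.card F ^ l - 1 := by
        rw [hcF]; exact dvd_of_orderOf _ _ (by omega) (by rw [← hk]; exact hkl')
      obtain ⟨K₁, _, _, _, u₁, hK₁, hu₁⟩ := exists_model F l (r * s) hl0 (hrs'.mul_dvd_of_dvd_of_dvd hrl hsl)
      haveI : Module.Finite F K₁ := Module.finite_of_finrank_pos (by omega)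
      rw [mem_iff_coprime (F := F) (by omega) (K₁ × (Fin (n - l) → F)) (by
        rw [Module.finrank_prod, hK₁, Module.finrank_fin_fun]; omega) hrs0 hcop]
      refine ⟨prodUnit u₁ 1, ?_⟩
      rw [H46.Irr.orderOf_prodUnit, orderOf_one, Nat.lcm_one_right, hu₁]
  · rintro ⟨h1, h2⟩ hmem
    rw [mem_iff_coprime (F := F) (by omega) (Fin n → F) (by simp) hrs0 hcop] at hmem
    obtain ⟨u, hu⟩ := hmem
    have hy : (u ^ s) ^ r = 1 := by rw [← pow_mul, mul_comm, ← hu, pow_orderOf_eq_one]
    have hw : (u ^ r) ^ s = 1 := by rw [← pow_mul, ← hu, pow_orderOf_eq_one]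
    have hy1 : u ^ s ≠ 1 := by
      intro h
      have := orderOf_dvd_of_pow_eq_one h
      rw [hu] at this
      have := Nat.le_of_dvd hs.pos this
      have h3 : 1 * s < r * s := Nat.mul_lt_mul_of_pos_right hr.one_lt hs.pos
      omega
    have hw1 : u ^ r ≠ 1 := by
      intro h
      have := orderOf_dvd_of_pow_eq_one h
      rw [hu] at this
      have := Nat.le_of_dvd hr.pos this
      have h3 : r * 1 < r * s := Nat.mul_lt_mul_of_pos_left hs.one_lt hr.pos
      omega
    have hcom : Commute ((u ^ r : (Module.End F (Fin n → F))ˣ) : Module.End F (Fin n → F)) ((u ^ s : (Module.End F (Fin n → F))ˣ) : Module.End F (Fin n → F)) := by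
      rw [Units.val_pow_eq_pow_val, Units.val_pow_eq_pow_val]
      exact (Commute.refl _).pow_pow _ _
    set X := com ((u ^ r : (Module.End F (Fin n → F))ˣ) : Module.End F (Fin n → F)) with hX
    set Y := com ((u ^ s : (Module.End F (Fin n → F))ˣ) : Module.End F (Fin n → F)) with hY
    have hXne : X ≠ ⊥ := com_ne_bot (fun h => hw1 (Units.ext h))
    have hYne : Y ≠ ⊥ := com_ne_bot (fun h => hy1 (Units.ext h))
    have hlX : l ∣ finrank F X := by
      rw [hl, ← hcF]
      exact orderOf_dvd_finrank (u ^ r) hs hsF hw X (com_inv (Commute.refl _)) le_rfl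
    have hkY : k ∣ finrank F Y := by
      rw [hk, ← hcF]
      exact orderOf_dvd_finrank (u ^ s) hr hrF hy Y (com_inv (Commute.refl _)) le_rfl
    have hXpos : 0 < finrank F X := by
      rw [Nat.pos_iff_ne_zero, Ne, Submodule.finrank_eq_zero]; exact hXne
    have hYpos : 0 < finrank F Y := by
      rw [Nat.pos_iff_ne_zero, Ne, Submodule.finrank_eq_zero]; exact hYne
    by_cases hinf : X ⊓ Y = ⊥
    · have h3 := Submodule.finrank_sup_add_finrank_inf_eq X Y
      rw [hinf, finrank_bot, add_zero] at h3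
      have h4 : finrank F (X ⊔ Y : Submodule F (Fin n → F)) ≤ n := by
        have := Submodule.finrank_le (X ⊔ Y : Submodule F (Fin n → F))
        simpa using this
      have := Nat.le_of_dvd hXpos hlX
      have := Nat.le_of_dvd hYpos hkY
      omega
    · have hZpos : 0 < finrank F (X ⊓ Y : Submodule F (Fin n → F)) := by
        rw [Nat.pos_iff_ne_zero, Ne, Submodule.finrank_eq_zero]; exact hinf
      have h3 : l ∣ finrank F (X ⊓ Y : Submodule F (Fin n → F)) := by
        rw [hl, ← hcF]
        exact orderOf_dvd_finrank (u ^ r) hs hsF hw _ (fun v hv => ⟨com_inv (Commute.refl _) v hv.1, com_inv hcom v hv.2⟩) inf_le_left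
      have h4 : k ∣ finrank F (X ⊓ Y : Submodule F (Fin n → F)) := by
        rw [hk, ← hcF]
        exact orderOf_dvd_finrank (u ^ s) hr hrF hy _ (fun v hv => ⟨com_inv hcom.symm v hv.1, com_inv (Commute.refl _) v hv.2⟩) inf_le_right
      have h5 : finrank F (X ⊓ Y : Submodule F (Fin n → F)) ≤ n := by
        have := Submodule.finrank_le (X ⊓ Y : Submodule F (Fin n → F))
        simpa using this
      obtain ⟨j, hj⟩ := h3
      have hj1 : j = 1 := by
        rcases (by omega : j = 0 ∨ j = 1 ∨ 2 ≤ j) with h6 | h6 | h6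
        · rw [h6, mul_zero] at hj; omega
        · exact h6
        · have : l * 2 ≤ l * j := Nat.mul_le_mul_left l h6
          omega
      rw [hj, hj1, mul_one] at h4
      exact h2 h4

end Cfsg.Agent.S2468
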