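import Cfsg.Statements.S2469
import Cfsg.Agent.Lib.H46.SpAdj2
import Cfsg.Agent.Lib.H46.Irr

set_option autoImplicit false
open Cfsg

namespace Cfsg.Agent.S2469

open Module Polynomial H46.ProdUnit H46.ProjOrder H46.Fpf H46.SpModels H46.OrthDec H46.SForm H46.SForm.SForm H46.OrdPSp H46.SpAdj

/-- Adjacency of two odd primes in the prime graph of PSp(2n,q): let F be a finite field of characteristic p with q elements, n ≥ 2 with PSp(2n,F) simple, and let r ≠ s be odd primes different from p dividing the order of PSp(2n,F). Let k, l be the multiplicative orders of q modulo r and s, put η(m) = m for odd m and η(m) = m/2 for even m, and suppose η(k) ≤ η(l). Then PSp(2n,F) has NO element of order r·s if and only if η(k) + η(l) > n and l/k is not an odd integer. -/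
theorem result {F : Type*} [Field F] [Fintype F] (p : ℕ) [Fact p.Prime] [CharP F p] (n : ℕ) (hn : 2 ≤ n) (hsmall : n = 2 → 3 ≤ Fintype.card F)
    (r s : ℕ) (hr : r.Prime) (hs : s.Prime) (hr2 : r ≠ 2) (hs2 : s ≠ 2) (hrp : r ≠ p) (hsp : s ≠ p) (hrs : r ≠ s)
    (hrG : r ∣ Nat.card (Cfsg.PSp n F)) (hsG : s ∣ Nat.card (Cfsg.PSp n F))
    (k l ηk ηl : ℕ) (hk : k = orderOf ((Fintype.card F : ℕ) : ZMod r)) (hl : l = orderOf ((Fintype.card F : ℕ) : ZMod s))
    (hηk : (Odd k ∧ ηk = k) ∨ (Even k ∧ 2 * ηk = k)) (hηl : (Odd l ∧ ηl = l) ∨ (Even l ∧ 2 * ηl = l)) (hkl : ηk ≤ ηl) :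
    (r * s ∉ Set.range (orderOf : Cfsg.PSp n F → ℕ)) ↔ (n < ηk + ηl ∧ ¬ ∃ t : ℕ, Odd t ∧ l = k * t) := by
  have hcF : Nat.card F = Fintype.card F := Nat.card_eq_fintype_card
  have hq : 1 < Fintype.card F := Fintype.one_lt_card
  have hq0 : 0 < Nat.card F := Finite.card_pos
  have hηk' : Eta (orderOf ((Fintype.card F : ℕ) : ZMod r)) ηk := by rw [← hk]; exact hηk
  have hηl' : Eta (orderOf ((Fintype.card F : ℕ) : ZMod s)) ηl := by rw [← hl]; exact hηl
  obtain ⟨hkn, hk0⟩ := eta_le (F := F) p hr hrp hrG hηk'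
  obtain ⟨hln, hl0⟩ := eta_le (F := F) p hs hsp hsG hηl'
  rw [← hk] at hk0 hηk'
  rw [← hl] at hl0 hηl'
  rw [← hcF] at hk hl
  have hηk0 := hηk'.pos hk0
  have hηl0 := hηl'.pos hl0
  have hrs' : Nat.Coprime r s := (Nat.coprime_primes hr hs).mpr hrs
  have hrF : (r : F) ≠ 0 := by
    rw [Ne, CharP.cast_eq_zero_iff F p]
    intro h
    exact hrp ((Nat.prime_dvd_prime_iff_eq Fact.out hr).mp h).symm
  have hsF : (s : F) ≠ 0 := by
    rw [Ne, CharP.cast_eq_zero_iff F p]
    intro h
    exact hsp ((Nat.prime_dvd_prime_iff_eq Fact.out hs).mp h).symm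
  have hodd : Odd (r * s) := (hr.odd_of_ne_two hr2).mul (hs.odd_of_ne_two hs2)
  constructor
  · intro hnot
    refine ⟨?_, ?_⟩
    · by_contra hcon
      push Not at hcon
      apply hnot
      obtain ⟨A₁, _, _, f₁, u₁, ha₁, hn₁, hA₁, hi₁, hu₁⟩ := exists_torus F hr hr2 hk hηk' hk0
      obtain ⟨A₂, _, _, f₂, u₂, ha₂, hn₂, hA₂, hi₂, hu₂⟩ := exists_torus F hs hs2 hl hηl' hl0
      haveI : Module.Finite F A₁ := Module.finite_of_finrank_pos (by omega)
      haveI : Module.Finite F A₂ := Module.finite_of_finrank_pos (by omega)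
      have hord : orderOf (prodUnit u₁ (prodUnit u₂ (1 : (Module.End F (Fin (n - ηk - ηl) ⊕ Fin (n - ηk - ηl) → F))ˣ))) = r * s := by
        rw [H46.Irr.orderOf_prodUnit, H46.Irr.orderOf_prodUnit, orderOf_one, Nat.lcm_one_right, hu₁, hu₂]
        exact hrs'.lcm_eq_mul
      have h := H46.SpAdj.mem (n := n) (by omega) (f₁.prod (f₂.prod (stdForm (n - ηk - ηl) F))) (ha₁.prod (ha₂.prod (stdForm_alt _)))
        (hn₁.prod (hn₂.prod (stdForm_nd _))) (by
          rw [Module.finrank_prod, Module.finrank_prod, hA₁, hA₂, Module.finrank_fintype_fun_eq_card, Fintype.card_sum, Fintype.card_fin]; omega)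
        (prodUnit u₁ (prodUnit u₂ 1)) (hi₁.prod (hi₂.prod Isom.one)) (Or.inl (by rw [hord]; exact hodd))
      rwa [hord] at h
    · rintro ⟨t, ht, hkt⟩
      apply hnot
      -- a torus containing both
      obtain ⟨A, _, _, f, u, ha, hn, hA, hi, hu⟩ : ∃ (A : Type) (_ : AddCommGroup A) (_ : Module F A) (f : H46.SForm.SForm F A (RingHom.id F)) (u : (Module.End F A)ˣ),
          f.Alt ∧ f.ND ∧ finrank F A = 2 * ηl ∧ f.Isom u ∧ orderOf u = r * s := by
        rcases hηl with ⟨h1, h2⟩ | ⟨h1, h2⟩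
        · obtain ⟨A, _, _, _, f, hf1, hf2, hA, hf⟩ := torus_minus F ηl hηl0
          obtain ⟨β, hβ1, hβ2⟩ := hf (r * s) (hrs'.mul_dvd_of_dvd_of_dvd (dvd_of_orderOf _ _ hq0 (by rw [← hk, h2, hkt]; exact Dvd.intro _ rfl))
            (dvd_of_orderOf _ _ hq0 (by rw [← hl, h2])))
          exact ⟨A, inferInstance, inferInstance, f, mulUnit F β, hf1, hf2, hA, hβ1, by rw [orderOf_mulUnit, hβ2]⟩
        · have hkeven : Even k := by
            rw [hkt, Nat.even_mul] at h1
            rcases h1 with h1 | h1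
            · exact h1
            · exact absurd h1 (Nat.not_even_iff_odd.mpr ht)
          obtain ⟨k', hk'⟩ := hkeven
          have hkey : ∀ (x : ℕ), x.Prime → ∀ z, z = orderOf ((Nat.card F : ℕ) : ZMod x) → z ∣ l → ¬ z ∣ ηl → x ∣ Nat.card F ^ ηl + 1 := by
            intro x hx z hz hzl hzn
            have h4 : x ∣ Nat.card F ^ (2 * ηl) - 1 := dvd_of_orderOf _ _ hq0 (by rw [← hz, h2]; exact hzl)
            have h5 : Nat.card F ^ (2 * ηl) - 1 = (Nat.card F ^ ηl + 1) * (Nat.card F ^ ηl - 1) := by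
              rw [mul_comm 2 ηl, pow_mul, ← Nat.sq_sub_sq, one_pow]
            rw [h5] at h4
            rcases (Nat.Prime.dvd_mul hx).mp h4 with h6 | h6
            · exact h6
            · exact absurd (by rw [hz]; exact orderOf_dvd _ _ hq0 h6) hzn
          have hr' : r ∣ Nat.card F ^ ηl + 1 := by
            apply hkey r hr k hk (by rw [hkt]; exact Dvd.intro _ rfl)
            intro h3
            obtain ⟨t', ht'⟩ := ht
            have h4 : ηl = k' * t := by
              have : 2 * ηl = 2 * (k' * t) := by rw [h2, hkt, hk']; ring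
              omega
            rw [h4, hk', ← two_mul, ht'] at h3
            have h5 : k' * 2 ∣ k' * (2 * t' + 1) := by rw [mul_comm k' 2]; exact h3
            have h6 := (Nat.mul_dvd_mul_iff_left (by omega : 0 < k')).mp h5
            omega
          have hs' : s ∣ Nat.card F ^ ηl + 1 := by
            apply hkey s hs l hl dvd_rfl
            intro h3
            have := Nat.le_of_dvd hηl0 h3
            omega
          obtain ⟨A, _, _, _, f, hf1, hf2, hA, hf⟩ := torus_plus F ηl hηl0
          obtain ⟨β, hβ1, hβ2⟩ := hf (r * s) (hrs'.mul_dvd_of_dvd_of_dvd hr' hs')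
          exact ⟨A, inferInstance, inferInstance, f, mulUnit F β, hf1, hf2, hA, hβ1, by rw [orderOf_mulUnit, hβ2]⟩
      haveI : Module.Finite F A := Module.finite_of_finrank_pos (by omega)
      have hord : orderOf (prodUnit u (1 : (Module.End F (Fin (n - ηl) ⊕ Fin (n - ηl) → F))ˣ)) = r * s := by
        rw [H46.Irr.orderOf_prodUnit, orderOf_one, Nat.lcm_one_right, hu]
      have h := H46.SpAdj.mem (n := n) (by omega) (f.prod (stdForm (n - ηl) F)) (ha.prod (stdForm_alt _))
        (hn.prod (stdForm_nd _)) (by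
          rw [Module.finrank_prod, hA, Module.finrank_fintype_fun_eq_card, Fintype.card_sum, Fintype.card_fin]; omega)
        (prodUnit u 1) (hi.prod Isom.one) (Or.inl (by rw [hord]; exact hodd))
      rwa [hord] at h
  · rintro ⟨h1, h2⟩ hmem
    obtain ⟨x, hx⟩ := hmem
    obtain ⟨u, hui, hu⟩ := H46.SpAdj.exists_lift (by omega) x (Or.inl (by rw [hx]; exact hodd))
    rw [hx] at hu
    have hfin : finrank F (Fin n ⊕ Fin n → F) = 2 * n := by
      rw [Module.finrank_fintype_fun_eq_card, Fintype.card_sum, Fintype.card_fin]; omega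
    have hy : (u ^ s) ^ r = 1 := by rw [← pow_mul, mul_comm, ← hu, pow_orderOf_eq_one]
    have hw : (u ^ r) ^ s = 1 := by rw [← pow_mul, ← hu, pow_orderOf_eq_one]
    have hy1 : u ^ s ≠ 1 := by
      intro h
      have := orderOf_dvd_of_pow_eq_one h
      rw [hu] at this
      have := Nat.le_of_dvd hs.pos this
      have h3 : 1 * s < r * s := Nat.mul_lt_mul_of_pos_right hr.one_lt hs.pos
      omega
    have hw1 : u ^ r ≠ 1 := by
      intro h
      have := orderOf_dvd_of_pow_eq_one h
      rw [hu] at this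
      have := Nat.le_of_dvd hr.pos this
      have h3 : r * 1 < r * s := Nat.mul_lt_mul_of_pos_left hs.one_lt hr.pos
      omega
    have hcom : Commute ((u ^ r : (Module.End F (Fin n ⊕ Fin n → F))ˣ) : Module.End F (Fin n ⊕ Fin n → F)) ((u ^ s : (Module.End F (Fin n ⊕ Fin n → F))ˣ) : Module.End F (Fin n ⊕ Fin n → F)) := by
      rw [Units.val_pow_eq_pow_val, Units.val_pow_eq_pow_val]
      exact (Commute.refl _).pow_pow _ _
    have hcu : ∀ m, Commute (u : Module.End F (Fin n ⊕ Fin n → F)) ((u ^ m : (Module.End F (Fin n ⊕ Fin n → F))ˣ) : Module.End F (Fin n ⊕ Fin n → F)) := by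
      intro m
      rw [Units.val_pow_eq_pow_val]
      exact (Commute.refl _).pow_right _
    have hA := stdForm_alt (F := F) n
    have hN := stdForm_nd (F := F) n
    set X := com ((u ^ r : (Module.End F (Fin n ⊕ Fin n → F))ˣ) : Module.End F (Fin n ⊕ Fin n → F)) with hX
    set Y := com ((u ^ s : (Module.End F (Fin n ⊕ Fin n → F))ˣ) : Module.End F (Fin n ⊕ Fin n → F)) with hY
    have hXne : X ≠ ⊥ := com_ne_bot (fun h => hw1 (Units.ext h))
    have hYne : Y ≠ ⊥ := com_ne_bot (fun h => hy1 (Units.ext h))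
    have hXnd : ((stdForm n F).pull X.subtype).ND := nd_com hA hN (hui.pow r) hsF hw
    have hYnd : ((stdForm n F).pull Y.subtype).ND := nd_com hA hN (hui.pow s) hrF hy
    have hlX : 2 * ηl ∣ finrank F X := eta_dvd hA hs hsF hw hl hηl' X (com_inv (Commute.refl _)) le_rfl hXnd
    have hkY : 2 * ηk ∣ finrank F Y := eta_dvd hA hr hrF hy hk hηk' Y (com_inv (Commute.refl _)) le_rfl hYnd
    have hXpos : 0 < finrank F X := by
      rw [Nat.pos_iff_ne_zero, Ne, Submodule.finrank_eq_zero]; exact hXne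
    have hYpos : 0 < finrank F Y := by
      rw [Nat.pos_iff_ne_zero, Ne, Submodule.finrank_eq_zero]; exact hYne
    by_cases hinf : X ⊓ Y = ⊥
    · have h3 := Submodule.finrank_sup_add_finrank_inf_eq X Y
      rw [hinf, finrank_bot, add_zero] at h3
      have h4 : finrank F (X ⊔ Y : Submodule F (Fin n ⊕ Fin n → F)) ≤ 2 * n := by
        rw [← hfin]; exact Submodule.finrank_le _
      have := Nat.le_of_dvd hXpos hlX
      have := Nat.le_of_dvd hYpos hkY
      omega
    · set Z := X ⊓ Y with hZ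
      have hZpos : 0 < finrank F Z := by
        rw [Nat.pos_iff_ne_zero, Ne, Submodule.finrank_eq_zero]; exact hinf
      haveI : Nontrivial Z := Module.nontrivial_of_finrank_pos (R := F) hZpos
      have hZnd : ((stdForm n F).pull Z.subtype).ND := nd_inf hA (hui.pow s) hrF hy X (com_inv hcom.symm) hXnd
      have hZu : ∀ v ∈ Z, (u : Module.End F (Fin n ⊕ Fin n → F)) v ∈ Z := fun v hv => ⟨com_inv (hcu r) v hv.1, com_inv (hcu s) v hv.2⟩
      obtain ⟨u', -, hu'⟩ := exists_res u Z hZu
      have hui' := res_isom hui hu'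
      have hA' : ((stdForm n F).pull Z.subtype).Alt := alt_pull hA
      have hpow : ∀ m (z : Z), ((((u' ^ m : (Module.End F Z)ˣ) : Module.End F Z) z : Z) : Fin n ⊕ Fin n → F) = ((u ^ m : (Module.End F (Fin n ⊕ Fin n → F))ˣ) : Module.End F (Fin n ⊕ Fin n → F)) z := by
        intro m z
        rw [Units.val_pow_eq_pow_val, Units.val_pow_eq_pow_val, res_pow hu']
      have hy' : (u' ^ s) ^ r = 1 := by
        apply Units.ext
        ext z
        rw [← pow_mul, hpow, pow_mul, hy]; rfl
      have hw' : (u' ^ r) ^ s = 1 := by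
        apply Units.ext
        ext z
        rw [← pow_mul, hpow, pow_mul, hw]; rfl
      have hyf : ∀ z, ((u' ^ s : (Module.End F Z)ˣ) : Module.End F Z) z = z → z = 0 := by
        intro z hz
        apply Subtype.ext
        have h3 := congrArg Subtype.val hz
        rw [hpow] at h3
        exact eq_zero_of_mem hrF (by rw [← Units.val_pow_eq_pow_val, hy, Units.val_one]) h3 z.2.2
      have hwf : ∀ z, ((u' ^ r : (Module.End F Z)ˣ) : Module.End F Z) z = z → z = 0 := by
        intro z hz
        apply Subtype.ext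
        have h3 := congrArg Subtype.val hz
        rw [hpow] at h3
        exact eq_zero_of_mem hsF (by rw [← Units.val_pow_eq_pow_val, hw, Units.val_one]) h3 z.2.1
      have hne : ∀ {P : (Module.End F Z)ˣ}, (∀ z, (P : Module.End F Z) z = z → z = 0) → P ≠ 1 := by
        rintro P hP rfl
        obtain ⟨z, hz⟩ := exists_ne (0 : Z)
        exact hz (hP z rfl)
      have hev : Even (finrank F Z) := even_finrank hA' hZnd
      have hZl : l ∣ finrank F Z := by
        rw [hl]
        exact orderOf_dvd_finrank (u ^ r) hs hsF hw Z (fun v hv => ⟨com_inv (Commute.refl _) v hv.1, com_inv hcom v hv.2⟩) inf_le_left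
      have hZk : k ∣ finrank F Z := by
        rw [hk]
        exact orderOf_dvd_finrank (u ^ s) hr hrF hy Z (fun v hv => ⟨com_inv hcom.symm v hv.1, com_inv (Commute.refl _) v hv.2⟩) inf_le_right
      have hZl2 : 2 * ηl ∣ finrank F Z := hηl'.dvd hev hZl
      have hZle : finrank F Z ≤ 2 * n := by rw [← hfin]; exact Submodule.finrank_le _
      have hZeq : finrank F Z = 2 * ηl := by
        obtain ⟨j, hj⟩ := hZl2
        rcases (by omega : j = 0 ∨ j = 1 ∨ 2 ≤ j) with h6 | h6 | h6
        · rw [h6, mul_zero] at hj; omega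
        · rw [h6, mul_one] at hj; exact hj
        · have : 2 * ηl * 2 ≤ 2 * ηl * j := Nat.mul_le_mul_left _ h6
          omega
      have hcu' : ∀ m, Commute ((u' ^ m : (Module.End F Z)ˣ) : Module.End F Z) (u' : Module.End F Z) := by
        intro m
        rw [Units.val_pow_eq_pow_val]
        exact (Commute.refl _).pow_left _
      have hrsF : ((r * s : ℕ) : F) ≠ 0 := by rw [Nat.cast_mul]; exact mul_ne_zero hrF hsF
      have hsq : Squarefree (Polynomial.X ^ (r * s) - C 1 : Polynomial F) := (Polynomial.separable_X_pow_sub_C 1 hrsF one_ne_zero).squarefree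
      have hann : aeval (u' : Module.End F Z) (Polynomial.X ^ (r * s) - C 1 : Polynomial F) = 0 := by
        rw [map_sub, map_pow, aeval_X, aeval_C, map_one, ← Units.val_pow_eq_pow_val, pow_mul, hw', Units.val_one, sub_self]
      rcases structure_isom (fun _ => rfl) (ε := (-1 : F)) ⟨rfl, by ring⟩ hA'.sym hZnd u' hui' _ hsq hann with h | h | h
      · obtain ⟨W₁, W₂, hW, hW₁, hW₂, horth, hinv⟩ := h
        obtain ⟨-, -, -, -, hnd₁, hnd₂, -, -, -, -, -⟩ := decomp_isom hA'.sym hZnd W₁ W₂ hW horth (u' ^ r) (hui'.pow r)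
          (hinv _ (hcu' r)).1 (hinv _ (hcu' r)).2
        have h3 : 2 * ηl ∣ finrank F W₁ := eta_dvd_of_fpf hA' hs hsF hw' hwf hl hηl' W₁ (hinv _ (hcu' r)).1 hnd₁
        have h4 : 2 * ηl ∣ finrank F W₂ := eta_dvd_of_fpf hA' hs hsF hw' hwf hl hηl' W₂ (hinv _ (hcu' r)).2 hnd₂
        have h5 : 0 < finrank F W₁ := by rw [Nat.pos_iff_ne_zero, Ne, Submodule.finrank_eq_zero]; exact hW₁
        have h6 : 0 < finrank F W₂ := by rw [Nat.pos_iff_ne_zero, Ne, Submodule.finrank_eq_zero]; exact hW₂
        have h7 := Submodule.finrank_add_eq_of_isCompl hW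
        have := Nat.le_of_dvd h5 h3
        have := Nat.le_of_dvd h6 h4
        omega
      · have hu2 : u' ^ 2 ≠ 1 := by
          intro h3
          apply hne hwf
          have h4 := orderOf_dvd_of_pow_eq_one hw'
          have h5 : (u' ^ r) ^ 2 = 1 := by rw [← pow_mul, mul_comm, pow_mul, h3, one_pow]
          have h6 := orderOf_dvd_of_pow_eq_one h5
          have h7 : orderOf (u' ^ r) ∣ Nat.gcd s 2 := Nat.dvd_gcd h4 h6
          rw [(Nat.coprime_primes hs Nat.prime_two).mpr hs2] at h7
          rw [← orderOf_eq_one_iff]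
          exact Nat.dvd_one.mp h7
        obtain ⟨e, he0, he1, he2⟩ := irr_torus p hA' hZnd u' hui' h hu2
        have hdvd : ∀ (a b : ℕ), b.Prime → (u' ^ a) ^ b = 1 → (∀ z, ((u' ^ a : (Module.End F Z)ˣ) : Module.End F Z) z = z → z = 0) →
            b ∣ Nat.card F ^ e + 1 := by
          intro a b hb h3 h4
          have h5 : orderOf (u' ^ a) = b := by
            haveI := Fact.mk hb
            exact orderOf_eq_prime h3 (hne h4)
          rw [← h5]
          apply orderOf_dvd_of_pow_eq_one
          rw [← pow_mul, mul_comm, pow_mul, he2, one_pow]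
        obtain ⟨h3, h4⟩ := not_dvd_of_plus hq0 hr hr2 hk (hdvd s r hr hy' hyf)
        obtain ⟨h5, h6⟩ := not_dvd_of_plus hq0 hs hs2 hl (hdvd r s hs hw' hwf)
        rw [hZeq] at he1
        apply h2
        rcases hηl with ⟨h7, h8⟩ | ⟨h7, h8⟩
        · exact absurd ((Nat.Coprime.dvd_mul_left (Nat.coprime_two_right.mpr h7)).mp h5) h6
        · rw [h8] at he1
          have h9 : l = 2 * e := Nat.dvd_antisymm h5 he1
          obtain ⟨t, ht⟩ := h3
          refine ⟨t, ?_, by rw [h9, ht]⟩
          by_contra h10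
          rw [Nat.not_odd_iff_even] at h10
          obtain ⟨t', ht'⟩ := h10
          apply h4
          refine ⟨t', ?_⟩
          have : 2 * e = 2 * (k * t') := by rw [ht, ht']; ring
          omega
      · obtain ⟨W₁, W₂, g, hW, hW₁, hW₂, hiso₁, hiso₂, hinv, -, -⟩ := h
        have hpair : Pair ((stdForm n F).pull Z.subtype) W₁ W₂ := ⟨hW, hiso₁, hiso₂⟩
        have h3 := hpair.finrank_eq (hA'.sym.ndr hZnd)
        have h4 := Submodule.finrank_add_eq_of_isCompl hW
        have h5 : finrank F W₁ = ηl := by omega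
        have h6 : l ∣ ηl := by
          rw [← h5]
          exact dvd_of_fpf' hs hsF hw' hwf hl W₁ (hinv _ (hcu' r)).1
        have h7 : k ∣ ηl := by
          rw [← h5]
          exact dvd_of_fpf' hr hrF hy' hyf hk W₁ (hinv _ (hcu' s)).1
        have h8 := Nat.le_of_dvd hηl0 h6
        rcases hηl with ⟨h9, h10⟩ | ⟨h9, h10⟩
        · rw [h10] at h7
          obtain ⟨t, ht⟩ := h7
          apply h2
          refine ⟨t, ?_, ht⟩
          rw [ht, Nat.odd_mul] at h9
          exact h9.2
        · omega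

end Cfsg.Agent.S2469
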