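import Cfsg.Statements.S2470
import Cfsg.Agent.Lib.H46.PSLAdj
import Cfsg.Agent.Lib.H46.SmallDim
import Cfsg.Agent.Lib.H46.Unip
import Cfsg.Agent.Lib.H46.Orders

set_option autoImplicit false
open Cfsg

namespace Cfsg.Agent.S2470

open Module Polynomial H46.ProdUnit H46.ProjOrder H46.Fpf H46.PSLAdj H46.SmallDim

theorem pow_one_of_charp {F : Type*} [Field F] [Finite F] (p : ℕ) [Fact p.Prime] [CharP F p] (E : ℕ) {c : F} (h : c ^ p ^ E = 1) : c = 1 := by
  haveI : Fintype F := Fintype.ofFinite F
  apply eq_one_of_pow (m := p ^ E) _ h (pow_ne_zero _ (Fact.out : p.Prime).ne_zero)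
  apply Nat.Coprime.pow_left
  rw [Nat.Prime.coprime_iff_not_dvd Fact.out]
  intro hd
  obtain ⟨k, hk, hk2⟩ := FiniteField.card F p
  have h2 : p ∣ Nat.card F := by
    rw [Nat.card_eq_fintype_card, hk2]
    exact dvd_pow_self p k.ne_zero
  have h3 := Nat.dvd_sub h2 hd
  rw [Nat.sub_sub_self Finite.card_pos] at h3
  exact (Fact.out : p.Prime).one_lt.ne' (Nat.dvd_one.mp h3)

/-- scalar powers of unipotents -/
theorem unip_scalar {F : Type*} [Field F] [Finite F] (p : ℕ) [Fact p.Prime] [CharP F p] {A : Type*} [AddCommGroup A] [Module F A] [Nontrivial A]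
    (u : (Module.End F A)ˣ) (E : ℕ) (hu : orderOf u = p ^ E) (m : ℕ) (c : F) (h : (u : Module.End F A) ^ m = algebraMap F _ c) :
    c = 1 ∧ p ^ E ∣ m := by
  have h1 : c = 1 := by
    apply pow_one_of_charp p E
    apply (algebraMap F (Module.End F A)).injective
    rw [map_pow, map_one, ← h, ← pow_mul, mul_comm, pow_mul, ← Units.val_pow_eq_pow_val, ← hu, pow_orderOf_eq_one, Units.val_one, one_pow]
  refine ⟨h1, ?_⟩
  rw [← hu]
  apply orderOf_dvd_of_pow_eq_one
  apply Units.ext
  rw [Units.val_pow_eq_pow_val, h, h1, map_one, Units.val_one]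

/-- Adjacency of an odd prime and the characteristic in the prime graph of PSL(n,q): let F be a finite field of characteristic p with q elements, n ≥ 2 with PSL(n,F) simple, and let r ≠ p be an odd prime dividing the order of PSL(n,F), with k the multiplicative order of q modulo r. Then PSL(n,F) has NO element of order r·p if and only if either k > n − 2, or n = 3, r = 3 and 3 divides q − 1 exactly once. -/
theorem result {F : Type*} [Field F] [Fintype F] (p : ℕ) [Fact p.Prime] [CharP F p] (n : ℕ) (hn : 2 ≤ n) (hsmall : n = 2 → 4 ≤ Fintype.card F)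
    (r : ℕ) (hr : r.Prime) (hr2 : r ≠ 2) (hrp : r ≠ p) (hrG : r ∣ Nat.card (Matrix.ProjectiveSpecialLinearGroup (Fin n) F))
    (k : ℕ) (hk : k = orderOf ((Fintype.card F : ℕ) : ZMod r)) :
    (r * p ∉ Set.range (orderOf : Matrix.ProjectiveSpecialLinearGroup (Fin n) F → ℕ)) ↔
      (n - 2 < k ∨ (n = 3 ∧ r = 3 ∧ 3 ∣ Fintype.card F - 1 ∧ ¬ 9 ∣ Fintype.card F - 1)) := by
  have hcF : Nat.card F = Fintype.card F := Nat.card_eq_fintype_card
  have hq : 1 < Fintype.card F := Fintype.one_lt_card
  obtain ⟨hkn, hk0⟩ := orderOf_le (F := F) p (by omega) hr hrp hrG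
  rw [← hk] at hkn hk0
  have hp : p.Prime := Fact.out
  have hrp' : Nat.Coprime r p := (Nat.coprime_primes hr hp).mpr hrp
  have hrF : (r : F) ≠ 0 := by
    rw [Ne, CharP.cast_eq_zero_iff F p]
    intro h
    exact hrp ((Nat.prime_dvd_prime_iff_eq Fact.out hr).mp h).symm
  have hrk : r ∣ Nat.card F ^ k - 1 := by
    rw [hcF]; exact dvd_of_orderOf _ _ (by omega) (by rw [← hk])
  have hcopp : Nat.Coprime p (Nat.card F - 1) := by
    rw [Nat.Prime.coprime_iff_not_dvd hp]
    intro hd
    obtain ⟨j, hj, hj2⟩ := FiniteField.card F p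
    have h2 : p ∣ Nat.card F := by
      rw [hcF, hj2]
      exact dvd_pow_self p j.ne_zero
    have h3 := Nat.dvd_sub h2 hd
    rw [Nat.sub_sub_self Finite.card_pos] at h3
    exact hp.one_lt.ne' (Nat.dvd_one.mp h3)
  obtain ⟨A, _, _, u₂, E, hA, hA1, hu₂, hE⟩ := H46.Unip.exists_unipotent (F := F) p 2 1 (by norm_num) (Or.inr (by simp))
  haveI : Module.Finite F A := Module.finite_of_finrank_pos (by omega)
  haveI : Nontrivial A := Module.nontrivial_of_finrank_pos (R := F) (by omega)
  have hdvd : r * p ∣ r * p ^ E := Nat.mul_dvd_mul_left r (dvd_pow_self p (by omega))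
  haveI : Finite (Matrix.SpecialLinearGroup (Fin n) F) := inferInstance
  haveI : Finite (Matrix.ProjectiveSpecialLinearGroup (Fin n) F) := Quotient.finite _
  rcases (by omega : k = 1 ∨ 2 ≤ k) with hk1 | hk2
  · -- k = 1
    have hr1 : r ∣ Nat.card F - 1 := by rw [hk1, pow_one] at hrk; exact hrk
    constructor
    · intro hnot
      by_contra hcon
      push Not at hcon
      obtain ⟨hc1, hc2⟩ := hcon
      apply hnot
      apply H46.Orders.mem_of_dvd _ hdvd
      have hn3 : 3 ≤ n := by omega
      rcases (by omega : n = 3 ∨ 4 ≤ n) with hn' | hn4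
      · obtain ⟨a, ha⟩ : ∃ a : Fˣ, orderOf (a ^ 3) = r := by
          by_cases hr3 : r = 3
          · have h9 : 9 ∣ Nat.card F - 1 := by
              rw [hcF]
              exact hc2 hn' hr3 (by rw [← hcF, ← hr3]; exact hr1)
            obtain ⟨a, ha⟩ := H46.ExtElt.exists_unit_orderOf F 9 h9
            exact ⟨a, by rw [orderOf_pow' a (by norm_num), ha, hr3]; rfl⟩
          · obtain ⟨a, ha⟩ := H46.ExtElt.exists_unit_orderOf F r hr1
            refine ⟨a, ?_⟩
            rw [Nat.Coprime.orderOf_pow, ha]
            rw [ha]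
            exact (Nat.coprime_primes hr Nat.prime_three).mpr hr3
        rw [mem_orders_iff_end (F := F) (by omega) (F × A) (by rw [Module.finrank_prod, hA, Module.finrank_self]; omega)]
        refine ⟨prodUnit (scalarUnit F (a ^ 2)⁻¹) (scalarUnit A a * u₂), ?_, ?_⟩
        · rw [det_prodUnit, det_scalarUnit, Units.val_mul, map_mul, det_scalarUnit, hA1, hA, Module.finrank_self, pow_one, mul_one,
            ← Units.val_pow_eq_pow_val, ← Units.val_mul, inv_mul_cancel, Units.val_one]
        · symm
          rw [eq_projOrder_iff]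
          intro m
          have key : ∀ c : F, ((prodUnit (scalarUnit F (a ^ 2)⁻¹) (scalarUnit A a * u₂) : (Module.End F (F × A))ˣ) : Module.End F (F × A)) ^ m = algebraMap F _ c ↔
              ((((a ^ 2)⁻¹ ^ m : Fˣ) : F) = c ∧ (u₂ : Module.End F A) ^ m = algebraMap F _ (c * ((a ^ m)⁻¹ : Fˣ))) := by
            intro c
            rw [← Units.val_pow_eq_pow_val, prodUnit_pow, (scalarUnit_commute a u₂).mul_pow, prodUnit_val]
            have hs1 : (scalarUnit F (a ^ 2)⁻¹) ^ m = scalarUnit F ((a ^ 2)⁻¹ ^ m) := by
              unfold scalarUnit; rw [← map_pow]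
            have hs2 : (scalarUnit A a) ^ m = scalarUnit A (a ^ m) := by
              unfold scalarUnit; rw [← map_pow]
            rw [hs1, hs2]
            constructor
            · intro h
              have h1 := LinearMap.congr_fun h (1, 0)
              refine ⟨?_, ?_⟩
              · have h2 := congrArg Prod.fst h1
                have h3 : (((a ^ 2)⁻¹ ^ m : Fˣ) : F) • (1 : F) = c • (1 : F) := h2
                simpa using h3
              · apply LinearMap.ext
                intro w
                have h4 := congrArg Prod.snd (LinearMap.congr_fun h (0, w))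
                have h5 : ((a ^ m : Fˣ) : F) • (((u₂ ^ m : (Module.End F A)ˣ) : Module.End F A) w) = c • w := h4
                have h6 : ((u₂ : Module.End F A) ^ m) w = (c * ((a ^ m)⁻¹ : Fˣ)) • w := by
                  rw [mul_comm, mul_smul, ← h5, smul_smul, ← Units.val_mul, inv_mul_cancel, Units.val_one, one_smul, Units.val_pow_eq_pow_val]
                exact h6
            · rintro ⟨h1, h2⟩
              apply LinearMap.ext
              rintro ⟨x, w⟩
              apply Prod.ext
              · show (((a ^ 2)⁻¹ ^ m : Fˣ) : F) • x = c • x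
                rw [h1]
              · show ((a ^ m : Fˣ) : F) • (((u₂ ^ m : (Module.End F A)ˣ) : Module.End F A) w) = c • w
                rw [Units.val_pow_eq_pow_val u₂, h2]
                show ((a ^ m : Fˣ) : F) • ((c * ((a ^ m)⁻¹ : Fˣ)) • w) = c • w
                rw [smul_smul, mul_left_comm, ← Units.val_mul, mul_inv_cancel, Units.val_one, mul_one]
          constructor
          · rintro ⟨c, hc⟩
            obtain ⟨h1, h2⟩ := (key c).mp hc
            obtain ⟨h3, h4⟩ := unip_scalar p u₂ E hu₂ m _ h2
            have h5 : (((a ^ 2)⁻¹ ^ m * (a ^ m)⁻¹ : Fˣ) : F) = 1 := by rw [Units.val_mul, h1, h3]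
            have h6 : (a ^ 3) ^ m = 1 := by
              have h7 : ((a ^ 2)⁻¹ ^ m * (a ^ m)⁻¹ : Fˣ) = 1 := Units.ext h5
              rw [inv_pow, ← mul_inv_rev, inv_eq_one, ← pow_mul, ← pow_add] at h7
              rw [← pow_mul, show 3 * m = m + 2 * m by ring]
              exact h7
            have h8 := orderOf_dvd_of_pow_eq_one h6
            rw [ha] at h8
            exact (Nat.Coprime.pow_right E hrp').mul_dvd_of_dvd_of_dvd h8 h4
          · intro hm
            have h1 : r ∣ m := (Dvd.intro _ rfl).trans hm
            have h2 : p ^ E ∣ m := (Dvd.intro_left _ rfl).trans hm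
            refine ⟨((a ^ m : Fˣ) : F), (key _).mpr ⟨?_, ?_⟩⟩
            · congr 1
              rw [inv_pow, inv_eq_iff_mul_eq_one, ← pow_mul, ← pow_add, show 2 * m + m = 3 * m by ring, pow_mul]
              exact orderOf_dvd_iff_pow_eq_one.mp (by rw [ha]; exact h1)
            · rw [← Units.val_mul, mul_inv_cancel, Units.val_one, map_one, ← Units.val_pow_eq_pow_val, orderOf_dvd_iff_pow_eq_one.mp (by rw [hu₂]; exact h2)]
              rfl
      · obtain ⟨a, ha⟩ := H46.ExtElt.exists_unit_orderOf F r hr1
        rw [mem_orders_iff_end (F := F) (by omega) ((F × F) × ((Fin (n - 4) → F) × A)) (by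
          rw [Module.finrank_prod, Module.finrank_prod, Module.finrank_prod, hA, Module.finrank_self, Module.finrank_fin_fun]; omega)]
        refine ⟨prodUnit (prodUnit (scalarUnit F a) (scalarUnit F a⁻¹)) (prodUnit 1 u₂), ?_, ?_⟩
        · rw [det_prodUnit, det_prodUnit, det_prodUnit, det_scalarUnit, det_scalarUnit, hA1, Module.finrank_self, pow_one, pow_one, ← Units.val_mul, mul_inv_cancel,
            Units.val_one, Units.val_one, map_one]
          ring
        · symm
          rw [eq_projOrder_iff]
          intro m
          constructor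
          · rintro ⟨c, hc⟩
            rw [← Units.val_pow_eq_pow_val, prodUnit_pow, prodUnit_pow, prodUnit_pow] at hc
            have h1 : (u₂ : Module.End F A) ^ m = algebraMap F _ c := by
              apply LinearMap.ext
              intro w
              have h := congrArg (fun x => x.2.2) (LinearMap.congr_fun hc ((0, 0), (0, w)))
              have h' : ((u₂ ^ m : (Module.End F A)ˣ) : Module.End F A) w = c • w := h
              rw [Units.val_pow_eq_pow_val] at h'
              exact h'
            obtain ⟨h3, h4⟩ := unip_scalar p u₂ E hu₂ m _ h1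
            have h5 : ((a ^ m : Fˣ) : F) = 1 := by
              have h := congrArg (fun x => x.1.1) (LinearMap.congr_fun hc ((1, 0), (0, 0)))
              have hs1 : (scalarUnit F a) ^ m = scalarUnit F (a ^ m) := by
                unfold scalarUnit; rw [← map_pow]
              rw [hs1] at h
              have h' : ((a ^ m : Fˣ) : F) • (1 : F) = c • (1 : F) := h
              simpa [h3] using h'
            have h8 := orderOf_dvd_of_pow_eq_one (Units.ext h5 : a ^ m = 1)
            rw [ha] at h8
            exact (Nat.Coprime.pow_right E hrp').mul_dvd_of_dvd_of_dvd h8 h4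
          · intro hm
            have h1 : r ∣ m := (Dvd.intro _ rfl).trans hm
            have h2 : p ^ E ∣ m := (Dvd.intro_left _ rfl).trans hm
            refine ⟨1, ?_⟩
            rw [map_one, ← Units.val_pow_eq_pow_val]
            have h3 : prodUnit (prodUnit (scalarUnit F a) (scalarUnit F a⁻¹)) (prodUnit (1 : (Module.End F (Fin (n - 4) → F))ˣ) u₂) ^ m = 1 := by
              rw [← orderOf_dvd_iff_pow_eq_one, H46.Irr.orderOf_prodUnit, H46.Irr.orderOf_prodUnit, H46.Irr.orderOf_prodUnit, orderOf_one, hu₂]
              have h4 : orderOf (scalarUnit F a) ∣ m := by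
                apply orderOf_dvd_of_pow_eq_one
                have : (scalarUnit F a) ^ m = scalarUnit F (a ^ m) := by
                  unfold scalarUnit; rw [← map_pow]
                rw [this, orderOf_dvd_iff_pow_eq_one.mp (by rw [ha]; exact h1)]
                unfold scalarUnit; rw [map_one]
              have h5 : orderOf (scalarUnit F a⁻¹) ∣ m := by
                apply orderOf_dvd_of_pow_eq_one
                have : (scalarUnit F a⁻¹) ^ m = scalarUnit F (a ^ m)⁻¹ := by
                  unfold scalarUnit; rw [← map_pow, inv_pow]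
                rw [this, orderOf_dvd_iff_pow_eq_one.mp (by rw [ha]; exact h1)]
                unfold scalarUnit; rw [inv_one, map_one]
              exact Nat.lcm_dvd (Nat.lcm_dvd h4 h5) (Nat.lcm_dvd (one_dvd _) h2)
            rw [h3]; rfl
    · intro hcase hmem
      have hn23 : n = 2 ∨ n = 3 := by omega
      rw [mem_orders_iff_end (F := F) (by omega) (Fin n → F) (by simp)] at hmem
      obtain ⟨u, hdet, hu⟩ := hmem
      haveI : Nontrivial (Fin n → F) := Module.nontrivial_of_finrank_pos (R := F) (by simp; omega)
      obtain ⟨c, hc⟩ := (projOrder_dvd_iff u (r * p)).mp (by rw [hu])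
      have hc0 : c ≠ 0 := by
        rintro rfl
        rw [map_zero, ← Units.val_pow_eq_pow_val] at hc
        exact (u ^ (r * p)).ne_zero hc
      obtain ⟨e, he⟩ := exists_root hcopp (Units.mk0 c hc0)
      have hz : (scalarUnit (Fin n → F) e⁻¹ * u ^ r) ^ p = 1 := by
        rw [(scalarUnit_commute e⁻¹ (u ^ r)).mul_pow, ← pow_mul]
        have h2 : (scalarUnit (Fin n → F) e⁻¹) ^ p = scalarUnit (Fin n → F) (Units.mk0 c hc0)⁻¹ := by
          unfold scalarUnit
          rw [← map_pow, inv_pow, he]
        rw [h2]
        apply Units.ext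
        rw [Units.val_mul, Units.val_pow_eq_pow_val u, hc]
        apply LinearMap.ext
        intro v
        show (((Units.mk0 c hc0)⁻¹ : Fˣ) : F) • (c • v) = v
        rw [smul_smul, Units.val_inv_eq_inv_val, Units.val_mk0, inv_mul_cancel₀ hc0, one_smul]
      have hz1 : scalarUnit (Fin n → F) e⁻¹ * u ^ r ≠ 1 := by
        intro h
        have h1 : u ^ r = scalarUnit (Fin n → F) e := by
          have h2 : scalarUnit (Fin n → F) e⁻¹ = (scalarUnit (Fin n → F) e)⁻¹ := by
            unfold scalarUnit; rw [← map_inv]
          rw [h2, inv_mul_eq_one] at h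
          exact h.symm
        have h3 : projOrder F u ∣ r := (projOrder_dvd_iff u r).mpr ⟨(e : F), by rw [← Units.val_pow_eq_pow_val, h1]; rfl⟩
        rw [hu] at h3
        have h4 := Nat.le_of_dvd hr.pos h3
        have h5 : r * 1 < r * p := Nat.mul_lt_mul_of_pos_left hp.one_lt hr.pos
        omega
      have hcomm : Commute ((scalarUnit (Fin n → F) e⁻¹ * u ^ r : (Module.End F (Fin n → F))ˣ) : Module.End F (Fin n → F)) ((u ^ p : (Module.End F (Fin n → F))ˣ) : Module.End F (Fin n → F)) := by
        have : Commute (scalarUnit (Fin n → F) e⁻¹ * u ^ r) (u ^ p) :=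
          (scalarUnit_commute e⁻¹ (u ^ p)).mul_left ((Commute.refl u).pow_pow r p)
        exact congrArg Units.val this
      have hsq : Squarefree (X ^ r - C c : F[X]) := (Polynomial.separable_X_pow_sub_C c hrF hc0).squarefree
      have hy : aeval ((u ^ p : (Module.End F (Fin n → F))ˣ) : Module.End F (Fin n → F)) (X ^ r - C c : F[X]) = 0 := by
        rw [map_sub, map_pow, aeval_X, aeval_C, Units.val_pow_eq_pow_val, ← pow_mul, mul_comm p r, hc, sub_self]
      have hy1 : ¬ ∃ d : F, ((u ^ p : (Module.End F (Fin n → F))ˣ) : Module.End F (Fin n → F)) = algebraMap F _ d := by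
        rintro ⟨d, hd⟩
        rw [Units.val_pow_eq_pow_val] at hd
        have h3 : projOrder F u ∣ p := (projOrder_dvd_iff u p).mpr ⟨d, hd⟩
        rw [hu] at h3
        have h4 := Nat.le_of_dvd hp.pos h3
        have h5 : 1 * p < r * p := Nat.mul_lt_mul_of_pos_right hr.one_lt hp.pos
        omega
      rcases hn23 with h2 | h3
      · exact hy1 (two_dim p (by simp [h2]) (u ^ p) _ hcomm _ hsq hy hz hz1)
      · obtain ⟨a, b, hab, hdy, hpow⟩ := three_dim p (by simp [h3]) (u ^ p) _ hcomm _ hsq hy hz hz1 hy1
        rw [Units.val_pow_eq_pow_val, map_pow, hdet, one_pow] at hdy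
        obtain ⟨h4, h5⟩ := hpow r c (by rw [Units.val_pow_eq_pow_val, ← pow_mul, mul_comm p r, hc])
        obtain ⟨-, hr3, -, h9⟩ : n = 3 ∧ r = 3 ∧ 3 ∣ Fintype.card F - 1 ∧ ¬ 9 ∣ Fintype.card F - 1 := by
          rcases hcase with h | h
          · omega
          · exact h
        rw [hr3] at h4 h5
        apply h9
        have ha9 : a ^ 9 = 1 := by
          have h6 : b ^ 3 * (a ^ 2) ^ 3 = 1 := by rw [← mul_pow, ← hdy, one_pow]
          rw [h5, ← h4] at h6
          rw [← h6]; ring
        have ha3 : a ^ 3 ≠ 1 := by
          intro h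
          apply hab
          have ha0 : a ^ 2 ≠ 0 := by
            intro h0
            rw [h0, mul_zero] at hdy
            exact one_ne_zero hdy
          apply mul_right_cancel₀ ha0
          rw [← hdy, ← h]; ring
        have ha0 : a ≠ 0 := by rintro rfl; simp at ha9
        have h10 : orderOf (Units.mk0 a ha0) = 3 ^ 2 := by
          apply orderOf_eq_prime_pow
          · intro h; apply ha3; simpa using congrArg Units.val h
          · apply Units.ext; rw [Units.val_pow_eq_pow_val, Units.val_mk0]; simpa using ha9
        have h11 := orderOf_dvd_natCard (Units.mk0 a ha0)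
        rw [h10, Nat.card_units, hcF] at h11
        exact h11
  · -- 2 ≤ k
    have hcopr : Nat.Coprime r (Nat.card F - 1) := by
      rw [Nat.Prime.coprime_iff_not_dvd hr]
      intro h
      have h1 := orderOf_dvd (r := r) (Fintype.card F) 1 (by omega) (by rw [pow_one, ← hcF]; exact h)
      rw [← hk] at h1
      have := Nat.le_of_dvd one_pos h1
      omega
    constructor
    · intro hnot
      by_contra hcon
      push Not at hcon
      obtain ⟨hc1, -⟩ := hcon
      apply hnot
      apply H46.Orders.mem_of_dvd _ hdvd
      obtain ⟨K₁, _, _, _, u₁, hK₁, hu₁⟩ := exists_model F k r hk0 hrk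
      haveI : Module.Finite F K₁ := Module.finite_of_finrank_pos (by omega)
      rw [mem_iff_coprime (F := F) (by omega) (K₁ × ((Fin (n - k - 2) → F) × A)) (by
        rw [Module.finrank_prod, Module.finrank_prod, hK₁, hA, Module.finrank_fin_fun]; omega)
        (mul_ne_zero hr.ne_zero (pow_ne_zero _ hp.ne_zero)) (Nat.Coprime.mul_left hcopr (Nat.Coprime.pow_left E hcopp))]
      refine ⟨prodUnit u₁ (prodUnit 1 u₂), ?_⟩
      rw [H46.Irr.orderOf_prodUnit, H46.Irr.orderOf_prodUnit, orderOf_one, Nat.lcm_one_left, hu₁, hu₂]
      exact (Nat.Coprime.pow_right E hrp').lcm_eq_mul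
    · intro hcase hmem
      have hnk : n < k + 2 := by
        rcases hcase with h | ⟨-, h3, h4, -⟩
        · omega
        · exfalso
          have h1 := orderOf_dvd (r := r) (Fintype.card F) 1 (by omega) (by rw [pow_one, h3]; exact h4)
          rw [← hk] at h1
          have := Nat.le_of_dvd one_pos h1
          omega
      rw [mem_iff_coprime (F := F) (by omega) (Fin n → F) (by simp) (mul_ne_zero hr.ne_zero hp.ne_zero) (Nat.Coprime.mul_left hcopr hcopp)] at hmem
      obtain ⟨u, hu⟩ := hmem
      have hy : (u ^ p) ^ r = 1 := by rw [← pow_mul, mul_comm, ← hu, pow_orderOf_eq_one]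
      have hz : (u ^ r) ^ p = 1 := by rw [← pow_mul, ← hu, pow_orderOf_eq_one]
      have hy1 : u ^ p ≠ 1 := by
        intro h
        have := orderOf_dvd_of_pow_eq_one h
        rw [hu] at this
        have := Nat.le_of_dvd hp.pos this
        have h3 : 1 * p < r * p := Nat.mul_lt_mul_of_pos_right hr.one_lt hp.pos
        omega
      have hz1 : u ^ r ≠ 1 := by
        intro h
        have := orderOf_dvd_of_pow_eq_one h
        rw [hu] at this
        have := Nat.le_of_dvd hr.pos this
        have h3 : r * 1 < r * p := Nat.mul_lt_mul_of_pos_left hp.one_lt hr.pos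
        omega
      have hcom : Commute ((u ^ r : (Module.End F (Fin n → F))ˣ) : Module.End F (Fin n → F)) ((u ^ p : (Module.End F (Fin n → F))ˣ) : Module.End F (Fin n → F)) := by
        rw [Units.val_pow_eq_pow_val, Units.val_pow_eq_pow_val]
        exact (Commute.refl _).pow_pow _ _
      set Y := com ((u ^ p : (Module.End F (Fin n → F))ˣ) : Module.End F (Fin n → F)) with hY
      have hYne : Y ≠ ⊥ := com_ne_bot (fun h => hy1 (Units.ext h))
      have hcompl : IsCompl (fix ((u ^ p : (Module.End F (Fin n → F))ˣ) : Module.End F (Fin n → F))) Y :=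
        H46.Fpf.isCompl hrF (by rw [← Units.val_pow_eq_pow_val, hy, Units.val_one])
      have hkY : k ∣ finrank F Y := by
        rw [hk, ← hcF]
        exact orderOf_dvd_finrank (u ^ p) hr hrF hy Y (com_inv (Commute.refl _)) le_rfl
      have hYpos : 0 < finrank F Y := by
        rw [Nat.pos_iff_ne_zero, Ne, Submodule.finrank_eq_zero]; exact hYne
      have hsum := Submodule.finrank_add_eq_of_isCompl hcompl
      rw [Module.finrank_fin_fun] at hsum
      obtain ⟨v, hvY, hv0, hv⟩ := exists_fixed p (u ^ r) hz Y hYne (com_inv hcom)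
      set N := fix ((u ^ r : (Module.End F (Fin n → F))ˣ) : Module.End F (Fin n → F)) ⊓ Y with hN
      have hkN : k ∣ finrank F N := by
        rw [hk, ← hcF]
        exact orderOf_dvd_finrank (u ^ p) hr hrF hy N (fun w hw => ⟨fix_inv hcom.symm w hw.1, com_inv (Commute.refl _) w hw.2⟩) inf_le_right
      have hNpos : 0 < finrank F N := by
        rw [Nat.pos_iff_ne_zero, Ne, Submodule.finrank_eq_zero]
        intro h
        have : v ∈ N := ⟨mem_fix.mpr hv, hvY⟩
        rw [h] at this
        exact hv0 this
      by_cases hNY : N = Y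
      · have h1 : ∀ w ∈ Y, ((u ^ r : (Module.End F (Fin n → F))ˣ) : Module.End F (Fin n → F)) w = w := by
          intro w hw
          rw [← hNY] at hw
          exact mem_fix.mp hw.1
        have h2 : 2 ≤ finrank F (fix ((u ^ p : (Module.End F (Fin n → F))ˣ) : Module.End F (Fin n → F))) := by
          by_contra h3
          push Not at h3
          apply hz1
          apply Units.ext
          apply eq_one_of_parts hcompl _ h1
          rcases (by omega : finrank F (fix ((u ^ p : (Module.End F (Fin n → F))ˣ) : Module.End F (Fin n → F))) = 0 ∨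
            finrank F (fix ((u ^ p : (Module.End F (Fin n → F))ˣ) : Module.End F (Fin n → F))) = 1) with h4 | h4
          · rw [Submodule.finrank_eq_zero] at h4
            rw [h4]
            intro w hw
            rw [(Submodule.mem_bot F).mp hw, map_zero]
          · exact trivial_of_one p (u ^ r) hz _ h4 (fix_inv hcom)
        have := Nat.le_of_dvd hYpos hkY
        omega
      · have h1 : finrank F N < finrank F Y := Submodule.finrank_lt_finrank_of_lt (lt_of_le_of_ne inf_le_right hNY)
        have h2 := Nat.le_of_dvd hNpos hkN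
        obtain ⟨j, hj⟩ := hkY
        have hj2 : 2 ≤ j := by
          by_contra h
          have : k * j ≤ k * 1 := Nat.mul_le_mul_left k (by omega)
          omega
        have : k * 2 ≤ k * j := Nat.mul_le_mul_left k hj2
        omega

end Cfsg.Agent.S2470
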