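import Cfsg.Statements.S2472
import Cfsg.Agent.Lib.H46.SpAdj2
import Cfsg.Agent.Lib.H46.Irr

set_option autoImplicit false
open Cfsg

namespace Cfsg.Agent.S2472

open Module Polynomial H46.ProdUnit H46.ProjOrder H46.Fpf H46.SpModels H46.OrthDec H46.SForm H46.SForm.SForm H46.OrdPSp H46.SpAdj H46.SmallDim

/-- transvections have order `p` -/
theorem exists_transvection {F : Type*} [Field F] (p : ℕ) [Fact p.Prime] [CharP F p] {m : ℕ} (hm : 0 < m) :
    ∃ u : (Module.End F (Fin m ⊕ Fin m → F))ˣ, (stdForm m F).Isom u ∧ orderOf u = p := by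
  haveI : Nonempty (Fin m) := ⟨⟨0, hm⟩⟩
  haveI : Nontrivial (Fin m ⊕ Fin m → F) := inferInstance
  obtain ⟨f, hf⟩ : ∃ f, f = stdForm m F := ⟨_, rfl⟩
  have hfa : f.Alt := by rw [hf]; exact stdForm_alt m
  have hfn : f.ND := by rw [hf]; exact stdForm_nd m
  rw [← hf]
  obtain ⟨e, w, hew⟩ := exists_ne_zero_of_nd hfn
  let T : Module.End F (Fin m ⊕ Fin m → F) :=
    { toFun := fun v => f.B v e • e
      map_add' := fun a b => by rw [f.add_left, add_smul]
      map_smul' := fun c a => by rw [f.smul_left, mul_smul]; rfl }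
  have hT : ∀ v, T v = f.B v e • e := fun v => rfl
  have hTT : T * T = 0 := by
    apply LinearMap.ext
    intro v
    rw [Module.End.mul_apply, hT, hT, f.smul_left, hfa e, mul_zero, zero_smul]; rfl
  let t : (Module.End F (Fin m ⊕ Fin m → F))ˣ := ⟨1 + T, 1 - T, by
    rw [mul_sub, add_mul, add_mul, hTT, mul_one, mul_one, one_mul]; simp, by
    rw [mul_add, sub_mul, sub_mul, hTT, mul_one, one_mul, mul_one]; simp⟩
  have hpow : ∀ k : ℕ, ((t ^ k : (Module.End F (Fin m ⊕ Fin m → F))ˣ) : Module.End F (Fin m ⊕ Fin m → F)) = 1 + (k : Module.End F (Fin m ⊕ Fin m → F)) * T := by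
    intro k
    induction k with
    | zero => simp
    | succ k ih =>
      rw [pow_succ, Units.val_mul, ih]
      show (1 + (k : Module.End F _) * T) * (1 + T) = _
      have h1 : (k : Module.End F (Fin m ⊕ Fin m → F)) * T * T = 0 := by rw [mul_assoc, hTT, mul_zero]
      rw [mul_add, mul_one, add_mul, one_mul, h1]
      push_cast
      rw [add_mul, one_mul]
      abel
  refine ⟨t, ?_, ?_⟩
  · intro v w
    show f.B (v + T v) (w + T w) = f.B v w
    rw [hT, hT, f.add_left, f.add_right, f.add_right, f.smul_left, f.smul_right, f.smul_left, f.smul_right, hfa e, RingHom.id_apply]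
    have h1 := hfa.sym w e
    rw [RingHom.id_apply] at h1
    rw [h1]
    ring
  · apply orderOf_eq_prime
    · apply Units.ext
      rw [hpow]
      haveI : CharP (Module.End F (Fin m ⊕ Fin m → F)) p := charP_of_injective_algebraMap (algebraMap F (Module.End F _)).injective p
      rw [CharP.cast_eq_zero, zero_mul, add_zero]; rfl
    · intro h
      have h1 := LinearMap.congr_fun (congrArg Units.val h) w
      have h2 : w + f.B w e • e = w := h1
      rw [add_eq_left] at h2
      rcases smul_eq_zero.mp h2 with h3 | h3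
      · apply hew
        have h4 := hfa.sym w e
        rw [RingHom.id_apply] at h4
        rw [h4, h3, mul_zero]
      · apply hew
        rw [h3, f.zero_left]

/-- Adjacency of a prime and the characteristic in the prime graph of PSp(2n,q): let F be a finite field of characteristic p with q elements, n ≥ 2 with PSp(2n,F) simple, and let r ≠ p be an odd prime dividing the order of PSp(2n,F), with k the multiplicative order of q modulo r and η(k) = k for odd k, k/2 for even k. Then PSp(2n,F) has NO element of order r·p if and only if η(k) > n − 1. -/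
theorem result {F : Type*} [Field F] [Fintype F] (p : ℕ) [Fact p.Prime] [CharP F p] (n : ℕ) (hn : 2 ≤ n) (hsmall : n = 2 → 3 ≤ Fintype.card F)
    (r : ℕ) (hr : r.Prime) (hr2 : r ≠ 2) (hrp : r ≠ p) (hrG : r ∣ Nat.card (Cfsg.PSp n F))
    (k ηk : ℕ) (hk : k = orderOf ((Fintype.card F : ℕ) : ZMod r)) (hηk : (Odd k ∧ ηk = k) ∨ (Even k ∧ 2 * ηk = k)) :
    (r * p ∉ Set.range (orderOf : Cfsg.PSp n F → ℕ)) ↔ n - 1 < ηk := by
  have hcF : Nat.card F = Fintype.card F := Nat.card_eq_fintype_card
  have hq : 1 < Fintype.card F := Fintype.one_lt_card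
  have hq0 : 0 < Nat.card F := Finite.card_pos
  have hp : p.Prime := Fact.out
  have hηk' : Eta (orderOf ((Fintype.card F : ℕ) : ZMod r)) ηk := by rw [← hk]; exact hηk
  obtain ⟨hkn, hk0⟩ := eta_le (F := F) p hr hrp hrG hηk'
  rw [← hk] at hk0 hηk'
  rw [← hcF] at hk
  have hηk0 := hηk'.pos hk0
  have hrp' : Nat.Coprime r p := (Nat.coprime_primes hr hp).mpr hrp
  have hrF : (r : F) ≠ 0 := by
    rw [Ne, CharP.cast_eq_zero_iff F p]
    intro h
    exact hrp ((Nat.prime_dvd_prime_iff_eq Fact.out hr).mp h).symm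
  have hodd : Odd (r * p) ∨ (2 : F) = 0 := by
    rcases hp.eq_two_or_odd' with h | h
    · right
      have := CharP.cast_eq_zero F p
      rw [h] at this
      exact_mod_cast this
    · left; exact (hr.odd_of_ne_two hr2).mul h
  constructor
  · intro hnot
    by_contra hcon
    push Not at hcon
    apply hnot
    obtain ⟨A₁, _, _, f₁, u₁, ha₁, hn₁, hA₁, hi₁, hu₁⟩ := exists_torus F hr hr2 hk hηk' hk0
    haveI : Module.Finite F A₁ := Module.finite_of_finrank_pos (by omega)
    obtain ⟨u₂, hi₂, hu₂⟩ := exists_transvection (F := F) p (m := n - ηk) (by omega)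
    have hord : orderOf (prodUnit u₁ u₂) = r * p := by
      rw [H46.Irr.orderOf_prodUnit, hu₁, hu₂]
      exact hrp'.lcm_eq_mul
    have h := H46.SpAdj.mem (n := n) (by omega) (f₁.prod (stdForm (n - ηk) F)) (ha₁.prod (stdForm_alt _))
      (hn₁.prod (stdForm_nd _)) (by
        rw [Module.finrank_prod, hA₁, Module.finrank_fintype_fun_eq_card, Fintype.card_sum, Fintype.card_fin]; omega)
      (prodUnit u₁ u₂) (hi₁.prod hi₂) (by rw [hord]; exact hodd)
    rwa [hord] at h
  · intro h1 hmem
    obtain ⟨x, hx⟩ := hmem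
    obtain ⟨u, hui, hu⟩ := H46.SpAdj.exists_lift (by omega) x (by rw [hx]; exact hodd)
    rw [hx] at hu
    have hηn : ηk = n := by omega
    have hfin : finrank F (Fin n ⊕ Fin n → F) = 2 * n := by
      rw [Module.finrank_fintype_fun_eq_card, Fintype.card_sum, Fintype.card_fin]; omega
    have hy : (u ^ p) ^ r = 1 := by rw [← pow_mul, mul_comm, ← hu, pow_orderOf_eq_one]
    have hz : (u ^ r) ^ p = 1 := by rw [← pow_mul, ← hu, pow_orderOf_eq_one]
    have hy1 : u ^ p ≠ 1 := by
      intro h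
      have := orderOf_dvd_of_pow_eq_one h
      rw [hu] at this
      have := Nat.le_of_dvd hp.pos this
      have h3 : 1 * p < r * p := Nat.mul_lt_mul_of_pos_right hr.one_lt hp.pos
      omega
    have hz1 : u ^ r ≠ 1 := by
      intro h
      have := orderOf_dvd_of_pow_eq_one h
      rw [hu] at this
      have := Nat.le_of_dvd hr.pos this
      have h3 : r * 1 < r * p := Nat.mul_lt_mul_of_pos_left hp.one_lt hr.pos
      omega
    have hcom : Commute ((u ^ r : (Module.End F (Fin n ⊕ Fin n → F))ˣ) : Module.End F (Fin n ⊕ Fin n → F)) ((u ^ p : (Module.End F (Fin n ⊕ Fin n → F))ˣ) : Module.End F (Fin n ⊕ Fin n → F)) := by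
      rw [Units.val_pow_eq_pow_val, Units.val_pow_eq_pow_val]
      exact (Commute.refl _).pow_pow _ _
    have hA := stdForm_alt (F := F) n
    have hN := stdForm_nd (F := F) n
    haveI : Nonempty (Fin n) := ⟨⟨0, by omega⟩⟩
    haveI : Nontrivial (Fin n ⊕ Fin n → F) := inferInstance
    -- `y` has no fixed points
    have hYnd : ((stdForm n F).pull (com ((u ^ p : (Module.End F (Fin n ⊕ Fin n → F))ˣ) : Module.End F (Fin n ⊕ Fin n → F))).subtype).ND := nd_com hA hN (hui.pow p) hrF hy
    have hkY : 2 * ηk ∣ finrank F (com ((u ^ p : (Module.End F (Fin n ⊕ Fin n → F))ˣ) : Module.End F (Fin n ⊕ Fin n → F))) :=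
      eta_dvd hA hr hrF hy hk hηk' _ (com_inv (Commute.refl _)) le_rfl hYnd
    have hYpos : 0 < finrank F (com ((u ^ p : (Module.End F (Fin n ⊕ Fin n → F))ˣ) : Module.End F (Fin n ⊕ Fin n → F))) := by
      rw [Nat.pos_iff_ne_zero, Ne, Submodule.finrank_eq_zero]; exact com_ne_bot (fun h => hy1 (Units.ext h))
    have hYtop : com ((u ^ p : (Module.End F (Fin n ⊕ Fin n → F))ˣ) : Module.End F (Fin n ⊕ Fin n → F)) = ⊤ := by
      apply Submodule.eq_top_of_finrank_eq
      apply le_antisymm (Submodule.finrank_le _)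
      have := Nat.le_of_dvd hYpos hkY
      omega
    have hyf : ∀ v, ((u ^ p : (Module.End F (Fin n ⊕ Fin n → F))ˣ) : Module.End F (Fin n ⊕ Fin n → F)) v = v → v = 0 := by
      intro v hv
      exact eq_zero_of_mem hrF (by rw [← Units.val_pow_eq_pow_val, hy, Units.val_one]) hv (by rw [hYtop]; trivial)
    rcases hηk with ⟨h7, h8⟩ | ⟨h7, h8⟩
    · -- k odd
      have hsq : Squarefree (X ^ r - C 1 : F[X]) := (Polynomial.separable_X_pow_sub_C 1 hrF one_ne_zero).squarefree
      have hann : aeval ((u ^ p : (Module.End F (Fin n ⊕ Fin n → F))ˣ) : Module.End F (Fin n ⊕ Fin n → F)) (X ^ r - C 1 : F[X]) = 0 := by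
        rw [map_sub, map_pow, aeval_X, aeval_C, map_one, ← Units.val_pow_eq_pow_val, hy, Units.val_one, sub_self]
      have hcy : Commute ((u ^ p : (Module.End F (Fin n ⊕ Fin n → F))ˣ) : Module.End F (Fin n ⊕ Fin n → F)) ((u ^ p : (Module.End F (Fin n ⊕ Fin n → F))ˣ) : Module.End F (Fin n ⊕ Fin n → F)) := Commute.refl _
      rcases structure_isom (fun _ => rfl) (ε := (-1 : F)) ⟨rfl, by ring⟩ hA.sym hN (u ^ p) (hui.pow p) _ hsq hann with h | h | h
      · obtain ⟨W₁, W₂, hW, hW₁, hW₂, horth, hinv⟩ := h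
        obtain ⟨-, -, -, -, hnd₁, hnd₂, -, -, -, -, -⟩ := decomp_isom hA.sym hN W₁ W₂ hW horth (u ^ p) (hui.pow p)
          (hinv _ hcy).1 (hinv _ hcy).2
        have h3 : 2 * ηk ∣ finrank F W₁ := eta_dvd_of_fpf hA hr hrF hy hyf hk hηk' W₁ (hinv _ hcy).1 hnd₁
        have h4 : 2 * ηk ∣ finrank F W₂ := eta_dvd_of_fpf hA hr hrF hy hyf hk hηk' W₂ (hinv _ hcy).2 hnd₂
        have h5 : 0 < finrank F W₁ := by rw [Nat.pos_iff_ne_zero, Ne, Submodule.finrank_eq_zero]; exact hW₁
        have h6 : 0 < finrank F W₂ := by rw [Nat.pos_iff_ne_zero, Ne, Submodule.finrank_eq_zero]; exact hW₂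
        have h7 := Submodule.finrank_add_eq_of_isCompl hW
        have := Nat.le_of_dvd h5 h3
        have := Nat.le_of_dvd h6 h4
        omega
      · have hord : orderOf (u ^ p) = r := by
          haveI := Fact.mk hr
          exact orderOf_eq_prime hy hy1
        obtain ⟨e, he0, he1, he2⟩ := irr_torus p hA hN (u ^ p) (hui.pow p) h (by
          intro h3
          have h4 := orderOf_dvd_of_pow_eq_one h3
          rw [hord] at h4
          exact hr2 ((Nat.prime_dvd_prime_iff_eq hr Nat.prime_two).mp h4))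
        have h3 : r ∣ Nat.card F ^ e + 1 := by rw [← hord]; exact orderOf_dvd_of_pow_eq_one he2
        obtain ⟨h4, h5⟩ := not_dvd_of_plus hq0 hr hr2 hk h3
        exact h5 ((Nat.Coprime.dvd_mul_left (Nat.coprime_two_right.mpr h7)).mp h4)
      · obtain ⟨W₁, W₂, g, hW, hW₁, hW₂, hiso₁, hiso₂, hinv, -, -⟩ := h
        have hpair : Pair (stdForm n F) W₁ W₂ := ⟨hW, hiso₁, hiso₂⟩
        have h3 := hpair.finrank_eq (hA.sym.ndr hN)
        have h4 := Submodule.finrank_add_eq_of_isCompl hW
        have h5 : finrank F W₁ = k := by omega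
        obtain ⟨hi₁, hi₂⟩ := hinv _ hcom
        obtain ⟨v, hv, hv0, hvz⟩ := exists_fixed p (u ^ r) hz W₁ hW₁ hi₁
        have h6 : k ∣ finrank F (fix ((u ^ r : (Module.End F (Fin n ⊕ Fin n → F))ˣ) : Module.End F (Fin n ⊕ Fin n → F)) ⊓ W₁ : Submodule F (Fin n ⊕ Fin n → F)) :=
          dvd_of_fpf' hr hrF hy hyf hk _ (fun w hw => ⟨fix_inv hcom.symm w hw.1, (hinv _ hcy).1 w hw.2⟩)
        have h9 : 0 < finrank F (fix ((u ^ r : (Module.End F (Fin n ⊕ Fin n → F))ˣ) : Module.End F (Fin n ⊕ Fin n → F)) ⊓ W₁ : Submodule F (Fin n ⊕ Fin n → F)) := by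
          rw [Nat.pos_iff_ne_zero, Ne, Submodule.finrank_eq_zero]
          intro h
          have : v ∈ fix ((u ^ r : (Module.End F (Fin n ⊕ Fin n → F))ˣ) : Module.End F (Fin n ⊕ Fin n → F)) ⊓ W₁ := ⟨mem_fix.mpr hvz, hv⟩
          rw [h] at this
          exact hv0 this
        have h10 : fix ((u ^ r : (Module.End F (Fin n ⊕ Fin n → F))ˣ) : Module.End F (Fin n ⊕ Fin n → F)) ⊓ W₁ = W₁ := by
          apply Submodule.eq_of_le_of_finrank_le inf_le_right
          rw [h5]
          exact Nat.le_of_dvd h9 h6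
        apply hz1
        apply hpair.eq_one (hA.sym.ndr hN) hN (hui.pow r) hi₂
        intro w hw
        rw [← h10] at hw
        exact mem_fix.mp hw.1
    · -- k even
      obtain ⟨v, hv, hv0, hvz⟩ := exists_fixed p (u ^ r) hz ⊤ top_ne_bot (fun _ _ => trivial)
      have h6 : k ∣ finrank F (fix ((u ^ r : (Module.End F (Fin n ⊕ Fin n → F))ˣ) : Module.End F (Fin n ⊕ Fin n → F))) :=
        dvd_of_fpf' hr hrF hy hyf hk _ (fix_inv hcom.symm)
      have h9 : 0 < finrank F (fix ((u ^ r : (Module.End F (Fin n ⊕ Fin n → F))ˣ) : Module.End F (Fin n ⊕ Fin n → F))) := by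
        rw [Nat.pos_iff_ne_zero, Ne, Submodule.finrank_eq_zero]
        intro h
        have := mem_fix.mpr hvz
        rw [h] at this
        exact hv0 this
      have h10 : fix ((u ^ r : (Module.End F (Fin n ⊕ Fin n → F))ˣ) : Module.End F (Fin n ⊕ Fin n → F)) = ⊤ := by
        apply Submodule.eq_top_of_finrank_eq
        apply le_antisymm (Submodule.finrank_le _)
        have := Nat.le_of_dvd h9 h6
        omega
      apply hz1
      apply Units.ext
      apply LinearMap.ext
      intro w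
      exact mem_fix.mp (by rw [h10]; trivial)

end Cfsg.Agent.S2472
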