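import Cfsg.Statements.S2476
import Cfsg.Agent.S2470
import Cfsg.Agent.Lib.H46.Dim3
import Cfsg.Agent.Lib.H46.Singer

set_option autoImplicit false
open Cfsg

namespace Cfsg.Agent.S2476

open Module Polynomial H46.ProdUnit H46.ProjOrder H46.SmallDim H46.Dim3 H46.Singer H46.SpModels H46.ExtElt

/-- scalar powers of a block-diagonal element with a scalar block -/
theorem prod_scalar_iff {F : Type*} [Field F] {V₁ V₂ : Type*} [AddCommGroup V₁] [Module F V₁] [Nontrivial V₁] [AddCommGroup V₂] [Module F V₂]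
    (a : Fˣ) (u₂ : (Module.End F V₂)ˣ) (k : ℕ) :
    (∃ c : F, (prodUnit (scalarUnit V₁ a) u₂ : Module.End F (V₁ × V₂)) ^ k = algebraMap F _ c) ↔
      (u₂ : Module.End F V₂) ^ k = algebraMap F _ ((a : F) ^ k) := by
  have hs : (scalarUnit V₁ a) ^ k = scalarUnit V₁ (a ^ k) := by
    unfold scalarUnit; rw [← map_pow]
  rw [← Units.val_pow_eq_pow_val, prodUnit_pow, hs]
  constructor
  · rintro ⟨c, hc⟩
    obtain ⟨v, hv⟩ := exists_ne (0 : V₁)
    have h1 : ((a ^ k : Fˣ) : F) • v = c • v := congrArg Prod.fst (LinearMap.congr_fun hc (v, 0))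
    have h2 : ((a ^ k : Fˣ) : F) = c := smul_left_injective F hv h1
    apply LinearMap.ext
    intro w
    have h3 : ((u₂ ^ k : (Module.End F V₂)ˣ) : Module.End F V₂) w = c • w := congrArg Prod.snd (LinearMap.congr_fun hc (0, w))
    rw [Units.val_pow_eq_pow_val] at h3
    rw [h3, ← h2, Units.val_pow_eq_pow_val]; rfl
  · intro h
    refine ⟨((a ^ k : Fˣ) : F), ?_⟩
    apply LinearMap.ext
    rintro ⟨v, w⟩
    apply Prod.ext
    · rfl
    · show ((u₂ ^ k : (Module.End F V₂)ˣ) : Module.End F V₂) w = ((a ^ k : Fˣ) : F) • w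
      rw [Units.val_pow_eq_pow_val, h, Units.val_pow_eq_pow_val]; rfl

/-- norms from quadratic extensions -/
theorem norm_quad {F K : Type*} [Field F] [Finite F] [Field K] [Finite K] [Algebra F K] (hK : finrank F K = 2) (x : K) :
    algebraMap F K (Algebra.norm F x) = x ^ (Nat.card F + 1) := by
  have h1 : 1 < Nat.card F := Finite.one_lt_card
  haveI : Module.Finite F K := Module.finite_of_finrank_pos (by omega)
  have hcardK : Nat.card K = Nat.card F ^ 2 := by rw [Module.natCard_eq_pow_finrank (K := F), hK]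
  rw [FiniteField.algebraMap_norm_eq_pow, hcardK]
  congr 1
  have h2 : Nat.card F ^ 2 - 1 = (Nat.card F + 1) * (Nat.card F - 1) := by rw [← Nat.sq_sub_sq, one_pow]
  rw [h2, Nat.mul_div_cancel _ (by omega)]

theorem dvd_q_add_two {q d : ℕ} (hq : 1 < q) (hd : d = Nat.gcd 3 (q - 1)) : d ∣ q + 2 := by
  have h1 : d ∣ 3 := hd ▸ Nat.gcd_dvd_left _ _
  have h2 : d ∣ q - 1 := hd ▸ Nat.gcd_dvd_right _ _
  have h3 := Nat.dvd_add h2 h1
  rwa [show q - 1 + 3 = q + 2 by omega] at h3

theorem gcd_q {q d : ℕ} (hq : 1 < q) (hd : d = Nat.gcd 3 (q - 1)) : Nat.gcd (q ^ 2 - 1) (q + 2) = d := by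
  have h2 : q ^ 2 - 1 = (q + 1) * (q - 1) := by rw [← Nat.sq_sub_sq, one_pow]
  have h3 : Nat.Coprime (q + 1) (q + 2) := by
    rw [show q + 2 = (q + 1) + 1 by ring]; exact Nat.coprime_self_add_right.mpr (by simp)
  rw [h2, Nat.Coprime.gcd_mul_left_cancel _ h3, hd]
  have h4 : q + 2 = 3 + (q - 1) * 1 := by omega
  conv_lhs => rw [h4]
  rw [Nat.gcd_add_mul_left_right, Nat.gcd_comm]

/-- The set of element orders of PSL(3,q): let F be a finite field of characteristic p with q elements and d = gcd(3, q − 1). The orders of elements of PSL(3,F) are exactly the divisors of (q² + q + 1)/d, of (q² − 1)/d, of q − 1, of p(q − 1)/d, and, when p = 2, of 4. -/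
theorem result {F : Type*} [Field F] [Fintype F] (p : ℕ) [Fact p.Prime] [CharP F p] :
    Set.range (orderOf : Matrix.ProjectiveSpecialLinearGroup (Fin 3) F → ℕ) =
      {m : ℕ | m ∣ (Fintype.card F ^ 2 + Fintype.card F + 1) / Nat.gcd 3 (Fintype.card F - 1) ∨
        m ∣ (Fintype.card F ^ 2 - 1) / Nat.gcd 3 (Fintype.card F - 1) ∨ m ∣ Fintype.card F - 1 ∨
        m ∣ p * (Fintype.card F - 1) / Nat.gcd 3 (Fintype.card F - 1) ∨ (p = 2 ∧ m ∣ 4)} := by
  have hcF : Nat.card F = Fintype.card F := Nat.card_eq_fintype_card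
  rw [← hcF]
  have hp : p.Prime := Fact.out
  have hq : 1 < Nat.card F := Finite.one_lt_card
  obtain ⟨q, hqd⟩ : ∃ q, q = Nat.card F := ⟨_, rfl⟩
  rw [← hqd] at hq ⊢
  obtain ⟨d, hd⟩ : ∃ d, d = Nat.gcd 3 (q - 1) := ⟨_, rfl⟩
  rw [← hd]
  have hd3 : d ∣ 3 := hd ▸ Nat.gcd_dvd_left _ _
  have hdq : d ∣ q - 1 := hd ▸ Nat.gcd_dvd_right _ _
  have hd0 : 0 < d := Nat.pos_of_dvd_of_pos hd3 (by norm_num)
  have hd2 := dvd_q_add_two hq hd
  have hfact : q ^ 2 - 1 = (q + 1) * (q - 1) := by rw [← Nat.sq_sub_sq, one_pow]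
  have hdq2 : d ∣ q ^ 2 - 1 := by rw [hfact]; exact hdq.mul_left _
  have hgq := gcd_q hq hd
  have hcopp : Nat.Coprime p (q - 1) := by
    rw [Nat.Prime.coprime_iff_not_dvd hp]
    intro hdv
    obtain ⟨j, hj, hj2⟩ := FiniteField.card F p
    have h2 : p ∣ q := by
      rw [hqd, hcF, hj2]
      exact dvd_pow_self p j.ne_zero
    have h3 := Nat.dvd_sub h2 hdv
    rw [Nat.sub_sub_self hq.le] at h3
    exact hp.one_lt.ne' (Nat.dvd_one.mp h3)
  have hgeom : (q ^ 3 - 1) / (q - 1) = q ^ 2 + q + 1 := by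
    apply Nat.div_eq_of_eq_mul_left (by omega)
    zify [show 1 ≤ q ^ 3 from Nat.one_le_pow _ _ (by omega), hq.le]
    ring
  have hucard : ∀ a : Fˣ, a ^ (q - 1) = 1 := by
    intro a
    rw [hqd, ← Nat.card_units, pow_card_eq_one']
  haveI : Finite (Matrix.SpecialLinearGroup (Fin 3) F) := inferInstance
  haveI : Finite (Matrix.ProjectiveSpecialLinearGroup (Fin 3) F) := Quotient.finite _
  have hpd : p * (q - 1) / d = p * ((q - 1) / d) := Nat.mul_div_assoc p hdq
  apply Set.Subset.antisymm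
  · rintro _ ⟨g, rfl⟩
    obtain ⟨u, hdet, hu⟩ := (mem_orders_iff_end (F := F) (n := 3) (by norm_num) (Fin 3 → F) (by simp) (orderOf g)).mp ⟨g, rfl⟩
    rw [← hu]
    haveI : Nontrivial (Fin 3 → F) := inferInstance
    show _ ∨ _
    have key : ∀ V₁ V₂ : Submodule F (Fin 3 → F), IsCompl V₁ V₂ → finrank F V₁ = 1 → finrank F V₂ = 2 →
        (∀ v ∈ V₁, (u : Module.End F (Fin 3 → F)) v ∈ V₁) → (∀ v ∈ V₂, (u : Module.End F (Fin 3 → F)) v ∈ V₂) →
        projOrder F u ∣ (q ^ 2 + q + 1) / d ∨ projOrder F u ∣ (q ^ 2 - 1) / d ∨ projOrder F u ∣ q - 1 ∨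
          projOrder F u ∣ p * (q - 1) / d ∨ p = 2 ∧ projOrder F u ∣ 4 := by
      intro V₁ V₂ hW h1 h2 hi₁ hi₂
      haveI : Nontrivial V₁ := Module.nontrivial_of_finrank_pos (R := F) (by omega)
      haveI : Nontrivial V₂ := Module.nontrivial_of_finrank_pos (R := F) (by omega)
      obtain ⟨u₁, u₂, hdet', hconj⟩ := exists_prodUnit u V₁ V₂ hW hi₁ hi₂
      have hpo := projOrder_eq_of_conj (Submodule.prodEquivOfIsCompl V₁ V₂ hW) u (prodUnit u₁ u₂) hconj
      obtain ⟨a, rfl⟩ := scalar_of_finrank_one h1 u₁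
      rw [hdet, det_scalarUnit, h1, pow_one] at hdet'
      rw [hpo]
      rcases two_cases p h2 u₂ with h | h | h
      · right; right; left
        rw [projOrder_dvd_iff, prod_scalar_iff, ← Units.val_pow_eq_pow_val, ← Units.val_pow_eq_pow_val, hucard a]
        rw [← hqd] at h
        rw [h, Units.val_one, Units.val_one, map_one]
      · right; left
        obtain ⟨K, _, _, _, hK, -⟩ := exists_field_ext F 2 (by norm_num)
        haveI : Module.Finite F K := Module.finite_of_finrank_pos (by omega)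
        obtain ⟨β, hβ₁, hβ₂⟩ := H46.Decomp.exists_ext_elt (u₂ : Module.End F V₂) h K (by rw [hK, h2])
        rw [projOrder_dvd_iff, prod_scalar_iff]
        have h3 : (a : F) * Algebra.norm F β = 1 := by rw [hβ₁, ← hdet']
        have hβ0 : β ≠ 0 := by
          rintro rfl
          rw [Algebra.norm_zero, mul_zero] at h3
          exact zero_ne_one h3
        have hcardK : Nat.card K = q ^ 2 := by rw [Module.natCard_eq_pow_finrank (K := F), hK, hqd]
        have hβq : β ^ (q ^ 2 - 1) = 1 := by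
          have h4 : (Units.mk0 β hβ0) ^ Nat.card Kˣ = 1 := pow_card_eq_one'
          rw [Nat.card_units, hcardK] at h4
          have := congrArg Units.val h4
          simpa using this
        have h4 : algebraMap F K a * β ^ (q + 1) = 1 := by
          rw [hqd, ← norm_quad hK, ← map_mul, h3, map_one]
        have h5 : β ^ ((q ^ 2 - 1) / d) = algebraMap F K ((a : F) ^ ((q ^ 2 - 1) / d)) := by
          obtain ⟨m, hm⟩ := hdq2
          obtain ⟨m', hm'⟩ := hd2
          rw [hm, Nat.mul_div_cancel_left _ hd0, map_pow]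
          have h6 : algebraMap F K (a : F) ^ m * (β ^ (q + 1)) ^ m = 1 := by rw [← mul_pow, h4, one_pow]
          have h7 : β ^ m * (β ^ (q + 1)) ^ m = 1 := by
            rw [← mul_pow, ← pow_succ', ← pow_mul, show (q + 1 + 1) * m = (d * m) * m' by rw [show q + 1 + 1 = q + 2 by ring, hm']; ring, pow_mul, ← hm, hβq, one_pow]
          exact mul_right_cancel₀ (pow_ne_zero _ (pow_ne_zero _ hβ0)) (h7.trans h6.symm)
        have h6 : aeval β (X ^ ((q ^ 2 - 1) / d) - C ((a : F) ^ ((q ^ 2 - 1) / d)) : F[X]) = 0 := by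
          rw [map_sub, map_pow, aeval_X, aeval_C, h5, sub_self]
        rw [← minpoly.dvd_iff, hβ₂, minpoly.dvd_iff, map_sub, map_pow, aeval_X, aeval_C, sub_eq_zero] at h6
        exact h6
      · right; right; right; left
        obtain ⟨b, z, hbz, hz⟩ := h
        have hdz : LinearMap.det (z : Module.End F V₂) = 1 := by
          apply Cfsg.Agent.S2470.pow_one_of_charp p 1
          rw [pow_one, ← map_pow, ← Units.val_pow_eq_pow_val, hz, Units.val_one, map_one]
        rw [hbz, Units.val_mul, map_mul, det_scalarUnit, h2, hdz, mul_one] at hdet'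
        rw [hpd, projOrder_dvd_iff, prod_scalar_iff, hbz, ← Units.val_pow_eq_pow_val, (scalarUnit_commute b z).mul_pow, pow_mul z, hz, one_pow, mul_one]
        have hs : (scalarUnit V₂ b) ^ (p * ((q - 1) / d)) = scalarUnit V₂ (b ^ (p * ((q - 1) / d))) := by
          unfold scalarUnit; rw [← map_pow]
        rw [hs]
        show algebraMap F _ ((b ^ (p * ((q - 1) / d)) : Fˣ) : F) = _
        congr 1
        rw [← Units.val_pow_eq_pow_val]
        congr 1
        have h3 : a * b ^ 2 = 1 := Units.ext hdet'.symm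
        have h4 : a = (b ^ 2)⁻¹ := eq_inv_of_mul_eq_one_left h3
        rw [h4, inv_pow, eq_inv_iff_mul_eq_one, ← pow_mul, ← pow_add, show p * ((q - 1) / d) + 2 * (p * ((q - 1) / d)) = 3 * ((q - 1) / d) * p by ring]
        obtain ⟨m, hm⟩ := hdq
        obtain ⟨m', hm'⟩ := hd3
        rw [hm, Nat.mul_div_cancel_left _ hd0, hm', show d * m' * m * p = d * m * (m' * p) by ring, ← hm, pow_mul, hucard, one_pow]
    rcases alt p (Or.inr (by simp; exact Nat.prime_three)) u with h | h | h
    · obtain ⟨V₁, V₂, hW, hW₁, hW₂, hi₁, hi₂⟩ := h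
      have h1 : 0 < finrank F V₁ := by rw [Nat.pos_iff_ne_zero, Ne, Submodule.finrank_eq_zero]; exact hW₁
      have h2 : 0 < finrank F V₂ := by rw [Nat.pos_iff_ne_zero, Ne, Submodule.finrank_eq_zero]; exact hW₂
      have h3 := Submodule.finrank_add_eq_of_isCompl hW
      rw [Module.finrank_fin_fun] at h3
      rcases (by omega : (finrank F V₁ = 1 ∧ finrank F V₂ = 2) ∨ (finrank F V₂ = 1 ∧ finrank F V₁ = 2)) with h4 | h4
      · exact key V₁ V₂ hW h4.1 h4.2 hi₁ hi₂
      · exact key V₂ V₁ hW.symm h4.1 h4.2 hi₂ hi₁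
    · left
      obtain ⟨K, _, _, _, hK, -⟩ := exists_field_ext F 3 (by norm_num)
      have h1 := H46.Irr.projOrder_mem_ST u h hdet K (by rw [hK]; simp)
      rw [ST_eq (by norm_num) hK, ← hqd, hgeom, ← hd] at h1
      exact h1
    · obtain ⟨c, z, hcz, hz⟩ := h
      rw [Module.finrank_fin_fun] at hz
      have hsc : ∀ k, z ^ k = 1 → projOrder F u ∣ k := by
        intro k hk
        rw [projOrder_dvd_iff]
        refine ⟨((c ^ k : Fˣ) : F), ?_⟩
        rw [← Units.val_pow_eq_pow_val, hcz, (scalarUnit_commute c z).mul_pow, hk, mul_one]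
        have hs : (scalarUnit (Fin 3 → F) c) ^ k = scalarUnit (Fin 3 → F) (c ^ k) := by
          unfold scalarUnit; rw [← map_pow]
        rw [hs]; rfl
      by_cases hp2 : p = 2
      · right; right; right; right
        refine ⟨hp2, hsc 4 ?_⟩
        have h1 := nilp_pow p hz (e := 2) (by rw [hp2]; norm_num)
        rw [hp2] at h1
        apply Units.ext
        rw [Units.val_pow_eq_pow_val]
        exact h1
      · right; right; right; left
        have h1 := nilp_pow p hz (e := 1) (by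
          rw [pow_one]
          have := hp.two_le
          omega)
        rw [pow_one] at h1
        rw [hpd]
        exact (hsc p (by apply Units.ext; rw [Units.val_pow_eq_pow_val]; exact h1)).mul_right _
  · rintro m (hm | hm | hm | hm | ⟨hp2, hm⟩)
    · obtain ⟨K, _, _, _, hK, -⟩ := exists_field_ext F 3 (by norm_num)
      apply ST_sub (F := F) (K := K) (by norm_num) hK
      rw [ST_eq (by norm_num) hK, ← hqd, hgeom, ← hd]
      exact hm
    · obtain ⟨K, _, _, _, hK, -⟩ := exists_field_ext F 2 (by norm_num)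
      haveI : Module.Finite F K := Module.finite_of_finrank_pos (by omega)
      have hcardK : Nat.card K = q ^ 2 := by rw [Module.natCard_eq_pow_finrank (K := F), hK, hqd]
      obtain ⟨β, hβ⟩ := exists_unit_orderOf K (q ^ 2 - 1) (by rw [hcardK])
      obtain ⟨a, ha⟩ : ∃ a : Fˣ, (a : F) * Algebra.norm F (β : K) = 1 := by
        have h1 : Algebra.norm F (β : K) ≠ 0 := Algebra.norm_ne_zero_iff.mpr β.ne_zero
        exact ⟨(Units.mk0 _ h1)⁻¹, by rw [Units.val_inv_eq_inv_val, Units.val_mk0, inv_mul_cancel₀ h1]⟩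
      refine H46.Orders.mem_of_dvd (n := projOrder F (prodUnit (scalarUnit F a) (mulUnit F β))) ?_ (hm.trans ?_)
      · rw [mem_orders_iff_end (F := F) (by norm_num) (F × K) (by rw [Module.finrank_prod, hK, Module.finrank_self])]
        refine ⟨_, ?_, rfl⟩
        rw [det_prodUnit, det_scalarUnit, Module.finrank_self, pow_one, det_mulUnit, ha]
      · -- the projective order
        obtain ⟨k, hk⟩ : ∃ k, k = projOrder F (prodUnit (scalarUnit F a) (mulUnit F β)) := ⟨_, rfl⟩
        rw [← hk]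
        have h1 := (projOrder_dvd_iff (F := F) (prodUnit (scalarUnit F a) (mulUnit F β)) k).mp (by rw [← hk])
        rw [prod_scalar_iff] at h1
        have h2 : (β : K) ^ k = algebraMap F K ((a : F) ^ k) := by
          have h3 := LinearMap.congr_fun h1 (1 : K)
          rw [← Units.val_pow_eq_pow_val] at h3
          have h4 : (mulUnit F β) ^ k = mulUnit F (β ^ k) := by
            unfold mulUnit; rw [← map_pow]
          rw [h4, mulUnit_apply, mul_one, Units.val_pow_eq_pow_val] at h3
          rw [h3, Module.algebraMap_end_apply, Algebra.algebraMap_eq_smul_one]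
        have h4 : algebraMap F K a * (β : K) ^ (q + 1) = 1 := by
          rw [hqd, ← norm_quad hK, ← map_mul, ha, map_one]
        have h5 : β ^ ((q + 2) * k) = 1 := by
          apply Units.ext
          rw [Units.val_pow_eq_pow_val, Units.val_one, show (q + 2) * k = k + (q + 1) * k by ring, pow_add, h2, map_pow, pow_mul, ← mul_pow, h4, one_pow]
        have h6 := orderOf_dvd_of_pow_eq_one h5
        rw [hβ] at h6
        have h7 : Nat.Coprime ((q ^ 2 - 1) / d) ((q + 2) / d) := by
          have := Nat.coprime_div_gcd_div_gcd (m := q ^ 2 - 1) (n := q + 2) (by rw [hgq]; exact hd0)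
          rwa [hgq] at this
        apply h7.dvd_of_dvd_mul_left
        obtain ⟨m₁, hm₁⟩ := hdq2
        obtain ⟨m₂, hm₂⟩ := hd2
        rw [hm₁, hm₂, mul_assoc] at h6
        rw [hm₁, hm₂, Nat.mul_div_cancel_left _ hd0, Nat.mul_div_cancel_left _ hd0]
        exact (Nat.mul_dvd_mul_iff_left hd0).mp h6
    · obtain ⟨ζ, hζ⟩ := exists_unit_orderOf F (q - 1) (by rw [hqd])
      refine H46.Orders.mem_of_dvd (n := projOrder F (prodUnit (scalarUnit F (1 : Fˣ)) (prodUnit (scalarUnit F ζ) (scalarUnit F ζ⁻¹)))) ?_ (hm.trans ?_)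
      · rw [mem_orders_iff_end (F := F) (by norm_num) (F × (F × F)) (by rw [Module.finrank_prod, Module.finrank_prod, Module.finrank_self])]
        refine ⟨_, ?_, rfl⟩
        rw [det_prodUnit, det_prodUnit, det_scalarUnit, det_scalarUnit, det_scalarUnit, Module.finrank_self, pow_one, pow_one, pow_one, ← Units.val_mul, mul_inv_cancel,
          ← Units.val_mul, one_mul, Units.val_one]
      · obtain ⟨k, hk⟩ : ∃ k, k = projOrder F (prodUnit (scalarUnit F (1 : Fˣ)) (prodUnit (scalarUnit F ζ) (scalarUnit F ζ⁻¹))) := ⟨_, rfl⟩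
        rw [← hk]
        have h1 := (projOrder_dvd_iff (F := F) (prodUnit (scalarUnit F (1 : Fˣ)) (prodUnit (scalarUnit F ζ) (scalarUnit F ζ⁻¹))) k).mp (by rw [← hk])
        rw [prod_scalar_iff, Units.val_one, one_pow, map_one, ← Units.val_pow_eq_pow_val, prodUnit_pow] at h1
        have hs : (scalarUnit F ζ) ^ k = scalarUnit F (ζ ^ k) := by
          unfold scalarUnit; rw [← map_pow]
        have h2 := congrArg Prod.fst (LinearMap.congr_fun h1 (1, 0))
        rw [hs] at h2
        have h3 : ((ζ ^ k : Fˣ) : F) • (1 : F) = 1 := h2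
        rw [smul_eq_mul, mul_one] at h3
        rw [← hζ]
        exact orderOf_dvd_of_pow_eq_one (Units.ext h3)
    · obtain ⟨A, _, _, u₂, E, hA, hA1, hu₂, hE⟩ := H46.Unip.exists_unipotent (F := F) p 2 1 (by norm_num) (Or.inr (by simp))
      haveI : Module.Finite F A := Module.finite_of_finrank_pos (by omega)
      haveI : Nontrivial A := Module.nontrivial_of_finrank_pos (R := F) (by omega)
      obtain ⟨b, hb⟩ := exists_unit_orderOf F (q - 1) (by rw [hqd])
      refine H46.Orders.mem_of_dvd (n := projOrder F (prodUnit (scalarUnit F (b ^ 2)⁻¹) (scalarUnit A b * u₂))) ?_ (hm.trans ?_)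
      · rw [mem_orders_iff_end (F := F) (by norm_num) (F × A) (by rw [Module.finrank_prod, hA, Module.finrank_self])]
        refine ⟨_, ?_, rfl⟩
        rw [det_prodUnit, det_scalarUnit, Units.val_mul, map_mul, det_scalarUnit, hA1, hA, Module.finrank_self, pow_one, mul_one,
          ← Units.val_pow_eq_pow_val, ← Units.val_mul, inv_mul_cancel, Units.val_one]
      · obtain ⟨k, hk⟩ : ∃ k, k = projOrder F (prodUnit (scalarUnit F (b ^ 2)⁻¹) (scalarUnit A b * u₂)) := ⟨_, rfl⟩
        rw [← hk]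
        have h1 := (projOrder_dvd_iff (F := F) (prodUnit (scalarUnit F (b ^ 2)⁻¹) (scalarUnit A b * u₂)) k).mp (by rw [← hk])
        rw [prod_scalar_iff, ← Units.val_pow_eq_pow_val, (scalarUnit_commute b u₂).mul_pow] at h1
        have hs : (scalarUnit A b) ^ k = scalarUnit A (b ^ k) := by
          unfold scalarUnit; rw [← map_pow]
        rw [hs] at h1
        have h2 : (u₂ : Module.End F A) ^ k = algebraMap F _ (((b ^ k)⁻¹ * ((b ^ 2)⁻¹) ^ k : Fˣ) : F) := by
          apply LinearMap.ext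
          intro w
          have h3 := LinearMap.congr_fun h1 w
          have h4 : ((b ^ k : Fˣ) : F) • ((u₂ ^ k : (Module.End F A)ˣ) : Module.End F A) w = ((((b ^ 2)⁻¹ : Fˣ) : F) ^ k) • w := h3
          rw [Units.val_pow_eq_pow_val u₂] at h4
          have h5 : ((u₂ : Module.End F A) ^ k) w = (((b ^ k)⁻¹ : Fˣ) : F) • (((((b ^ 2)⁻¹ : Fˣ) : F) ^ k) • w) := by
            rw [← h4, smul_smul, ← Units.val_mul, inv_mul_cancel, Units.val_one, one_smul]
          rw [h5, smul_smul, ← Units.val_pow_eq_pow_val, ← Units.val_mul]; rfl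
        obtain ⟨h3, h4⟩ := Cfsg.Agent.S2470.unip_scalar p u₂ E hu₂ k _ h2
        have h5 : (b ^ k)⁻¹ * ((b ^ 2)⁻¹) ^ k = 1 := Units.ext h3
        rw [inv_pow, ← mul_inv_rev, inv_eq_one, ← pow_mul, ← pow_add, show 2 * k + k = 3 * k by ring] at h5
        have h6 := orderOf_dvd_of_pow_eq_one h5
        rw [hb] at h6
        have h7 : (q - 1) / d ∣ k := by
          have h8 : Nat.Coprime ((q - 1) / d) (3 / d) := by
            have := Nat.coprime_div_gcd_div_gcd (m := q - 1) (n := 3) (by rw [Nat.gcd_comm, ← hd]; exact hd0)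
            rwa [Nat.gcd_comm, ← hd] at this
          apply h8.dvd_of_dvd_mul_left
          obtain ⟨m₁, hm₁⟩ := hdq
          obtain ⟨m₂, hm₂⟩ := hd3
          rw [hm₁, hm₂, mul_assoc] at h6
          rw [hm₁, hm₂, Nat.mul_div_cancel_left _ hd0, Nat.mul_div_cancel_left _ hd0]
          exact (Nat.mul_dvd_mul_iff_left hd0).mp h6
        rw [hpd]
        apply Nat.Coprime.mul_dvd_of_dvd_of_dvd (hcopp.coprime_dvd_right (Nat.div_dvd_of_dvd hdq)) _ h7
        exact (dvd_pow_self p (by omega)).trans h4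
    · obtain ⟨A, _, _, u₂, E, hA, hA1, hu₂, hE⟩ := H46.Unip.exists_unipotent (F := F) p 3 2 (by norm_num) (Or.inr (by rw [hp2]; norm_num))
      haveI : Module.Finite F A := Module.finite_of_finrank_pos (by omega)
      haveI : Nontrivial A := Module.nontrivial_of_finrank_pos (R := F) (by omega)
      refine H46.Orders.mem_of_dvd (n := projOrder F u₂) ?_ (hm.trans ?_)
      · rw [mem_orders_iff_end (F := F) (by norm_num) A hA]
        exact ⟨_, hA1, rfl⟩
      · obtain ⟨k, hk⟩ : ∃ k, k = projOrder F u₂ := ⟨_, rfl⟩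
        rw [← hk]
        obtain ⟨c, h1⟩ := (projOrder_dvd_iff (F := F) u₂ k).mp (by rw [← hk])
        obtain ⟨-, h4⟩ := Cfsg.Agent.S2470.unip_scalar p u₂ E hu₂ k _ h1
        rw [hp2] at h4
        exact (pow_dvd_pow 2 hE).trans h4

end Cfsg.Agent.S2476
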