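import Cfsg.Statements.S2477
import Mathlib

set_option autoImplicit false
open Cfsg

namespace Cfsg.Agent.S2477

/-- the list of orders -/
def L : List ℕ := [1, 2, 3, 4, 5, 6, 7, 8, 9, 10, 12, 15, 21]

theorem d2 : ∀ a ∈ List.range 9, ∀ b ∈ List.range 9, 2 ≤ a → 2 ≤ b → a + b ≤ 10 → (a + b + 2) % 2 = 0 →
    Nat.lcm a b ∈ L := by decide

theorem d3 : ∀ a ∈ List.range 7, ∀ b ∈ List.range 7, ∀ c ∈ List.range 7, 2 ≤ a → 2 ≤ b → 2 ≤ c →
    a + b + c ≤ 10 → (a + b + c + 3) % 2 = 0 →
    Nat.lcm a (Nat.lcm b c) ∈ L := by decide +kernel

theorem d4 : ∀ a ∈ List.range 5, ∀ b ∈ List.range 5, ∀ c ∈ List.range 5, ∀ d ∈ List.range 5,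
    2 ≤ a → 2 ≤ b → 2 ≤ c → 2 ≤ d →
    a + b + c + d ≤ 10 → (a + b + c + d + 4) % 2 = 0 →
    Nat.lcm a (Nat.lcm b (Nat.lcm c d)) ∈ L := by decide +kernel

theorem build (C : Multiset ℕ) (hsum : C.sum ≤ 10) (h2 : ∀ a ∈ C, 2 ≤ a) (hev : Even (C.sum + Multiset.card C)) :
    C.lcm ∈ Set.range (orderOf : alternatingGroup (Fin 10) → ℕ) := by
  obtain ⟨σ, hσ⟩ := (Equiv.Perm.exists_with_cycleType_iff (Fin 10) (m := C)).mpr ⟨by simpa using hsum, h2⟩
  have hsign : σ ∈ alternatingGroup (Fin 10) := by
    rw [Equiv.Perm.mem_alternatingGroup, Equiv.Perm.sign_of_cycleType, hσ]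
    exact hev.neg_one_pow
  refine ⟨⟨σ, hsign⟩, ?_⟩
  rw [← Subgroup.orderOf_coe]
  simp only
  rw [← Equiv.Perm.lcm_cycleType, hσ]

theorem result : Set.range (orderOf : alternatingGroup (Fin 10) → ℕ) = {1, 2, 3, 4, 5, 6, 7, 8, 9, 10, 12, 15, 21} := by
  apply Set.Subset.antisymm
  · rintro _ ⟨⟨σ, hσ⟩, rfl⟩
    rw [← Subgroup.orderOf_coe]
    simp only
    have hmain : orderOf σ ∈ L := by
      have hsum : σ.cycleType.sum ≤ 10 := by
        rw [Equiv.Perm.sum_cycleType]
        simpa using Finset.card_le_univ σ.support
      rw [Equiv.Perm.mem_alternatingGroup, Equiv.Perm.sign_of_cycleType] at hσ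
      have hpar : (σ.cycleType.sum + Multiset.card σ.cycleType) % 2 = 0 := by
        rcases Nat.even_or_odd (σ.cycleType.sum + Multiset.card σ.cycleType) with h | h
        · exact Nat.even_iff.mp h
        · rw [h.neg_one_pow] at hσ
          exact absurd hσ (by decide)
      have hge : ∀ c ∈ σ.cycleType, 2 ≤ c := fun c hc => Equiv.Perm.two_le_of_mem_cycleType hc
      rw [← Equiv.Perm.lcm_cycleType]
      generalize σ.cycleType = C at hsum hpar hge
      have hcard : Multiset.card C * 2 ≤ 10 := by
        have := Multiset.card_nsmul_le_sum hge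
        simp at this
        omega
      have hcases : Multiset.card C = 0 ∨ Multiset.card C = 1 ∨ Multiset.card C = 2 ∨ Multiset.card C = 3 ∨
        Multiset.card C = 4 ∨ Multiset.card C = 5 := by omega
      rcases hcases with h | h | h | h | h | h
      · rw [Multiset.card_eq_zero] at h
        subst h
        decide
      · rw [Multiset.card_eq_one] at h
        obtain ⟨a, rfl⟩ := h
        have ha := hge a (by simp)
        simp only [Multiset.sum_singleton, Multiset.card_singleton] at hsum hpar
        simp only [Multiset.lcm_singleton, normalize_eq]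
        interval_cases a <;> first | decide | omega
      · rw [Multiset.card_eq_two] at h
        obtain ⟨a, b, rfl⟩ := h
        have ha := hge a (by simp)
        have hb := hge b (by simp)
        simp only [Multiset.insert_eq_cons, Multiset.sum_cons, Multiset.sum_singleton, Multiset.card_cons,
          Multiset.card_singleton] at hsum hpar
        simp only [Multiset.insert_eq_cons, Multiset.lcm_cons, Multiset.lcm_singleton, normalize_eq]
        exact d2 a (List.mem_range.mpr (by omega)) b (List.mem_range.mpr (by omega)) ha hb hsum (by omega)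
      · rw [Multiset.card_eq_three] at h
        obtain ⟨a, b, c, rfl⟩ := h
        have ha := hge a (by simp)
        have hb := hge b (by simp)
        have hc := hge c (by simp)
        simp only [Multiset.insert_eq_cons, Multiset.sum_cons, Multiset.sum_singleton, Multiset.card_cons,
          Multiset.card_singleton] at hsum hpar
        simp only [Multiset.insert_eq_cons, Multiset.lcm_cons, Multiset.lcm_singleton, normalize_eq]
        exact d3 a (List.mem_range.mpr (by omega)) b (List.mem_range.mpr (by omega)) c (List.mem_range.mpr (by omega))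
          ha hb hc (by omega) (by omega)
      · obtain ⟨d, hd'⟩ := Multiset.card_pos_iff_exists_mem.mp (by omega : 0 < Multiset.card C)
        obtain ⟨C', rfl⟩ := Multiset.exists_cons_of_mem hd'
        rw [Multiset.card_cons] at h
        have h' : Multiset.card C' = 3 := by omega
        rw [Multiset.card_eq_three] at h'
        obtain ⟨a, b, c, rfl⟩ := h'
        have ha := hge a (by simp)
        have hb := hge b (by simp)
        have hc := hge c (by simp)
        have hd := hge d (by simp)
        simp only [Multiset.insert_eq_cons, Multiset.sum_cons, Multiset.sum_singleton, Multiset.card_cons,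
          Multiset.card_singleton] at hsum hpar
        simp only [Multiset.insert_eq_cons, Multiset.lcm_cons, Multiset.lcm_singleton, normalize_eq]
        exact d4 d (List.mem_range.mpr (by omega)) a (List.mem_range.mpr (by omega)) b (List.mem_range.mpr (by omega)) c (List.mem_range.mpr (by omega))
          hd ha hb hc (by omega) (by omega)
      · exfalso
        have h5 := Multiset.card_nsmul_le_sum hge
        simp [h] at h5
        omega
    simpa [L] using hmain
  · intro n hn
    simp only [Set.mem_insert_iff, Set.mem_singleton_iff] at hn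
    have key : ∀ C : Multiset ℕ, C.lcm = n → C.sum ≤ 10 → (∀ a ∈ C, 2 ≤ a) → Even (C.sum + Multiset.card C) →
        n ∈ Set.range (orderOf : alternatingGroup (Fin 10) → ℕ) := by
      intro C h1 h2 h3 h4
      rw [← h1]
      exact build C h2 h3 h4
    rcases hn with h | h | h | h | h | h | h | h | h | h | h | h | h <;> subst h
    · exact key {} (by decide) (by decide) (by decide) (by decide)
    · exact key {2, 2} (by decide) (by decide) (by decide) (by decide)
    · exact key {3} (by decide) (by decide) (by decide) (by decide)
    · exact key {4, 2} (by decide) (by decide) (by decide) (by decide)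
    · exact key {5} (by decide) (by decide) (by decide) (by decide)
    · exact key {3, 2, 2} (by decide) (by decide) (by decide) (by decide)
    · exact key {7} (by decide) (by decide) (by decide) (by decide)
    · exact key {8, 2} (by decide) (by decide) (by decide) (by decide)
    · exact key {9} (by decide) (by decide) (by decide) (by decide)
    · exact key {5, 2, 2} (by decide) (by decide) (by decide) (by decide)
    · exact key {4, 3, 2} (by decide) (by decide) (by decide) (by decide)
    · exact key {5, 3} (by decide) (by decide) (by decide) (by decide)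
    · exact key {7, 3} (by decide) (by decide) (by decide) (by decide)

end Cfsg.Agent.S2477
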