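import Cfsg.Statements.S2507
import Cfsg.Agent.Lib.H85.PSLClass

set_option autoImplicit false
open Cfsg

namespace Cfsg.Agent.S2507

/-- Let F be a finite field with q = 2^f ≥ 4 elements. The conjugacy class sizes of PSL(2,F) are exactly 1, q(q − 1), q² − 1 and q(q + 1). -/
theorem result {F : Type*} [Field F] [Fintype F]
    (h2 : 2 ∣ Fintype.card F) (h4 : 4 ≤ Fintype.card F) :
    Set.range (fun g : (Matrix.ProjectiveSpecialLinearGroup (Fin 2) F) => (Subgroup.centralizer ({g} : Set (Matrix.ProjectiveSpecialLinearGroup (Fin 2) F))).index) =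
      {1, Fintype.card F * (Fintype.card F - 1), Fintype.card F ^ 2 - 1, Fintype.card F * (Fintype.card F + 1)} := by
  classical
  have h0 := H85.PSLClass.even_char h2
  have hneg : ∀ t : F, t = -t := by intro t; linear_combination t * h0
  obtain ⟨m, hm⟩ : ∃ m, Fintype.card F = 2 * m + 4 := by
    obtain ⟨k, hk⟩ := h2
    exact ⟨k - 2, by omega⟩
  have hg : Nat.gcd 2 (Fintype.card F - 1) = 1 := by
    rw [hm]
    have : 2 * m + 4 - 1 = (m+1) * 2 + 1 := by omega
    rw [this]
    exact Nat.coprime_mul_right_add_right 2 1 (m+1) |>.2 (by norm_num)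
  have key : ∀ A : H85.PSLClass.SL F, (H45.SL2.tr A)^2 ≠ 4 →
      (Subgroup.centralizer ({H85.PSLClass.pr A} : Set (H85.PSLClass.PSL F))).index =
        Fintype.card F * (Fintype.card F - 1) + Fintype.card F * H85.PSLClass.r (H45.SL2.tr A) := by
    intro A hA
    have h1 := H85.PSLClass.center_mul_index hA
    rw [H85.PSLClass.card_center, hg, one_mul, H85.PSLClass.card_or_of_eq (hneg _),
      H85.PSLClass.card_tr] at h1
    exact h1
  have one : (Subgroup.centralizer ({(1 : H85.PSLClass.PSL F)} : Set (H85.PSLClass.PSL F))).index = 1 := by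
    rw [Subgroup.index_eq_one, Subgroup.centralizer_eq_top_iff_subset]
    simp
  have unip : ∀ A : H85.PSLClass.SL F, H85.PSLClass.pr A ≠ 1 → (H45.SL2.tr A)^2 = 4 →
      (Subgroup.centralizer ({H85.PSLClass.pr A} : Set (H85.PSLClass.PSL F))).index =
        Fintype.card F ^ 2 - 1 := by
    intro A hA ht
    have h1 := H85.PSLClass.index_unip hA ht
    rwa [hg, one_mul] at h1
  have tr0 : ∀ t : F, H45.SL2.tr (H45.SL2.mk2 0 (-1) 1 t (by ring)) = t := by
    intro t; rw [H45.SL2.tr_mk2]; ring
  ext n
  simp only [Set.mem_range, Set.mem_insert_iff, Set.mem_singleton_iff]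
  constructor
  · rintro ⟨g, rfl⟩
    obtain ⟨A, rfl⟩ := QuotientGroup.mk_surjective g
    change (Subgroup.centralizer ({H85.PSLClass.pr A} : Set (H85.PSLClass.PSL F))).index = 1 ∨
      (Subgroup.centralizer ({H85.PSLClass.pr A} : Set (H85.PSLClass.PSL F))).index = _ ∨
      (Subgroup.centralizer ({H85.PSLClass.pr A} : Set (H85.PSLClass.PSL F))).index = _ ∨
      (Subgroup.centralizer ({H85.PSLClass.pr A} : Set (H85.PSLClass.PSL F))).index = _
    by_cases hA : H85.PSLClass.pr A = 1
    · left; rw [hA]; exact one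
    by_cases ht : (H45.SL2.tr A)^2 = 4
    · right; right; left; exact unip A hA ht
    · rw [key A ht]
      rcases H85.PSLClass.r_cases ht with h | h <;> rw [h]
      · right; left; ring
      · right; right; right
        rw [hm]
        have : 2 * m + 4 - 1 = 2 * m + 3 := by omega
        rw [this]; ring
  · rintro (rfl | rfl | rfl | rfl)
    · exact ⟨1, one⟩
    · obtain ⟨t, _, hr⟩ := H85.PSLClass.exists_irred h4
      refine ⟨H85.PSLClass.pr (H45.SL2.mk2 0 (-1) 1 t (by ring)), ?_⟩
      refine (key _ ?_).trans ?_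
      · rw [tr0]; exact H85.PSLClass.sq_ne_of_r hr
      · rw [tr0, hr]; ring
    · refine ⟨H85.PSLClass.pr (H45.SL2.mk2 1 1 0 1 (by ring)), ?_⟩
      refine unip _ ?_ ?_
      · intro h
        have h1 : H85.PSLClass.pr (H45.SL2.mk2 1 1 0 1 (by ring)) = H85.PSLClass.pr (1 : H85.PSLClass.SL F) := h
        rw [H85.PSLClass.pr_eq_iff] at h1
        rcases h1 with h1 | h1
        · have h2 : (0:F) = 1 := congrArg (fun X : H85.PSLClass.SL F => X.1 0 1) h1
          exact zero_ne_one h2
        · have h2 : (0:F) = -1 := congrArg (fun X : H85.PSLClass.SL F => X.1 0 1) h1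
          exact zero_ne_one (α := F) (by linear_combination -h2)
      · rw [H45.SL2.tr_mk2]; ring
    · obtain ⟨a, ha⟩ : ∃ a : F, a ∉ ({0, 1, -1} : Finset F) := by
        by_contra hcon
        push Not at hcon
        have h1 := Finset.card_le_card (fun a _ => hcon a : (Finset.univ : Finset F) ⊆ {0, 1, -1})
        have h2 : ({0, 1, -1} : Finset F).card ≤ 3 := Finset.card_le_three
        rw [Finset.card_univ] at h1
        omega
      simp only [Finset.mem_insert, Finset.mem_singleton, not_or] at ha
      obtain ⟨ha0, ha1, ha2⟩ := ha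
      have hsq : a^2 - 1 ≠ 0 := by
        intro h
        have : (a-1)*(a+1) = 0 := by linear_combination h
        rcases mul_eq_zero.1 this with h | h
        · exact ha1 (by linear_combination h)
        · exact ha2 (by linear_combination h)
      have ht : (a + a⁻¹)^2 ≠ 4 := by
        intro h
        apply hsq
        have h3 : (a^2-1)^2 = 0 := by
          field_simp at h
          linear_combination h
        exact (pow_eq_zero_iff two_ne_zero).1 h3
      have hr : H85.PSLClass.r (a + a⁻¹) = 2 := H85.PSLClass.r_eq_two ht (a := a) (by field_simp; ring)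
      refine ⟨H85.PSLClass.pr (H45.SL2.mk2 0 (-1) 1 (a + a⁻¹) (by ring)), ?_⟩
      refine (key _ ?_).trans ?_
      · rw [tr0]; exact ht
      · rw [tr0, hr, hm]
        have : 2 * m + 4 - 1 = 2 * m + 3 := by omega
        rw [this]; ring

end Cfsg.Agent.S2507
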