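import Cfsg.Statements.S2649
import Cfsg.Agent.Lib.H49.CX4

set_option autoImplicit false
open Cfsg

namespace Cfsg.Agent.S2649

/-- Extensions of the Mathieu group M₂₃ by its code module split. Let E be a finite group with a normal subgroup N, an isomorphism φ from E/N onto M₂₃ = `Spor.M23` (the stabiliser of the extra point `none` in M₂₄ acting on the 24 points `GolayPt`), and an injective additive homomorphism ψ from N onto the set of words of the binary Golay code `golayCode` that vanish at `none` (an 11-dimensional space over the field with two elements), such that conjugation by g ∈ E on N corresponds under ψ to the coordinate permutation w ↦ w ∘ σ⁻¹, σ the permutation φ(gN). Then N has a complement in E: some subgroup H meets N trivially and generates E together with N. (Equivalently, the second cohomology group of M₂₃ with coefficients in this module vanishes.) -/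
theorem result
    {E : Type*} [Group E] [Finite E] (N : Subgroup E) [hN : N.Normal]
    (φ : E ⧸ N ≃* ↥Cfsg.Spor.M23)
    (ψ : Additive ↥N →+ (Cfsg.GolayPt → ZMod 2)) (hinj : Function.Injective ψ)
    (hrange : ∀ w : Cfsg.GolayPt → ZMod 2, w ∈ Set.range ψ ↔ (w ∈ Cfsg.golayCode ∧ w none = 0))
    (hψ : ∀ (g : E) (n : ↥N),
      ψ (Additive.ofMul ⟨g * n * g⁻¹, hN.conj_mem n n.2 g⟩)
        = ψ (Additive.ofMul n) ∘ ⇑(((φ (QuotientGroup.mk g) : ↥Cfsg.Spor.M23) : Equiv.Perm Cfsg.GolayPt)⁻¹)) :
    ∃ H : Subgroup E, H ⊓ N = ⊥ ∧ H ⊔ N = ⊤ := by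
  classical
  have hker : ∀ v : E, ((φ (QuotientGroup.mk v) : ↥Cfsg.Spor.M23) : Equiv.Perm Cfsg.GolayPt) = 1 ↔ v ∈ N := by
    intro v
    rw [← QuotientGroup.eq_one_iff v, ← map_eq_one_iff φ φ.injective]
    exact ⟨fun h => Subtype.ext h, fun h => by rw [h]; rfl⟩
  let D : H49.CX.CodeExt E :=
    { π := Cfsg.Spor.M23.subtype.comp (φ.toMonoidHom.comp (QuotientGroup.mk' N))
      hπ := fun g => (φ (QuotientGroup.mk g)).2
      surj := by
        intro σ hσ
        obtain ⟨q, hq⟩ := φ.surjective ⟨σ, hσ⟩
        obtain ⟨g, rfl⟩ := QuotientGroup.mk_surjective q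
        exact ⟨g, congrArg Subtype.val hq⟩
      ψ := fun g => if h : g ∈ N then ψ (Additive.ofMul ⟨g, h⟩) else 0
      add := by
        intro u v hu hv
        have hu' := (hker u).1 hu
        have hv' := (hker v).1 hv
        rw [dif_pos (N.mul_mem hu' hv'), dif_pos hu', dif_pos hv', ← map_add]
        rfl
      inj := by
        intro v hv h
        have hv' := (hker v).1 hv
        rw [dif_pos hv'] at h
        have h1 : (Additive.ofMul (⟨v, hv'⟩ : ↥N)) = 0 := hinj (by rw [h, map_zero])
        have h2 : (⟨v, hv'⟩ : ↥N) = 1 := h1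
        exact congrArg Subtype.val h2
      mem := by
        intro v hv
        have hv' := (hker v).1 hv
        rw [dif_pos hv']
        exact (hrange _).1 ⟨_, rfl⟩
      ex := by
        intro w hw
        obtain ⟨x, hx⟩ := (hrange w).2 hw
        refine ⟨(Additive.toMul x : ↥N).1, (hker _).2 (Additive.toMul x : ↥N).2, ?_⟩
        rw [dif_pos (Additive.toMul x : ↥N).2]
        exact hx
      equi := by
        intro g v hv p
        have hv' := (hker v).1 hv
        rw [dif_pos hv', dif_pos (hN.conj_mem v hv' g)]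
        exact congrFun (hψ g ⟨v, hv'⟩) p }
  obtain ⟨H, h1, h2⟩ := D.exists_compl
  refine ⟨H, ?_, ?_⟩
  · rw [eq_bot_iff]
    rintro x ⟨hx1, hx2⟩
    exact Subgroup.mem_bot.2 (h1 x hx1 ((hker x).2 hx2))
  · rw [eq_top_iff]
    intro g _
    obtain ⟨v, hv, hvg⟩ := h2 g
    have h3 : g = v⁻¹ * (v * g) := by group
    rw [h3]
    exact (H ⊔ N).mul_mem (Subgroup.mem_sup_right (N.inv_mem ((hker v).1 hv))) (Subgroup.mem_sup_left hvg)

end Cfsg.Agent.S2649
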