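import Cfsg.Statements.S2651
import Cfsg.Agent.Lib.H49.TD14

set_option autoImplicit false
open Cfsg

namespace Cfsg.Agent.S2651

/-- the data of a cocode extension -/
def mkExt {E : Type*} [Group E] (N : Subgroup E) [hN : N.Normal]
    (φ : E ⧸ N ≃* ↥Cfsg.Spor.M23) (θ : (Cfsg.GolayPt → ZMod 2) →+ Additive ↥N)
    (hsurj : Function.Surjective θ)
    (hker : ∀ w : Cfsg.GolayPt → ZMod 2, θ w = 0 ↔ (w ∈ Cfsg.golayCode ∨ w + Pi.single none 1 ∈ Cfsg.golayCode))
    (hθ : ∀ (g : E) (w : Cfsg.GolayPt → ZMod 2),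
      ((θ (w ∘ ⇑(((φ (QuotientGroup.mk g) : ↥Cfsg.Spor.M23) : Equiv.Perm Cfsg.GolayPt)⁻¹))).toMul : E)
        = g * ((θ w).toMul : E) * g⁻¹) : H49.TD.CocExt E where
  π := Cfsg.Spor.M23.subtype.comp (φ.toMonoidHom.comp (QuotientGroup.mk' N))
  hπ := fun g => (φ (QuotientGroup.mk g)).2
  surj := by
    intro σ hσ
    obtain ⟨q, hq⟩ := φ.surjective ⟨σ, hσ⟩
    obtain ⟨g, rfl⟩ := QuotientGroup.mk_surjective q
    exact ⟨g, congrArg Subtype.val hq⟩
  θ := fun w => ((θ w).toMul : E)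
  add := by
    intro w w'
    rw [map_add]
    rfl
  one := by
    intro w
    rw [← hker]
    constructor
    · intro h
      have h1 : ((θ w).toMul : ↥N) = 1 := Subtype.ext h
      exact h1
    · intro h
      rw [h]; rfl
  ker := by
    intro v
    have h1 : ((φ (QuotientGroup.mk v) : ↥Cfsg.Spor.M23) : Equiv.Perm Cfsg.GolayPt) = 1 ↔ v ∈ N := by
      rw [← QuotientGroup.eq_one_iff v, ← map_eq_one_iff φ φ.injective]
      exact ⟨fun h => Subtype.ext h, fun h => by rw [h]; rfl⟩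
    refine Iff.trans h1 ?_
    constructor
    · intro hv
      obtain ⟨w, hw⟩ := hsurj (Additive.ofMul ⟨v, hv⟩)
      refine ⟨w, ?_⟩
      rw [hw]; rfl
    · rintro ⟨w, rfl⟩
      exact ((θ w).toMul : ↥N).2
  equi := by
    intro g w
    exact hθ g w

theorem mkExt_ns {E : Type*} [Group E] (N : Subgroup E) [hN : N.Normal]
    (φ : E ⧸ N ≃* ↥Cfsg.Spor.M23) (θ : (Cfsg.GolayPt → ZMod 2) →+ Additive ↥N)
    (hsurj : Function.Surjective θ)
    (hker : ∀ w : Cfsg.GolayPt → ZMod 2, θ w = 0 ↔ (w ∈ Cfsg.golayCode ∨ w + Pi.single none 1 ∈ Cfsg.golayCode))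
    (hθ : ∀ (g : E) (w : Cfsg.GolayPt → ZMod 2),
      ((θ (w ∘ ⇑(((φ (QuotientGroup.mk g) : ↥Cfsg.Spor.M23) : Equiv.Perm Cfsg.GolayPt)⁻¹))).toMul : E)
        = g * ((θ w).toMul : E) * g⁻¹)
    (hns : ∀ H : Subgroup E, H ⊓ N = ⊥ → H ⊔ N ≠ ⊤) :
    ¬ ∃ H : Subgroup E, Subgroup.IsComplement' (mkExt N φ θ hsurj hker hθ).π.ker H := by
  rintro ⟨H, hH⟩
  have hK : (mkExt N φ θ hsurj hker hθ).π.ker = N := by
    ext v
    have h1 : ((φ (QuotientGroup.mk v) : ↥Cfsg.Spor.M23) : Equiv.Perm Cfsg.GolayPt) = 1 ↔ v ∈ N := by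
      rw [← QuotientGroup.eq_one_iff v, ← map_eq_one_iff φ φ.injective]
      exact ⟨fun h => Subtype.ext h, fun h => by rw [h]; rfl⟩
    exact h1
  rw [hK] at hH
  apply hns H
  · rw [inf_comm]; exact hH.disjoint.eq_bot
  · rw [sup_comm]; exact hH.sup_eq_top

/-- The non-split extension of the Mathieu group M₂₃ by its cocode module is unique. Suppose E and E' are finite groups, each with a normal subgroup (N, N'), an isomorphism of the quotient onto M₂₃ = `Spor.M23`, and a surjective additive homomorphism from the binary words on the 24 points `GolayPt` onto the normal subgroup with kernel the Golay code `golayCode` together with its translate by the unit vector at the extra point `none`, intertwining the coordinate permutation w ↦ w ∘ σ⁻¹ (σ the image of gN) with conjugation by g; and suppose that in each group the normal subgroup has no complement. Then E and E' are isomorphic. -/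
theorem result
    {E : Type*} [Group E] [Finite E] (N : Subgroup E) [hN : N.Normal]
    (φ : E ⧸ N ≃* ↥Cfsg.Spor.M23) (θ : (Cfsg.GolayPt → ZMod 2) →+ Additive ↥N)
    (hsurj : Function.Surjective θ)
    (hker : ∀ w : Cfsg.GolayPt → ZMod 2, θ w = 0 ↔ (w ∈ Cfsg.golayCode ∨ w + Pi.single none 1 ∈ Cfsg.golayCode))
    (hθ : ∀ (g : E) (w : Cfsg.GolayPt → ZMod 2),
      ((θ (w ∘ ⇑(((φ (QuotientGroup.mk g) : ↥Cfsg.Spor.M23) : Equiv.Perm Cfsg.GolayPt)⁻¹))).toMul : E)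
        = g * ((θ w).toMul : E) * g⁻¹)
    (hns : ∀ H : Subgroup E, H ⊓ N = ⊥ → H ⊔ N ≠ ⊤)
    {E' : Type*} [Group E'] [Finite E'] (N' : Subgroup E') [hN' : N'.Normal]
    (φ' : E' ⧸ N' ≃* ↥Cfsg.Spor.M23) (θ' : (Cfsg.GolayPt → ZMod 2) →+ Additive ↥N')
    (hsurj' : Function.Surjective θ')
    (hker' : ∀ w : Cfsg.GolayPt → ZMod 2, θ' w = 0 ↔ (w ∈ Cfsg.golayCode ∨ w + Pi.single none 1 ∈ Cfsg.golayCode))
    (hθ' : ∀ (g : E') (w : Cfsg.GolayPt → ZMod 2),
      ((θ' (w ∘ ⇑(((φ' (QuotientGroup.mk g) : ↥Cfsg.Spor.M23) : Equiv.Perm Cfsg.GolayPt)⁻¹))).toMul : E')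
        = g * ((θ' w).toMul : E') * g⁻¹)
    (hns' : ∀ H : Subgroup E', H ⊓ N' = ⊥ → H ⊔ N' ≠ ⊤) :
    Nonempty (E ≃* E') := by
  exact H49.TD.CocExt.unique (mkExt N φ θ hsurj hker hθ) (mkExt N' φ' θ' hsurj' hker' hθ')
    (mkExt_ns N φ θ hsurj hker hθ hns) (mkExt_ns N' φ' θ' hsurj' hker' hθ' hns')

end Cfsg.Agent.S2651
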