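import Cfsg.Statements.S2756
import Cfsg.Agent.Lib.H69.ZJReal3
import Cfsg.Agent.Lib.H14.ZJ2

set_option autoImplicit false
open Cfsg

namespace Cfsg.Agent.S2756

open Subgroup H69.ZJReal H14.ZJ

theorem eq_one_of_inv {G : Type*} [Group G] [Finite G] (hN : ∀ P : Sylow 2 G, (P : Subgroup G).Normal) {q : ℕ}
    [hq : Fact q.Prime] (hq2 : q ≠ 2) {x g : G} (hx : ∃ k, x ^ q ^ k = 1) (h : g * x * g⁻¹ = x⁻¹) : x = 1 := by
  obtain ⟨k, hk⟩ := hx
  obtain ⟨n, j, hn, hj⟩ := exists_odd_pow g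
  have hw := conj_odd h hn
  set w := g ^ n with hwdef
  have h2 : IsPGroup 2 (zpowers w) := by
    apply IsPGroup.of_card_dvd_pow (n := j)
    rw [Nat.card_zpowers]
    exact orderOf_dvd_of_pow_eq_one hj
  obtain ⟨P, hP⟩ := h2.exists_le_sylow
  have hwP : w ∈ (P : Subgroup G) := hP (mem_zpowers w)
  have h3 : x * w * x⁻¹ * w⁻¹ ∈ (P : Subgroup G) := mul_mem ((hN P).conj_mem w hwP x) (inv_mem hwP)
  have h4 : w * x⁻¹ * w⁻¹ = x := by
    have h5 : (w * x * w⁻¹)⁻¹ = x := by rw [hw, inv_inv]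
    calc w * x⁻¹ * w⁻¹ = (w * x * w⁻¹)⁻¹ := by group
      _ = x := h5
  have h5 : x * w * x⁻¹ * w⁻¹ = x ^ 2 := by
    calc x * w * x⁻¹ * w⁻¹ = x * (w * x⁻¹ * w⁻¹) := by group
      _ = x ^ 2 := by rw [h4, pow_two]
  rw [h5] at h3
  obtain ⟨m, hm⟩ := P.2 ⟨x ^ 2, h3⟩
  have hm' : (x ^ 2) ^ 2 ^ m = 1 := congrArg Subtype.val hm
  have h6 : Nat.Coprime (q ^ k) (2 ^ (m + 1)) :=
    Nat.Coprime.pow _ _ ((Nat.coprime_primes hq.out Nat.prime_two).mpr hq2)
  have h7 := Nat.dvd_gcd (orderOf_dvd_of_pow_eq_one hk)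
    (orderOf_dvd_of_pow_eq_one (n := 2 ^ (m + 1)) (by rw [pow_succ', pow_mul]; exact hm'))
  rw [h6] at h7
  exact orderOf_eq_one_iff.mp (Nat.dvd_one.mp h7)

theorem normal_sub {G : Type*} [Group G] [Finite G] (hN : ∀ P : Sylow 2 G, (P : Subgroup G).Normal) (H : Subgroup G)
    (P : Sylow 2 H) : (P : Subgroup H).Normal := by
  obtain ⟨Q, hQ⟩ := (P.2.map H.subtype).exists_le_sylow
  have hQn := hN Q
  have h1 : (P : Subgroup H) ≤ (Q : Subgroup G).subgroupOf H := by
    intro x hx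
    exact hQ ⟨x, hx, rfl⟩
  have h2 : IsPGroup 2 ((Q : Subgroup G).subgroupOf H) := Q.2.comap_of_injective _ H.subtype_injective
  rw [← P.3 h2 h1]
  infer_instance

universe u

theorem normal_of_not_real {G : Type u} [Group G] [Finite G]
    (h : ∀ (q : ℕ) [Fact q.Prime], q ≠ 2 → ¬ RealIn q (⊤ : Subgroup G)) (P : Sylow 2 G) :
    (P : Subgroup G).Normal := by
  set O := pCore 2 G with hO
  have : Fact (Nat.Prime 2) := ⟨Nat.prime_two⟩
  have hodd : ¬ 2 ∣ Nat.card (G ⧸ O) := by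
    intro h2
    obtain ⟨t, ht⟩ := exists_prime_orderOf_dvd_card' (G := G ⧸ O) 2 h2
    have htt : t * t = 1 := by
      rw [← pow_two]
      exact orderOf_dvd_iff_pow_eq_one.mp (by rw [ht])
    have ht1 : t ≠ 1 := by
      rintro rfl
      rw [orderOf_one] at ht; omega
    by_cases hall : ∀ x : G ⧸ O, Odd (orderOf x) → t * x * t⁻¹ = x⁻¹ → x = 1
    · obtain ⟨N, hNn, hN2, htN⟩ := H55.BaerSuzuki.exists_normal_of_involution t htt hall
      have h1 := H1.Cores.le_pCore hNn hN2 htN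
      rw [H1.Cores.pCore_quotient_pCore, mem_bot] at h1
      exact ht1 h1
    · push Not at hall
      obtain ⟨x, hxo, hxt, hx1⟩ := hall
      obtain ⟨q, hq, hqd⟩ := Nat.exists_prime_and_dvd (n := orderOf x) (fun h1 => hx1 (orderOf_eq_one_iff.mp h1))
      have hqf : Fact q.Prime := ⟨hq⟩
      have hq2 : q ≠ 2 := by
        rintro rfl
        exact (Nat.not_even_iff_odd.mpr hxo) (even_iff_two_dvd.mpr hqd)
      have h1 : RealIn q (⊤ : Subgroup (G ⧸ O)) := by
        refine ⟨x ^ (orderOf x / q), mem_top _, t, mem_top _, ?_, ⟨1, ?_⟩, ?_⟩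
        · intro h2
          have h3 := orderOf_dvd_of_pow_eq_one h2
          have h4 : orderOf x / q < orderOf x := Nat.div_lt_self (orderOf_pos x) hq.one_lt
          have h5 : 0 < orderOf x / q := Nat.div_pos (Nat.le_of_dvd (orderOf_pos x) hqd) hq.pos
          exact absurd (Nat.le_of_dvd h5 h3) (not_le.mpr h4)
        · rw [pow_one, ← pow_mul, Nat.div_mul_cancel hqd, pow_orderOf_eq_one]
        · rw [← conj_pow, hxt, inv_pow]
      have h2 := h1.comap hq2 (QuotientGroup.mk' O) (QuotientGroup.mk'_surjective O)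
      exact h q hq2 (h2.mono le_top)
  have h1 : O ≤ (P : Subgroup G) := H1.Cores.pCore_le_sylow P
  have h2 : (P : Subgroup G) ≤ O := by
    intro x hx
    obtain ⟨k, hk⟩ := P.2 ⟨x, hx⟩
    have hk' : x ^ 2 ^ k = 1 := congrArg Subtype.val hk
    have h3 : orderOf (QuotientGroup.mk' O x) ∣ 2 ^ k :=
      orderOf_dvd_of_pow_eq_one (by rw [← map_pow, hk', map_one])
    have h4 : orderOf (QuotientGroup.mk' O x) ∣ Nat.card (G ⧸ O) := orderOf_dvd_natCard _
    have h5 : Nat.Coprime (2 ^ k) (Nat.card (G ⧸ O)) :=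
      Nat.Coprime.pow_left _ ((Nat.Prime.coprime_iff_not_dvd Nat.prime_two).mpr hodd)
    have h6 := Nat.dvd_gcd h3 h4
    rw [h5] at h6
    exact (QuotientGroup.eq_one_iff x).mp (orderOf_eq_one_iff.mp (Nat.dvd_one.mp h6))
  rw [le_antisymm h2 h1]
  infer_instance

/-- For a finite group G the following are equivalent: (a) G has a normal Sylow 2-subgroup; (b) for every odd prime q dividing the order of G and every Sylow q-subgroup T, the normalizer of Z(J(T)) has a normal Sylow 2-subgroup; (c) for every odd prime q and every Sylow q-subgroup T, no nonidentity element of T is inverted by an element of the normalizer of Z(J(T)). Here J(T) is the Thompson subgroup generated by the abelian subgroups of T of largest order. Stated as the two equivalences (a) ⇔ (b) and (a) ⇔ (c). -/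
theorem result {G : Type*} [Group G] [Finite G] : ((∀ P : Sylow 2 G, (P : Subgroup G).Normal) ↔ ∀ (q : ℕ) [Fact q.Prime], q ≠ 2 → q ∣ Nat.card G → ∀ T : Sylow q G, ∀ P : Sylow 2 ↥(Subgroup.normalizer (Cfsg.centerThompsonAOf (T : Subgroup G) : Set G)), (P : Subgroup ↥(Subgroup.normalizer (Cfsg.centerThompsonAOf (T : Subgroup G) : Set G))).Normal) ∧ ((∀ P : Sylow 2 G, (P : Subgroup G).Normal) ↔ ∀ (q : ℕ) [Fact q.Prime], q ≠ 2 → ∀ T : Sylow q G, ∀ x ∈ (T : Subgroup G), x ≠ 1 → ∀ g ∈ Subgroup.normalizer (Cfsg.centerThompsonAOf (T : Subgroup G) : Set G), g * x * g⁻¹ ≠ x⁻¹) := by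
  have hT : ∀ (q : ℕ) [Fact q.Prime] (T : Sylow q G),
      (T : Subgroup G) ≤ Subgroup.normalizer (Cfsg.centerThompsonAOf (T : Subgroup G) : Set G) := by
    intro q _ T
    rw [H14.ZJ2.centerThompsonA_eq q]
    exact le_normalizer.trans (normalizer_le_normalizer_WW false q _)
  have hca : (∀ (q : ℕ) [Fact q.Prime], q ≠ 2 → ∀ T : Sylow q G, ∀ x ∈ (T : Subgroup G), x ≠ 1 →
      ∀ g ∈ Subgroup.normalizer (Cfsg.centerThompsonAOf (T : Subgroup G) : Set G), g * x * g⁻¹ ≠ x⁻¹) →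
      ∀ P : Sylow 2 G, (P : Subgroup G).Normal := by
    intro hc
    apply normal_of_not_real
    intro q _ hq2 hr
    obtain ⟨T⟩ : Nonempty (Sylow q G) := inferInstance
    have h1 := H69.ZJReal.main hq2 false _ G le_rfl T hr
    rw [← H14.ZJ2.centerThompsonA_eq q] at h1
    obtain ⟨x, hx, g, hg, hx1, ⟨k, hk⟩, hgx⟩ := h1
    set N := Subgroup.normalizer (Cfsg.centerThompsonAOf (T : Subgroup G) : Set G) with hN
    have hTi : ¬ q ∣ (T : Subgroup G).relIndex N := fun hd =>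
      T.not_dvd_index (hd.trans (relIndex_dvd_index_of_le (hT q T)))
    obtain ⟨y, hy, hyT⟩ := H51.SylowAmb.exists_conj_le (p := q) (hT q T) T.2 hTi (Q := zpowers x)
      (by rwa [zpowers_le]) (by
        apply IsPGroup.of_card_dvd_pow (n := k)
        rw [Nat.card_zpowers]
        exact orderOf_dvd_of_pow_eq_one hk)
    refine hc q hq2 T (y * x * y⁻¹) (hyT ⟨x, mem_zpowers x, rfl⟩) ?_ (y * g * y⁻¹)
      (mul_mem (mul_mem hy hg) (inv_mem hy)) ?_
    · intro h2
      apply hx1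
      rwa [mul_inv_eq_one, mul_eq_left] at h2
    · calc y * g * y⁻¹ * (y * x * y⁻¹) * (y * g * y⁻¹)⁻¹ = y * (g * x * g⁻¹) * y⁻¹ := by group
        _ = (y * x * y⁻¹)⁻¹ := by rw [hgx]; group
  have hpow : ∀ (q : ℕ) [Fact q.Prime] (T : Sylow q G) (x : G), x ∈ (T : Subgroup G) → ∃ k, x ^ q ^ k = 1 := by
    intro q _ T x hx
    obtain ⟨k, hk⟩ := T.2 ⟨x, hx⟩
    exact ⟨k, congrArg Subtype.val hk⟩
  refine ⟨⟨fun ha q _ _ _ T P => normal_sub ha _ P, fun hb => hca ?_⟩, fun ha q _ hq2 T x hx hx1 g _ hgx => ?_, hca⟩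
  · intro q _ hq2 T x hx hx1 g hg hgx
    obtain ⟨k, hk⟩ := hpow q T x hx
    have hqd : q ∣ Nat.card G := by
      obtain ⟨m, hm⟩ := IsPGroup.iff_card.mp T.2
      have h1 : m ≠ 0 := by
        rintro rfl
        rw [pow_zero, card_eq_one] at hm
        rw [hm, mem_bot] at hx
        exact hx1 hx
      have h2 : q ∣ Nat.card (T : Subgroup G) := by rw [hm]; exact dvd_pow_self q h1
      exact h2.trans (card_subgroup_dvd_card _)
    have h1 := hb q hq2 hqd T
    have h2 := eq_one_of_inv h1 hq2 (x := ⟨x, hT q T hx⟩) (g := ⟨g, hg⟩) ⟨k, Subtype.ext hk⟩ (Subtype.ext hgx)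
    exact hx1 (congrArg Subtype.val h2)
  · exact hx1 (eq_one_of_inv ha hq2 (hpow q T x hx) hgx)

end Cfsg.Agent.S2756
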