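import Cfsg.Statements.S2765
import Cfsg.Agent.Lib.H52.PuStr

set_option autoImplicit false
open Cfsg

namespace Cfsg.Agent.S2765

open Subgroup in
theorem exp_aux {G : Type*} [Group G] {S : Subgroup G} {n m : ℕ} (h1 : ∀ s ∈ S, s ^ n = 1)
    (hm : ∀ d, d ∣ n → d ≠ n → d ∣ m) (h2 : ∃ s ∈ S, s ^ m ≠ 1) : Monoid.exponent ↥S = n := by
  have h3 : Monoid.exponent ↥S ∣ n := by
    apply Monoid.exponent_dvd_of_forall_pow_eq_one
    rintro ⟨s, hs⟩
    exact Subtype.ext (h1 s hs)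
  by_contra hne
  obtain ⟨s, hs, hs2⟩ := h2
  obtain ⟨k, hk⟩ := hm _ h3 hne
  apply hs2
  have h4 := Monoid.pow_exponent_eq_one (⟨s, hs⟩ : S)
  have h5 : s ^ Monoid.exponent ↥S = 1 := congrArg Subtype.val h4
  rw [hk, pow_mul, h5, one_pow]

/-- In the same pushing-up situation (G finite, C_G(O_p(G)) ≤ O_p(G), G/K ≅ PSL₂(p^n) with n ≥ 1, a Sylow p-subgroup S in exactly one maximal subgroup, no nontrivial characteristic subgroup of S normal in G), one of the following holds: (I) S has nilpotency class 2, exponent 4 if p = 2 and exponent p otherwise, and G has exactly one noncentral chief factor inside O_p(G); or (II) p = 3, S has class 3 and exponent 9, and G has exactly two noncentral chief factors inside O_p(G). 'Exactly one' is phrased as: some noncentral chief factor U/W inside O_p(G) with G acting hypercentrally on W and on O_p(G)/U; 'exactly two' analogously with a chain. -/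
theorem result {G : Type*} [Group G] [Finite G] {p : ℕ} [Fact p.Prime] (S : Sylow p G) (hE₁ : Subgroup.centralizer (Cfsg.pCore p G : Set G) ≤ Cfsg.pCore p G) (hE₂ : ∃! M : Subgroup G, IsCoatom M ∧ (S : Subgroup G) ≤ M) (K : Subgroup G) [K.Normal] (F : Type) [Field F] [Fintype F] (n : ℕ) (hn : 1 ≤ n) (hF : Fintype.card F = p ^ n) (hE₃ : Nonempty (G ⧸ K ≃* Matrix.ProjectiveSpecialLinearGroup (Fin 2) F)) (hd : ∀ T : Subgroup ↥(S : Subgroup G), T ≠ ⊥ → T.Characteristic → ¬ (T.map (S : Subgroup G).subtype).Normal) : ((S : Subgroup G).lowerCentralSeries 2 = ⊥ ∧ (S : Subgroup G).lowerCentralSeries 1 ≠ ⊥ ∧ (p = 2 → Monoid.exponent ↥(S : Subgroup G) = 4) ∧ (p ≠ 2 → Monoid.exponent ↥(S : Subgroup G) = p) ∧ (∃ U W : Subgroup G, W ≤ U ∧ U ≤ (Cfsg.pCore p G) ∧ Cfsg.IsChiefFactor U W ∧ ¬ ⁅U, (⊤ : Subgroup G)⁆ ≤ W ∧ (∃ k : ℕ, Cfsg.iterCommutator W ⊤ k = ⊥) ∧ (∃ k : ℕ, Cfsg.iterCommutator (Cfsg.pCore p G) ⊤ k ≤ U)))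 ∨ (p = 3 ∧ (S : Subgroup G).lowerCentralSeries 3 = ⊥ ∧ (S : Subgroup G).lowerCentralSeries 2 ≠ ⊥ ∧ Monoid.exponent ↥(S : Subgroup G) = 9 ∧ (∃ U₁ W₁ U₂ W₂ : Subgroup G, W₁ ≤ U₁ ∧ U₁ ≤ W₂ ∧ W₂ ≤ U₂ ∧ U₂ ≤ (Cfsg.pCore p G) ∧ Cfsg.IsChiefFactor U₁ W₁ ∧ Cfsg.IsChiefFactor U₂ W₂ ∧ ¬ ⁅U₁, (⊤ : Subgroup G)⁆ ≤ W₁ ∧ ¬ ⁅U₂, (⊤ : Subgroup G)⁆ ≤ W₂ ∧ (∃ k : ℕ, Cfsg.iterCommutator W₁ ⊤ k = ⊥) ∧ (∃ k : ℕ, Cfsg.iterCommutator W₂ ⊤ k ≤ U₁) ∧ (∃ k : ℕ, Cfsg.iterCommutator (Cfsg.pCore p G) ⊤ k ≤ U₂))) := by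
  obtain ⟨M, π, h, -, -⟩ := H53.PU.exists_psit' (p := p) (S : Subgroup G) ⟨S, rfl⟩ hE₁ hE₂ hF K hE₃.some
  obtain ⟨i, hi, push⟩ := H39.PuAmb.ambient (S : Subgroup G) hd
  obtain ⟨⟨ρ, ψ, hff, hρ, hψ⟩, hcase⟩ := H52.PU.str h i hi push
  have hp : p.Prime := Fact.out
  obtain ⟨hch, hnc, hc0⟩ := H52.PU.chief_V hff
  have hVQ : H53.PU.PSit.VS (S : Subgroup G) ≤ Cfsg.pCore p G := h.VS_le.trans inf_le_left
  rcases hcase with ⟨h3, h2, hodd, htwo, A, hA, hSA⟩ | ⟨hp3, h4, h3, h9, hx, E, D, hEn, hDn, hVD, hDE, hEQ, hchE, hncE, hDV, hk⟩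
  · left
    refine ⟨h3, h2, ?_, ?_, _, _, inf_le_left, hVQ, hch, hnc, ⟨1, hc0⟩, ?_⟩
    · intro hp2
      refine exp_aux (m := 2) (htwo hp2) ?_ ?_
      · intro d hd hne
        have h5 := Nat.le_of_dvd (by norm_num) hd
        interval_cases d <;> simp_all
      · by_contra hcon
        push Not at hcon
        apply h2
        rw [eq_bot_iff, Subgroup.commutator_le]
        intro a ha b hb
        rw [Subgroup.mem_bot, commutatorElement_eq_one_iff_mul_comm]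
        have e1 := hcon a ha
        have e2 := hcon b hb
        have e3 := hcon (a * b) (mul_mem ha hb)
        rw [sq] at e1 e2 e3
        have i1 : a⁻¹ = a := inv_eq_of_mul_eq_one_left e1
        have i2 : b⁻¹ = b := inv_eq_of_mul_eq_one_left e2
        have i3 : (a * b)⁻¹ = a * b := inv_eq_of_mul_eq_one_left e3
        rw [mul_inv_rev, i1, i2] at i3
        exact i3.symm
    · intro hp2
      refine exp_aux (m := 1) (hodd hp2) ?_ ?_
      · intro d hd hne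
        rcases (Nat.dvd_prime hp).mp hd with rfl | rfl
        · exact dvd_rfl
        · exact absurd rfl hne
      · by_contra hcon
        push Not at hcon
        apply h2
        rw [eq_bot_iff, Subgroup.commutator_le]
        intro a ha b hb
        have e1 := hcon a ha
        rw [pow_one] at e1
        rw [e1]; simp
    · exact H52.PU.exists_iter_of h hA ((Subgroup.commutator_mono h.pCore_le_S le_rfl).trans hSA)
  · right
    refine ⟨hp3, h4, h3, ?_, H53.PU.PSit.VS (S : Subgroup G), H53.PU.PSit.VS (S : Subgroup G) ⊓ Subgroup.center G, E, D, inf_le_left, hVD, hDE, hEQ, hch,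
      hchE, hnc, hncE, ⟨1, hc0⟩, ⟨1, hDV⟩, hk⟩
    refine exp_aux (m := 3) h9 ?_ hx
    intro d hd hne
    have h5 := Nat.le_of_dvd (by norm_num) hd
    interval_cases d <;> simp_all

end Cfsg.Agent.S2765
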