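import Cfsg.Statements.S2766
import Cfsg.Agent.Lib.H39.PuBOne
import Cfsg.Agent.Lib.H39.PuEnd
import Cfsg.Agent.Lib.H39.PuQd

set_option autoImplicit false
open Cfsg

namespace Cfsg.Agent.S2766

/-- Let p ≥ 5 be prime and G a maximal p-local subgroup of a finite group H (G is the normalizer of a nontrivial p-subgroup and lies in no other such normalizer). Suppose C_G(O_p(G)) ≤ O_p(G), G/K ≅ PSL₂(p^n) for some normal K and n ≥ 1, a Sylow p-subgroup S of G lies in exactly one maximal subgroup of G, and N_H(S) is not contained in G. Then G = G₀ × E for subgroups G₀ ≅ Qd(p^n) (the natural semidirect product of the plane over the field with p^n elements by SL₂) and E an elementary abelian p-group. -/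
theorem result {H : Type*} [Group H] [Finite H] {p : ℕ} [Fact p.Prime] (hp : 5 ≤ p) (G : Subgroup H) (hloc : ∃ R : Subgroup H, IsPGroup p ↥R ∧ R ≠ ⊥ ∧ G = Subgroup.normalizer (R : Set H)) (hmax : ∀ R : Subgroup H, IsPGroup p ↥R → R ≠ ⊥ → G ≤ Subgroup.normalizer (R : Set H) → Subgroup.normalizer (R : Set H) = G) (S : Sylow p ↥G) (hE₁ : Subgroup.centralizer (Cfsg.pCore p ↥G : Set ↥G) ≤ Cfsg.pCore p ↥G) (hE₂ : ∃! M : Subgroup ↥G, IsCoatom M ∧ (S : Subgroup ↥G) ≤ M) (K : Subgroup ↥G) [K.Normal] (F : Type) [Field F] [Fintype F] (n : ℕ) (hn : 1 ≤ n) (hF : Fintype.card F = p ^ n) (hE₃ : Nonempty (↥G ⧸ K ≃* Matrix.ProjectiveSpecialLinearGroup (Fin 2) F)) (hN : ¬ Subgroup.normalizer (((S : Subgroup ↥G).map G.subtype : Subgroup H) : Set H) ≤ G) : ∃ G₀ E : Subgroup H, Cfsg.IsInternalDirectProduct G₀ E G ∧ Cfsg.IsElementaryAbelian p E ∧ Nonempty (↥G₀ ≃* ↥(Cfsg.qdOver F)) := by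

  classical
  obtain ⟨e⟩ := hE₃
  obtain ⟨M, π, hps, -, -⟩ := H53.PU.exists_psit' (p := p) (S : Subgroup ↥G) ⟨S, rfl⟩ hE₁ hE₂ hF K e
  have hi : Function.Injective G.subtype := G.subtype_injective
  have hr : G.subtype.range = G := G.range_subtype
  have hpS : IsPGroup p ((S : Subgroup ↥G).map G.subtype) := S.2.map G.subtype
  have push : ∀ T : Subgroup H, T ≤ (S : Subgroup ↥G).map G.subtype → G.subtype.range ≤ Subgroup.normalizer (T : Set H) →
      Subgroup.normalizer ((S : Subgroup ↥G).map G.subtype : Set H) ≤ Subgroup.normalizer (T : Set H) → T = ⊥ := by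
    intro T hT hG hNT
    by_contra hne
    rw [hr] at hG
    have h1 := hmax T (hpS.to_le hT) hne hG
    exact hN (hNT.trans h1.le)
  obtain ⟨nn, hnn, hV⟩ := H39.PuBOne.main hps G.subtype hi push (by omega)
  obtain ⟨⟨ρ, ψ, hff, hρ, hψ, hker⟩, -⟩ := H52.PU.main_factors hps G.subtype hi push
  obtain ⟨hs, -, -⟩ := H52.PU.setup_of_psit hps G.subtype hi push
  have hcF := hps.hcF
  have hQm := H52.PU.Qf_range (p := p) G.subtype hi
  have hVm : H52.PU.Vf p G.subtype.range = (H53.PU.PSit.VS (S : Subgroup ↥G)).map G.subtype :=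
    H52.PU.Vf_range (p := p) G.subtype hi (H52.PU.isSyl_of_psit hps)
  have hQp : IsPGroup p ↥(H52.PU.Qf p G.subtype.range) := hs.pS.to_le hs.Q_le
  have hQel : Cfsg.IsElementaryAbelian p (Cfsg.pCore p ↥G) := by
    have h1 := H39.PuEnd.Q_elem hs hnn hV (fun T hT hne hG => by
      rw [hr] at hG ⊢
      exact (hmax T (hQp.to_le hT) hne hG).le)
    rw [hQm] at h1
    refine ⟨⟨⟨fun a b => Subtype.ext (Subtype.ext ?_)⟩⟩, ?_⟩
    · have h2 := congrArg Subtype.val (h1.1.is_comm.comm (⟨_, a, a.2, rfl⟩ : ↥((Cfsg.pCore p ↥G).map G.subtype)) ⟨_, b, b.2, rfl⟩)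
      exact h2
    · intro a ha
      exact Subtype.ext (h1.2 _ ⟨a, ha, rfl⟩)
  have hVS : H52.PU.Vf p (H28.Cj.cj nn G.subtype.range) ≤ (S : Subgroup ↥G).map G.subtype := by
    rw [← H39.PuEnd.Vn_sup hs hnn hV]; exact le_sup_left
  have hAm := H39.PuTor.map_comap_of_le (hVS.trans (Subgroup.map_le_range _ _))
  have hAel := H39.PuEnd.Vn_elem hs hnn hV
  let ψ' : ↥(H53.PU.PSit.VS (S : Subgroup ↥G)) →* Multiplicative (Fin 2 → F) :=
    { toFun := fun v => Multiplicative.ofAdd (ψ v)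
      map_one' := by rw [hff.pone]; rfl
      map_mul' := fun v w => by rw [hff.pmul]; rfl }
  obtain ⟨G₀, E, ⟨h1, h2, h3, h4, h5⟩, ⟨h6, h7⟩, ⟨f⟩⟩ := H39.PuQd.split hp S (Cfsg.pCore p ↥G) hQel ρ hff.surj hker
    (H53.PU.PSit.VS (S : Subgroup ↥G)) inferInstance
    (by rw [← Subgroup.map_le_map_iff_of_injective hi, ← hQm, ← hVm]; exact hs.V_le) ψ'
    (fun x => by
      obtain ⟨v, hv⟩ := hff.psurj (Multiplicative.toAdd x)
      exact ⟨v, by change Multiplicative.ofAdd (ψ v) = x; rw [hv]; rfl⟩)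
    (fun v hv => (hff.pker v).mp (Multiplicative.ofAdd.injective hv))
    (fun g v w hw => hff.pact g v w hw)
    ((H52.PU.Vf p (H28.Cj.cj nn G.subtype.range)).comap G.subtype)
    (by
      refine ⟨⟨⟨fun a b => Subtype.ext (Subtype.ext ?_)⟩⟩, ?_⟩
      · have h2 := congrArg Subtype.val (hAel.1.is_comm.comm (⟨_, a.2⟩ : ↥(H52.PU.Vf p (H28.Cj.cj nn G.subtype.range))) ⟨_, b.2⟩)
        exact h2
      · intro a ha
        exact Subtype.ext (hAel.2 _ ha))
    (by
      apply Subgroup.map_injective hi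
      rw [Subgroup.map_sup, hAm, ← hQm]
      exact (H39.PuEnd.Vn_sup hs hnn hV).symm)
    (by
      rw [← Subgroup.map_le_map_iff_of_injective hi, Subgroup.map_commutator, hAm, ← hQm, ← hVm]
      exact H39.PuEnd.Vn_comm hs hnn hV)
  refine ⟨G₀.map G.subtype, E.map G.subtype, ⟨Subgroup.map_subtype_le _, Subgroup.map_subtype_le _, ?_, ?_, ?_⟩,
    ⟨⟨⟨?_⟩⟩, ?_⟩, ⟨(G₀.equivMapOfInjective G.subtype hi).symm.trans f⟩⟩
  · rintro _ ⟨a, ha, rfl⟩ _ ⟨b, hb, rfl⟩
    exact congrArg Subtype.val (h3 a ha b hb)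
  · rw [← Subgroup.map_inf _ _ _ hi, h4, Subgroup.map_bot]
  · rw [← Subgroup.map_sup, h5, ← MonoidHom.range_eq_map, hr]
  · rintro ⟨_, a, ha, rfl⟩ ⟨_, b, hb, rfl⟩
    have h8 : a * b = b * a := congrArg Subtype.val (h6.is_comm.comm (⟨a, ha⟩ : ↥E) ⟨b, hb⟩)
    exact Subtype.ext (congrArg (fun c : ↥G => (c : H)) h8)
  · rintro _ ⟨a, ha, rfl⟩
    exact congrArg Subtype.val (h7 a ha)

end Cfsg.Agent.S2766
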