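import Cfsg.Statements.S2806
import Cfsg.Agent.Lib.H52.Kieler
import Cfsg.Agent.Lib.H52.SylJoin
import Cfsg.Agent.Lib.H53.CharP

set_option autoImplicit false
open Cfsg

namespace Cfsg.Agent.S2806

open H52.Kieler H52.Syl H53.CharP

/-- closure of `p`-elements -/
def opp (p : ℕ) {G : Type*} [Group G] (X : Subgroup G) : Subgroup G :=
  Subgroup.closure {x : G | x ∈ X ∧ ∃ k : ℕ, orderOf x = p ^ k}

theorem opp_le {p : ℕ} {G : Type*} [Group G] (X : Subgroup G) : opp p X ≤ X := by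
  unfold opp
  rw [Subgroup.closure_le]
  exact fun x hx => hx.1

theorem mem_of_subnormal {p : ℕ} {G : Type*} [Group G] [Finite G] [Fact p.Prime] {P X R : Subgroup G} (hPX : P ≤ X)
    (hP : (P.subgroupOf X).IsSubnormal) (hR : SylIn p R X) (hRP : R ≤ P) {x : G} (hx : x ∈ X)
    (hp : ∃ k : ℕ, orderOf x = p ^ k) : x ∈ P := by
  obtain ⟨k, hk⟩ := hp
  have hz : IsPGroup p (Subgroup.zpowers x) := by
    apply IsPGroup.of_card (n := k)
    rw [Nat.card_zpowers, hk]
  obtain ⟨T', hT', hxT'⟩ := exists_sylIn_le (by rwa [Subgroup.zpowers_le]) hz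
  have h1 := hT'.inf_subnormal' hPX hP
  have h2 : SylIn p R P := hR.of_le hRP hPX
  obtain ⟨l, _, hl⟩ := h2.conj h1
  obtain ⟨m, _, hm⟩ := hR.conj hT'
  have h3 : T' ⊓ P = T' := by
    apply Subgroup.eq_of_le_of_card_ge inf_le_left
    rw [hl, card_cj]
    rw [hm, card_cj]
  have h4 : x ∈ T' ⊓ P := by rw [h3]; exact hxT' (Subgroup.mem_zpowers x)
  exact (Subgroup.mem_inf.1 h4).2

/-- local characteristic `p`, relative to a subgroup -/
def LC (p : ℕ) {G : Type*} [Group G] (K : Subgroup G) : Prop :=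
  ∀ P : Subgroup G, P ≤ K → IsPGroup p P → P ≠ ⊥ → CP p (K ⊓ Subgroup.normalizer (P : Set G))

theorem LC.normal {p : ℕ} {G : Type*} [Group G] [Finite G] [Fact p.Prime] {K L : Subgroup G} (hK : LC p K)
    (hLK : L ≤ K) (hn : K ≤ Subgroup.normalizer (L : Set G)) : LC p L := by
  intro P hP hp h1
  refine (hK P (hP.trans hLK) hp h1).of_normal (inf_le_inf_right _ hLK) ?_
  intro x hx
  obtain ⟨hx1, hx2⟩ := Subgroup.mem_inf.1 hx
  exact normalizer_inf_le (Subgroup.mem_inf.2 ⟨hn hx1, Subgroup.le_normalizer hx2⟩)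

theorem oz_ne_bot {p : ℕ} {G : Type*} [Group G] [Finite G] [Fact p.Prime] {S : Subgroup G} (hS : IsPGroup p S)
    (h : S ≠ ⊥) : oz p S ≠ ⊥ := by
  have h1 := H52.Trace.exists_ne_of_pGroup_action hS hS Subgroup.le_normalizer h
  obtain ⟨Z, hZ⟩ : ∃ Z : Subgroup G, Z = S ⊓ Subgroup.centralizer (S : Set G) := ⟨_, rfl⟩
  rw [← hZ] at h1
  have hZp : IsPGroup p Z := hZ ▸ hS.to_le inf_le_left
  have hn : Nontrivial Z := (Subgroup.nontrivial_iff_ne_bot Z).2 h1
  obtain ⟨n, hn0, hn⟩ := hZp.nontrivial_iff_card.1 hn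
  have hdvd : p ∣ Nat.card Z := by rw [hn]; exact dvd_pow_self p (by omega)
  obtain ⟨x, hx⟩ := exists_prime_orderOf_dvd_card' p hdvd
  intro h0
  have hxZ : (x : G) ∈ S ⊓ Subgroup.centralizer (S : Set G) := hZ ▸ x.2
  have h3 : (x : G) ^ p = 1 := by
    have := pow_orderOf_eq_one x
    rw [hx] at this
    exact congrArg Subtype.val this
  have h4 : (x : G) ∈ oz p S := mem_oz.2 ⟨(Subgroup.mem_inf.1 hxZ).1, (Subgroup.mem_inf.1 hxZ).2, h3⟩
  rw [h0, Subgroup.mem_bot] at h4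
  have h5 : x = 1 := Subtype.ext h4
  rw [h5, orderOf_one] at hx
  exact (Fact.out : p.Prime).one_lt.ne hx

theorem normalizer_le_normalizer_oz {p : ℕ} {G : Type*} [Group G] (S : Subgroup G) :
    Subgroup.normalizer (S : Set G) ≤ Subgroup.normalizer (oz p S : Set G) := by
  refine le_trans ?_ (H52.Red.normalizer_le_normalizer_omegaOne _)
  intro x hx
  exact normalizer_inf_le (Subgroup.mem_inf.2 ⟨hx, normalizer_le_normalizer_centralizer S hx⟩)

theorem step {p : ℕ} {G : Type*} [Group G] [Finite G] [Fact p.Prime] {K L T : Subgroup G} (hK : LC p K)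
    (hT : SylIn p T K) (hLK : L ≤ K) (hn : K ≤ Subgroup.normalizer (L : Set G)) (h1 : T ⊓ L ≠ ⊥) :
    L ⊓ Subgroup.centralizer (oz p T : Set G) = L ⊓ Subgroup.centralizer (oz p (T ⊓ L) : Set G) := by
  obtain ⟨S, hS⟩ : ∃ S : Subgroup G, S = T ⊓ L := ⟨_, rfl⟩
  rw [← hS] at h1 ⊢
  have hST : S ≤ T := hS ▸ inf_le_left
  have hSL : S ≤ L := hS ▸ inf_le_right
  have hSp : IsPGroup p S := hT.isPGroup.to_le hST
  have hT1 : T ≠ ⊥ := by intro h0; apply h1; rw [eq_bot_iff, ← h0]; exact hST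
  have hTS : T ≤ Subgroup.normalizer (S : Set G) := by
    rw [hS]; intro t ht
    exact normalizer_inf_le (Subgroup.mem_inf.2 ⟨Subgroup.le_normalizer ht, hn (hT.le ht)⟩)
  -- generic step
  have gen : ∀ V : Subgroup G, V ≤ T → V ≠ ⊥ → T ≤ Subgroup.normalizer (V : Set G) →
      L ⊓ Subgroup.normalizer (V : Set G) ⊓ Subgroup.centralizer (oz p T : Set G) =
      L ⊓ Subgroup.normalizer (V : Set G) ⊓ Subgroup.centralizer (oz p S : Set G) := by
    intro V hVT hV1 hTV
    have hN := hK V (hVT.trans hT.le) (hT.isPGroup.to_le hVT) hV1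
    have hTN : SylIn p T (K ⊓ Subgroup.normalizer (V : Set G)) := hT.of_le (le_inf hT.le hTV) inf_le_left
    have h2 := kieler_normal hN hTN (L := L ⊓ Subgroup.normalizer (V : Set G)) (inf_le_inf_right _ hLK) (by
      intro x hx
      obtain ⟨hx1, hx2⟩ := Subgroup.mem_inf.1 hx
      exact normalizer_inf_le (Subgroup.mem_inf.2 ⟨hn hx1, Subgroup.le_normalizer hx2⟩))
    have h3 : T ⊓ (L ⊓ Subgroup.normalizer (V : Set G)) = S := by
      rw [← inf_assoc, ← hS]
      exact inf_eq_left.2 (hST.trans hTV)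
    rwa [h3] at h2
  apply le_antisymm
  · have h2 := gen (oz p T) (oz_le T) (oz_ne_bot hT.isPGroup hT1)
      (Subgroup.le_normalizer.trans (normalizer_le_normalizer_oz T))
    intro x hx
    obtain ⟨hx1, hx2⟩ := Subgroup.mem_inf.1 hx
    have h3 : x ∈ L ⊓ Subgroup.normalizer (oz p T : Set G) ⊓ Subgroup.centralizer (oz p T : Set G) :=
      Subgroup.mem_inf.2 ⟨Subgroup.mem_inf.2 ⟨hx1, H52.Syl.centralizer_le_normalizer _ hx2⟩, hx2⟩
    rw [h2] at h3
    exact Subgroup.mem_inf.2 ⟨hx1, (Subgroup.mem_inf.1 h3).2⟩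
  · have h2 := gen (oz p S) ((oz_le S).trans hST) (oz_ne_bot hSp h1)
      (hTS.trans (normalizer_le_normalizer_oz S))
    intro x hx
    obtain ⟨hx1, hx2⟩ := Subgroup.mem_inf.1 hx
    have h3 : x ∈ L ⊓ Subgroup.normalizer (oz p S : Set G) ⊓ Subgroup.centralizer (oz p S : Set G) :=
      Subgroup.mem_inf.2 ⟨Subgroup.mem_inf.2 ⟨hx1, H52.Syl.centralizer_le_normalizer _ hx2⟩, hx2⟩
    rw [← h2] at h3
    exact Subgroup.mem_inf.2 ⟨hx1, (Subgroup.mem_inf.1 h3).2⟩

theorem subnormal_step {p : ℕ} {G : Type*} [Group G] [Finite G] [Fact p.Prime] {T : Subgroup G} (hG : LC p (⊤ : Subgroup G))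
    (hT : SylIn p T ⊤) {L : Subgroup G} (hL : L.IsSubnormal) : LC p L ∧ (T ⊓ L ≠ ⊥ →
    L ⊓ Subgroup.centralizer (oz p T : Set G) = L ⊓ Subgroup.centralizer (oz p (T ⊓ L) : Set G)) := by
  induction hL with
  | top => exact ⟨hG, fun _ => by rw [inf_top_eq]⟩
  | step H K h_le hK hN ih =>
    have hn := (H52.PCore.normal_subOf_iff h_le).1 hN
    refine ⟨ih.1.normal h_le hn, ?_⟩
    intro h1
    have h2 : T ⊓ K ⊓ H = T ⊓ H := by rw [inf_assoc, inf_eq_right.2 h_le]
    have h3 := step ih.1 (hT.inf_subnormal hK) h_le hn (by rw [h2]; exact h1)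
    rw [h2] at h3
    have h4 := ih.2 (by
      intro h0; apply h1; rw [eq_bot_iff, ← h0]; exact inf_le_inf_left T h_le)
    rw [← h3, ← inf_eq_left.2 h_le, inf_assoc, h4, ← inf_assoc]

theorem ps_eq {p : ℕ} {G : Type*} [Group G] [Finite G] [Fact p.Prime] {T : Subgroup G} (hG : LC p (⊤ : Subgroup G))
    (hT : SylIn p T ⊤) {L : Subgroup G} (hL : L.IsSubnormal) :
    Cfsg.pointStabilizer p L (T ⊓ L) = opp p (L ⊓ Subgroup.centralizer (oz p T : Set G)) := by
  change opp p (L ⊓ Subgroup.centralizer (oz p (T ⊓ L) : Set G)) = _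
  by_cases h1 : T ⊓ L = ⊥
  · -- `L` is a `p'`-group
    have h2 := hT.inf_subnormal hL
    rw [h1] at h2
    have h3 : ∀ X : Subgroup G, X ≤ L → opp p X = ⊥ := by
      intro X hX
      rw [eq_bot_iff]
      unfold opp
      rw [Subgroup.closure_le]
      rintro x ⟨hx, k, hk⟩
      have hz : IsPGroup p (Subgroup.zpowers x) := by
        apply IsPGroup.of_card (n := k)
        rw [Nat.card_zpowers, hk]
      obtain ⟨l, hl, hle⟩ := h2.exists_conj_le (show Subgroup.zpowers x ≤ L by rw [Subgroup.zpowers_le]; exact hX hx) hz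
      have h4 : H52.Syl.cj l (⊥ : Subgroup G) = ⊥ := Subgroup.map_bot _
      rw [h4] at hle
      exact hle (Subgroup.mem_zpowers x)
    rw [h3 _ inf_le_left, h3 _ inf_le_left]
  · rw [(subnormal_step hG hT hL).2 h1]

/-- Let H be a finite group of local characteristic p, T a Sylow p-subgroup, and L₁, L₂ subnormal subgroups of H generating the subgroup L. Then the point stabilizer of L with respect to T ∩ L is generated by the point stabilizers of L₁ and L₂ with respect to T ∩ L₁ and T ∩ L₂ (point stabilizer of X w.r.t. R: the subgroup generated by the p-elements of X centralizing Ω₁(Z(R))). -/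
theorem result {H : Type*} [Group H] [Finite H] {p : ℕ} [Fact p.Prime] (hH : Cfsg.IsOfLocalCharacteristic p H) (T : Sylow p H) (L₁ L₂ : Subgroup H) (h₁ : L₁.IsSubnormal) (h₂ : L₂.IsSubnormal) : Cfsg.pointStabilizer p (L₁ ⊔ L₂) ((T : Subgroup H) ⊓ (L₁ ⊔ L₂)) = Cfsg.pointStabilizer p L₁ ((T : Subgroup H) ⊓ L₁) ⊔ Cfsg.pointStabilizer p L₂ ((T : Subgroup H) ⊓ L₂) := by
  have hG : LC p (⊤ : Subgroup H) := by
    intro P _ hP hP1
    rw [top_inf_eq]
    exact cp_iff.2 (hH.2 P hP hP1)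
  have hT := sylIn_top T
  have hL : (L₁ ⊔ L₂).IsSubnormal := H11.SubnormalJoin.sup L₁ L₂ h₁ h₂
  rw [ps_eq hG hT hL, ps_eq hG hT h₁, ps_eq hG hT h₂]
  obtain ⟨C, hC⟩ : ∃ C : Subgroup H, C = Subgroup.centralizer (oz p (T : Subgroup H) : Set H) := ⟨_, rfl⟩
  rw [← hC]
  have hTC : (T : Subgroup H) ≤ C := hC ▸ le_centralizer_oz _
  apply le_antisymm
  · -- `P` is subnormal in `C`
    have hsub : ∀ L : Subgroup H, L.IsSubnormal → ((opp p (L ⊓ C)).subgroupOf C).IsSubnormal := by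
      intro L hL
      have h1 : ((L ⊓ C).subgroupOf C).IsSubnormal := by
        have := hL.subgroupOf (K := C)
        rwa [Subgroup.inf_subgroupOf_right]
      have h2 : ((opp p (L ⊓ C)).subgroupOf C) ≤ (L ⊓ C).subgroupOf C :=
        Subgroup.comap_mono (opp_le _)
      refine Subgroup.IsSubnormal.step _ _ h2 h1 ?_
      rw [H52.PCore.normal_subOf_iff h2]
      intro x hx
      apply mem_normalizer_of_cj_le
      rintro _ ⟨y, hy, rfl⟩
      rw [SetLike.mem_coe, Subgroup.mem_subgroupOf] at hy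
      rw [Subgroup.mem_subgroupOf]
      have hx' : (x : H) ∈ L ⊓ C := by rwa [Subgroup.mem_subgroupOf] at hx
      -- conjugation by `x` preserves `opp`
      have h3 : (x : H) ∈ Subgroup.normalizer (opp p (L ⊓ C) : Set H) := by
        apply mem_normalizer_of_cj_le
        unfold opp
        rw [cj, MonoidHom.map_closure, Subgroup.closure_le]
        rintro _ ⟨z, ⟨hz, k, hk⟩, rfl⟩
        refine Subgroup.subset_closure ⟨?_, k, ?_⟩
        · exact mul_mem (mul_mem hx' hz) (inv_mem hx')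
        · rw [← hk]
          exact orderOf_injective _ (MulAut.conj (x : H)).injective z
      exact (Subgroup.mem_normalizer_iff.1 h3 _).1 hy
    have hP : ((opp p (L₁ ⊓ C) ⊔ opp p (L₂ ⊓ C)).subgroupOf C).IsSubnormal := by
      rw [Subgroup.subgroupOf_sup ((opp_le _).trans inf_le_right) ((opp_le _).trans inf_le_right)]
      exact H11.SubnormalJoin.sup _ _ (hsub L₁ h₁) (hsub L₂ h₂)
    obtain ⟨P, hPdef⟩ : ∃ P : Subgroup H, P = opp p (L₁ ⊓ C) ⊔ opp p (L₂ ⊓ C) := ⟨_, rfl⟩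
    rw [← hPdef] at hP ⊢
    obtain ⟨X, hX⟩ : ∃ X : Subgroup H, X = (L₁ ⊔ L₂) ⊓ C := ⟨_, rfl⟩
    rw [← hX]
    have hPX : P ≤ X := by
      rw [hPdef, hX]
      exact sup_le ((opp_le _).trans (inf_le_inf_right _ le_sup_left)) ((opp_le _).trans (inf_le_inf_right _ le_sup_right))
    have hXC : X ≤ C := hX ▸ inf_le_right
    have hPX' : (P.subgroupOf X).IsSubnormal := hP.comap (Subgroup.inclusion hXC)
    have hR : SylIn p ((T : Subgroup H) ⊓ (L₁ ⊔ L₂)) X := by
      refine (hT.inf_subnormal hL).of_le ?_ (hX ▸ inf_le_left)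
      rw [hX]
      exact le_inf inf_le_right (inf_le_left.trans hTC)
    have hmem : ∀ L : Subgroup H, (T : Subgroup H) ⊓ L ≤ opp p (L ⊓ C) := by
      intro L x hx
      obtain ⟨hx1, hx2⟩ := Subgroup.mem_inf.1 hx
      refine Subgroup.subset_closure ⟨Subgroup.mem_inf.2 ⟨hx2, hTC hx1⟩, ?_⟩
      obtain ⟨k, hk⟩ := IsPGroup.iff_orderOf.1 T.isPGroup' ⟨x, hx1⟩
      exact ⟨k, by rw [← hk, Subgroup.orderOf_mk]⟩
    have hRP : (T : Subgroup H) ⊓ (L₁ ⊔ L₂) ≤ P := by
      rw [H52.SylJoin.inf_sup hT h₁ h₂, hPdef]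
      exact sup_le_sup (hmem L₁) (hmem L₂)
    unfold opp
    rw [Subgroup.closure_le]
    rintro x ⟨hx, hk⟩
    exact mem_of_subnormal hPX hPX' hR hRP hx hk
  · have hmono : ∀ A B : Subgroup H, A ≤ B → opp p A ≤ opp p B := by
      intro A B h
      exact Subgroup.closure_mono fun x hx => ⟨h hx.1, hx.2⟩
    exact sup_le (hmono _ _ (inf_le_inf_right _ le_sup_left)) (hmono _ _ (inf_le_inf_right _ le_sup_right))

end Cfsg.Agent.S2806
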