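import Cfsg.Statements.S5225
import Cfsg.Agent.Lib.H88.YoshF

set_option autoImplicit false
open Cfsg

namespace Cfsg.Agent.S5225

/-- Yoshida's Theorem for fusion systems. Let F be a saturated fusion system over a finite p-group S and N the normalizer fusion system of S in F. If the focal subgroups of F and N differ (N does not control transfer in F), then S has a quotient isomorphic to the wreath product C_p ≀ C_p (realised as a Sylow p-subgroup of the symmetric group of degree p²). -/
theorem result {Ω : Type*} [Group Ω] {S : Subgroup Ω} [Finite S] (p : ℕ) [Fact p.Prime] (hS : IsPGroup p S) (F : Cfsg.FusionSystem S) (hF : F.IsSaturated p) (N : Cfsg.FusionSystem (Cfsg.FusionSystem.normalizerIn S S)) (hN : F.IsNormalizerSystem S N) (hne : N.focalSubgroup ≠ F.focalSubgroup) : ∃ (W : Sylow p (Equiv.Perm (Fin (p ^ 2)))) (f : ↥S →* ↥(W : Subgroup (Equiv.Perm (Fin (p ^ 2))))), Function.Surjective f := by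
  have hSS : Cfsg.FusionSystem.normalizerIn S S = S := inf_eq_left.2 Subgroup.le_normalizer
  have hNsat := H89.KSat3.normalizer_saturated hS hF (H86.FusSat.fullyNormalized_self F) hN
  let N' : Cfsg.FusionSystem S := H89.KSat3.castSys hSS N
  have hHom : ∀ P, N'.Hom P = N.Hom P := fun P => H89.KSat3.castSys_Hom hSS N P
  have hN' : N'.IsSaturated p := H89.KSat3.saturated_congr hSS (fun P => (hHom P).symm) hNsat
  have hfoc : N'.focalSubgroup = N.focalSubgroup := by
    unfold Cfsg.FusionSystem.focalSubgroup
    congr 1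
    ext x
    simp only [hHom]
  refine H88.YoshF.main hS hF hN' ?_ ?_ (by rw [hfoc]; exact hne)
  · intro P φ hφ
    rw [hHom, hN P] at hφ
    exact hφ.1
  · intro φ hφ
    rw [hHom, hN S]
    have hr : φ.range = S := H88.CharBiset.range_eq_of_hom hφ
    refine ⟨hφ, hSS.ge, fun x => hSS.ge (H86.FusBasic.apply_mem F hφ x), ?_⟩
    have h1 : S ⊔ S = S := sup_idem S
    refine ⟨φ.comp (Subgroup.inclusion h1.le), ?_, fun x => rfl, ?_⟩
    · exact H86.FusBasic.restrict_mem F hφ _
    · apply le_antisymm
      · rintro y ⟨x, hx, rfl⟩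
        exact H86.FusBasic.apply_mem F hφ _
      · intro y hy
        rw [← hr] at hy
        obtain ⟨x, rfl⟩ := hy
        exact ⟨⟨x, h1.ge x.2⟩, x.2, rfl⟩

end Cfsg.Agent.S5225
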