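import Cfsg.Statements.S2807
import Cfsg.Agent.S5225
import Cfsg.Agent.Lib.H88.FocalGroup

set_option autoImplicit false
open Cfsg

namespace Cfsg.Agent.S2807

/-- Let S be a Sylow p-subgroup of the finite group G. If S ∩ G' ≠ S ∩ (N_G(S))' (derived subgroups), then the wreath product Z_p ≀ Z_p — realised as a Sylow p-subgroup of the symmetric group of degree p² — is a homomorphic image of S. -/
theorem result {G : Type*} [Group G] [Finite G] {p : ℕ} [Fact p.Prime] (S : Sylow p G) (h : (S : Subgroup G) ⊓ commutator G ≠ (S : Subgroup G) ⊓ ⁅Subgroup.normalizer ((S : Subgroup G) : Set G), Subgroup.normalizer ((S : Subgroup G) : Set G)⁆) : ∃ (P : Sylow p (Equiv.Perm (Fin (p ^ 2)))) (f : ↥(S : Subgroup G) →* ↥(P : Subgroup (Equiv.Perm (Fin (p ^ 2))))), Function.Surjective f := by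
  refine Cfsg.Agent.S5225.result p S.isPGroup' (Cfsg.groupFusionSystem (S : Subgroup G))
    (H86.FusGroup.group_isSaturated S) (H89.KSat3.nSys _ _ le_rfl)
    (H89.KSat3.isNormalizerSystem_nSys _ _ le_rfl) fun hfoc => h ?_
  have h1 : (S : Subgroup G) ⊓ commutator G ≤ (Cfsg.groupFusionSystem (S : Subgroup G)).focalSubgroup := by
    rw [inf_comm, Subgroup.commutator_inf_eq_focalSubgroup]
    exact H88.FocalGroup.mathlib_foc_le
  apply le_antisymm
  · refine le_inf inf_le_left (h1.trans ?_)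
    rw [← hfoc]
    unfold Cfsg.FusionSystem.focalSubgroup
    rw [Subgroup.closure_le]
    rintro _ ⟨P, φ, x, hφ, rfl⟩
    rw [H89.KSat3.isNormalizerSystem_nSys (Cfsg.groupFusionSystem (S : Subgroup G)) _ le_rfl P] at hφ
    obtain ⟨hφ1, hφ2, hφ3, ψ, hψ, h2, h3⟩ := hφ
    obtain ⟨-, -, g, hg⟩ := H86.FusGroup.mem_groupHom.1 hψ
    have hgN : g ∈ Subgroup.normalizer ((S : Subgroup G) : Set G) := by
      have h4 : (S : Subgroup G).map (MulAut.conj g).toMonoidHom = (S : Subgroup G) := by
        conv_rhs => rw [← h3]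
        ext y
        constructor
        · rintro ⟨s, hs, rfl⟩
          refine ⟨⟨s, Subgroup.mem_sup_right hs⟩, hs, ?_⟩
          rw [hg]
          rfl
        · rintro ⟨s, hs, rfl⟩
          refine ⟨s, hs, ?_⟩
          rw [hg]
          rfl
      refine Subgroup.mem_normalizer_iff.2 fun x => ⟨fun hx => h4.le ⟨x, hx, rfl⟩, fun hx => ?_⟩
      obtain ⟨y, hy, hxy⟩ := h4.ge hx
      have h5 : g * y * g⁻¹ = g * x * g⁻¹ := hxy
      rw [mul_left_inj, mul_right_inj] at h5
      rwa [h5] at hy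
    have hxN : (x : G) ∈ Subgroup.normalizer ((S : Subgroup G) : Set G) :=
      Subgroup.le_normalizer (hφ2 x.2).1
    have h5 : (x : G)⁻¹ * φ x = (x : G)⁻¹ * g * ((x : G)⁻¹)⁻¹ * g⁻¹ := by
      rw [← h2 x, hg]
      simp only [Subgroup.coe_inclusion]
      group
    rw [SetLike.mem_coe, h5, ← commutatorElement_def]
    exact Subgroup.commutator_mem_commutator (Subgroup.inv_mem _ hxN) hgN
  · exact inf_le_inf le_rfl (Subgroup.commutator_mono le_top le_top)

end Cfsg.Agent.S2807
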