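import Cfsg.Statements.S2810
import Cfsg.Agent.Lib.H52.Cop

set_option autoImplicit false
open Cfsg

namespace Cfsg.Agent.S2810

/-- Let H be a finite group of characteristic p and L a subgroup of H centralizing every factor of some H-invariant chain 1 = A₀ ≤ A₁ ≤ … ≤ Aₙ = O_p(H) of normal subgroups (that is, [A_{i+1}, L] ≤ Aᵢ for each i). Then L ≤ O_p(H). -/
theorem result {H : Type*} [Group H] [Finite H] {p : ℕ} [Fact p.Prime] (hchar : Subgroup.centralizer (Cfsg.pCore p H : Set H) ≤ Cfsg.pCore p H) (L : Subgroup H) (n : ℕ) (A : Fin (n + 1) → Subgroup H) (h0 : A 0 = ⊥) (hn : A (Fin.last n) = Cfsg.pCore p H) (hmono : Monotone A) (hnorm : ∀ i, (A i).Normal) (hcent : ∀ i : Fin n, ⁅A i.succ, L⁆ ≤ A i.castSucc) : L ≤ Cfsg.pCore p H := by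
  set N := Subgroup.normalClosure (L : Set H) with hN
  have hLN : L ≤ N := Subgroup.subset_normalClosure
  have hcentN : ∀ i : Fin n, ⁅A i.succ, N⁆ ≤ A i.castSucc := by
    intro i
    have h1 := hnorm i.castSucc
    have h2 := hnorm i.succ
    set f := QuotientGroup.mk' (A i.castSucc) with hf
    have h3 : ((A i.succ).map f).Normal := h2.map f (QuotientGroup.mk'_surjective _)
    have h4 : L ≤ (Subgroup.centralizer ((A i.succ).map f : Set (H ⧸ A i.castSucc))).comap f := by
      rw [← Subgroup.map_le_iff_le_comap, ← Subgroup.commutator_eq_bot_iff_le_centralizer,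
        ← Subgroup.map_commutator, Subgroup.map_eq_bot_iff, Subgroup.commutator_comm]
      rw [hf, QuotientGroup.ker_mk']
      exact hcent i
    have h5 : N ≤ (Subgroup.centralizer ((A i.succ).map f : Set (H ⧸ A i.castSucc))).comap f :=
      Subgroup.normalClosure_le_normal h4
    rw [← Subgroup.map_le_iff_le_comap, ← Subgroup.commutator_eq_bot_iff_le_centralizer,
        ← Subgroup.map_commutator, Subgroup.map_eq_bot_iff, Subgroup.commutator_comm] at h5
    rw [hf, QuotientGroup.ker_mk'] at h5
    exact h5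
  have hiter : ∀ i : ℕ, (hi : i ≤ n) →
      Cfsg.iterCommutator (Cfsg.pCore p H) N i ≤ A ⟨n - i, by omega⟩ := by
    intro i
    induction i with
    | zero =>
      intro _
      rw [← hn]
      exact le_of_eq (by rfl)
    | succ i ih =>
      intro hi
      have h1 := ih (by omega)
      change ⁅Cfsg.iterCommutator (Cfsg.pCore p H) N i, N⁆ ≤ _
      have h2 := hcentN ⟨n - (i + 1), by omega⟩
      have e1 : (⟨n - (i + 1), by omega⟩ : Fin n).succ = ⟨n - i, by omega⟩ := by
        ext; simp; omega
      have e2 : (⟨n - (i + 1), by omega⟩ : Fin n).castSucc = ⟨n - (i + 1), by omega⟩ := by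
        ext; simp
      rw [e1, e2] at h2
      exact (Subgroup.commutator_mono h1 le_rfl).trans h2
  have hbot : Cfsg.iterCommutator (Cfsg.pCore p H) N n = ⊥ := by
    have := hiter n le_rfl
    rw [← le_bot_iff, ← h0]
    refine this.trans (le_of_eq ?_)
    congr 1
    ext; simp
  have hNn : N ≤ Subgroup.normalizer (Cfsg.pCore p H : Set H) := by
    have : (Cfsg.pCore p H).Normal := inferInstance
    exact le_top.trans (H52.PCore.normal_iff_top_le_normalizer.1 this)
  have h1 := H52.Cop.resOf_le_centralizer_of_iter H52.PCore.isPGroup_pCore hNn hbot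
  have h2 : IsPGroup p N := H52.PCore.isPGroup_of_pMod (H52.PRes.pMod_resOf N)
    (H52.PCore.isPGroup_pCore.to_le (h1.trans hchar))
  exact hLN.trans (H52.PCore.le_pCore Subgroup.normalClosure_normal h2)

end Cfsg.Agent.S2810
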