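import Cfsg.Statements.S2813
import Cfsg.Agent.Lib.H52.YL2

set_option autoImplicit false
open Cfsg

namespace Cfsg.Agent.S2813

/-- Let K be a subgroup of the finite group H with O_p(K) = 1 and Y a p-subgroup of N_H(K) with [K, Y, Y] = 1. Then [K, Y] = 1. -/
theorem result {H : Type*} [Group H] [Finite H] {p : ℕ} [Fact p.Prime] (K : Subgroup H) (hO : Cfsg.pCore p ↥K = ⊥) (Y : Subgroup H) (hY : IsPGroup p ↥Y) (hYK : Y ≤ Subgroup.normalizer (K : Set H)) (hq : ⁅⁅K, Y⁆, Y⁆ = ⊥) : ⁅K, Y⁆ = ⊥ := by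
  set D := ⁅K, Y⁆ with hD
  have hDK : D ≤ K := Subgroup.le_normalizer_iff_commutator_le_left.1 hYK
  have hKD : K ≤ Subgroup.normalizer (D : Set H) := Subgroup.normalizer_commutator_ge_left K Y
  have hDY : D ≤ Subgroup.centralizer (Y : Set H) := Subgroup.commutator_eq_bot_iff_le_centralizer.1 hq
  have hDD : ⁅D, D⁆ = ⊥ := by
    apply Subgroup.commutator_commutator_eq_bot_of_rotate
    · rw [Subgroup.commutator_comm Y D, hq, Subgroup.commutator_bot_left]
    · rw [← le_bot_iff, ← hq]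
      exact Subgroup.commutator_mono (Subgroup.le_normalizer_iff_commutator_le_left.1 hKD) le_rfl
  have hDc : D ≤ Subgroup.centralizer (D : Set H) := Subgroup.commutator_eq_bot_iff_le_centralizer.1 hDD
  let P : Subgroup H :=
    { carrier := {d | d ∈ D ∧ ∃ k : ℕ, d ^ p ^ k = 1}
      mul_mem' := by
        rintro a b ⟨ha, k, hk⟩ ⟨hb, l, hl⟩
        refine ⟨D.mul_mem ha hb, k + l, ?_⟩
        have hab : Commute a b := Subgroup.mem_centralizer_iff.1 (hDc hb) a ha
        rw [hab.mul_pow]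
        have h1 : a ^ p ^ (k + l) = 1 := by rw [pow_add, pow_mul, hk, one_pow]
        have h2 : b ^ p ^ (k + l) = 1 := by rw [add_comm, pow_add, pow_mul, hl, one_pow]
        rw [h1, h2, one_mul]
      one_mem' := ⟨D.one_mem, 0, by simp⟩
      inv_mem' := by
        rintro a ⟨ha, k, hk⟩
        exact ⟨D.inv_mem ha, k, by rw [inv_pow, hk, inv_one]⟩ }
  have hDP : D ≤ P := by
    rw [hD, Subgroup.commutator_le]
    intro k hk y hy
    have hky : k * y * k⁻¹ * y⁻¹ ∈ D := Subgroup.commutator_mem_commutator hk hy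
    refine ⟨hky, ?_⟩
    have hc : (k * y * k⁻¹ * y⁻¹) * y = y * (k * y * k⁻¹ * y⁻¹) :=
      (Subgroup.mem_centralizer_iff.1 (hDY hky) y hy).symm
    obtain ⟨m, hm⟩ := hY ⟨y, hy⟩
    have hm' : y ^ p ^ m = 1 := by simpa using congrArg Subtype.val hm
    refine ⟨m, ?_⟩
    change (k * y * k⁻¹ * y⁻¹) ^ p ^ m = 1
    have hcomm : Commute (k * y * k⁻¹ * y⁻¹) y := hc
    have h1 : (k * y * k⁻¹ * y⁻¹) ^ p ^ m * y ^ p ^ m = 1 := by
      rw [← hcomm.mul_pow]
      have : k * y * k⁻¹ * y⁻¹ * y = k * y * k⁻¹ := by group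
      rw [this, conj_pow, hm']; group
    rw [hm', mul_one] at h1
    exact h1
  have hDp : IsPGroup p D := by
    intro d
    obtain ⟨_, k, hk⟩ := hDP d.2
    exact ⟨k, Subtype.ext (by simpa using hk)⟩
  have := H52.PCore.le_pCoreOf hDK hKD hDp
  rw [(H52.PCore.pCoreOf_eq_bot_iff K).2 hO, le_bot_iff] at this
  exact this

end Cfsg.Agent.S2813
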