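import Cfsg.Statements.S2815
import Cfsg.Agent.Lib.H52.FStar
import Cfsg.Agent.Lib.H52.Irr

set_option autoImplicit false
open Cfsg

namespace Cfsg.Agent.S2815

/-- Let H be a finite group and p a prime dividing its order with O_p(H) = 1, and suppose K = O^p(H) (generated by the elements of order prime to p) is quasisimple. Then K = F*(H); for every nontrivial p-subgroup Y of H, K = [K, Y] and K lies in the subgroup generated by the K-conjugates of Y; every normal subgroup of H not containing K has order prime to p; and H is p-irreducible. -/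
theorem result {H : Type*} [Group H] [Finite H] {p : ℕ} [Fact p.Prime] (hp : p ∣ Nat.card H) (hO : Cfsg.pCore p H = ⊥) (hq : Cfsg.IsQuasisimple ↥(Cfsg.pResidual p H)) : Cfsg.pResidual p H = Cfsg.generalizedFittingSubgroup H ∧ (∀ Y : Subgroup H, IsPGroup p ↥Y → Y ≠ ⊥ → ⁅Cfsg.pResidual p H, Y⁆ = Cfsg.pResidual p H ∧ Cfsg.pResidual p H ≤ ⨆ k : ↥(Cfsg.pResidual p H), Y.map (MulAut.conj (k : H)).toMonoidHom) ∧ (∀ C : Subgroup H, C.Normal → ¬ Cfsg.pResidual p H ≤ C → (Nat.card ↥C).Coprime p) ∧ Cfsg.IsPIrreducible p H := by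
  obtain ⟨K, hK⟩ : ∃ K : Subgroup H, K = Cfsg.pResidual p H := ⟨_, rfl⟩
  have hKdef := hK
  rw [← hK] at hq ⊢
  have hKres : H52.PRes.resOf p (⊤ : Subgroup H) = K := by rw [H52.PRes.resOf_top, hK]
  have hKn : K.Normal := by
    rw [H52.PCore.normal_iff_top_le_normalizer, ← hKres]; exact H52.PRes.le_normalizer_resOf ⊤
  have hn : ∀ X : Subgroup H, X ≤ Subgroup.normalizer (K : Set H) := fun X =>
    le_top.trans (H52.PCore.normal_iff_top_le_normalizer.1 hKn)
  have hKc : Cfsg.IsComponent K := ⟨hKn.isSubnormal, hq⟩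
  have hper : ⁅K, K⁆ = K := H26.Components.isPerfect hKc
  -- the centralizer of `K` is a `p'`-group
  obtain ⟨C, hC⟩ : ∃ C : Subgroup H, C = Subgroup.centralizer (K : Set H) := ⟨_, rfl⟩
  have hCn : C.Normal := hC ▸ inferInstance
  obtain ⟨P, hP⟩ := H52.Syl.exists_sylIn (p := p) C
  have hsup := hP.sup_resOf_eq
  have hres : H52.PRes.resOf p C ≤ K := by
    rw [← hKres]; exact H52.PRes.resOf_mono le_top
  have hP1 : P = ⊥ := by
    have h1 : C ≤ Subgroup.normalizer (P : Set H) := by
      conv_lhs => rw [← hsup]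
      refine sup_le Subgroup.le_normalizer ?_
      refine le_trans ?_ (H52.Syl.centralizer_le_normalizer P)
      rw [Subgroup.le_centralizer_iff]
      refine (hP.le.trans (le_of_eq hC)).trans (Subgroup.centralizer_le hres)
    have h2 : P ≤ Cfsg.pCoreOf p C := H52.PCore.le_pCoreOf hP.le h1 hP.isPGroup
    rw [H52.PCore.pCoreOf_eq_inf_of_subnormal hCn.isSubnormal, hO, inf_bot_eq, le_bot_iff] at h2
    exact h2
  have hCK : C ≤ K := by
    rw [hP1, bot_sup_eq] at hsup
    rw [← hsup]; exact hres
  have hCp : ∀ Q : Subgroup H, Q ≤ C → IsPGroup p Q → Q = ⊥ := by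
    intro Q hQ hQp
    obtain ⟨c, _, hc⟩ := hP.exists_conj_le hQ hQp
    rw [hP1] at hc
    have h1 : H52.Syl.cj c (⊥ : Subgroup H) = ⊥ := Subgroup.map_bot _
    rw [h1] at hc
    exact le_bot_iff.1 hc
  have hCcop : ∀ D : Subgroup H, D ≤ C → (Nat.card D).Coprime p := by
    intro D hD
    rw [Nat.coprime_comm, Nat.Prime.coprime_iff_not_dvd Fact.out]
    intro hdvd
    obtain ⟨x, hx⟩ := exists_prime_orderOf_dvd_card' p hdvd
    have hz : IsPGroup p (Subgroup.zpowers (x : H)) := by
      apply IsPGroup.of_card (n := 1)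
      rw [Nat.card_zpowers, pow_one, Subgroup.orderOf_coe, hx]
    have h1 := hCp _ (by rw [Subgroup.zpowers_le]; exact hD x.2) hz
    rw [Subgroup.zpowers_eq_bot] at h1
    have h2 : x = 1 := Subtype.ext h1
    rw [h2, orderOf_one] at hx
    exact (Fact.out : p.Prime).one_lt.ne hx
  -- subgroups with `[K, N] ≤ Z(K)`
  have hcomm : ∀ N : Subgroup H, ⁅K, N⁆ = K ∨ N ≤ C := by
    intro N
    have h1 : ⁅K, N⁆ ≤ K := Subgroup.le_normalizer_iff_commutator_le_left.1 (hn N)
    have h2 : (⁅K, N⁆.subgroupOf K).Normal := by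
      rw [H52.PCore.normal_subOf_iff h1]; exact Subgroup.normalizer_commutator_ge_left K N
    rcases H26.Components.normal_eq_or_le_center_of_le hq h2 h1 with h | h
    · exact Or.inl h
    · right
      have h3 := H26.Basic.commutator_eq_bot_of_perfect' hper h
      rwa [Subgroup.commutator_comm, Subgroup.commutator_eq_bot_iff_le_centralizer, ← hC] at h3
  have hnormal : ∀ N : Subgroup H, N.Normal → ¬ K ≤ N → N ≤ C := by
    intro N hN hKN
    rcases hcomm N with h | h
    · exfalso; apply hKN
      rw [← h]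
      rw [Subgroup.commutator_comm]
      exact Subgroup.le_normalizer_iff_commutator_le_left.1 (le_top.trans (H52.PCore.normal_iff_top_le_normalizer.1 hN))
    · exact h
  refine ⟨?_, ?_, ?_, ?_, ?_⟩
  · apply le_antisymm
    · exact H26.Components.component_le_gFitting hKc
    · refine sup_le (sSup_le ?_) ?_
      · intro E hE
        rcases H26.Components.eq_or_commutator_eq_bot hE hKc with h | h
        · exact h.le
        · rw [Subgroup.commutator_eq_bot_iff_le_centralizer, ← hC] at h
          exact h.trans hCK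
      · have hFn : (Cfsg.fittingSubgroup H).Normal := inferInstance
        have hFs : Group.IsSolvable (Cfsg.fittingSubgroup H) := by
          have : Group.IsNilpotent (Cfsg.fittingSubgroup H) := H1.Cores.isNilpotent_fittingSubgroup
          infer_instance
        have h := H26.Components.commutator_eq_bot_of_isSolvable_subnormal hKc hFs hFn.isSubnormal
        rw [Subgroup.commutator_comm, Subgroup.commutator_eq_bot_iff_le_centralizer, ← hC] at h
        exact h.trans hCK
  · intro Y hY hY1
    have h1 : ⁅K, Y⁆ = K := by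
      rcases hcomm Y with h | h
      · exact h
      · exact absurd (hCp Y h hY) hY1
    refine ⟨h1, ?_⟩
    have h2 : K ≤ H52.YL.ncl K Y := by
      conv_lhs => rw [← h1]
      rw [Subgroup.commutator_le]
      intro k hk y hy
      change k * y * k⁻¹ * y⁻¹ ∈ _
      exact mul_mem (H52.YL.cj_le_ncl hk (H52.Syl.conj_mem_cj hy)) (inv_mem (H52.YL.le_ncl _ _ hy))
    rw [H52.YL.ncl_eq_iSup] at h2
    exact h2
  · intro N hN hKN
    exact hCcop N (hnormal N hN hKN)
  · intro hcl
    have h1 := H52.Irr.isPClosed_iff_group.1 hcl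
    obtain ⟨x, hx⟩ := exists_prime_orderOf_dvd_card' p hp
    have hz : IsPGroup p (Subgroup.zpowers x) := by
      apply IsPGroup.of_card (n := 1)
      rw [Nat.card_zpowers, pow_one, hx]
    have h2 := h1 _ hz
    rw [hO, Subgroup.zpowers_le, Subgroup.mem_bot] at h2
    rw [h2, orderOf_one] at hx
    exact (Fact.out : p.Prime).one_lt.ne hx
  · intro N hN hNc
    rw [← hKdef]
    by_contra hKN
    apply hNc
    have h1 := hnormal N hN hKN
    rw [H52.Irr.isPClosed_iff]
    intro Q hQ hQp
    rw [hCp Q (hQ.trans h1) hQp]; exact bot_le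

end Cfsg.Agent.S2815
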