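import Cfsg.Statements.S2816
import Cfsg.Agent.Lib.H52.FStar

set_option autoImplicit false
open Cfsg

namespace Cfsg.Agent.S2816

theorem comm_le_of_subnormal {H : Type*} [Group H] {Y K R : Subgroup H} (hK : K.IsSubnormal) (hYK : Y ≤ K)
    (h : ⁅R, Y⁆ = R) : R ≤ K := by
  induction hK with
  | top => exact le_top
  | step A B h_le _ hN ih =>
    have h1 := ih (hYK.trans h_le)
    have hn := (H52.PCore.normal_subOf_iff h_le).1 hN
    calc R = ⁅R, Y⁆ := h.symm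
      _ ≤ ⁅B, A⁆ := Subgroup.commutator_mono h1 hYK
      _ ≤ A := by rw [Subgroup.commutator_comm]; exact Subgroup.le_normalizer_iff_commutator_le_left.1 hn

/-- Let H be a finite group and p a prime with O_p(H) = 1, and Y a p-subgroup of H. Then for every subnormal subgroup K of H containing Y, [F*(H), Y] = [F*(K), Y] = [F*(K), Y, Y]; and if Y₀ ≤ Y with [F*(H), Y, Y₀] = 1 then Y₀ = 1 (in particular [F*(H), Y] = 1 forces Y = 1). -/
theorem result {H : Type*} [Group H] [Finite H] {p : ℕ} [Fact p.Prime] (hO : Cfsg.pCore p H = ⊥) (Y : Subgroup H) (hY : IsPGroup p ↥Y) : (∀ K : Subgroup H, K.IsSubnormal → Y ≤ K → ⁅Cfsg.generalizedFittingSubgroup H, Y⁆ = ⁅(Cfsg.generalizedFittingSubgroup ↥K).map K.subtype, Y⁆ ∧ ⁅(Cfsg.generalizedFittingSubgroup ↥K).map K.subtype, Y⁆ = ⁅⁅(Cfsg.generalizedFittingSubgroup ↥K).map K.subtype, Y⁆, Y⁆) ∧ (∀ Y₀ : Subgroup H, Y₀ ≤ Y → ⁅⁅Cfsg.generalizedFittingSubgroup H, Y⁆, Y₀⁆ = ⊥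 → Y₀ = ⊥) := by
  have hF : (Cfsg.generalizedFittingSubgroup H).Normal := inferInstance
  have hYF : Y ≤ Subgroup.normalizer (Cfsg.generalizedFittingSubgroup H : Set H) :=
    le_top.trans (H52.PCore.normal_iff_top_le_normalizer.1 hF)
  have h1 := H52.FStar.comm_eq hO hY hF.isSubnormal le_rfl hYF
  have h2 := H52.FStar.sup_eq hO hY hF.isSubnormal le_rfl hYF
  refine ⟨?_, ?_⟩
  · intro K hK hYK
    rw [H26.GenFitting.map_subtype_gFitting hK]
    obtain ⟨F, hFd⟩ : ∃ F : Subgroup H, F = Cfsg.generalizedFittingSubgroup H := ⟨_, rfl⟩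
    rw [← hFd] at h1 h2 hYF ⊢
    have h3 : ⁅F, Y⁆ ≤ K := comm_le_of_subnormal hK hYK h1.symm
    have h4 : ⁅F, Y⁆ ≤ F := Subgroup.le_normalizer_iff_commutator_le_left.1 hYF
    have h5 : ⁅F, Y⁆ ≤ ⁅K ⊓ F, Y⁆ := by
      conv_lhs => rw [h1]
      exact Subgroup.commutator_mono (le_inf h3 h4) le_rfl
    have h6 : ⁅F, Y⁆ = ⁅K ⊓ F, Y⁆ := le_antisymm h5 (Subgroup.commutator_mono inf_le_right le_rfl)
    refine ⟨h6, ?_⟩
    rw [← h6]; exact h1
  · intro Y₀ hY₀ h3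
    apply H52.FStar.eq_bot_of_comm_eq_bot hO (hY.to_le hY₀)
    rw [Subgroup.commutator_eq_bot_iff_le_centralizer]
    conv_lhs => rw [← h2]
    refine sup_le ?_ ?_
    · rwa [← Subgroup.commutator_eq_bot_iff_le_centralizer]
    · exact inf_le_right.trans (Subgroup.centralizer_le hY₀)

end Cfsg.Agent.S2816
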