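import Cfsg.Statements.S2817
import Cfsg.Agent.Lib.H52.FStar
import Cfsg.Agent.Lib.H52.Trace

set_option autoImplicit false
open Cfsg

namespace Cfsg.Agent.S2817

open H52.Syl H52.FStar

/-- conjugation by an element of the normalizer, followed by the abelianization -/
noncomputable def cjab {X : Type*} [Group X] {L : Subgroup X} (q : X) (hq : q ∈ Subgroup.normalizer (L : Set X)) :
    L →* Abelianization L :=
  Abelianization.of.comp
    { toFun := fun l => ⟨q * l * q⁻¹, (Subgroup.mem_normalizer_iff.1 hq l).1 l.2⟩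
      map_one' := by ext; simp
      map_mul' := fun a b => by ext; simp only [Subgroup.coe_mul]; group }

theorem mem_commutator_of_fixed {X : Type*} [Group X] [Finite X] {p : ℕ} [Fact p.Prime] {L Q : Subgroup X}
    (hQ : IsPGroup p Q) (hQL : Q ≤ Subgroup.normalizer (L : Set X)) (hL : Good p L) (hLQ : ⁅L, Q⁆ = L) {z : X}
    (hzL : z ∈ L) (hzQ : z ∈ Subgroup.centralizer (Q : Set X)) : (⟨z, hzL⟩ : L) ∈ commutator L := by
  classical
  have : Fintype Q := Fintype.ofFinite Q
  let N : L →* Abelianization L := ∏ q : Q, cjab (q : X) (hQL q.2)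
  have hN : ∀ l : L, N l = ∏ q : Q, cjab (q : X) (hQL q.2) l := fun l => MonoidHom.finsetProd_apply _ _ _
  -- `N` is trivial
  have hker : L ≤ N.ker.map L.subtype := by
    conv_lhs => rw [← hLQ]
    rw [Subgroup.commutator_le]
    intro l hl q₀ hq₀
    have h1 : q₀ * l⁻¹ * q₀⁻¹ ∈ L := (Subgroup.mem_normalizer_iff.1 (hQL hq₀) _).1 (inv_mem hl)
    refine ⟨⟨l, hl⟩ * ⟨q₀ * l⁻¹ * q₀⁻¹, h1⟩, ?_, ?_⟩
    · rw [SetLike.mem_coe, MonoidHom.mem_ker, map_mul]
      have h2 : N ⟨q₀ * l⁻¹ * q₀⁻¹, h1⟩ = N ⟨l, hl⟩⁻¹ := by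
        rw [hN, hN]
        apply Fintype.prod_equiv (Equiv.mulRight (⟨q₀, hq₀⟩ : Q))
        intro q
        unfold cjab
        simp only [MonoidHom.coe_comp, Function.comp_apply, MonoidHom.coe_mk, OneHom.coe_mk]
        congr 1
        ext
        simp only [Equiv.coe_mulRight, Subgroup.coe_mul, InvMemClass.coe_inv]
        group
      rw [h2, map_inv, mul_inv_cancel]
    · change l * (q₀ * l⁻¹ * q₀⁻¹) = l * q₀ * l⁻¹ * q₀⁻¹
      group
  have hNz : N ⟨z, hzL⟩ = 1 := by
    obtain ⟨w, hw, hwz⟩ := hker hzL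
    have : w = ⟨z, hzL⟩ := Subtype.ext hwz
    rw [← this]; exact hw
  have h1 : N ⟨z, hzL⟩ = (Abelianization.of (⟨z, hzL⟩ : L)) ^ Nat.card Q := by
    rw [hN]
    have : ∀ q : Q, cjab (q : X) (hQL q.2) ⟨z, hzL⟩ = Abelianization.of (⟨z, hzL⟩ : L) := by
      intro q
      unfold cjab
      simp only [MonoidHom.coe_comp, Function.comp_apply, MonoidHom.coe_mk, OneHom.coe_mk]
      congr 1
      ext
      simp only
      rw [Subgroup.mem_centralizer_iff.1 hzQ q q.2, mul_inv_cancel_right]
    rw [Finset.prod_congr rfl (fun q _ => this q), Finset.prod_const, Finset.card_univ, Nat.card_eq_fintype_card]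
  rw [hNz] at h1
  -- `z = e f`
  have h2 : (⟨z, hzL⟩ : L) ∈ Cfsg.generalizedFittingSubgroup L := by rw [hL.1]; trivial
  obtain ⟨e, he, f, hf, hef⟩ := H26.Components.mem_gFitting_iff.1 h2
  have h3 : e ∈ commutator L := by
    rw [← H26.Components.commutator_layer_self] at he
    exact Subgroup.commutator_mono le_top le_top he
  have h4 : Abelianization.of (⟨z, hzL⟩ : L) = Abelianization.of f := by
    rw [← hef, map_mul]
    have : Abelianization.of e = 1 := by
      rw [← MonoidHom.mem_ker, Abelianization.ker_of]; exact h3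
    rw [this, one_mul]
  have h5 : (Abelianization.of (⟨z, hzL⟩ : L)) ^ orderOf f = 1 := by
    rw [h4, ← map_pow, pow_orderOf_eq_one, map_one]
  have h6 : (Nat.card Q).Coprime (orderOf f) := by
    obtain ⟨n, hn⟩ := IsPGroup.iff_card.1 hQ
    rw [hn]
    apply Nat.Coprime.pow_left
    rw [Nat.Prime.coprime_iff_not_dvd Fact.out]
    intro hd
    apply coprime_card_fitting (p := p) hL.2
    refine hd.trans ?_
    have := orderOf_dvd_natCard (⟨f, hf⟩ : Cfsg.fittingSubgroup L)
    rwa [Subgroup.orderOf_mk] at this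
  have h7 : orderOf (Abelianization.of (⟨z, hzL⟩ : L)) ∣ 1 := by
    rw [← h6.gcd_eq_one]
    exact Nat.dvd_gcd (orderOf_dvd_of_pow_eq_one h1.symm) (orderOf_dvd_of_pow_eq_one h5)
  rw [Nat.dvd_one, orderOf_eq_one_iff, ← MonoidHom.mem_ker, Abelianization.ker_of] at h7
  exact h7

theorem center_inf_commutator_le_frattini {G : Type*} [Group G] {z : G} (hz : z ∈ Subgroup.center G)
    (hz' : z ∈ commutator G) : z ∈ frattini G := by
  have : ∀ U : Subgroup G, IsCoatom U → z ∈ U := by
    intro U hU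
    by_contra hzU
    have h1 : U ⊔ Subgroup.zpowers z = ⊤ := by
      apply hU.2
      refine lt_of_le_of_ne le_sup_left ?_
      intro he
      apply hzU
      rw [he]; exact Subgroup.mem_sup_right (Subgroup.mem_zpowers z)
    have hc : Subgroup.zpowers z ≤ Subgroup.center G := by rwa [Subgroup.zpowers_le]
    have h2 : ∀ x : G, ∃ u ∈ U, ∃ c ∈ Subgroup.center G, u * c = x := by
      intro x
      have hx : x ∈ U ⊔ Subgroup.zpowers z := h1 ▸ Subgroup.mem_top x
      have hn : (⊤ : Subgroup G) ≤ Subgroup.normalizer (Subgroup.zpowers z : Set G) := by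
        rw [← H52.PCore.normal_iff_top_le_normalizer]
        refine ⟨fun n hn x => ?_⟩
        rw [Subgroup.mem_center_iff.1 (hc hn) x, mul_inv_cancel_right]; exact hn
      obtain ⟨u, hu, c, hc', he⟩ := (H52.YL2.mem_sup_iff_of_le_normalizer (le_top.trans hn)).1 hx
      exact ⟨u, hu, c, hc hc', he⟩
    apply hzU
    have h3 : commutator G ≤ U := by
      rw [commutator_def, Subgroup.commutator_le]
      intro a _ b _
      obtain ⟨u, hu, c, hc, rfl⟩ := h2 a
      obtain ⟨v, hv, d, hd, rfl⟩ := h2 b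
      have e1 := Subgroup.mem_center_iff.1 hc
      have e2 := Subgroup.mem_center_iff.1 hd
      have : (u * c) * (v * d) * (u * c)⁻¹ * (v * d)⁻¹ = u * v * u⁻¹ * v⁻¹ := by
        rw [e1 u, e2 v]
        have e3 : c * u * (d * v) = (d * c) * (u * v) := by
          rw [mul_assoc, ← mul_assoc u d v, e2 u]
          rw [mul_assoc d u v, ← mul_assoc c d, e2 c]
        rw [e3, mul_inv_rev, mul_inv_rev]
        calc d * c * (u * v) * (u⁻¹ * c⁻¹) * (v⁻¹ * d⁻¹) = d * (c * (u * v * u⁻¹) * c⁻¹) * v⁻¹ * d⁻¹ := by group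
          _ = d * (u * v * u⁻¹) * v⁻¹ * d⁻¹ := by rw [← e1 (u * v * u⁻¹), mul_inv_cancel_right]
          _ = d * (u * v * u⁻¹ * v⁻¹) * d⁻¹ := by group
          _ = u * v * u⁻¹ * v⁻¹ := by rw [← e2, mul_inv_cancel_right]
      change (u * c) * (v * d) * (u * c)⁻¹ * (v * d)⁻¹ ∈ U
      rw [this]
      exact mul_mem (mul_mem (mul_mem hu hv) (inv_mem hu)) (inv_mem hv)
    exact h3 hz'
  unfold frattini Order.radical
  rw [Subgroup.mem_iInf]
  intro U
  rw [Subgroup.mem_iInf]
  intro hU
  exact this U hU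

/-- Let H be a finite group and p a prime with O_p(H) = 1, Q a p-subgroup of H, L = [F*(H), Q], and F the largest normal subgroup of F*(H) centralized by Q (a normal subgroup of F*(H) centralized by Q and containing every such). Then F = C_{F*(H)}(LQ); L = [L, Q]; L ∩ F ≤ Φ(L); every p-subgroup B of N_H(Q) with [L, B] ≤ F satisfies [L, B] = 1; and C_H(FL) has order prime to p. -/
theorem result {H : Type*} [Group H] [Finite H] {p : ℕ} [Fact p.Prime] (hO : Cfsg.pCore p H = ⊥) (Q : Subgroup H) (hQ : IsPGroup p ↥Q) (L : Subgroup H) (hL : L = ⁅Cfsg.generalizedFittingSubgroup H, Q⁆) (F : Subgroup H) (hF : F ≤ Cfsg.generalizedFittingSubgroup H ∧ Cfsg.generalizedFittingSubgroup H ≤ Subgroup.normalizer (F : Set H) ∧ Q ≤ Subgroup.centralizer (F : Set H) ∧ ∀ N : Subgroup H, N ≤ Cfsg.generalizedFittingSubgroup H → Cfsg.generalizedFittingSubgroup H ≤ Subgroup.normalizer (N : Set H) → Q ≤ Subgroup.centralizer (N : Set H) → N ≤ F) : F = Cfsg.generalizedFittingSubgroup H ⊓ Subgroup.centralizer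 ((L ⊔ Q : Subgroup H) : Set H) ∧ ⁅L, Q⁆ = L ∧ L ⊓ F ≤ (frattini ↥L).map L.subtype ∧ (∀ B : Subgroup H, IsPGroup p ↥B → B ≤ Subgroup.normalizer (Q : Set H) → ⁅L, B⁆ ≤ F → ⁅L, B⁆ = ⊥) ∧ (Nat.card ↥(Subgroup.centralizer ((F ⊔ L : Subgroup H) : Set H))).Coprime p := by
  obtain ⟨A, hA⟩ : ∃ A : Subgroup H, A = Cfsg.generalizedFittingSubgroup H := ⟨_, rfl⟩
  have hAn : A.Normal := hA ▸ inferInstance
  have hAg : A ≤ Cfsg.generalizedFittingSubgroup H := hA.le
  rw [← hA] at hL hF ⊢
  obtain ⟨hFA, hAF, hQF, hFmax⟩ := hF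
  have hnA : ∀ X : Subgroup H, X ≤ Subgroup.normalizer (A : Set H) := fun X =>
    le_top.trans (H52.PCore.normal_iff_top_le_normalizer.1 hAn)
  have hLA : L ≤ A := by rw [hL]; exact Subgroup.le_normalizer_iff_commutator_le_left.1 (hnA Q)
  have hAL : A ≤ Subgroup.normalizer (L : Set H) := by rw [hL]; exact Subgroup.normalizer_commutator_ge_left A Q
  have hQL : Q ≤ Subgroup.normalizer (L : Set H) := by rw [hL]; exact Subgroup.normalizer_commutator_ge_right A Q
  have hLn : L.IsSubnormal := Subgroup.IsSubnormal.step L A hLA hAn.isSubnormal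
    ((H52.PCore.normal_subOf_iff hLA).2 hAL)
  have hsup : L ⊔ (A ⊓ Subgroup.centralizer (Q : Set H)) = A := by
    rw [hL]; exact sup_eq hO hQ hAn.isSubnormal hAg (hnA Q)
  have hLQ : ⁅L, Q⁆ = L := by
    have := comm_eq hO hQ hAn.isSubnormal hAg (hnA Q)
    rw [← hL] at this
    exact this.symm
  have hLg : Good p L := good_of_subnormal hO hLn (hLA.trans hAg)
  have hFQ : F ≤ Subgroup.centralizer (Q : Set H) := by rwa [Subgroup.le_centralizer_iff]
  have hFL : F ≤ Subgroup.centralizer (L : Set H) := by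
    rw [Subgroup.le_centralizer_iff, ← Subgroup.commutator_eq_bot_iff_le_centralizer, hL]
    apply Subgroup.commutator_commutator_eq_bot_of_rotate
    · have : ⁅Q, F⁆ = ⊥ := by rw [Subgroup.commutator_eq_bot_iff_le_centralizer]; exact hQF
      rw [this, Subgroup.commutator_bot_left]
    · rw [eq_bot_iff]
      have h1 : ⁅F, A⁆ ≤ F := Subgroup.le_normalizer_iff_commutator_le_left.1 hAF
      have h2 : ⁅F, Q⁆ = ⊥ := by rw [Subgroup.commutator_eq_bot_iff_le_centralizer]; exact hFQ
      rw [← h2]; exact Subgroup.commutator_mono h1 le_rfl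
  have hpart1 : F = A ⊓ Subgroup.centralizer ((L ⊔ Q : Subgroup H) : Set H) := by
    rw [H52.YL2.centralizer_sup]
    apply le_antisymm (le_inf hFA (le_inf hFL hFQ))
    apply hFmax _ inf_le_left
    · conv_lhs => rw [← hsup]
      refine sup_le ?_ ?_
      · refine le_trans ?_ (H52.Syl.centralizer_le_normalizer _)
        rw [Subgroup.le_centralizer_iff]
        exact inf_le_right.trans inf_le_left
      · intro x hx
        obtain ⟨hx1, hx2⟩ := Subgroup.mem_inf.1 hx
        refine normalizer_inf_le (Subgroup.mem_inf.2 ⟨Subgroup.le_normalizer hx1, ?_⟩)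
        refine normalizer_inf_le (Subgroup.mem_inf.2 ⟨?_, ?_⟩)
        · exact normalizer_le_normalizer_centralizer _ (hAL hx1)
        · exact normalizer_le_normalizer_centralizer _ (H52.Syl.centralizer_le_normalizer _ hx2)
    · rw [Subgroup.le_centralizer_iff]
      exact inf_le_right.trans inf_le_right
  have hpart3 : L ⊓ F ≤ (frattini ↥L).map L.subtype := by
    intro z hz
    obtain ⟨hz1, hz2⟩ := Subgroup.mem_inf.1 hz
    refine ⟨⟨z, hz1⟩, ?_, rfl⟩
    apply center_inf_commutator_le_frattini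
    · rw [Subgroup.mem_center_iff]
      intro y
      exact Subtype.ext (Subgroup.mem_centralizer_iff.1 (hFL hz2) y y.2)
    · exact mem_commutator_of_fixed hQ hQL hLg hLQ hz1 (hFQ hz2)
  refine ⟨hpart1, hLQ, hpart3, ?_, ?_⟩
  · intro B hB hBQ hLB
    have hBL : B ≤ Subgroup.normalizer (L : Set H) := by
      intro b hb
      rw [hL]
      exact normalizer_commutator_le (Subgroup.mem_inf.2 ⟨hnA B hb, hBQ hb⟩)
    have h1 := sup_eq hO hB hLn (hLA.trans hAg) hBL
    have h2 : ⁅L, B⁆ ≤ L := Subgroup.le_normalizer_iff_commutator_le_left.1 hBL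
    have h3 : ⁅L, B⁆ ≤ (frattini ↥L).map L.subtype := (le_inf h2 hLB).trans hpart3
    have h4 : (L ⊓ Subgroup.centralizer (B : Set H)).subgroupOf L ⊔ frattini ↥L = ⊤ := by
      apply Subgroup.map_injective L.subtype_injective
      rw [Subgroup.map_sup, Subgroup.map_subgroupOf_eq_of_le inf_le_left, ← MonoidHom.range_eq_map,
        Subgroup.range_subtype]
      apply le_antisymm (sup_le inf_le_left (Subgroup.map_subtype_le _))
      conv_lhs => rw [← h1]
      exact sup_le (h3.trans le_sup_right) le_sup_left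
    have h5 := frattini_nongenerating h4
    rw [Subgroup.subgroupOf_eq_top] at h5
    rw [Subgroup.commutator_eq_bot_iff_le_centralizer]
    exact h5.trans inf_le_right
  · obtain ⟨C, hC⟩ : ∃ C : Subgroup H, C = Subgroup.centralizer ((F ⊔ L : Subgroup H) : Set H) := ⟨_, rfl⟩
    rw [← hC]
    have hCF : C ≤ Subgroup.centralizer (F : Set H) := by
      rw [hC]; exact Subgroup.centralizer_le (SetLike.coe_subset_coe.2 (le_sup_left : F ≤ F ⊔ L))
    have hCL : C ≤ Subgroup.centralizer (L : Set H) := by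
      rw [hC]; exact Subgroup.centralizer_le (SetLike.coe_subset_coe.2 (le_sup_right : L ≤ F ⊔ L))
    have hQC : Q ≤ Subgroup.normalizer (C : Set H) := by
      rw [hC]
      intro q hq
      apply normalizer_le_normalizer_centralizer
      exact normalizer_sup_le (Subgroup.mem_inf.2 ⟨H52.Syl.centralizer_le_normalizer _ (hQF hq), hQL hq⟩)
    rw [Nat.coprime_comm, Nat.Prime.coprime_iff_not_dvd Fact.out]
    intro hdvd
    obtain ⟨T, hT, hQT⟩ := exists_sylIn_le (p := p) (L := C ⊔ Q) le_sup_right hQ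
    have h1 : SylIn p (T ⊓ C) C := hT.inf_normal le_sup_left (sup_le Subgroup.le_normalizer hQC)
    have h2 : T ⊓ C ≠ ⊥ := by
      intro h0
      rw [h0] at h1
      have := h1.relIndex
      rw [Subgroup.relIndex_bot_left] at this
      exact this hdvd
    have h3 := H52.Trace.exists_ne_of_pGroup_action h1.isPGroup hQ (by
      intro q hq
      exact normalizer_inf_le (Subgroup.mem_inf.2 ⟨Subgroup.le_normalizer (hQT hq), hQC hq⟩)) h2
    obtain ⟨B, hB⟩ : ∃ B : Subgroup H, B = T ⊓ C ⊓ Subgroup.centralizer (Q : Set H) := ⟨_, rfl⟩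
    rw [← hB] at h3
    apply h3
    have hBp : IsPGroup p B := by rw [hB]; exact h1.isPGroup.to_le inf_le_left
    have hBC : B ≤ C := by rw [hB]; exact inf_le_left.trans inf_le_right
    have hBQ : B ≤ Subgroup.centralizer (Q : Set H) := by rw [hB]; exact inf_le_right
    have h4 : ⁅⁅B, A⁆, Q⁆ = ⊥ := by
      apply Subgroup.commutator_commutator_eq_bot_of_rotate
      · rw [← hL, Subgroup.commutator_eq_bot_iff_le_centralizer, Subgroup.le_centralizer_iff]
        exact hBC.trans hCL
      · have : ⁅Q, B⁆ = ⊥ := by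
          rw [Subgroup.commutator_eq_bot_iff_le_centralizer, Subgroup.le_centralizer_iff]; exact hBQ
        rw [this, Subgroup.commutator_bot_left]
    have h5 : ⁅A, B⁆ ≤ F := by
      apply hFmax
      · exact Subgroup.le_normalizer_iff_commutator_le_left.1 (hnA B)
      · exact Subgroup.normalizer_commutator_ge_left A B
      · rw [Subgroup.commutator_comm B A, Subgroup.commutator_eq_bot_iff_le_centralizer] at h4
        rwa [Subgroup.le_centralizer_iff]
    have h6 := comm_eq hO hBp hAn.isSubnormal hAg (hnA B)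
    have h7 : ⁅⁅A, B⁆, B⁆ = ⊥ := by
      rw [eq_bot_iff]
      have h8 : ⁅F, B⁆ = ⊥ := by
        rw [Subgroup.commutator_eq_bot_iff_le_centralizer, Subgroup.le_centralizer_iff]
        exact hBC.trans hCF
      rw [← h8]; exact Subgroup.commutator_mono h5 le_rfl
    rw [h7] at h6
    exact eq_bot_of_comm_eq_bot hO hBp (by rw [← hA]; exact h6)

end Cfsg.Agent.S2817
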