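import Cfsg.Statements.S2818
import Cfsg.Agent.Lib.H52.Sub

set_option autoImplicit false
open Cfsg

namespace Cfsg.Agent.S2818

/-- Let P be a finite p-subgroup of a group G and H a subgroup of N_G(P) with [P, H] ≤ Ω₁(Z(P)) (the elements of order dividing p in the centre of P). Then H centralizes the Frattini subgroup of P. -/
theorem result {G : Type*} [Group G] [Finite G] {p : ℕ} [Fact p.Prime] (P : Subgroup G) (hP : IsPGroup p ↥P) (H : Subgroup G) (hH : H ≤ Subgroup.normalizer (P : Set G)) (h : ⁅P, H⁆ ≤ Cfsg.omegaOne p (P ⊓ Subgroup.centralizer (P : Set G))) : ⁅(frattini ↥P).map P.subtype, H⁆ = ⊥ := by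
  rw [Subgroup.commutator_eq_bot_iff_le_centralizer]
  have hc : ∀ z ∈ Cfsg.omegaOne p (P ⊓ Subgroup.centralizer (P : Set G)),
      z ∈ P ∧ (∀ y ∈ P, y * z = z * y) ∧ z ^ p = 1 := by
    intro z hz
    have := (H52.Red.mem_omegaOne_iff (H52.Red.center_comm P)).1 hz
    exact ⟨this.1.1, Subgroup.mem_centralizer_iff.1 this.1.2, this.2⟩
  have hconj : ∀ x ∈ P, ∀ g ∈ H, ∃ z, z ∈ P ∧ (∀ y ∈ P, y * z = z * y) ∧ z ^ p = 1 ∧
      g * x * g⁻¹ = x * z := by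
    intro x hx g hg
    have h1 : x⁻¹ * g * (x⁻¹)⁻¹ * g⁻¹ ∈ ⁅P, H⁆ :=
      Subgroup.commutator_mem_commutator (P.inv_mem hx) hg
    obtain ⟨h2, h3, h4⟩ := hc _ (h h1)
    refine ⟨_, h2, h3, h4, by group⟩
  apply H52.Sub.map_frattini_le (p := p)
  · intro a ha b hb
    rw [Subgroup.mem_centralizer_iff]
    intro g hg
    obtain ⟨z, hz, hz1, _, hz3⟩ := hconj a ha g hg
    obtain ⟨w, hw, hw1, _, hw3⟩ := hconj b hb g hg
    have e1 : g * (a * b * a⁻¹ * b⁻¹) * g⁻¹ = a * b * a⁻¹ * b⁻¹ := by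
      have hzb : Commute z b := (hz1 b hb).symm
      have hwa : Commute w a := (hw1 a ha).symm
      have hzw : Commute z w := (hz1 w hw).symm
      have hza : Commute z a := (hz1 a ha).symm
      have hwb : Commute w b := (hw1 b hb).symm
      calc g * (a * b * a⁻¹ * b⁻¹) * g⁻¹
          = (g * a * g⁻¹) * (g * b * g⁻¹) * (g * a * g⁻¹)⁻¹ * (g * b * g⁻¹)⁻¹ := by group
        _ = (a * z) * (b * w) * (a * z)⁻¹ * (b * w)⁻¹ := by rw [hz3, hw3]
        _ = (a * (z * b)) * w * (z⁻¹ * a⁻¹) * (w⁻¹ * b⁻¹) := by group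
        _ = (a * (b * z)) * w * (z⁻¹ * a⁻¹) * (w⁻¹ * b⁻¹) := by rw [hzb.eq]
        _ = a * b * (z * w) * z⁻¹ * a⁻¹ * (w⁻¹ * b⁻¹) := by group
        _ = a * b * (w * z) * z⁻¹ * a⁻¹ * (w⁻¹ * b⁻¹) := by rw [hzw.eq]
        _ = a * b * (w * a⁻¹) * (w⁻¹ * b⁻¹) := by group
        _ = a * b * (a⁻¹ * w) * (w⁻¹ * b⁻¹) := by rw [hwa.inv_right.eq]
        _ = a * b * a⁻¹ * b⁻¹ := by group
    have := mul_inv_eq_iff_eq_mul.1 e1
    exact this
  · intro a ha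
    rw [Subgroup.mem_centralizer_iff]
    intro g hg
    obtain ⟨z, hz, hz1, hz2, hz3⟩ := hconj a ha g hg
    have hza : Commute a z := hz1 a ha
    have e1 : g * a ^ p * g⁻¹ = a ^ p := by
      rw [← conj_pow, hz3, hza.mul_pow, hz2, mul_one]
    exact mul_inv_eq_iff_eq_mul.1 e1

end Cfsg.Agent.S2818
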