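import Cfsg.Statements.S2819
import Cfsg.Agent.Lib.H52.Sub

set_option autoImplicit false
open Cfsg

namespace Cfsg.Agent.S2819

/-- Let P be a finite p-subgroup of a group G, H a subgroup of N_G(P), and Y a subgroup of H centralizing the derived subgroup P' such that [P, Y] is elementary abelian. Then O^p(⟨Y^H⟩), the subgroup of the normal closure of Y in H generated by its elements of order prime to p, centralizes the Frattini subgroup of P. -/
theorem result {G : Type*} [Group G] [Finite G] {p : ℕ} [Fact p.Prime] (P : Subgroup G) (hP : IsPGroup p ↥P) (H : Subgroup G) (hH : H ≤ Subgroup.normalizer (P : Set G)) (Y : Subgroup G) (hYH : Y ≤ H) (hYc : Y ≤ Subgroup.centralizer ((⁅P, P⁆ : Subgroup G) : Set G)) (hel : Cfsg.IsElementaryAbelian p ⁅P, Y⁆) (NY : Subgroup G) (hNY : NY = (Subgroup.normalClosure ((Y.subgroupOf H : Subgroup ↥H) : Set ↥H)).map H.subtype) : (Cfsg.pResidual p ↥NY).map NY.subtype ≤ Subgroup.centralizer (((frattini ↥P).map P.subtype : Subgroup G) : Set G) :=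 by
  rw [H52.YL.map_normalClosure_subgroupOf hYH] at hNY
  set D : Subgroup G := ⁅P, P⁆ with hD
  set F : Subgroup G := (frattini ↥P).map P.subtype with hF
  have hFP : F ≤ P := Subgroup.map_subtype_le _
  have hPD : Subgroup.normalizer (P : Set G) ≤ Subgroup.normalizer (D : Set G) :=
    (le_inf le_rfl le_rfl).trans H52.Syl.normalizer_commutator_le
  have hPF : Subgroup.normalizer (P : Set G) ≤ Subgroup.normalizer (F : Set G) := by
    intro g hg
    apply H52.Syl.mem_normalizer_of_cj_eq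
    have hchar : (frattini ↥P).Characteristic := inferInstance
    let e : ↥P ≃* ↥P := 
      { toFun := fun x => ⟨g * x * g⁻¹, (Subgroup.mem_normalizer_iff.1 hg x).1 x.2⟩
        invFun := fun x => ⟨g⁻¹ * x * g, (Subgroup.mem_normalizer_iff.1 hg _).2 (by simp [mul_assoc])⟩
        left_inv := fun x => by ext; simp [mul_assoc]
        right_inv := fun x => by ext; simp [mul_assoc]
        map_mul' := fun x y => by ext; simp }
    have h1 := Subgroup.characteristic_iff_map_eq.1 hchar e
    ext x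
    constructor
    · rintro ⟨_, ⟨y, hy, rfl⟩, rfl⟩
      refine ⟨e y, ?_, rfl⟩
      have : e y ∈ (frattini ↥P).map e.toMonoidHom := ⟨y, hy, rfl⟩
      rw [h1] at this; exact this
    · rintro ⟨y, hy, rfl⟩
      have : y ∈ (frattini ↥P).map e.toMonoidHom := by rw [h1]; exact hy
      obtain ⟨z, hz, rfl⟩ := this
      exact ⟨z, ⟨z, hz, rfl⟩, rfl⟩
  have hHD : H ≤ Subgroup.normalizer (D : Set G) := hH.trans hPD
  have hHF : H ≤ Subgroup.normalizer (F : Set G) := hH.trans hPF
  -- NY centralizes D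
  have hNYD : NY ≤ Subgroup.centralizer (D : Set G) := by
    rw [hNY]
    exact H52.YL.ncl_le hYc (hHD.trans (H52.Syl.normalizer_le_normalizer_centralizer _))
  -- [F, Y] ≤ D
  have hPDn : P ≤ Subgroup.normalizer (D : Set G) := Subgroup.le_normalizer.trans hPD
  have hFY : ⁅F, Y⁆ ≤ D := by
    rw [Subgroup.commutator_comm, ← H52.Sub.le_cmod_iff (hFP.trans hPDn)]
    apply H52.Sub.map_frattini_le (p := p)
    · intro a ha b hb
      have h1 : a * b * a⁻¹ * b⁻¹ ∈ D := Subgroup.commutator_mem_commutator ha hb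
      refine ⟨Subgroup.le_normalizer h1, ?_⟩
      intro y hy
      have h2 := Subgroup.mem_centralizer_iff.1 (hYc hy) _ h1
      have : (y * (a * b * a⁻¹ * b⁻¹) * y⁻¹ * (a * b * a⁻¹ * b⁻¹)⁻¹ : G) = 1 := by
        rw [← h2]; group
      change y * (a * b * a⁻¹ * b⁻¹) * y⁻¹ * (a * b * a⁻¹ * b⁻¹)⁻¹ ∈ D
      rw [this]; exact D.one_mem
    · intro a ha
      refine ⟨hPDn (P.pow_mem ha _), ?_⟩
      intro y hy
      change y * a ^ p * y⁻¹ * (a ^ p)⁻¹ ∈ D
      have hyP : y * a * y⁻¹ ∈ P := Subgroup.le_normalizer_iff.1 (hYH.trans hH) y hy a ha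
      have hc1 : a⁻¹ * y * (a⁻¹)⁻¹ * y⁻¹ ∈ ⁅P, Y⁆ :=
        Subgroup.commutator_mem_commutator (P.inv_mem ha) hy
      set c := a⁻¹ * y * (a⁻¹)⁻¹ * y⁻¹ with hc
      have hcp : c ^ p = 1 := hel.2 c hc1
      have hcP : c ∈ P := by
        have : c = a⁻¹ * (y * a * y⁻¹) := by rw [hc]; group
        rw [this]; exact P.mul_mem (P.inv_mem ha) hyP
      have hya : y * a * y⁻¹ = a * c := by rw [hc]; group
      rw [← conj_pow, hya]
      -- in the abelianization of P
      let A : ↥P := ⟨a, ha⟩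
      let C : ↥P := ⟨c, hcP⟩
      have h3 : ((A * C) ^ p * (A ^ p)⁻¹ : ↥P) ∈ commutator ↥P := by
        have hab : ∀ u v : ↥P ⧸ commutator ↥P, Commute u v := fun u v =>
          mul_comm (G := Abelianization ↥P) u v
        have hC : C ^ p = 1 := by ext; simpa [C] using hcp
        have h5 : (QuotientGroup.mk' (commutator ↥P)) ((A * C) ^ p * (A ^ p)⁻¹) = 1 := by
          rw [map_mul, map_pow, map_mul, (hab _ _).mul_pow, map_inv, map_pow, ← map_pow _ C, hC,
            map_one, mul_one, mul_inv_cancel]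
        exact (QuotientGroup.eq_one_iff _).1 h5
      have h4 : (((A * C) ^ p * (A ^ p)⁻¹ : ↥P) : G) ∈ (commutator ↥P).map P.subtype := ⟨_, h3, rfl⟩
      rw [Subgroup.map_subtype_commutator] at h4
      simpa [A, C] using h4
  have hFNY : ⁅F, NY⁆ ≤ D := by
    rw [hNY]; exact H52.Sub.commutator_ncl_le hYH hHD hHF hFY
  have hNYH : NY ≤ H := by rw [hNY]; exact H52.YL.ncl_le_self hYH
  apply H52.Cop.resOf_le_centralizer_of_two (hP.to_le hFP) (hNYH.trans hHF)
  rw [Subgroup.commutator_eq_bot_iff_le_centralizer]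
  refine hFNY.trans ?_
  rw [Subgroup.le_centralizer_iff]; exact hNYD

end Cfsg.Agent.S2819
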