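import Cfsg.Statements.S2823
import Cfsg.Agent.Lib.H52.Kieler

set_option autoImplicit false
open Cfsg

namespace Cfsg.Agent.S2823

/-- Let H be a finite group, p a prime, T a Sylow p-subgroup and L a subgroup of characteristic p containing T; let Z_L be the subgroup generated by the Ω₁(Z(S)) over the Sylow p-subgroups S of L and O^p(L) the subgroup generated by the elements of L of order prime to p. Then Z_L = Ω₁(Z(L))·[Z_L, O^p(L)] and [Z_L, L] = [Z_L, O^p(L)]. -/
theorem result {H : Type*} [Group H] [Finite H] {p : ℕ} [Fact p.Prime] (T : Sylow p H) (L : Subgroup H) (hTL : (T : Subgroup H) ≤ L) (hL : Subgroup.centralizer (Cfsg.pCore p ↥L : Set ↥L) ≤ Cfsg.pCore p ↥L) : Cfsg.sylowCenterClosure p L = (Cfsg.omegaOne p (L ⊓ Subgroup.centralizer ((L : Subgroup H) : Set H))) ⊔ ⁅Cfsg.sylowCenterClosure p L, (Cfsg.pResidual p ↥L).map L.subtype⁆ ∧ ⁅Cfsg.sylowCenterClosure p L, L⁆ = ⁅Cfsg.sylowCenterClosure p L, (Cfsg.pResidual p ↥L).map L.subtype⁆ := by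
  have hT := H52.Syl.sylIn_of_sylow T hTL
  have hL' := (H52.Cop.charP_iff L).1 hL
  have hVY := H52.YL2.sylowCenterClosure_le hL'
  have hVe := H52.Red.elem_mono (H52.Red.pRed_largestPReducedOf (p := p) L).ea hVY
  have hVL : Cfsg.sylowCenterClosure p L ≤ L := hVY.trans (H52.Red.largestPReducedOf_le L)
  have hLV : L ≤ Subgroup.normalizer (Cfsg.sylowCenterClosure p L : Set H) := by
    rw [H52.YL2.sylowCenterClosure_eq hT]; exact H52.YL.le_normalizer_ncl _ _
  set V := Cfsg.sylowCenterClosure p L with hV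
  have hWn : L ≤ Subgroup.normalizer ((⁅V, H52.PRes.resOf p L⁆ : Subgroup H) : Set H) :=
    (le_inf hLV (H52.PRes.le_normalizer_resOf L)).trans H52.Syl.normalizer_commutator_le
  have hWV : ⁅V, H52.PRes.resOf p L⁆ ≤ V :=
    Subgroup.le_normalizer_iff_commutator_le_left.1 ((H52.PRes.resOf_le L).trans hLV)
  have hcent : Cfsg.omegaOne p (L ⊓ Subgroup.centralizer (L : Set H)) ≤
      Cfsg.omegaOne p ((T : Subgroup H) ⊓ Subgroup.centralizer ((T : Subgroup H) : Set H)) := by
    intro x hx
    have hx' := (H52.Red.mem_omegaOne_iff (H52.Red.center_comm L)).1 hx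
    rw [H52.Red.mem_omegaOne_iff (H52.Red.center_comm _)]
    refine ⟨⟨?_, Subgroup.centralizer_le hT.le hx'.1.2⟩, hx'.2⟩
    have h1 : Cfsg.omegaOne p (L ⊓ Subgroup.centralizer (L : Set H)) ≤ (T : Subgroup H) := by
      apply hT.normal_le (H52.Red.omegaOne_le.trans inf_le_left)
      · have : L ≤ Subgroup.centralizer
            ((Cfsg.omegaOne p (L ⊓ Subgroup.centralizer (L : Set H)) : Subgroup H) : Set H) := by
          rw [Subgroup.le_centralizer_iff]; exact H52.Red.omegaOne_le.trans inf_le_right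
        exact this.trans (H52.Syl.centralizer_le_normalizer _)
      · exact H52.Red.elem_isPGroup (H52.Red.elem_omegaOne (H52.Red.center_comm L))
    exact h1 hx
  have hLc : L ≤ Subgroup.centralizer
      ((Cfsg.omegaOne p (L ⊓ Subgroup.centralizer (L : Set H)) : Subgroup H) : Set H) := by
    rw [Subgroup.le_centralizer_iff]; exact H52.Red.omegaOne_le.trans inf_le_right
  have hmain : V ≤ (Cfsg.omegaOne p (L ⊓ Subgroup.centralizer ((L : Subgroup H) : Set H))) ⊔
      ⁅V, H52.PRes.resOf p L⁆ := by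
    have h0 : V = H52.YL.ncl L (Cfsg.omegaOne p ((T : Subgroup H) ⊓ Subgroup.centralizer ((T : Subgroup H) : Set H))) := by
      rw [hV, H52.YL2.sylowCenterClosure_eq hT]
    conv_lhs => rw [h0]
    apply H52.YL.ncl_le
    · intro z hz
      have hzV : z ∈ V := by rw [h0]; exact H52.YL.le_ncl _ _ hz
      have hzT := (H52.Kieler.mem_oz.1 hz).2.1
      obtain ⟨w, hw, _, hw2⟩ := H52.Kieler.split hT hVe hVL hLV hWV hzV hzT
        (H52.Kieler.conj_mem_commutator_resOf hT hzV hzT)
      have : z = (z * w) * w⁻¹ := by group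
      rw [this]
      refine mul_mem ?_ ?_
      · apply Subgroup.mem_sup_left
        rw [H52.Red.mem_omegaOne_iff (H52.Red.center_comm L)]
        exact ⟨⟨hVL hw2.1, hw2.2⟩, hVe.2 _ hw2.1⟩
      · exact Subgroup.mem_sup_right (inv_mem hw)
    · exact (le_inf (hLc.trans (H52.Syl.centralizer_le_normalizer _)) hWn).trans
        H52.Syl.normalizer_sup_le
  constructor
  · apply le_antisymm hmain
    refine sup_le ?_ hWV
    refine hcent.trans ?_
    rw [hV]; exact H52.YL2.omega_center_le_closure hT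
  · apply le_antisymm
    · rw [Subgroup.commutator_le]
      intro v hv x hx
      have hv' := hmain hv
      rw [H52.YL2.mem_sup_iff_of_le_normalizer] at hv'
      · obtain ⟨a, ha, w, hw, rfl⟩ := hv'
        have hax : a * (w * x * w⁻¹) = (w * x * w⁻¹) * a := by
          have hwL : w ∈ L := hVL (hWV hw)
          exact Subgroup.mem_centralizer_iff.1 (hLc (L.mul_mem (L.mul_mem hwL hx) (L.inv_mem hwL))) a ha
        change a * w * x * (a * w)⁻¹ * x⁻¹ ∈ _
        have : a * w * x * (a * w)⁻¹ * x⁻¹ = w * x * w⁻¹ * x⁻¹ := by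
          calc a * w * x * (a * w)⁻¹ * x⁻¹ = (a * (w * x * w⁻¹)) * a⁻¹ * x⁻¹ := by group
            _ = ((w * x * w⁻¹) * a) * a⁻¹ * x⁻¹ := by rw [hax]
            _ = w * x * w⁻¹ * x⁻¹ := by group
        rw [this]
        have h3 : x * w⁻¹ * x⁻¹ ∈ ⁅V, H52.PRes.resOf p L⁆ :=
          Subgroup.le_normalizer_iff.1 hWn x hx _ (inv_mem hw)
        have : w * x * w⁻¹ * x⁻¹ = w * (x * w⁻¹ * x⁻¹) := by group
        rw [this]
        exact mul_mem hw h3
      · refine (hcent.trans (H52.Red.omegaOne_le.trans inf_le_left)).trans ?_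
        exact hT.le.trans hWn
    · exact Subgroup.commutator_mono le_rfl (H52.PRes.resOf_le L)

end Cfsg.Agent.S2823
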