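import Cfsg.Statements.S2825
import Cfsg.Agent.Lib.H52.YL2

set_option autoImplicit false
open Cfsg

namespace Cfsg.Agent.S2825

/-- Let L be a subnormal subgroup of the finite group H, p a prime, Y_H and Y_L the largest p-reduced normal subgroups. Then Y_H ∩ L = Y_H ∩ Y_L and this subgroup is a p-reduced normal subgroup of L; C_L(Y_L) = C_L(Y_H) = C_L(Y_H ∩ L); and if O^p(H) ≤ L, then [Y_L, L] = 1 if and only if [Y_H, H] = 1. -/
theorem result {H : Type*} [Group H] [Finite H] {p : ℕ} [Fact p.Prime] (L : Subgroup H) (hL : L.IsSubnormal) : Cfsg.largestPReduced p H ⊓ L = Cfsg.largestPReduced p H ⊓ (Cfsg.largestPReducedOf p L) ∧ Cfsg.IsPReducedNormal p ((Cfsg.largestPReduced p H ⊓ L).subgroupOf L) ∧ L ⊓ Subgroup.centralizer ((Cfsg.largestPReducedOf p L : Subgroup H) : Set H) = L ⊓ Subgroup.centralizer (Cfsg.largestPReduced p H : Set H) ∧ L ⊓ Subgroup.centralizer (Cfsg.largestPReduced p H : Set H) = L ⊓ Subgroup.centralizer ((Cfsg.largestPReduced p H ⊓ L : Subgroup H) : Set H) ∧ (Cfsg.pResidual p H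 ≤ L → (⁅(Cfsg.largestPReducedOf p L), L⁆ = ⊥ ↔ ⁅Cfsg.largestPReduced p H, (⊤ : Subgroup H)⁆ = ⊥)) := by
  have hY : H52.Red.PRed p ⊤ (Cfsg.largestPReduced p H) := H52.Red.isPReducedNormal_largest
  have h4 : L ⊓ Subgroup.centralizer ((Cfsg.largestPReduced p H ⊓ L : Subgroup H) : Set H) ≤
      Subgroup.centralizer (Cfsg.largestPReduced p H : Set H) := by
    refine le_trans (inf_le_inf_left _ (Subgroup.centralizer_le ?_)) (H52.YL2.centralizer_Y_le hL hY)
    refine le_inf ?_ (H52.YL.commutator_resOf_le_of_subnormal hY.isPGroup (le_top.trans hY.norm) hL)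
    exact Subgroup.le_normalizer_iff_commutator_le_left.1 (le_top.trans hY.norm)
  have h2 : H52.Red.PRed p L (Cfsg.largestPReduced p H ⊓ L) := by
    refine ⟨inf_le_right, ?_, H52.Red.elem_mono hY.ea inf_le_left, ?_⟩
    · exact (le_inf (le_top.trans hY.norm) Subgroup.le_normalizer).trans H52.Syl.normalizer_inf_le
    · intro D hD hn hm
      have hDs : D.IsSubnormal := Subgroup.IsSubnormal.step _ L hD hL
        ((H52.PCore.normal_subOf_iff hD).2 hn)
      refine le_trans ?_ (Subgroup.centralizer_le inf_le_left)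
      apply hY.red_subnormal le_top hDs.subgroupOf
      intro x hx
      obtain ⟨k, hk⟩ := hm x hx
      exact ⟨k, h4 ⟨hD (D.pow_mem hx _), hk⟩⟩
  have h3 := H52.YL2.centralizer_largest_eq (p := p) hL
  refine ⟨?_, (H52.Red.isPReducedNormal_subgroupOf_iff h2.le).2 h2, h3, ?_, ?_⟩
  · apply le_antisymm
    · exact le_inf inf_le_left h2.le_largestPReducedOf
    · exact inf_le_inf_left _ (H52.Red.largestPReducedOf_le L)
  · apply le_antisymm
    · exact inf_le_inf_left _ (Subgroup.centralizer_le inf_le_left)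
    · exact le_inf inf_le_left h4
  · intro hR
    rw [Subgroup.commutator_comm, Subgroup.commutator_eq_bot_iff_le_centralizer,
      Subgroup.commutator_comm, Subgroup.commutator_eq_bot_iff_le_centralizer]
    constructor
    · intro h
      have h5 : L ≤ Subgroup.centralizer (Cfsg.largestPReduced p H : Set H) :=
        (le_inf le_rfl h).trans (h3.le.trans inf_le_right)
      apply hY.red ⊤ le_rfl Subgroup.le_normalizer
      rw [H52.PRes.pMod_iff_resOf_le, H52.PRes.resOf_top]
      exact hR.trans h5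
    · intro h
      exact (le_inf le_rfl (le_top.trans h)).trans (h3.ge.trans inf_le_right)

end Cfsg.Agent.S2825
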