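import Cfsg.Statements.S2826
import Cfsg.Agent.Lib.H52.Kieler

set_option autoImplicit false
open Cfsg

namespace Cfsg.Agent.S2826

/-- Let H be a finite group of characteristic p, T a Sylow p-subgroup, and V a normal elementary abelian p-subgroup of H containing Ω₁(Z(T)). Then C_H(Ω₁(Z(T))) = C_H([V, O^p(H)] ∩ Ω₁(Z(T))), O^p(H) being generated by the elements of order prime to p. -/
theorem result {H : Type*} [Group H] [Finite H] {p : ℕ} [Fact p.Prime] (hH : Subgroup.centralizer (Cfsg.pCore p H : Set H) ≤ Cfsg.pCore p H) (T : Sylow p H) (V : Subgroup H) [V.Normal] (hV : Cfsg.IsElementaryAbelian p V) (hZV : (Cfsg.omegaOne p ((T : Subgroup H) ⊓ Subgroup.centralizer (((T : Subgroup H) : Subgroup H) : Set H))) ≤ V) : Subgroup.centralizer ((Cfsg.omegaOne p ((T : Subgroup H) ⊓ Subgroup.centralizer (((T : Subgroup H) : Subgroup H) : Set H))) : Set H) = Subgroup.centralizer (((⁅V, Cfsg.pResidual p H⁆ ⊓ (Cfsg.omegaOne p ((T : Subgroup H) ⊓ Subgroup.centralizer (((T : Subgroup H) : Subgroup H) : Set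 H)))) : Subgroup H) : Set H) := by
  have hT := H52.Syl.sylIn_top T
  have hVn : (⊤ : Subgroup H) ≤ Subgroup.normalizer (V : Set H) :=
    H52.PCore.normal_iff_top_le_normalizer.1 inferInstance
  have hWV : ⁅V, H52.PRes.resOf p (⊤ : Subgroup H)⁆ ≤ V :=
    Subgroup.le_normalizer_iff_commutator_le_left.1 (le_top.trans hVn)
  apply le_antisymm
  · exact Subgroup.centralizer_le inf_le_right
  · intro x hx
    rw [Subgroup.mem_centralizer_iff]
    intro z hz
    have hzV := hZV hz
    have hzT := (H52.Kieler.mem_oz.1 hz).2.1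
    obtain ⟨w, hw, hwZ, hw2⟩ := H52.Kieler.split hT hV le_top hVn hWV hzV hzT
        (H52.Kieler.conj_mem_commutator_resOf hT hzV hzT)
    rw [H52.PRes.resOf_top] at hw
    have h1 := Subgroup.mem_centralizer_iff.1 hx w (Subgroup.mem_inf.2 ⟨hw, hwZ⟩)
    have h2 := Subgroup.mem_centralizer_iff.1 hw2.2 x (Subgroup.mem_top x)
    have : z = (z * w) * w⁻¹ := by group
    rw [this]
    have h5 : Commute (z * w) x := h2.symm
    have h6 : Commute w⁻¹ x := (show Commute w x from h1).inv_left
    exact h5.mul_left h6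

end Cfsg.Agent.S2826
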