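import Cfsg.Statements.S2827
import Cfsg.Agent.Lib.H52.Irr

set_option autoImplicit false
open Cfsg

namespace Cfsg.Agent.S2827

/-- Let H be a finite p-irreducible group (not p-closed, and O^p(H) lies in every normal subgroup that is not p-closed) and T a Sylow p-subgroup. Then H is generated by the conjugates of T and H = H'·T; O^p(H) ≤ H'; and for every normal subgroup Y of T not contained in O_p(H), O^p(H) = [O^p(H), Y] and O^p(H) is contained in the normal closure of Y in H. -/
theorem result {H : Type*} [Group H] [Finite H] {p : ℕ} [Fact p.Prime] (hH : Cfsg.IsPIrreducible p H) (T : Sylow p H) : Subgroup.normalClosure ((T : Subgroup H) : Set H) = ⊤ ∧ commutator H ⊔ (T : Subgroup H) = ⊤ ∧ Cfsg.pResidual p H ≤ commutator H ∧ ∀ Y : Subgroup H, Y ≤ (T : Subgroup H) → (T : Subgroup H) ≤ Subgroup.normalizer (Y : Set H) → ¬ Y ≤ Cfsg.pCore p H → ⁅Cfsg.pResidual p H, Y⁆ = Cfsg.pResidual p H ∧ Cfsg.pResidual p H ≤ Subgroup.normalClosure (Y : Set H) := by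
  have hTs := H52.Syl.sylIn_top T
  have hRn : (Cfsg.pResidual p H).Normal := H52.PRes.pResidual_normal
  have hTR : (T : Subgroup H) ⊔ Cfsg.pResidual p H = ⊤ := H52.PRes.sup_resOf_eq_of_sylow T
  -- a normal subgroup containing a p-subgroup not in O_p(H) is not p-closed
  have hnc : ∀ N Y : Subgroup H, N.Normal → Y ≤ N → IsPGroup p Y → ¬ Y ≤ Cfsg.pCore p H →
      Cfsg.pResidual p H ≤ N := by
    intro N Y hN hYN hYp hY
    apply hH.2 N hN
    intro hc
    exact hY ((H52.Irr.isPClosed_iff_of_subnormal hN.isSubnormal).1 hc Y hYN hYp)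
  have hTn : ¬ (T : Subgroup H) ≤ Cfsg.pCore p H := by
    intro h
    apply hH.1
    rw [← H52.Irr.isPClosed_top_iff, H52.Irr.isPClosed_iff_sylow Subgroup.IsSubnormal.top hTs]
    exact inf_le_left.trans h
  have hA : Subgroup.normalClosure ((T : Subgroup H) : Set H) = ⊤ := by
    have h1 := hnc _ _ (Subgroup.normalClosure_normal (s := ((T : Subgroup H) : Set H)))
      Subgroup.subset_normalClosure T.isPGroup' hTn
    rw [eq_top_iff, ← hTR]
    exact sup_le Subgroup.subset_normalClosure h1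
  have hB : commutator H ⊔ (T : Subgroup H) = ⊤ := by
    have hn : (commutator H ⊔ (T : Subgroup H)).Normal :=
      Subgroup.Normal.of_commutator_le H (H := commutator H ⊔ (T : Subgroup H)) le_sup_left
    rw [eq_top_iff, ← hA]
    exact Subgroup.normalClosure_le_normal (le_sup_right : (T : Subgroup H) ≤ commutator H ⊔ T)
  refine ⟨hA, hB, H52.Irr.pResidual_le_normal_of_sup inferInstance T.isPGroup' hB, ?_⟩
  intro Y hYT hTY hY
  have hYp : IsPGroup p Y := T.isPGroup'.to_le hYT
  have h2 : Cfsg.pResidual p H ≤ Subgroup.normalClosure (Y : Set H) :=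
    hnc _ Y Subgroup.normalClosure_normal Subgroup.subset_normalClosure hYp hY
  refine ⟨?_, h2⟩
  set R := Cfsg.pResidual p H with hR
  set N := ⁅R, Y⁆ with hN
  have hRtop : (⊤ : Subgroup H) ≤ Subgroup.normalizer (R : Set H) :=
    H52.PCore.normal_iff_top_le_normalizer.1 hRn
  have hRN : R ≤ Subgroup.normalizer (N : Set H) := Subgroup.normalizer_commutator_ge_left R Y
  have hTN : (T : Subgroup H) ≤ Subgroup.normalizer (N : Set H) :=
    (le_inf (le_top.trans hRtop) hTY).trans H52.Syl.normalizer_commutator_le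
  have hNtop : (⊤ : Subgroup H) ≤ Subgroup.normalizer (N : Set H) := by
    rw [← hTR]; exact sup_le hTN hRN
  have hNn : N.Normal := H52.PCore.normal_iff_top_le_normalizer.2 hNtop
  have hYN : (⊤ : Subgroup H) ≤ Subgroup.normalizer ((N ⊔ Y : Subgroup H) : Set H) := by
    rw [← hTR]
    refine sup_le ((le_inf hTN hTY).trans H52.Syl.normalizer_sup_le) ?_
    rw [Subgroup.le_normalizer_iff_commutator_le_right, Subgroup.commutator_le]
    intro r hr x hx
    have hx' : x ∈ Y ⊔ N := by rwa [sup_comm] at hx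
    rw [H52.YL2.mem_sup_iff_of_le_normalizer (le_top.trans hNtop)] at hx'
    obtain ⟨y, hy, n, hn, rfl⟩ := hx'
    have h3 : r * y * r⁻¹ * y⁻¹ ∈ N := Subgroup.commutator_mem_commutator hr hy
    have h4 : y * (r * n * r⁻¹) * y⁻¹ ∈ N := hNn.conj_mem _ (hNn.conj_mem _ hn _) _
    have h5 : y * n⁻¹ * y⁻¹ ∈ N := hNn.conj_mem _ (N.inv_mem hn) _
    change r * (y * n) * r⁻¹ * (y * n)⁻¹ ∈ _
    have h6 : r * (y * n) * r⁻¹ * (y * n)⁻¹ =
        (r * y * r⁻¹ * y⁻¹) * (y * (r * n * r⁻¹) * y⁻¹) * (y * n⁻¹ * y⁻¹) := by group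
    rw [h6]
    exact Subgroup.mem_sup_left (N.mul_mem (N.mul_mem h3 h4) h5)
  have h3 : R ≤ N ⊔ Y := by
    refine h2.trans ?_
    have : (N ⊔ Y).Normal := H52.PCore.normal_iff_top_le_normalizer.2 hYN
    exact Subgroup.normalClosure_le_normal (le_sup_right : Y ≤ N ⊔ Y)
  apply le_antisymm
  · exact Subgroup.le_normalizer_iff_commutator_le_left.1 (le_top.trans hRtop)
  · exact H52.Irr.resOf_le_of_le_sup hNn hYp h3

end Cfsg.Agent.S2827
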