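import Cfsg.Statements.S2829
import Cfsg.Agent.Lib.H52.Irr

set_option autoImplicit false
open Cfsg

namespace Cfsg.Agent.S2829

/-- Every strongly p-irreducible finite group is p-irreducible. -/
theorem result {H : Type*} [Group H] [Finite H] {p : ℕ} [Fact p.Prime] (hH : Cfsg.IsStronglyPIrreducible p H) : Cfsg.IsPIrreducible p H := by
  refine ⟨hH.1, fun N hN hc => hH.2 N hN ?_⟩
  intro hcomm
  apply hc
  rw [H52.Irr.isPClosed_iff_of_subnormal hN.isSubnormal]
  intro Q hQ hp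
  -- Q O_p(H) is normal
  have hPn : (Cfsg.pCore p H).Normal := inferInstance
  have h1 : (Q ⊔ Cfsg.pCore p H).Normal := by
    rw [H52.PCore.normal_iff_top_le_normalizer, Subgroup.le_normalizer_iff_commutator_le_left,
      Subgroup.commutator_le]
    intro x hx g _
    have hPtop := H52.PCore.normal_iff_top_le_normalizer.1 hPn
    rw [H52.YL2.mem_sup_iff_of_le_normalizer (le_top.trans hPtop)] at hx
    obtain ⟨q, hq, c, hc, rfl⟩ := hx
    have h3 : q * g * q⁻¹ * g⁻¹ ∈ Cfsg.pCore p H :=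
      hcomm (Subgroup.commutator_mem_commutator (hQ hq) (Subgroup.mem_top g))
    have h4 : q * (c * (g * c⁻¹ * g⁻¹)) * q⁻¹ ∈ Cfsg.pCore p H :=
      hPn.conj_mem _ (mul_mem hc (hPn.conj_mem _ (inv_mem hc) _)) _
    have h5 : (q * c) * g * (q * c)⁻¹ * g⁻¹ =
        (q * (c * (g * c⁻¹ * g⁻¹)) * q⁻¹) * (q * g * q⁻¹ * g⁻¹) := by group
    apply Subgroup.mem_sup_right
    change (q * c) * g * (q * c)⁻¹ * g⁻¹ ∈ _
    rw [h5]
    exact mul_mem h4 h3
  have h2 : IsPGroup p (Q ⊔ Cfsg.pCore p H : Subgroup H) :=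
    hp.to_sup_of_normal_right H52.PCore.isPGroup_pCore
  exact le_sup_left.trans (H52.PCore.le_pCore h1 h2)

end Cfsg.Agent.S2829
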