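import Cfsg.Statements.S2830
import Cfsg.Agent.Lib.H52.Irr

set_option autoImplicit false
open Cfsg

namespace Cfsg.Agent.S2830

/-- Let H act by conjugation on the elementary abelian p-subgroup V of a finite group G (H ≤ N(V)), with H p-irreducible and O^p(H) not centralizing V. Then C_H(V) is p-closed and C_T(V) ≤ O_p(H) for every p-subgroup T of H. If in addition O_p(H) centralizes V, then C_T(V) = T ∩ O_p(H) for every p-subgroup T of H, and V is p-reduced for H: O_p(H/C_H(V)) = 1. -/
theorem result {G : Type*} [Group G] [Finite G] {p : ℕ} [Fact p.Prime] (V H : Subgroup G) (hV : Cfsg.IsElementaryAbelian p V) (hHV : H ≤ Subgroup.normalizer (V : Set G)) (hH : Cfsg.IsPIrreducible p ↥H) (hnc : ¬ (Cfsg.pResidual p ↥H).map H.subtype ≤ Subgroup.centralizer (V : Set G)) [hn : ((Subgroup.centralizer (V : Set G)).subgroupOf H).Normal] : Cfsg.IsPClosed p ↥(H ⊓ Subgroup.centralizer (V : Set G)) ∧ (∀ T : Subgroup G, T ≤ H → IsPGroup p ↥T → T ⊓ Subgroup.centralizer (V : Set G) ≤ Cfsg.pCoreOf p H) ∧ (Cfsg.pCoreOf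 p H ≤ Subgroup.centralizer (V : Set G) → (∀ T : Subgroup G, T ≤ H → IsPGroup p ↥T → T ⊓ Subgroup.centralizer (V : Set G) = T ⊓ Cfsg.pCoreOf p H) ∧ Cfsg.pCore p (↥H ⧸ (Subgroup.centralizer (V : Set G)).subgroupOf H) = ⊥) := by
  set C := H ⊓ Subgroup.centralizer (V : Set G) with hC
  have hCn : H ≤ Subgroup.normalizer (C : Set G) :=
    (le_inf Subgroup.le_normalizer (hHV.trans (H52.Syl.normalizer_le_normalizer_centralizer _))).trans
      H52.Syl.normalizer_inf_le
  -- normal subgroups of H, relative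
  have hirr : ∀ N : Subgroup G, N ≤ H → H ≤ Subgroup.normalizer (N : Set G) → ¬ Cfsg.IsPClosed p N →
      H52.PRes.resOf p H ≤ N := by
    intro N hN hn hc
    have h1 := hH.2 (N.subgroupOf H) ((H52.PCore.normal_subOf_iff hN).2 hn) (by
      intro h
      apply hc
      rw [H52.Irr.isPClosed_iff]
      intro Q hQ hp
      have hQ' : Q.subgroupOf H ≤ N.subgroupOf H := Subgroup.subgroupOf_mono H hQ
      have h2 := (H52.Irr.isPClosed_iff (K := N.subgroupOf H)).1 h _ hQ' hp.comap_subtype
      have h3 : (Cfsg.pCoreOf p (N.subgroupOf H)).map H.subtype ≤ Cfsg.pCoreOf p N := by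
        apply H52.PCore.le_pCoreOf
        · have := Subgroup.map_mono (f := H.subtype) (H52.PCore.pCoreOf_le (p := p) (N.subgroupOf H))
          rwa [Subgroup.map_subgroupOf_eq_of_le hN] at this
        · have := (H52.YL2.le_normalizer_map_iff H.subtype_injective).2
            (H52.PCore.le_normalizer_pCoreOf (p := p) (N.subgroupOf H))
          rwa [Subgroup.map_subgroupOf_eq_of_le hN] at this
        · exact (H52.PCore.isPGroup_pCoreOf _).map _
      have h4 := (Subgroup.map_mono (f := H.subtype) h2).trans h3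
      rwa [Subgroup.map_subgroupOf_eq_of_le (hQ.trans hN)] at h4)
    have := Subgroup.map_mono (f := H.subtype) h1
    rwa [Subgroup.map_subgroupOf_eq_of_le hN] at this
  have hCc : Cfsg.IsPClosed p C := by
    by_contra hc
    exact hnc ((hirr C inf_le_left hCn hc).trans inf_le_right)
  have hT : ∀ T : Subgroup G, T ≤ H → IsPGroup p T →
      T ⊓ Subgroup.centralizer (V : Set G) ≤ Cfsg.pCoreOf p H := by
    intro T hTH hp
    refine le_trans ?_ (H52.PCore.pCoreOf_le_of_normal hCn inf_le_left)
    exact (H52.Irr.isPClosed_iff.1 hCc) _ (inf_le_inf_right _ hTH) (hp.to_le inf_le_left)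
  refine ⟨hCc, hT, fun hO => ⟨fun T hTH hp => ?_, ?_⟩⟩
  · apply le_antisymm
    · exact le_inf inf_le_left (hT T hTH hp)
    · exact le_inf inf_le_left (inf_le_right.trans hO)
  · rw [H52.PCore.pCore_quotient_eq_bot_iff]
    intro D hD hm
    have hDG : H ≤ Subgroup.normalizer ((D.map H.subtype : Subgroup G) : Set G) := by
      have h1 := H52.PCore.normal_iff_top_le_normalizer.1 hD
      rw [H52.Red.map_subtype_le_normalizer, ← MonoidHom.range_eq_map, Subgroup.range_subtype] at h1
      exact h1
    set E := D.map H.subtype with hE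
    have hEH : E ≤ H := Subgroup.map_subtype_le _
    have hm' : H52.PCore.PMod p E (Subgroup.centralizer (V : Set G)) := by
      rintro _ ⟨x, hx, rfl⟩
      obtain ⟨k, hk⟩ := hm x hx
      exact ⟨k, by simpa [Subgroup.mem_subgroupOf] using hk⟩
    have hEc : Cfsg.IsPClosed p E := by
      by_contra hc
      have h1 := hirr E hEH hDG hc
      apply hnc
      have h2 := H52.PRes.resOf_mono (p := p) h1
      rw [H52.PRes.resOf_resOf] at h2
      exact h2.trans (H52.PRes.resOf_le_of_pMod hm')
    obtain ⟨T, hTE⟩ := H52.Syl.exists_sylIn (p := p) E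
    have h1 : T ≤ Subgroup.centralizer (V : Set G) :=
      ((H52.Irr.isPClosed_iff.1 hEc) T hTE.le hTE.isPGroup).trans
        ((H52.PCore.pCoreOf_le_of_normal hDG hEH).trans hO)
    have h2 : E ≤ Subgroup.centralizer (V : Set G) :=
      (hTE.le_sup_of_pMod hm').trans (sup_le h1 le_rfl)
    intro x hx
    exact h2 ⟨x, hx, rfl⟩

end Cfsg.Agent.S2830
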