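import Cfsg.Statements.S2832
import Cfsg.Agent.Lib.H52.Irr

set_option autoImplicit false
open Cfsg

namespace Cfsg.Agent.S2832

/-- Let H be a finite group with Sylow p-subgroup T such that H is T-minimal (generated by the conjugates of T, with T in exactly one maximal subgroup), and let N be a normal subgroup of H. Then either H/N is a p-group or H/N is minimal over the image of T in the same sense. -/
theorem result {H : Type*} [Group H] [Finite H] {p : ℕ} [Fact p.Prime] (T : Sylow p H) (hmin : Cfsg.IsMinimalOver (T : Subgroup H)) (N : Subgroup H) [N.Normal] : IsPGroup p (H ⧸ N) ∨ Cfsg.IsMinimalOver ((T : Subgroup H).map (QuotientGroup.mk' N)) := by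
  set f := QuotientGroup.mk' N with hf
  have hfs : Function.Surjective f := QuotientGroup.mk'_surjective N
  by_cases h : N ⊔ (T : Subgroup H) = ⊤
  · left
    have h1 := H52.PRes.pMod_of_sup (p := p) T.isPGroup' (C := N)
      (le_top.trans (H52.PCore.normal_iff_top_le_normalizer.1 inferInstance))
    rw [sup_comm, h, H52.PCore.pMod_iff_quotient,
      Subgroup.map_top_of_surjective _ (QuotientGroup.mk'_surjective N)] at h1
    exact h1.of_equiv Subgroup.topEquiv
  · right
    obtain ⟨M, hM, hTM⟩ := H52.Irr.exists_coatom_of_minimal hmin
    have hNM : N ⊔ (T : Subgroup H) ≤ M := H52.Irr.le_of_minimal hmin hM hTM le_sup_right h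
    have hker : f.ker ≤ M := by rw [hf, QuotientGroup.ker_mk']; exact le_sup_left.trans hNM
    have hcm : (M.map f).comap f = M := by
      rw [Subgroup.comap_map_eq, sup_eq_left.2 hker]
    refine ⟨?_, M.map f, ⟨?_, Subgroup.map_mono hTM⟩, ?_⟩
    · rw [eq_top_iff, ← Subgroup.map_top_of_surjective f hfs, ← hmin.1, Subgroup.map_le_iff_le_comap]
      have : ((Subgroup.normalClosure (((T : Subgroup H).map f : Subgroup (H ⧸ N)) : Set (H ⧸ N))).comap f).Normal :=
        inferInstance
      apply Subgroup.normalClosure_le_normal
      intro x hx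
      exact Subgroup.subset_normalClosure ⟨x, hx, rfl⟩
    · constructor
      · intro h1
        apply hM.1
        rw [← hcm, h1, Subgroup.comap_top]
      · intro K hK
        have h1 : M < K.comap f := by
          refine lt_of_le_of_ne ?_ ?_
          · rw [← Subgroup.map_le_iff_le_comap]; exact hK.le
          · intro h2
            rw [h2, Subgroup.map_comap_eq_self_of_surjective hfs] at hK
            exact lt_irrefl _ hK
        have h2 := hM.2 _ h1
        rw [← Subgroup.map_comap_eq_self_of_surjective hfs K, h2, Subgroup.map_top_of_surjective f hfs]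
    · rintro K ⟨hK, hTK⟩
      have h1 : K.comap f ≠ ⊤ := by
        intro h2
        apply hK.1
        rw [← Subgroup.map_comap_eq_self_of_surjective hfs K, h2, Subgroup.map_top_of_surjective f hfs]
      have h2 : K.comap f ≤ M := H52.Irr.le_of_minimal hmin hM hTM
        (Subgroup.map_le_iff_le_comap.1 hTK) h1
      have h3 : K ≤ M.map f := by
        rw [← Subgroup.map_comap_eq_self_of_surjective hfs K]; exact Subgroup.map_mono h2
      by_contra hne
      have h4 := hK.2 _ (lt_of_le_of_ne h3 hne)
      apply hM.1
      rw [← hcm, h4, Subgroup.comap_top]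

end Cfsg.Agent.S2832
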