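import Cfsg.Statements.S2834
import Cfsg.Agent.Lib.H52.LL

set_option autoImplicit false
open Cfsg

namespace Cfsg.Agent.S2834

/-- The L-Lemma: let H be a finite group with Sylow p-subgroup T such that H is T-minimal (generated by the conjugates of T, T in exactly one maximal subgroup M), and let A ≤ T with A not contained in O_p(H). Then there is a subgroup L of H containing A·O_p(H) such that (a) A·O_p(L) lies in exactly one maximal subgroup L₀ of L, and L₀ = L ∩ gMg⁻¹ for some g ∈ H; (b) L = ⟨A, xAx⁻¹⟩·O_p(L) for every x ∈ L outside L₀. -/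
theorem result {H : Type*} [Group H] [Finite H] {p : ℕ} [Fact p.Prime] (T : Sylow p H) (hmin : Cfsg.IsMinimalOver (T : Subgroup H)) (M : Subgroup H) (hM : IsCoatom M ∧ (T : Subgroup H) ≤ M) (A : Subgroup H) (hAT : A ≤ (T : Subgroup H)) (hA : ¬ A ≤ Cfsg.pCore p H) : ∃ L : Subgroup H, A ⊔ Cfsg.pCore p H ≤ L ∧ ∃ L₀ : Subgroup H, A ⊔ (Cfsg.pCoreOf p L) ≤ L₀ ∧ L₀ < L ∧ (∀ X : Subgroup H, A ⊔ (Cfsg.pCoreOf p L) ≤ X → X < L → X ≤ L₀) ∧ (∃ g : H, L₀ = L ⊓ ((M : Subgroup H).map (MulAut.conj (g : H)).toMonoidHom)) ∧ ∀ x ∈ L, x ∉ L₀ → (A ⊔ ((A : Subgroup H).map (MulAut.conj (x : H)).toMonoidHom)) ⊔ (Cfsg.pCoreOf p L) = L := by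
  obtain ⟨hM1, hTM⟩ := hM
  have hTs := H52.Syl.sylIn_top T
  have hPM : H52.LL.PM p (⊤ : Subgroup H) M := by
    refine ⟨lt_top_iff_ne_top.2 hM1.1, ⟨T, hTs, hTM, lt_top_iff_ne_top.2 hM1.1, ?_⟩, ?_⟩
    · intro X hTX hX
      exact H52.Irr.le_of_minimal hmin hM1 hTM hTX hX.ne
    · intro x _ he
      have h1 := H52.Syl.mem_normalizer_of_cj_eq he
      rwa [H52.Irr.normalizer_eq_of_minimal hmin hM1 hTM] at h1
  have hO : Cfsg.pCoreOf p (⊤ : Subgroup H) = Cfsg.pCore p H := H52.PCore.pCoreOf_top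
  obtain ⟨L, L₀, h1, -, h3, h4, h5, ⟨g, -, h6⟩, h7⟩ :=
    H52.LL.main _ ⊤ M le_rfl hPM A le_top (T.isPGroup'.to_le hAT) (by rw [hO]; exact hA)
  rw [hO] at h1
  exact ⟨L, h1, L₀, h3, h4, h5, ⟨g, h6⟩, h7⟩

end Cfsg.Agent.S2834
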