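import Cfsg.Statements.S2835
import Cfsg.Agent.Lib.H52.Irr

set_option autoImplicit false
open Cfsg

namespace Cfsg.Agent.S2835

/-- Let L be a finite group, L₀ a maximal subgroup, T a Sylow p-subgroup of L₀ and Y ≤ T, and suppose L is Y-minimal (generated by the conjugates of Y, with Y in exactly one maximal subgroup, necessarily L₀). Then N_L(T) ≤ L₀, O_p(L) ≤ L₀ and T is a Sylow p-subgroup of L; N_L(L₀) = L₀; L = ⟨Y, gYg⁻¹⟩ for each g ∈ L outside L₀; and if Y is abelian then Y ∩ gYg⁻¹ = C_Y(L) for each such g. -/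
theorem result {L : Type*} [Group L] [Finite L] {p : ℕ} [Fact p.Prime] (L₀ : Subgroup L) (hL₀ : IsCoatom L₀) (T : Sylow p ↥L₀) (Y : Subgroup L) (hYT : Y ≤ (T : Subgroup ↥L₀).map L₀.subtype) (hmin : Cfsg.IsMinimalOver Y) : Subgroup.normalizer (((T : Subgroup ↥L₀).map L₀.subtype : Subgroup L) : Set L) ≤ L₀ ∧ Cfsg.pCore p L ≤ L₀ ∧ (∃ P : Sylow p L, (P : Subgroup L) = (T : Subgroup ↥L₀).map L₀.subtype) ∧ Subgroup.normalizer (L₀ : Set L) = L₀ ∧ (∀ g : L, g ∉ L₀ → Y ⊔ Y.map (MulAut.conj g).toMonoidHom = ⊤) ∧ (IsMulCommutative ↥Y → ∀ g : L, g ∉ L₀ → Y ⊓ Y.map (MulAut.conj g).toMonoidHom = Y ⊓ Subgroup.center L) := by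
  set S := (T : Subgroup ↥L₀).map L₀.subtype with hS
  have hSyl : H52.Syl.SylIn p S L₀ := H52.Syl.sylIn_map T
  have hYL₀ : Y ≤ L₀ := hYT.trans hSyl.le
  have hle : ∀ {X : Subgroup L}, Y ≤ X → X ≠ ⊤ → X ≤ L₀ := fun h1 h2 =>
    H52.Irr.le_of_minimal hmin hL₀ hYL₀ h1 h2
  have h1 : Subgroup.normalizer (S : Set L) ≤ L₀ := by
    apply hle (hYT.trans Subgroup.le_normalizer)
    intro h
    have h2 : S = ⊤ := H52.Irr.eq_top_of_normal_of_minimal hmin (Subgroup.normalizer_eq_top_iff.1 h) hYT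
    exact hL₀.1 (top_le_iff.1 (h2 ▸ hSyl.le))
  have h4 : Subgroup.normalizer (L₀ : Set L) = L₀ := H52.Irr.normalizer_eq_of_minimal hmin hL₀ hYL₀
  have h2 : Cfsg.pCore p L ≤ L₀ := by
    by_cases h : Y ⊔ Cfsg.pCore p L = ⊤
    · exfalso
      have hYp : IsPGroup p Y := hSyl.isPGroup.to_le hYT
      have hp : IsPGroup p (⊤ : Subgroup L) := by
        rw [← h]; exact hYp.to_sup_of_normal_right H52.PCore.isPGroup_pCore
      have hnil : Group.IsNilpotent L := (hp.of_equiv Subgroup.topEquiv).isNilpotent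
      have := Group.normalizerCondition_of_isNilpotent L₀ (lt_top_iff_ne_top.2 hL₀.1)
      rw [h4] at this
      exact lt_irrefl _ this
    · exact le_sup_right.trans (hle le_sup_left h)
  have h3 : H52.Syl.SylIn p S ⊤ := by
    refine H52.Syl.sylIn_of_max le_top hSyl.isPGroup ?_
    intro Q _ hQ hSQ
    by_contra hne
    have hlt : S < Q := lt_of_le_not_ge hSQ hne
    -- normalizer grows in Q
    have hnil : Group.IsNilpotent Q := hQ.isNilpotent
    have hlt' : S.subgroupOf Q < ⊤ := by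
      rw [lt_top_iff_ne_top]
      intro h
      rw [Subgroup.subgroupOf_eq_top] at h
      exact hne h
    have h5 := Group.normalizerCondition_of_isNilpotent (S.subgroupOf Q) hlt'
    have h6 : (Subgroup.normalizer (S.subgroupOf Q : Set Q)).map Q.subtype ≤ S := by
      have h7 : (Subgroup.normalizer (S.subgroupOf Q : Set Q)).map Q.subtype ≤
          Subgroup.normalizer (S : Set L) := by
        have := (H52.Red.map_subtype_le_normalizer (S.subgroupOf Q)
          (K := Subgroup.normalizer (S.subgroupOf Q : Set Q))).1 le_rfl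
        rwa [Subgroup.map_subgroupOf_eq_of_le hSQ] at this
      have h8 := hSyl.max (h7.trans h1) (hQ.to_le (Subgroup.map_subtype_le _)) (by
        have := Subgroup.map_mono (f := Q.subtype) h5.le
        rwa [Subgroup.map_subgroupOf_eq_of_le hSQ] at this)
      exact h8.le
    apply h5.not_ge
    intro x hx
    exact h6 ⟨x, hx, rfl⟩
  refine ⟨h1, h2, h3.exists_sylow, h4, ?_, ?_⟩
  · intro g hg
    exact H52.Irr.sup_cj_eq_top_of_minimal hmin hL₀ hYL₀ hg
  · intro hYc g hg
    have hsup := H52.Irr.sup_cj_eq_top_of_minimal hmin hL₀ hYL₀ hg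
    have hYY : Y ≤ Subgroup.centralizer (Y : Set L) := by
      intro x hx
      rw [Subgroup.mem_centralizer_iff]
      intro y hy
      exact congrArg Subtype.val (mul_comm' (⟨y, hy⟩ : Y) ⟨x, hx⟩)
    apply le_antisymm
    · refine le_inf inf_le_left ?_
      have h5 : Y ⊓ H52.Syl.cj g Y ≤ Subgroup.centralizer ((Y ⊔ H52.Syl.cj g Y : Subgroup L) : Set L) := by
        rw [H52.YL2.centralizer_sup]
        refine le_inf (inf_le_left.trans hYY) (inf_le_right.trans ?_)
        rw [← H52.Syl.cj_centralizer]; exact H52.Syl.cj_mono hYY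
      rw [hsup] at h5
      intro x hx
      have h6 := h5 hx
      rw [Subgroup.mem_centralizer_iff] at h6
      rw [Subgroup.mem_center_iff]
      intro y; exact h6 y (Subgroup.mem_top y)
    · refine le_inf inf_le_left ?_
      rintro x ⟨hx, hxc⟩
      refine ⟨x, hx, ?_⟩
      have := Subgroup.mem_center_iff.1 hxc g
      simp only [MulEquiv.coe_toMonoidHom, MulAut.conj_apply]
      rw [this]; group

end Cfsg.Agent.S2835
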