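import Cfsg.Statements.S2836
import Cfsg.Agent.Lib.H52.YMin

set_option autoImplicit false
open Cfsg

namespace Cfsg.Agent.S2836

/-- Let L be a finite group, L₀ a maximal subgroup, T a Sylow p-subgroup of L₀, Y ≤ T, and suppose L is Y-minimal. Let D be the intersection of the conjugates of L₀ (the core of L₀). Then D contains O_p(L) and D/O_p(L) is the Frattini subgroup of L/O_p(L), so D is p-closed; and every normal subgroup N of L contained in L₀ is p-closed with N/O_p(N) a nilpotent group of order prime to p. -/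
theorem result {L : Type*} [Group L] [Finite L] {p : ℕ} [Fact p.Prime] (L₀ : Subgroup L) (hL₀ : IsCoatom L₀) (T : Sylow p ↥L₀) (Y : Subgroup L) (hYT : Y ≤ (T : Subgroup ↥L₀).map L₀.subtype) (hmin : Cfsg.IsMinimalOver Y) : (Cfsg.pCore p L ≤ L₀.normalCore ∧ (L₀.normalCore).map (QuotientGroup.mk' (Cfsg.pCore p L)) = frattini (L ⧸ Cfsg.pCore p L) ∧ Cfsg.IsPClosed p ↥(L₀.normalCore)) ∧ ∀ (N : Subgroup L) [N.Normal], N ≤ L₀ → Cfsg.IsPClosed p ↥N ∧ Group.IsNilpotent (↥N ⧸ Cfsg.pCore p ↥N) ∧ (Nat.card (↥N ⧸ Cfsg.pCore p ↥N)).Coprime p := by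
  have hYL₀ : Y ≤ L₀ := hYT.trans (Subgroup.map_subtype_le _)
  have hYp : IsPGroup p Y := (T.isPGroup'.map _).to_le hYT
  have hO : Cfsg.pCore p L ≤ L₀ := H52.YMin.pCore_le_of_minimal hmin hL₀ hYL₀ hYp
  have hOc : Cfsg.pCore p L ≤ L₀.normalCore := Subgroup.normal_le_normalCore.2 hO
  have hcl : ∀ (N : Subgroup L) [N.Normal], N ≤ L₀ → Cfsg.IsPClosed p ↥N := fun N hN hNL =>
    H52.YMin.isPClosed_of_le_of_minimal hmin hL₀ hYL₀ hYp hN hNL
  obtain ⟨f, hf⟩ : ∃ f : L →* L ⧸ Cfsg.pCore p L, f = QuotientGroup.mk' (Cfsg.pCore p L) := ⟨_, rfl⟩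
  have hker : f.ker = Cfsg.pCore p L := hf ▸ QuotientGroup.ker_mk' _
  have hsurj : Function.Surjective f := hf ▸ QuotientGroup.mk'_surjective _
  have hfrat : ∀ (N : Subgroup L), N.Normal → N ≤ L₀ → N.map f ≤ frattini (L ⧸ Cfsg.pCore p L) := by
    intro N hN hNL
    refine le_iInf₂ fun U hU => ?_
    rw [Subgroup.map_le_iff_le_comap]
    apply H52.YMin.core_le_coatom hmin hL₀ hYL₀ hYp hN hNL (Subgroup.isCoatom_comap_of_surjective hsurj hU)
    intro x hx
    have hx' : f x = 1 := by rw [← MonoidHom.mem_ker, hker]; exact hx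
    rw [Subgroup.mem_comap, hx']
    exact one_mem _
  refine ⟨⟨hOc, ?_, hcl _ (Subgroup.normalCore_le L₀)⟩, ?_⟩
  · rw [← hf]
    apply le_antisymm (hfrat _ inferInstance (Subgroup.normalCore_le L₀))
    have h1 : (frattini (L ⧸ Cfsg.pCore p L)).comap f ≤ L₀.normalCore := by
      have hn : (frattini (L ⧸ Cfsg.pCore p L)).Normal := inferInstance
      have : ((frattini (L ⧸ Cfsg.pCore p L)).comap f).Normal := hn.comap f
      rw [Subgroup.normal_le_normalCore]
      have h2 : IsCoatom (L₀.map f) := by
        refine ⟨?_, ?_⟩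
        · intro h3
          apply hL₀.1
          have h4 := congrArg (Subgroup.comap f) h3
          rw [Subgroup.comap_map_eq, Subgroup.comap_top, hker, sup_eq_left.2 hO] at h4
          exact h4
        · intro K hK
          have h3 : L₀ < K.comap f := by
            refine lt_of_le_of_ne (Subgroup.map_le_iff_le_comap.1 hK.le) ?_
            intro h4
            apply hK.ne
            rw [h4, Subgroup.map_comap_eq_self_of_surjective hsurj]
          have h4 := hL₀.2 _ h3
          rw [← Subgroup.map_comap_eq_self_of_surjective hsurj K, h4, Subgroup.map_top_of_surjective f hsurj]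
      have h3 : frattini (L ⧸ Cfsg.pCore p L) ≤ L₀.map f := frattini_le_coatom h2
      have h4 := Subgroup.comap_mono (f := f) h3
      rwa [Subgroup.comap_map_eq, hker, sup_eq_left.2 hO] at h4
    calc frattini (L ⧸ Cfsg.pCore p L) = ((frattini (L ⧸ Cfsg.pCore p L)).comap f).map f :=
          (Subgroup.map_comap_eq_self_of_surjective hsurj _).symm
      _ ≤ _ := Subgroup.map_mono h1
  · intro N hN hNL
    have hc := hcl N hNL
    refine ⟨hc, ?_, ?_⟩
    · -- the map to the Frattini subgroup
      have h1 := hfrat N hN hNL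
      let g : N →* frattini (L ⧸ Cfsg.pCore p L) := (f.comp N.subtype).codRestrict _
        (fun x => h1 (Subgroup.mem_map_of_mem f x.2))
      have hg : g.ker = Cfsg.pCore p N := by
        ext x
        rw [MonoidHom.mem_ker]
        have h2 : g x = 1 ↔ (x : L) ∈ Cfsg.pCore p L := by
          have h2' : (x : L) ∈ Cfsg.pCore p L ↔ f x = 1 := by
            rw [← MonoidHom.mem_ker, hker]
          rw [h2']
          constructor
          · intro h; exact congrArg Subtype.val h
          · intro h; exact Subtype.ext h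
        rw [h2]
        have h3 := H52.PCore.pCoreOf_eq_inf_of_subnormal (p := p) hN.isSubnormal
        constructor
        · intro h
          have h4 : (x : L) ∈ Cfsg.pCoreOf p N := by rw [h3]; exact Subgroup.mem_inf.2 ⟨x.2, h⟩
          obtain ⟨y, hy, hyx⟩ := h4
          have : y = x := Subtype.ext hyx
          rw [← this]; exact hy
        · intro h
          have h4 : (x : L) ∈ Cfsg.pCoreOf p N := Subgroup.mem_map_of_mem N.subtype h
          rw [h3] at h4
          exact (Subgroup.mem_inf.1 h4).2
      have hnil : Group.IsNilpotent (frattini (L ⧸ Cfsg.pCore p L)) := frattini_nilpotent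
      let ψ : N ⧸ Cfsg.pCore p N →* frattini (L ⧸ Cfsg.pCore p L) :=
        QuotientGroup.lift (Cfsg.pCore p N) g (fun x hx => by
          show x ∈ g.ker
          rw [hg]; exact hx)
      refine Subgroup.isNilpotent_of_ker_le_center ψ ?_
      intro x hx
      obtain ⟨y, rfl⟩ := QuotientGroup.mk_surjective x
      have h3 : g y = 1 := hx
      rw [← MonoidHom.mem_ker, hg] at h3
      rw [(QuotientGroup.eq_one_iff y).2 h3]
      exact one_mem _
    · obtain ⟨P⟩ : Nonempty (Sylow p N) := inferInstance
      have hP : (P : Subgroup N) = Cfsg.pCore p N := by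
        apply le_antisymm
        · exact H52.PCore.le_pCore (hc P) P.isPGroup'
        · exact H52.PCore.pCore_le_sylow P
      have h1 : Nat.card (N ⧸ Cfsg.pCore p N) = (P : Subgroup N).index := by
        rw [hP]; rfl
      rw [h1, Nat.coprime_comm]
      exact (Nat.Prime.coprime_iff_not_dvd Fact.out).2 P.not_dvd_index

end Cfsg.Agent.S2836
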