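import Cfsg.Statements.S2837
import Cfsg.Agent.Lib.H52.YMin
import Cfsg.Agent.Lib.H1.Frat

set_option autoImplicit false
open Cfsg

namespace Cfsg.Agent.S2837

/-- product of elements of order `p` modulo central commutators -/
theorem pow_mem_of_comm {G : Type*} [Group G] {p : ℕ} {N : Subgroup G} [N.Normal] {x y : G}
    (hc : x * y * x⁻¹ * y⁻¹ ∈ N) (hx : x ^ p = 1) (hy : y ^ p = 1) : (x * y) ^ p ∈ N := by
  have hker : (QuotientGroup.mk' N).ker = N := QuotientGroup.ker_mk' N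
  rw [← hker, MonoidHom.mem_ker, map_pow, map_mul]
  have h1 : Commute (QuotientGroup.mk' N x) (QuotientGroup.mk' N y) := by
    have h2 : QuotientGroup.mk' N (x * y * x⁻¹ * y⁻¹) = 1 := by
      rw [← MonoidHom.mem_ker, hker]; exact hc
    simp only [map_mul, map_inv] at h2
    rw [mul_inv_eq_one, mul_inv_eq_iff_eq_mul] at h2
    exact h2
  rw [h1.mul_pow, ← map_pow, ← map_pow, hx, hy, map_one, one_mul]

/-- Let L be a finite group of characteristic p, L₀ a maximal subgroup, Y an elementary abelian p-subgroup of L₀ with L Y-minimal and O_p(L) ≤ N_L(Y). Put A = the normal closure of O_p(L) ∩ Y in L. Then for every g ∈ L outside L₀: Φ(A) = A' = [A ∩ Y, A] = [A ∩ Y, A ∩ gYg⁻¹] ≤ C_Y(L), and Y ∩ gYg⁻¹ = (A ∩ Y) ∩ (A ∩ gYg⁻¹) = C_Y(L) = C_A(L). -/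
theorem result {L : Type*} [Group L] [Finite L] {p : ℕ} [Fact p.Prime] (hchar : Subgroup.centralizer (Cfsg.pCore p L : Set L) ≤ Cfsg.pCore p L) (L₀ : Subgroup L) (hL₀ : IsCoatom L₀) (Y : Subgroup L) (hYL₀ : Y ≤ L₀) (hYel : Cfsg.IsElementaryAbelian p Y) (hmin : Cfsg.IsMinimalOver Y) (hOY : Cfsg.pCore p L ≤ Subgroup.normalizer (Y : Set L)) (A : Subgroup L) (hA : A = Subgroup.normalClosure (((Cfsg.pCore p L ⊓ Y : Subgroup L)) : Set L)) (g : L) (hg : g ∉ L₀) : (frattini ↥A).map A.subtype = ⁅A, A⁆ ∧ ⁅A, A⁆ = ⁅A ⊓ Y, A⁆ ∧ ⁅A ⊓ Y, A⁆ = ⁅A ⊓ Y, A ⊓ Y.map (MulAut.conj g).toMonoidHom⁆ ∧ ⁅A ⊓ Y, A⁆ ≤ Y ⊓ Subgroup.center L ∧ Y ⊓ Y.map (MulAut.conj g).toMonoidHom = Y ⊓ Subgroup.center L ∧ (A ⊓ Y) ⊓ (A ⊓ Y.map (MulAut.conj g).toMonoidHom) = Y ⊓ Subgroup.center L ∧ A ⊓ Subgroup.center L = Y ⊓ Subgroup.center L := by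
  have hYp : IsPGroup p Y := H52.Red.elem_isPGroup hYel
  have hYc : Y ≤ Subgroup.centralizer (Y : Set L) := H52.Red.elem_comm hYel
  obtain ⟨Y', hY'⟩ : ∃ Y' : Subgroup L, Y' = H52.Syl.cj g Y := ⟨_, rfl⟩
  have hconj : Y.map (MulAut.conj g).toMonoidHom = Y' := hY'.symm
  rw [hconj]
  have hY'el : Cfsg.IsElementaryAbelian p Y' := by rw [hY']; exact H52.Red.elem_map hYel _
  have hY'c : Y' ≤ Subgroup.centralizer (Y' : Set L) := H52.Red.elem_comm hY'el
  have htop : Y ⊔ Y' = ⊤ := by rw [hY']; exact H52.Irr.sup_cj_eq_top_of_minimal hmin hL₀ hYL₀ hg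
  obtain ⟨O, hO⟩ : ∃ O : Subgroup L, O = Cfsg.pCore p L := ⟨_, rfl⟩
  rw [← hO] at hOY hA
  have hOn : O.Normal := hO ▸ inferInstance
  have hOp : IsPGroup p O := hO ▸ H52.PCore.isPGroup_pCore
  have hnO : ∀ X : Subgroup L, X ≤ Subgroup.normalizer (O : Set L) := fun X =>
    le_top.trans (H52.PCore.normal_iff_top_le_normalizer.1 hOn)
  have hOY' : O ≤ Subgroup.normalizer (Y' : Set L) := by
    rw [hY', ← H52.Syl.cj_normalizer, H52.Syl.le_cj_iff, H52.Syl.cj_normal hOn]
    exact hOY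
  -- the two halves of `A`
  obtain ⟨B, hB⟩ : ∃ B : Subgroup L, B = O ⊓ Y := ⟨_, rfl⟩
  obtain ⟨B', hB'⟩ : ∃ B' : Subgroup L, B' = O ⊓ Y' := ⟨_, rfl⟩
  have hBB' : B' = H52.Syl.cj g B := by rw [hB, hB', hY', H52.Syl.cj_inf, H52.Syl.cj_normal hOn]
  have hBn : O ≤ Subgroup.normalizer (B : Set L) := by
    rw [hB]; intro x hx
    exact H52.Syl.normalizer_inf_le (Subgroup.mem_inf.2 ⟨Subgroup.le_normalizer hx, hOY hx⟩)
  have hB'n : O ≤ Subgroup.normalizer (B' : Set L) := by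
    rw [hB']; intro x hx
    exact H52.Syl.normalizer_inf_le (Subgroup.mem_inf.2 ⟨Subgroup.le_normalizer hx, hOY' hx⟩)
  have hOYB : ⁅O, Y⁆ ≤ B := by
    rw [hB]
    refine le_inf ?_ ?_
    · exact Subgroup.le_normalizer_iff_commutator_le_left.1 (hnO Y)
    · rw [Subgroup.commutator_comm]; exact Subgroup.le_normalizer_iff_commutator_le_left.1 hOY
  have hOYB' : ⁅O, Y'⁆ ≤ B' := by
    rw [hB']
    refine le_inf ?_ ?_
    · exact Subgroup.le_normalizer_iff_commutator_le_left.1 (hnO Y')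
    · rw [Subgroup.commutator_comm]; exact Subgroup.le_normalizer_iff_commutator_le_left.1 hOY'
  have hBO : B ≤ O := hB ▸ inf_le_left
  have hB'O : B' ≤ O := hB' ▸ inf_le_left
  have hsupn : (B ⊔ B').Normal := by
    rw [H52.PCore.normal_iff_top_le_normalizer, ← htop]
    refine sup_le ?_ ?_
    · rw [Subgroup.le_normalizer_iff_commutator_le_left]
      exact (Subgroup.commutator_mono (sup_le hBO hB'O) le_rfl).trans (hOYB.trans le_sup_left)
    · rw [Subgroup.le_normalizer_iff_commutator_le_left]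
      exact (Subgroup.commutator_mono (sup_le hBO hB'O) le_rfl).trans (hOYB'.trans le_sup_right)
  have hAeq : A = B ⊔ B' := by
    rw [hA, ← hB]
    apply le_antisymm
    · exact Subgroup.normalClosure_le_normal (SetLike.coe_subset_coe.2 (le_sup_left : B ≤ B ⊔ B'))
    · refine sup_le Subgroup.subset_normalClosure ?_
      rw [hBB']
      have : (Subgroup.normalClosure (B : Set L)).Normal := inferInstance
      calc H52.Syl.cj g B ≤ H52.Syl.cj g (Subgroup.normalClosure (B : Set L)) :=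
            H52.Syl.cj_mono Subgroup.subset_normalClosure
        _ = _ := H52.Syl.cj_normal this
  have hAn : A.Normal := hAeq ▸ hsupn
  have hAO : A ≤ O := by rw [hAeq]; exact sup_le hBO hB'O
  have hBA : B ≤ A := hAeq ▸ le_sup_left
  have hB'A : B' ≤ A := hAeq ▸ le_sup_right
  have hAY : A ⊓ Y = B := by
    apply le_antisymm
    · rw [hB]; exact inf_le_inf_right _ hAO
    · exact le_inf hBA (hB ▸ inf_le_right)
  have hAY' : A ⊓ Y' = B' := by
    apply le_antisymm
    · rw [hB']; exact inf_le_inf_right _ hAO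
    · exact le_inf hB'A (hB' ▸ inf_le_right)
  rw [hAY, hAY']
  have hBY : B ≤ Y := hB ▸ inf_le_right
  have hB'Y : B' ≤ Y' := hB' ▸ inf_le_right
  have hBab : ⁅B, B⁆ = ⊥ := by
    rw [Subgroup.commutator_eq_bot_iff_le_centralizer]
    exact hBY.trans (hYc.trans (Subgroup.centralizer_le hBY))
  have hB'ab : ⁅B', B'⁆ = ⊥ := by
    rw [Subgroup.commutator_eq_bot_iff_le_centralizer]
    exact hB'Y.trans (hY'c.trans (Subgroup.centralizer_le hB'Y))
  -- the centre
  have hcen : ∀ x : L, x ∈ Subgroup.centralizer (Y : Set L) → x ∈ Subgroup.centralizer (Y' : Set L) →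
      x ∈ Subgroup.center L := by
    intro x h1 h2
    have h3 : (⊤ : Subgroup L) ≤ Subgroup.centralizer ({x} : Set L) := by
      rw [← htop]
      refine sup_le ?_ ?_
      · intro y hy
        rw [Subgroup.mem_centralizer_iff]
        rintro _ rfl
        exact (Subgroup.mem_centralizer_iff.1 h1 y hy).symm
      · intro y hy
        rw [Subgroup.mem_centralizer_iff]
        rintro _ rfl
        exact (Subgroup.mem_centralizer_iff.1 h2 y hy).symm
    rw [Subgroup.mem_center_iff]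
    intro y
    exact (Subgroup.mem_centralizer_iff.1 (h3 (Subgroup.mem_top y)) x rfl).symm
  obtain ⟨Z, hZ⟩ : ∃ Z : Subgroup L, Z = Y ⊓ Subgroup.center L := ⟨_, rfl⟩
  rw [← hZ]
  have hZY' : Z ≤ Y' := by
    rw [hZ, hY', H52.Syl.le_cj_iff]
    calc H52.Syl.cj g⁻¹ (Y ⊓ Subgroup.center L) = Y ⊓ Subgroup.center L := by
          apply H52.Syl.cj_normal
          refine ⟨fun n hn x => ?_⟩
          have h1 := Subgroup.mem_center_iff.1 (Subgroup.mem_inf.1 hn).2 x
          rw [h1, mul_inv_cancel_right]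
          exact hn
      _ ≤ Y := inf_le_left
  have hYY' : Y ⊓ Y' = Z := by
    rw [hZ]
    apply le_antisymm
    · intro x hx
      obtain ⟨h1, h2⟩ := Subgroup.mem_inf.1 hx
      exact Subgroup.mem_inf.2 ⟨h1, hcen x (hYc h1) (hY'c h2)⟩
    · refine le_inf inf_le_left ?_
      rw [← hZ]; exact hZY'
  have hZO : Z ≤ O := by
    rw [hO]
    apply H52.PCore.le_pCore
    · refine ⟨fun n hn x => ?_⟩
      have h1 := Subgroup.mem_center_iff.1 (Subgroup.mem_inf.1 (hZ ▸ hn)).2 x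
      rw [h1, mul_inv_cancel_right]
      exact hn
    · rw [hZ]; exact hYp.to_le inf_le_left
  have hZY : Z ≤ Y := hZ ▸ inf_le_left
  have hZB : Z ≤ B := by rw [hB]; exact le_inf hZO hZY
  have hZB' : Z ≤ B' := by rw [hB']; exact le_inf hZO hZY'
  have hBBZ : B ⊓ B' = Z := by
    apply le_antisymm
    · rw [← hYY']; exact inf_le_inf hBY hB'Y
    · exact le_inf hZB hZB'
  have hcommZ : ⁅B, B'⁆ ≤ Z := by
    rw [← hBBZ]
    refine le_inf ?_ ?_
    · exact Subgroup.le_normalizer_iff_commutator_le_left.1 (hB'O.trans hBn)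
    · rw [Subgroup.commutator_comm]; exact Subgroup.le_normalizer_iff_commutator_le_left.1 (hBO.trans hB'n)
  have hZcen : Z ≤ Subgroup.center L := hZ ▸ inf_le_right
  -- `D = [B, B']` is central, normal
  obtain ⟨D, hD⟩ : ∃ D : Subgroup L, D = ⁅B, B'⁆ := ⟨_, rfl⟩
  rw [← hD] at hcommZ ⊢
  have hDn : D.Normal := by
    refine ⟨fun n hn x => ?_⟩
    have h1 := Subgroup.mem_center_iff.1 (hZcen (hcommZ hn)) x
    rw [h1, mul_inv_cancel_right]
    exact hn
  have hDnX : ∀ X : Subgroup L, X ≤ Subgroup.normalizer (D : Set L) := fun X =>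
    le_top.trans (H52.PCore.normal_iff_top_le_normalizer.1 hDn)
  have hBA' : ⁅B, A⁆ = D := by
    apply le_antisymm
    · rw [← H52.Sub.le_cmod_iff (hDnX A), hAeq]
      refine sup_le ?_ ?_
      · rw [H52.Sub.le_cmod_iff (hDnX B), hBab]; exact bot_le
      · rw [H52.Sub.le_cmod_iff (hDnX B'), hD]
    · rw [hD]; exact Subgroup.commutator_mono le_rfl hB'A
  have hB'A' : ⁅B', A⁆ ≤ D := by
    rw [← H52.Sub.le_cmod_iff (hDnX A), hAeq]
    refine sup_le ?_ ?_
    · rw [H52.Sub.le_cmod_iff (hDnX B), hD, Subgroup.commutator_comm]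
    · rw [H52.Sub.le_cmod_iff (hDnX B'), hB'ab]; exact bot_le
  have hAA : ⁅A, A⁆ = D := by
    apply le_antisymm
    · conv_lhs => rw [hAeq, Subgroup.commutator_comm, ← hAeq]
      rw [← H52.Sub.le_cmod_iff (hDnX A)]
      conv_lhs => rw [hAeq]
      refine sup_le ?_ ?_
      · rw [H52.Sub.le_cmod_iff (hDnX B), Subgroup.commutator_comm, hBA']
      · rw [H52.Sub.le_cmod_iff (hDnX B'), Subgroup.commutator_comm]; exact hB'A'
    · rw [← hBA']; exact Subgroup.commutator_mono hBA le_rfl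
  have hAp : IsPGroup p A := hOp.to_le hAO
  refine ⟨?_, ?_, ?_, ?_, hYY', hBBZ, ?_⟩
  · rw [hAA]
    apply le_antisymm
    · apply H52.Sub.map_frattini_le (p := p)
      · intro a ha b hb
        rw [← hAA]; exact Subgroup.commutator_mem_commutator ha hb
      · intro a ha
        rw [hAeq, H52.YL2.mem_sup_iff_of_le_normalizer (hBO.trans hB'n)] at ha
        obtain ⟨b, hb, b', hb', rfl⟩ := ha
        apply pow_mem_of_comm
        · rw [hD]; exact Subgroup.commutator_mem_commutator hb hb'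
        · exact (H52.Red.elem_iff.1 hYel).2 b (hBY hb)
        · exact (H52.Red.elem_iff.1 hY'el).2 b' (hB'Y hb')
    · have hnil : Group.IsNilpotent A := hAp.isNilpotent
      have h1 := Subgroup.map_mono (f := A.subtype) (H1.Frat.commutator_le_frattini (G := A))
      rw [← hAA]
      refine le_trans (le_of_eq ?_) h1
      rw [commutator_def, Subgroup.map_commutator, ← MonoidHom.range_eq_map, Subgroup.range_subtype]
  · rw [hAA, hBA']
  · rw [hBA']
  · rw [hBA']; exact hcommZ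
  · apply le_antisymm
    · intro a ha
      obtain ⟨ha1, ha2⟩ := Subgroup.mem_inf.1 ha
      have ha1' := ha1
      rw [hAeq, H52.YL2.mem_sup_iff_of_le_normalizer (hBO.trans hB'n)] at ha1'
      obtain ⟨b, hb, b', hb', rfl⟩ := ha1'
      have h1 : b' ∈ Subgroup.centralizer (Y : Set L) := by
        have h2 : b' = b⁻¹ * (b * b') := by group
        rw [h2]
        exact mul_mem (inv_mem (hYc (hBY hb))) (Subgroup.center_le_centralizer _ ha2)
      have h2 := hcen b' h1 (hY'c (hB'Y hb'))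
      have h3 : b' ∈ Z := by
        have h4 : b' ∈ H52.Syl.cj g⁻¹ Y' := by
          rw [H52.Syl.mem_cj, inv_inv]
          have h5 := Subgroup.mem_center_iff.1 h2 g
          rw [h5, mul_inv_cancel_right]
          exact hB'Y hb'
        rw [hY', H52.Syl.cj_inv_cj] at h4
        rw [hZ]; exact Subgroup.mem_inf.2 ⟨h4, h2⟩
      have h4 : b * b' ∈ Y := mul_mem (hBY hb) (hZY h3)
      rw [hZ]; exact Subgroup.mem_inf.2 ⟨h4, ha2⟩
    · exact le_inf (hZB.trans hBA) hZcen

end Cfsg.Agent.S2837
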