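import Cfsg.Statements.S2840
import Cfsg.Agent.Lib.H52.WC

set_option autoImplicit false
open Cfsg

namespace Cfsg.Agent.S2840

theorem conj_of_subnormal {G : Type*} [Group G] [Finite G] {p : ℕ} [Fact p.Prime] {Q X : Subgroup G}
    (hwc : H52.WC.WC p Q) (hQ : IsPGroup p Q) (hX : X.IsSubnormal) (hQX : Q ≤ X) (g : G) :
    H52.Syl.cj g Q ≤ X := by
  have key : ∀ X : Subgroup G, X.IsSubnormal → Q ≤ X → ∀ g : G, ∃ x ∈ X, H52.Syl.cj g Q = H52.Syl.cj x Q := by
    intro X hX
    induction hX with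
    | top => intro _ g; exact ⟨g, trivial, rfl⟩
    | step A B h_le _ hN ih =>
      intro hQA g
      obtain ⟨b, hb, he⟩ := ih (hQA.trans h_le) g
      rw [he]
      have h1 : H52.Syl.cj b Q ≤ A := by
        have h2 : b ∈ Subgroup.normalizer (A : Set G) := (H52.PCore.normal_subOf_iff h_le).1 hN hb
        calc H52.Syl.cj b Q ≤ H52.Syl.cj b A := H52.Syl.cj_mono hQA
          _ = A := H52.Syl.cj_eq_of_mem_normalizer h2
      exact hwc.conj hQ hQA h1
  obtain ⟨x, hx, he⟩ := key X hX hQX g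
  rw [he]
  calc H52.Syl.cj x Q ≤ H52.Syl.cj x X := H52.Syl.cj_mono hQX
    _ = X := H52.Syl.cj_of_mem hx

theorem subnormalClosure_eq {G : Type*} [Group G] [Finite G] {p : ℕ} [Fact p.Prime] {Q : Subgroup G}
    (hwc : H52.WC.WC p Q) (hQ : IsPGroup p Q) : Cfsg.subnormalClosure Q = H52.YL.ncl ⊤ Q := by
  apply le_antisymm
  · apply H52.Sub.subnormalClosure_le (H52.YL.le_ncl _ _)
    have : (H52.YL.ncl ⊤ Q).Normal :=
      H52.PCore.normal_iff_top_le_normalizer.2 (H52.YL.le_normalizer_ncl _ _)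
    exact this.isSubnormal
  · rw [H52.YL.ncl_le_iff]
    intro g _
    exact conj_of_subnormal hwc hQ (H52.Sub.isSubnormal_subnormalClosure Q) (H52.Sub.le_subnormalClosure Q) g

theorem wc_subgroupOf {H : Type*} [Group H] [Finite H] {p : ℕ} [Fact p.Prime] {Q : Subgroup H}
    (hwc : H52.WC.WC p Q) {K : Subgroup H} (hQK : Q ≤ K) : H52.WC.WC p (Q.subgroupOf K) := by
  have hcjm : ∀ (k : ↥K) (A : Subgroup ↥K), (H52.Syl.cj k A).map K.subtype = H52.Syl.cj (k : H) (A.map K.subtype) := by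
    intro k A
    unfold H52.Syl.cj
    rw [Subgroup.map_map, Subgroup.map_map]
    congr 1
  have hQmap : (Q.subgroupOf K).map K.subtype = Q := by
    rw [Subgroup.subgroupOf_map_subtype, inf_eq_left.2 hQK]
  intro R hR hQR g hg
  have h1 : H52.Syl.cj (g : H) Q = Q := by
    apply hwc (R.map K.subtype) (hR.map _)
    · rw [← hQmap]; exact Subgroup.map_mono hQR
    · rw [← hQmap, ← hcjm]; exact Subgroup.map_mono hg
  apply Subgroup.map_injective K.subtype_injective
  show (H52.Syl.cj g (Q.subgroupOf K)).map K.subtype = _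
  rw [hcjm, hQmap, h1]

/-- Let Q be a nontrivial p-subgroup of the finite group H that is a weakly closed subgroup and K a subgroup containing Q; let K° be the weak closure of Q in K (generated by the H-conjugates of Q inside K). Then K° is generated by the K-conjugates of Q, and K° is the subnormal closure of Q in K. -/
theorem result {H : Type*} [Group H] [Finite H] {p : ℕ} [Fact p.Prime] (Q : Subgroup H) (hQp : IsPGroup p ↥Q) (hQ1 : Q ≠ ⊥) (hwc : Cfsg.IsWeaklyClosedSubgroup p Q) (K : Subgroup H) (hQK : Q ≤ K) (Kc : Subgroup H) (hKc : Kc = Cfsg.weakClosure Q K) : Kc = ⨆ k : ↥K, ((Q : Subgroup H).map (MulAut.conj ((k : H) : H)).toMonoidHom) ∧ Kc = (Cfsg.subnormalClosure (Q.subgroupOf K)).map K.subtype := by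
  rw [H52.WC.iff_WC hQp] at hwc
  have h1 : Kc = H52.YL.ncl K Q := by rw [hKc]; exact hwc.weakClosure_eq_ncl hQp hQK
  refine ⟨?_, ?_⟩
  · rw [h1, H52.YL.ncl_eq_iSup]
  · rw [h1, subnormalClosure_eq (wc_subgroupOf hwc hQK) hQp.comap_subtype]
    rw [← H52.YL.normalClosure_eq_ncl, H52.YL.map_normalClosure_subgroupOf hQK]

end Cfsg.Agent.S2840
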