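import Cfsg.Statements.S2841
import Cfsg.Agent.Lib.H52.WC

set_option autoImplicit false
open Cfsg

namespace Cfsg.Agent.S2841

/-- Let Q be a nontrivial p-subgroup of the finite group H that is a weakly closed subgroup and N a normal subgroup of H. Then N = N_N(Q)·[N, Q] and [N, Q] = (Q ∩ [N, Q])·[N, Q, Q]. -/
theorem result {H : Type*} [Group H] [Finite H] {p : ℕ} [Fact p.Prime] (Q : Subgroup H) (hQp : IsPGroup p ↥Q) (hQ1 : Q ≠ ⊥) (hwc : Cfsg.IsWeaklyClosedSubgroup p Q) (N' : Subgroup H) [N'.Normal] : (∀ n : H, n ∈ N' → ∃ a ∈ N' ⊓ Subgroup.normalizer ((Q : Subgroup H) : Set H), ∃ b ∈ ⁅N', Q⁆, n = a * b) ∧ (∀ c : H, c ∈ ⁅N', Q⁆ → ∃ a ∈ Q ⊓ ⁅N', Q⁆, ∃ b ∈ ⁅⁅N', Q⁆, Q⁆, c = a * b) := by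
  rw [H52.WC.iff_WC hQp] at hwc
  have hNn : (⊤ : Subgroup H) ≤ Subgroup.normalizer (N' : Set H) := by
    rw [Subgroup.normalizer_eq_top_iff.2 inferInstance]
  obtain ⟨W, hW⟩ : ∃ W : Subgroup H, W = ⁅N', Q⁆ := ⟨_, rfl⟩
  have hWN : W ≤ N' := by rw [hW]; exact Subgroup.commutator_le_left N' Q
  have hNW : N' ≤ Subgroup.normalizer (W : Set H) := by
    rw [hW]; exact Subgroup.normalizer_commutator_ge_left N' Q
  have hQW : Q ≤ Subgroup.normalizer (W : Set H) := by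
    rw [hW]; exact Subgroup.normalizer_commutator_ge_right N' Q
  have h1 : N' ≤ Subgroup.normalizer ((Q ⊔ W : Subgroup H) : Set H) := by
    rw [hW, Subgroup.commutator_comm]
    exact H52.WC.le_normalizer_sup_commutator Q N'
  have part1 : ∀ n : H, n ∈ N' → ∃ a ∈ N' ⊓ Subgroup.normalizer ((Q : Subgroup H) : Set H), ∃ b ∈ W, n = a * b := by
    intro n hn
    obtain ⟨a, ha, m, hm, he⟩ := hwc.frattini hQp (M := Q ⊔ W) le_sup_left h1 (inv_mem hn)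
    -- n⁻¹ = m * a, so n = a⁻¹ * m⁻¹
    obtain ⟨q, hq, w, hw, hqw⟩ := (H52.YL2.mem_sup_iff_of_le_normalizer hQW).1 (inv_mem hm)
    have he' : n = (a⁻¹ * q) * w := by
      rw [mul_assoc, hqw, ← mul_inv_rev, ← he, inv_inv]
    refine ⟨a⁻¹ * q, Subgroup.mem_inf.2 ⟨?_, mul_mem (inv_mem ha) (Subgroup.le_normalizer hq)⟩, w, hw, he'⟩
    have : a⁻¹ * q = n * w⁻¹ := by rw [he']; group
    rw [this]
    exact mul_mem hn (inv_mem (hWN hw))
  rw [← hW]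
  refine ⟨part1, ?_⟩
  obtain ⟨E, hE⟩ : ∃ E : Subgroup H, E = ⁅W, Q⁆ := ⟨_, rfl⟩
  rw [← hE]
  have hQE : Q ≤ Subgroup.normalizer (E : Set H) := by
    rw [hE]; exact Subgroup.normalizer_commutator_ge_right W Q
  have hWE : W ≤ Subgroup.normalizer (E : Set H) := by
    rw [hE]; exact Subgroup.normalizer_commutator_ge_left W Q
  have haE : N' ⊓ Subgroup.normalizer ((Q : Subgroup H) : Set H) ≤ Subgroup.normalizer (E : Set H) := by
    rw [hE]
    intro a ha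
    obtain ⟨ha1, ha2⟩ := Subgroup.mem_inf.1 ha
    exact H52.Syl.normalizer_commutator_le (Subgroup.mem_inf.2 ⟨hNW ha1, ha2⟩)
  have key : W ≤ (Q ⊓ W) ⊔ E := by
    conv_lhs => rw [hW]
    rw [Subgroup.commutator_le]
    intro n hn q hq
    obtain ⟨a, ha, b, hb, rfl⟩ := part1 n hn
    obtain ⟨ha1, ha2⟩ := Subgroup.mem_inf.1 ha
    have h2 : a * b * q * (a * b)⁻¹ * q⁻¹ = (a * (b * q * b⁻¹ * q⁻¹) * a⁻¹) * (a * q * a⁻¹ * q⁻¹) := by group
    change a * b * q * (a * b)⁻¹ * q⁻¹ ∈ _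
    rw [h2]
    refine mul_mem (Subgroup.mem_sup_right ?_) (Subgroup.mem_sup_left (Subgroup.mem_inf.2 ⟨?_, ?_⟩))
    · have h3 : b * q * b⁻¹ * q⁻¹ ∈ E := by
        rw [hE]; exact Subgroup.commutator_mem_commutator hb hq
      exact (Subgroup.mem_normalizer_iff.1 (haE ha) _).1 h3
    · exact mul_mem ((Subgroup.mem_normalizer_iff.1 ha2 _).1 hq) (inv_mem hq)
    · rw [hW]; exact Subgroup.commutator_mem_commutator ha1 hq
  intro c hc
  obtain ⟨a, ha, b, hb, he⟩ := (H52.YL2.mem_sup_iff_of_le_normalizer (inf_le_left.trans hQE)).1 (key hc)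
  exact ⟨a, ha, b, hb, he.symm⟩

end Cfsg.Agent.S2841
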