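import Cfsg.Statements.S2844
import Cfsg.Agent.Lib.H52.WC

set_option autoImplicit false
open Cfsg

namespace Cfsg.Agent.S2844

/-- Let Q be a nontrivial large p-subgroup of the finite group H and Q• = O_p(N_H(Q)). Then for every g ∈ H outside N_H(Q): C_H(Q) ∩ C_H(gQg⁻¹) = 1, C_H(Q•) ∩ C_H(gQ•g⁻¹) = 1, Z(Q) ∩ Z(gQg⁻¹) = 1 and Z(Q•) ∩ Z(gQ•g⁻¹) = 1; moreover N_H(Q) = N_H(Q•) and Q• is large in H. -/
theorem result {H : Type*} [Group H] [Finite H] {p : ℕ} [Fact p.Prime] (Q : Subgroup H) (hQp : IsPGroup p ↥Q) (hQ1 : Q ≠ ⊥) (hL : Cfsg.IsLarge Q) (Qb : Subgroup H) (hQb : Qb = Cfsg.largeBullet p Q) : (∀ g : H, g ∉ Subgroup.normalizer ((Q : Subgroup H) : Set H) → Subgroup.centralizer ((Q : Subgroup H) : Set H) ⊓ Subgroup.centralizer ((((Q : Subgroup H).map (MulAut.conj (g : H)).toMonoidHom) : Subgroup H) : Set H) = ⊥ ∧ Subgroup.centralizer ((Qb : Subgroup H) : Set H) ⊓ Subgroup.centralizer ((((Qb : Subgroup H).map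 (MulAut.conj (g : H)).toMonoidHom) : Subgroup H) : Set H) = ⊥ ∧ (Q ⊓ Subgroup.centralizer ((Q : Subgroup H) : Set H)) ⊓ (((Q : Subgroup H).map (MulAut.conj (g : H)).toMonoidHom) ⊓ Subgroup.centralizer ((((Q : Subgroup H).map (MulAut.conj (g : H)).toMonoidHom) : Subgroup H) : Set H)) = ⊥ ∧ (Qb ⊓ Subgroup.centralizer ((Qb : Subgroup H) : Set H)) ⊓ (((Qb : Subgroup H).map (MulAut.conj (g : H)).toMonoidHom) ⊓ Subgroup.centralizer ((((Qb : Subgroup H).map (MulAut.conj (g : H)).toMonoidHom) : Subgroup H) : Set H)) = ⊥) ∧ Subgroup.normalizer ((Q : Subgroup H) : Set H) = Subgroup.normalizer ((Qb : Subgroup H) : Set H) ∧ Cfsg.IsLarge Qb := by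
  have hwc := H52.WC.wc_of_isLarge (p := p) hQ1 hL
  have hbp : IsPGroup p Qb := by rw [hQb]; exact H52.PCore.isPGroup_pCoreOf _
  have hQQb : Q ≤ Qb := by
    rw [hQb]; exact H52.PCore.le_pCoreOf Subgroup.le_normalizer le_rfl hQp
  have hN : Subgroup.normalizer ((Q : Subgroup H) : Set H) = Subgroup.normalizer ((Qb : Subgroup H) : Set H) := by
    apply le_antisymm
    · rw [hQb]; exact H52.PCore.le_normalizer_pCoreOf _
    · exact hwc.normalizer_le hbp hQQb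
  have hCb : Subgroup.centralizer (Qb : Set H) ≤ Subgroup.centralizer (Q : Set H) := Subgroup.centralizer_le hQQb
  have hLb : Cfsg.IsLarge Qb := by
    refine ⟨(hCb.trans hL.1).trans hQQb, ?_⟩
    intro U hU hU1
    rw [← hN]
    exact hL.2 U (hU.trans hCb) hU1
  refine ⟨?_, hN, hLb⟩
  intro g hg
  have h1 := H52.WC.centralizer_inf_eq_bot hQp hQ1 hL hg
  have h2 := H52.WC.centralizer_inf_eq_bot hbp (fun h0 => hQ1 (by rw [eq_bot_iff, ← h0]; exact hQQb)) hLb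
    (by rwa [← hN])
  refine ⟨h1, h2, ?_, ?_⟩
  · rw [eq_bot_iff, ← h1]; exact inf_le_inf inf_le_right inf_le_right
  · rw [eq_bot_iff, ← h2]; exact inf_le_inf inf_le_right inf_le_right

end Cfsg.Agent.S2844
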