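import Cfsg.Statements.S2846
import Cfsg.Agent.Lib.H52.FrakM
import Cfsg.Agent.S2845
import Cfsg.Agent.S2843

set_option autoImplicit false
open Cfsg

namespace Cfsg.Agent.S2846

/-- Let Q be a nontrivial large p-subgroup of the finite group H, S a Sylow p-subgroup containing Q, and L a subgroup containing S with O_p(L) ≠ 1 and C_H(O_p(L)) ≤ O_p(L). Then there are a subgroup M containing S having the basic property (M ∈ 𝔐_H, writing Y_X for the largest p-reduced normal subgroup of X and 𝓛_H for the set of subgroups X with O_p(X) ≠ 1 and C_H(O_p(X)) ≤ O_p(X): M ∈ 𝓛_H, M·C_H(Y_M) is the only maximal member of 𝓛_H containing M and its largest p-reduced normal subgroup is again Y_M, C_M(Y_M) is p-closed, and the image of C_M(Y_M) in M/O_p(M) lies in the Frattini subgroup of M/O_p(M)) and a subgroup L* with S ≤ L* ≤ M, O_p(L*) ≠ 1, C_H(O_p(L*)) ≤ O_p(L*), such that L·C_H(Y_L) = L*·C_H(Y_L), the weak closures of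 Q in L and in L* agree and lie in that of M, and Y_L = Y_{L*} ≤ Y_M. If moreover Q is not normal in L, then Q is normal in neither L* nor M. -/
theorem result {H : Type*} [Group H] [Finite H] {p : ℕ} [Fact p.Prime] (Q : Subgroup H) (hQp : IsPGroup p ↥Q) (hQ1 : Q ≠ ⊥) (hLg : Cfsg.IsLarge Q) (S : Sylow p H) (hQS : Q ≤ (S : Subgroup H)) (L : Subgroup H) (hSL : (S : Subgroup H) ≤ L) (hL : L ∈ Cfsg.charPSubgroups p H) : ∃ M Ls : Subgroup H, (S : Subgroup H) ≤ M ∧ Cfsg.IsInFrakM p M ∧ (S : Subgroup H) ≤ Ls ∧ Ls ≤ M ∧ Ls ∈ Cfsg.charPSubgroups p H ∧ L ⊔ Subgroup.centralizer (((Cfsg.largestPReducedOf p L) : Subgroup H) : Set H) = Ls ⊔ Subgroup.centralizer (((Cfsg.largestPReducedOf p L) : Subgroup H) : Set H) ∧ Cfsg.weakClosure Q L = Cfsg.weakClosure Q Ls ∧ Cfsg.weakClosure Q Ls ≤ Cfsg.weakClosure Q M ∧ (Cfsg.largestPReducedOf p L) = (Cfsg.largestPReducedOf p Ls) ∧ (Cfsg.largestPReducedOf p Ls) ≤ (Cfsg.largestPReducedOf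 p M) ∧ (¬ L ≤ Subgroup.normalizer ((Q : Subgroup H) : Set H) → ¬ Ls ≤ Subgroup.normalizer ((Q : Subgroup H) : Set H) ∧ ¬ M ≤ Subgroup.normalizer ((Q : Subgroup H) : Set H)) := by
  have hwc := H52.WC.wc_of_isLarge (p := p) hQ1 hLg
  have hST := H52.Syl.sylIn_top S
  have hS1 : (S : Subgroup H) ≠ ⊥ := by
    intro h0; apply hQ1; rw [eq_bot_iff, ← h0]; exact hQS
  have h2845 := (Cfsg.Agent.S2845.result Q hQp hQ1 hLg).2.1
  have hpar : ∀ R : Subgroup H, (S : Subgroup H) ≤ R → Cfsg.pCoreOf p R ≠ ⊥ →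
      Subgroup.centralizer (Cfsg.pCoreOf p R : Set H) ≤ Cfsg.pCoreOf p R := by
    intro R hR h1
    exact h2845 R ⟨S, hR⟩ (Cfsg.Agent.S2845.pCore_ne_bot_iff.2 h1)
  have hL1 := (H52.FrakM.mem_charPSubgroups_iff.1 hL).1
  obtain ⟨M, hSM, hM, Ls, hSLs, hLsM, hLs1, hfac, hY⟩ := H52.FrakM.exists_frakM hST hS1 hpar hSL hL1
  have hM1 := (H52.FrakM.mem_charPSubgroups_iff.1 hM.1).1
  have hmono : Cfsg.largestPReducedOf p Ls ≤ Cfsg.largestPReducedOf p M :=
    H52.FrakM.mono_Y (hST.of_le hSM le_top) hSLs hLsM (inf_le_right.trans (hpar M hSM hM1))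
  have hwcmono : Cfsg.weakClosure Q Ls ≤ Cfsg.weakClosure Q M := by
    rw [hwc.weakClosure_eq_ncl hQp (hQS.trans hSLs), hwc.weakClosure_eq_ncl hQp (hQS.trans hSM)]
    exact H52.YL.ncl_mono hLsM le_rfl
  have hYL := H52.Red.pRed_largestPReducedOf (p := p) L
  have hYLs := H52.Red.pRed_largestPReducedOf (p := p) Ls
  have hYL1 : Cfsg.largestPReducedOf p L ≠ ⊥ :=
    H52.FrakM.Y_ne_bot (hST.of_le hSL le_top) hS1 (inf_le_right.trans (hpar L hSL hL1))
  have hweq : Cfsg.weakClosure Q L = Cfsg.weakClosure Q Ls := by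
    have h1 := (Cfsg.Agent.S2843.result Q hQp hQ1 hLg L (hQS.trans hSL) _ hYL.isPGroup hYL1 hYL.norm).1
    have h2 := (Cfsg.Agent.S2843.result Q hQp hQ1 hLg Ls (hQS.trans hSLs) (Cfsg.largestPReducedOf p L)
      hYL.isPGroup hYL1 (by rw [hY]; exact hYLs.norm)).1
    rw [h1, h2, hfac]
  refine ⟨M, Ls, hSM, hM, hSLs, hLsM, H52.FrakM.mem_charPSubgroups_iff.2 ⟨hLs1, hpar Ls hSLs hLs1⟩, hfac, hweq,
    hwcmono, hY, hmono, ?_⟩
  intro hn
  have key : ¬ Ls ≤ Subgroup.normalizer ((Q : Subgroup H) : Set H) := by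
    intro h
    apply hn
    rw [hwc.weakClosure_eq_ncl hQp (hQS.trans hSL), hwc.weakClosure_eq_ncl hQp (hQS.trans hSLs),
      H52.YL.ncl_eq_self h] at hweq
    rw [← hweq]
    exact H52.YL.le_normalizer_ncl L Q
  exact ⟨key, fun h => key (hLsM.trans h)⟩

end Cfsg.Agent.S2846
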