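import Cfsg.Statements.S2847
import Cfsg.Agent.Lib.H52.FrakM

set_option autoImplicit false
open Cfsg

namespace Cfsg.Agent.S2847

/-- Let H be a finite group of parabolic characteristic p, T a Sylow p-subgroup and L a subgroup containing T with O_p(L) ≠ 1 and C_H(O_p(L)) ≤ O_p(L). Then there are M ≥ T with the basic property (M ∈ 𝔐_H) and L* with T ≤ L* ≤ M, O_p(L*) ≠ 1, C_H(O_p(L*)) ≤ O_p(L*), such that Y_L = Y_{L*} ≤ Y_M and L·C_H(Y_L) = L*·C_H(Y_L), Y denoting largest p-reduced normal subgroups. -/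
theorem result {H : Type*} [Group H] [Finite H] {p : ℕ} [Fact p.Prime] (hH : Cfsg.IsOfParabolicCharacteristic p H) (T : Sylow p H) (L : Subgroup H) (hTL : (T : Subgroup H) ≤ L) (hL : L ∈ Cfsg.charPSubgroups p H) : ∃ M Ls : Subgroup H, (T : Subgroup H) ≤ M ∧ Cfsg.IsInFrakM p M ∧ (T : Subgroup H) ≤ Ls ∧ Ls ≤ M ∧ Ls ∈ Cfsg.charPSubgroups p H ∧ (Cfsg.largestPReducedOf p L) = (Cfsg.largestPReducedOf p Ls) ∧ (Cfsg.largestPReducedOf p L) ≤ (Cfsg.largestPReducedOf p M) ∧ L ⊔ Subgroup.centralizer (((Cfsg.largestPReducedOf p L) : Subgroup H) : Set H) = Ls ⊔ Subgroup.centralizer (((Cfsg.largestPReducedOf p L) : Subgroup H) : Set H) := by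
  have hST := H52.Syl.sylIn_top T
  have hL1 := (H52.FrakM.mem_charPSubgroups_iff.1 hL).1
  have hS1 : (T : Subgroup H) ≠ ⊥ := by
    intro h0; apply hL1; rw [eq_bot_iff, ← h0]
    exact (hST.of_le hTL le_top).pCoreOf_le
  have hpar : ∀ R : Subgroup H, (T : Subgroup H) ≤ R → Cfsg.pCoreOf p R ≠ ⊥ →
      Subgroup.centralizer (Cfsg.pCoreOf p R : Set H) ≤ Cfsg.pCoreOf p R := by
    intro R hR h1
    obtain ⟨P, hP⟩ : ∃ P : Subgroup H, P = Cfsg.pCoreOf p R := ⟨_, rfl⟩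
    have hRN : R ≤ Subgroup.normalizer (P : Set H) := hP ▸ H52.PCore.le_normalizer_pCoreOf R
    have hPp : IsPGroup p P := hP ▸ H52.PCore.isPGroup_pCoreOf R
    have h2 := (H52.Cop.charP_iff _).1 (hH P hPp (hP ▸ h1) ⟨T, hR.trans hRN⟩)
    have h3 : Cfsg.pCoreOf p (Subgroup.normalizer (P : Set H)) = P := by
      apply le_antisymm
      · conv_rhs => rw [hP]
        refine H52.PCore.le_pCoreOf ((hST.of_le (hR.trans hRN) le_top).pCoreOf_le.trans hR) ?_
          (H52.PCore.isPGroup_pCoreOf _)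
        exact hRN.trans (H52.PCore.le_normalizer_pCoreOf _)
      · exact H52.PCore.le_pCoreOf Subgroup.le_normalizer le_rfl hPp
    rw [h3] at h2
    rw [← hP]
    exact (le_inf (H52.Syl.centralizer_le_normalizer P) le_rfl).trans h2
  obtain ⟨M, hSM, hM, Ls, hSLs, hLsM, hLs1, hfac, hY⟩ := H52.FrakM.exists_frakM hST hS1 hpar hTL hL1
  have hM1 := (H52.FrakM.mem_charPSubgroups_iff.1 hM.1).1
  have hmono : Cfsg.largestPReducedOf p Ls ≤ Cfsg.largestPReducedOf p M :=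
    H52.FrakM.mono_Y (hST.of_le hSM le_top) hSLs hLsM (inf_le_right.trans (hpar M hSM hM1))
  exact ⟨M, Ls, hSM, hM, hSLs, hLsM, H52.FrakM.mem_charPSubgroups_iff.2 ⟨hLs1, hpar Ls hSLs hLs1⟩, hY,
    hY ▸ hmono, hfac⟩

end Cfsg.Agent.S2847
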