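import Cfsg.Statements.S2849
import Mathlib
import Cfsg.Agent.Lib.H53.MSS2

set_option autoImplicit false
open Cfsg

namespace Cfsg.Agent.S2849

/-- Standing hypotheses: G a finite group, S a Sylow p-subgroup, Q a nontrivial large p-subgroup of G contained in S (C_G(Q) ≤ Q and N_G(U) ≤ N_G(Q) for all nontrivial U ≤ C_G(Q)), and M a subgroup containing S with the basic property (M ∈ 𝔐_G(S)); Y_M denotes the largest p-reduced normal subgroup of M and M† = M·C_G(Y_M). Suppose Y_M is asymmetric in G. Then for every subgroup R with Y_M ≤ R ≤ M†, the normal closure of Y_M in N_G(R) is elementary abelian. -/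
theorem result {G : Type*} [Group G] [Finite G] {p : ℕ} [Fact p.Prime] (S : Sylow p G) (Q : Subgroup G) (hQp : IsPGroup p ↥Q) (hQ1 : Q ≠ ⊥) (hQS : Q ≤ (S : Subgroup G)) (hQ : Cfsg.IsLarge Q) (M : Subgroup G) (hSM : (S : Subgroup G) ≤ M) (hM : Cfsg.IsInFrakM p M) (hasym : ¬ Cfsg.IsSymmetricIn (Cfsg.largestPReducedOf p M)) (R : Subgroup G) (hYR : (Cfsg.largestPReducedOf p M) ≤ R) (hRM : R ≤ (M ⊔ Subgroup.centralizer (((Cfsg.largestPReducedOf p M) : Subgroup G) : Set G))) : Cfsg.IsElementaryAbelian p ((Subgroup.normalClosure ((((Cfsg.largestPReducedOf p M)).subgroupOf (Subgroup.normalizer ((R : Subgroup G) : Set G)) : Subgroup ↥(Subgroup.normalizer ((R : Subgroup G) : Set G))) : Set ↥(Subgroup.normalizer ((R : Subgroup G) : Set G)))).map (Subgroup.normalizer ((R : Subgroup G) : Set G)).subtype) := by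
  have hs := H53.MSS.std_of_large S Q hQp hQ1 hQ M hSM hM
  obtain ⟨Y, hY⟩ : ∃ Y : Subgroup G, Y = Cfsg.largestPReducedOf p M := ⟨_, rfl⟩
  rw [← hY] at hs hasym hYR hRM ⊢
  have hYN : Y ≤ Subgroup.normalizer (R : Set G) := hYR.trans Subgroup.le_normalizer
  rw [H52.YL.map_normalClosure_subgroupOf hYN]
  have hRD := hRM.trans hs.D_le
  have h1 : ∀ g ∈ Subgroup.normalizer (R : Set G), H52.Syl.cj g Y ≤ R := by
    intro g hg
    calc H52.Syl.cj g Y ≤ H52.Syl.cj g R := H52.Syl.cj_mono hYR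
      _ = R := H52.Syl.cj_eq_of_mem_normalizer hg
  have h2 : ∀ g ∈ Subgroup.normalizer (R : Set G), H52.Syl.cj g Y ≤ Subgroup.centralizer (Y : Set G) := by
    intro g hg
    apply H53.MSS.asym_comm hasym
    · rw [← H52.Syl.cj_normalizer, H52.Syl.le_cj_iff]
      exact (h1 _ (inv_mem hg)).trans hRD
    · exact (h1 g hg).trans hRD
  unfold H52.YL.ncl
  apply H52.Red.elem_closure
  · rintro x ⟨g, hg, a, ha, rfl⟩ y ⟨k, hk, b, hb, rfl⟩
    have h3 := h2 (g⁻¹ * k) (mul_mem (inv_mem hg) hk)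
    have h4 := h3 (H52.Syl.conj_mem_cj hb)
    rw [Subgroup.mem_centralizer_iff] at h4
    have h5 := h4 a ha
    calc g * a * g⁻¹ * (k * b * k⁻¹) = g * (a * (g⁻¹ * k * b * (g⁻¹ * k)⁻¹)) * g⁻¹ := by group
      _ = g * ((g⁻¹ * k * b * (g⁻¹ * k)⁻¹) * a) * g⁻¹ := by rw [h5]
      _ = _ := by group
  · rintro x ⟨g, hg, a, ha, rfl⟩
    have h3 := (H52.Red.elem_iff.1 hs.pred.ea).2 a ha
    rw [conj_pow, h3]; group

end Cfsg.Agent.S2849
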