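import Cfsg.Statements.S2859
import Cfsg.Agent.Lib.H53.WCP

set_option autoImplicit false
open Cfsg

namespace Cfsg.Agent.S2859

/-- Let Q be a nontrivial p-subgroup of the finite group H that is a weakly closed subgroup, H° the weak closure of Q in H (generated by the conjugates of Q) and H_∘ = O^p(H°). Suppose H₁, H₂ are normal subgroups of H° with H° = H₁H₂ and [H₁, H₂] ≤ N_H(Q), and put Kᵢ = O^p of the weak closure of Q in HᵢQ. Then for i = 1, 2: Kᵢ = [Kᵢ, Q] = [Kᵢ, Hᵢ] ≤ Hᵢ′ and Kᵢ is normal in H°; H_∘ = K₁K₂; and [K₁, K₂] ≤ O_p(H°). -/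
theorem result {G : Type*} [Group G] [Finite G] {p : ℕ} [Fact p.Prime] (Q : Subgroup G) (hQp : IsPGroup p ↥Q) (hQ1 : Q ≠ ⊥) (hwc : Cfsg.IsWeaklyClosedSubgroup p Q) (Hc : Subgroup G) (hHc : Hc = Cfsg.weakClosure Q ⊤) (H₁ H₂ : Subgroup G) (hn₁ : H₁ ≤ Hc ∧ Hc ≤ Subgroup.normalizer ((H₁ : Subgroup G) : Set G)) (hn₂ : H₂ ≤ Hc ∧ Hc ≤ Subgroup.normalizer ((H₂ : Subgroup G) : Set G)) (hprod : H₁ ⊔ H₂ = Hc) (hcomm : ⁅H₁, H₂⁆ ≤ Subgroup.normalizer ((Q : Subgroup G) : Set G)) (K₁ K₂ : Subgroup G) (hK₁ : K₁ = ((Cfsg.pResidual p ↥(Cfsg.weakClosure Q (H₁ ⊔ Q))).map ((Cfsg.weakClosure Q (H₁ ⊔ Q))).subtype)) (hK₂ : K₂ = ((Cfsg.pResidual p ↥(Cfsg.weakClosure Q (H₂ ⊔ Q))).map ((Cfsg.weakClosure Q (H₂ ⊔ Q))).subtype)) : (⁅K₁, Q⁆ = K₁ ∧ ⁅K₁, H₁⁆ = K₁ ∧ K₁ ≤ ⁅H₁, H₁⁆ ∧ Hc ≤ Subgroup.normalizer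 ((K₁ : Subgroup G) : Set G)) ∧ (⁅K₂, Q⁆ = K₂ ∧ ⁅K₂, H₂⁆ = K₂ ∧ K₂ ≤ ⁅H₂, H₂⁆ ∧ Hc ≤ Subgroup.normalizer ((K₂ : Subgroup G) : Set G)) ∧ K₁ ⊔ K₂ = ((Cfsg.pResidual p ↥Hc).map (Hc).subtype) ∧ ⁅K₁, K₂⁆ ≤ (Cfsg.pCoreOf p Hc) := by
  have hwc' : H52.WC.WC p Q := (H52.WC.iff_WC hQp).1 hwc
  have h : H53.WCP.Pair p Q Hc H₁ H₂ :=
    ⟨hQp, hwc', by rw [hHc, hwc'.weakClosure_eq_ncl hQp le_top], hn₁.1, hn₁.2, hn₂.1, hn₂.2, hprod, hcomm⟩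
  have e1 : K₁ = H52.PRes.resOf p (H52.YL.ncl (H₁ ⊔ Q) Q) := by
    rw [hK₁, hwc'.weakClosure_eq_ncl hQp le_sup_right]
  have e2 : K₂ = H52.PRes.resOf p (H52.YL.ncl (H₂ ⊔ Q) Q) := by
    rw [hK₂, hwc'.weakClosure_eq_ncl hQp le_sup_right]
  rw [e1, e2]
  refine ⟨⟨h.KQ, h.KH, ?_, h.nK⟩, ⟨h.symm.KQ, h.symm.KH, ?_, h.symm.nK⟩, h.sup_eq, h.comm_le⟩
  · conv_lhs => rw [← h.KH]
    exact Subgroup.commutator_mono h.K_le le_rfl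
  · conv_lhs => rw [← h.symm.KH]
    exact Subgroup.commutator_mono h.symm.K_le le_rfl

end Cfsg.Agent.S2859
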