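import Cfsg.Statements.S2860
import Cfsg.Agent.Lib.H53.LQS2

set_option autoImplicit false
open Cfsg

namespace Cfsg.Agent.S2860

/-- Let Q be a nontrivial large p-subgroup of the finite group H, U a nontrivial elementary abelian p-subgroup of H, and Q ≤ E ≤ N_H(U) with Q not normal in E. Suppose O_p(E/C_E(U)) = 1 and O^p(E)·C_E(U)/C_E(U) is quasisimple. Let E° be the weak closure of Q in E (generated by the conjugates of Q inside E) and E_∘ = O^p(E°). Then O^p(E)·C_E(U) = E_∘·C_E(U); E_∘ is perfect and equals O^p(E_∘); E_∘/C_{E_∘}(U) and E_∘/O_p(E_∘) are quasisimple; and E_∘ = [E_∘, Y] for every p-subgroup Y of E not centralizing U. -/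
theorem result {G : Type*} [Group G] [Finite G] {p : ℕ} [Fact p.Prime] (Q : Subgroup G) (hQp : IsPGroup p ↥Q) (hQ1 : Q ≠ ⊥) (hQ : Cfsg.IsLarge Q) (U : Subgroup G) (hU : Cfsg.IsElementaryAbelian p U) (hU1 : U ≠ ⊥) (E : Subgroup G) (hQE : Q ≤ E) (hEU : E ≤ Subgroup.normalizer ((U : Subgroup G) : Set G)) (hQn : ¬ E ≤ Subgroup.normalizer ((Q : Subgroup G) : Set G)) [hn : ((Subgroup.centralizer ((U : Subgroup G) : Set G)).subgroupOf E).Normal] (hred : Cfsg.pCore p (↥E ⧸ (Subgroup.centralizer ((U : Subgroup G) : Set G)).subgroupOf E) = ⊥) (hqs : Cfsg.IsQuasisimple ↥(((Cfsg.pResidual p ↥E) ⊔ (Subgroup.centralizer ((U : Subgroup G) : Set G)).subgroupOf E).map (QuotientGroup.mk' ((Subgroup.centralizer ((U : Subgroup G) : Set G)).subgroupOf E)))) (Er : Subgroup G) (hEr : Er = ((Cfsg.pResidual p ↥(Cfsg.weakClosure Q E)).map ((Cfsg.weakClosure Q E)).subtype)) [hn2 : ((Subgroup.centralizer ((U : Subgroup G) : Set G)).subgroupOf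 Er).Normal] : ((Cfsg.pResidual p ↥E).map (E).subtype) ⊔ (E ⊓ Subgroup.centralizer ((U : Subgroup G) : Set G)) = Er ⊔ (E ⊓ Subgroup.centralizer ((U : Subgroup G) : Set G)) ∧ ⁅Er, Er⁆ = Er ∧ ((Cfsg.pResidual p ↥Er).map (Er).subtype) = Er ∧ Cfsg.IsQuasisimple (↥Er ⧸ (Subgroup.centralizer ((U : Subgroup G) : Set G)).subgroupOf Er) ∧ Cfsg.IsQuasisimple (↥Er ⧸ Cfsg.pCore p ↥Er) ∧ ∀ Y : Subgroup G, Y ≤ E → IsPGroup p ↥Y → ¬ Y ≤ Subgroup.centralizer ((U : Subgroup G) : Set G) → ⁅Er, Y⁆ = Er := by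
  have hwc : H52.WC.WC p Q := H52.WC.wc_of_isLarge hQ1 hQ
  have hUp : IsPGroup p ↥U := fun u => ⟨1, by rw [pow_one]; exact Subtype.ext (hU.2 u u.2)⟩
  have hEr' : Er = H52.PRes.resOf p (H52.YL.ncl E Q) := by
    rw [hEr, hwc.weakClosure_eq_ncl hQp hQE]
  have hd : H53.LQS.Dat p Q E U := by
    refine ⟨hQp, hwc, hQE, ?_, hred, ?_, ?_⟩
    · intro h1
      apply hQn
      have h2 : U ≤ Subgroup.centralizer (Q : Set G) := Subgroup.le_centralizer_iff.1 h1
      exact hEU.trans (hQ.2 U h2 hU1)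
    · have h1 : H53.LQS.bar E U (H52.PRes.resOf p E) = ((Cfsg.pResidual p ↥E) ⊔ (Subgroup.centralizer ((U : Subgroup G) : Set G)).subgroupOf E).map (QuotientGroup.mk' ((Subgroup.centralizer ((U : Subgroup G) : Set G)).subgroupOf E)) := by
        rw [Subgroup.map_sup, (Subgroup.map_eq_bot_iff ((Subgroup.centralizer ((U : Subgroup G) : Set G)).subgroupOf E)).2
          (QuotientGroup.ker_mk' _).ge, sup_bot_eq]
        unfold H53.LQS.bar
        congr 1
        exact Subgroup.comap_map_eq_self_of_injective E.subtype_injective _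
      rw [h1]; exact hqs
    · have h1 := (Cfsg.Agent.S2843.result Q hQp hQ1 hQ E hQE U hUp hU1 hEU).2.1
      rwa [hwc.weakClosure_eq_ncl hQp hQE] at h1
  refine ⟨?_, ?_, ?_, H53.LQS.qs_bar hd Er hEr', H53.LQS.qs_core hd Er hEr', ?_⟩
  · rw [hEr']; exact hd.sup_eq
  · rw [hEr']; exact hd.perfect
  · rw [hEr']; exact hd.resR
  · intro Y hYE hYp hYU
    rw [hEr']; exact hd.comm_Y hYE hYp hYU

end Cfsg.Agent.S2860
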