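import Cfsg.Statements.S2861
import Cfsg.Agent.Lib.H53.FL7
import Mathlib

set_option autoImplicit false
open Cfsg

namespace Cfsg.Agent.S2861

open Subgroup H52.PCore H52.Syl in
theorem aux {G : Type*} [Group G] {X N L : Subgroup G} (hXN : X ≤ N) (hNL : N ≤ L) :
    (X.subgroupOf N).map (Subgroup.inclusion hNL) = X.subgroupOf L := by
  ext x
  constructor
  · rintro ⟨y, hy, rfl⟩
    exact hy
  · intro hx
    exact ⟨⟨x, hXN hx⟩, hx, rfl⟩

/-- Standing hypotheses: G a finite group, S a Sylow p-subgroup, Q a nontrivial large p-subgroup of G contained in S, M a subgroup containing S with the basic property (M ∈ 𝔐_G(S)); Y_M the largest p-reduced normal subgroup of M and M† = M·C_G(Y_M). Let L ∈ 𝔏_G(Y_M) (L ∈ 𝔏_G(Y_M): Y_M ≤ L; O_p(L) is the normal closure in L of Y_M ∩ O_p(L) and normalizes Y_M; L is Y_M-minimal of characteristic p with N_L(Y_M) its unique maximal subgroup over Y_M; and L/O_p(L) ≅ SL₂(q) with q = |Y_M : Y_M ∩ O_p(L)|, or p = 2 and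 L/O_p(L) is a Suzuki group Sz(q) or dihedral of order 2r, r an odd prime) and A = O_p(L). Then Y_M·A/A is the unique nontrivial elementary abelian normal p-subgroup of N_L(Y_M)/A. -/
theorem result {G : Type*} [Group G] [Finite G] {p : ℕ} [Fact p.Prime] (S : Sylow p G) (Q : Subgroup G) (hQp : IsPGroup p ↥Q) (hQ1 : Q ≠ ⊥) (hQS : Q ≤ (S : Subgroup G)) (hQ : Cfsg.IsLarge Q) (M : Subgroup G) (hSM : (S : Subgroup G) ≤ M) (hM : Cfsg.IsInFrakM p M) (L : Subgroup G) (hL : Cfsg.IsInFrakL p M L) (NL : Subgroup G) (hNL : NL = L ⊓ Subgroup.normalizer (((Cfsg.largestPReducedOf p M) : Subgroup G) : Set G)) [hn : (((Cfsg.pCoreOf p L)).subgroupOf NL).Normal] : let Ybar : Subgroup (↥NL ⧸ ((Cfsg.pCoreOf p L)).subgroupOf NL) := (((Cfsg.largestPReducedOf p M)).subgroupOf NL).map (QuotientGroup.mk' (((Cfsg.pCoreOf p L)).subgroupOf NL)); Ybar ≠ ⊥ ∧ Ybar.Normal ∧ Cfsg.IsElementaryAbelian p Ybar ∧ ∀ (V : Subgroup (↥NL ⧸ ((Cfsg.pCoreOf p L)).subgroupOf NL)), V.Normal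 → Cfsg.IsElementaryAbelian p V → V ≠ ⊥ → V = Ybar := by
  intro Ybar
  have hc := H53.FL.cfg_of_frakL hL
  have hYL : Cfsg.largestPReducedOf p M ≤ L := hL.1
  have hAL : Cfsg.pCoreOf p L ≤ L := H52.PCore.pCoreOf_le L
  have hAN : Cfsg.pCoreOf p L ≤ Subgroup.normalizer ((Cfsg.largestPReducedOf p M : Subgroup G) : Set G) := hL.2.2.1
  have hcases := H53.FL.cases_of_frakL hL
  have hP := H52.Red.pRed_largestPReducedOf (p := p) M
  have hAe : (Cfsg.pCoreOf p L).subgroupOf L = Cfsg.pCore p L := H52.PCore.pCoreOf_subgroupOf L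
  set Y := Cfsg.largestPReducedOf p M with hY
  set A := Cfsg.pCoreOf p L with hA
  subst hNL
  set N := L ⊓ Subgroup.normalizer ((Y : Subgroup G) : Set G) with hN
  have hNL : N ≤ L := inf_le_left
  have hYN : Y ≤ N := le_inf hYL Subgroup.le_normalizer
  have hAN' : A ≤ N := le_inf hAL hAN
  have hYn : (Y.subgroupOf N).Normal := by
    rw [Subgroup.normal_subgroupOf_iff_le_normalizer hYN]
    exact inf_le_right
  have hsurj := QuotientGroup.mk'_surjective (A.subgroupOf N)
  refine ⟨?_, hYn.map _ hsurj, ⟨?_, ?_⟩, ?_⟩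
  · intro h1
    rw [Subgroup.map_eq_bot_iff, QuotientGroup.ker_mk'] at h1
    apply hc.not_le
    rw [← hAe]
    intro x hx
    exact h1 (show (⟨x, hYN hx⟩ : N) ∈ Y.subgroupOf N from hx)
  · constructor
    constructor
    rintro ⟨_, ⟨a, ha, rfl⟩⟩ ⟨_, ⟨b, hb, rfl⟩⟩
    apply Subtype.ext
    show QuotientGroup.mk' (A.subgroupOf N) a * QuotientGroup.mk' (A.subgroupOf N) b =
      QuotientGroup.mk' (A.subgroupOf N) b * QuotientGroup.mk' (A.subgroupOf N) a
    rw [← map_mul, ← map_mul]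
    congr 1
    have h8 := hP.ea.1.is_comm.comm ⟨_, Subgroup.mem_subgroupOf.1 ha⟩ ⟨_, Subgroup.mem_subgroupOf.1 hb⟩
    have h9 : (a : G) * (b : G) = (b : G) * (a : G) := congrArg Subtype.val h8
    exact Subtype.ext h9
  · rintro _ ⟨a, ha, rfl⟩
    rw [← map_pow]
    have : a ^ p = 1 := Subtype.ext (hP.ea.2 _ (Subgroup.mem_subgroupOf.1 ha))
    rw [this, map_one]
  · intro V hVn hVe hV1
    set W₀ := V.comap (QuotientGroup.mk' (A.subgroupOf N)) with hW₀
    have hW₀n : W₀.Normal := hVn.comap _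
    have hAW : A.subgroupOf N ≤ W₀ := by
      intro x hx
      rw [hW₀, Subgroup.mem_comap]
      have : QuotientGroup.mk' (A.subgroupOf N) x = 1 := by
        rw [← MonoidHom.mem_ker, QuotientGroup.ker_mk']; exact hx
      rw [this]; exact one_mem _
    have hinj : Function.Injective (Subgroup.inclusion hNL) := Subgroup.inclusion_injective hNL
    have w : H53.FL.EA p (Y.subgroupOf L) (W₀.map (Subgroup.inclusion hNL)) := by
      refine ⟨?_, ?_, ?_, ?_, ?_⟩
      · rw [← hAe, ← aux hAN' hNL]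
        exact Subgroup.map_mono hAW
      · rw [H53.FL.subgroupOf_inf_normalizer hYL]
        rintro _ ⟨x, _, rfl⟩
        exact x.2
      · rw [H53.FL.subgroupOf_inf_normalizer hYL]
        intro g hg
        apply H52.Syl.mem_normalizer_of_cj_le
        rintro _ ⟨_, ⟨x, hx, rfl⟩, rfl⟩
        refine ⟨⟨g, hg⟩ * x * ⟨g, hg⟩⁻¹, hW₀n.conj_mem _ hx _, ?_⟩
        rfl
      · rintro _ ⟨x, hx, rfl⟩
        rw [← map_pow, ← hAe]
        have h1 : (QuotientGroup.mk' (A.subgroupOf N) x) ^ p = 1 := hVe.2 _ hx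
        rw [← map_pow, ← MonoidHom.mem_ker, QuotientGroup.ker_mk'] at h1
        exact h1
      · intro h1
        apply hV1
        rw [eq_bot_iff]
        intro v hv
        obtain ⟨x, rfl⟩ := hsurj v
        have h2 : x ∈ W₀ := hv
        have h3 := h1 (Subgroup.mem_map_of_mem _ h2)
        rw [← hAe] at h3
        rw [Subgroup.mem_bot, ← MonoidHom.mem_ker, QuotientGroup.ker_mk']
        exact h3
    have key : W₀.map (Subgroup.inclusion hNL) = Y.subgroupOf L ⊔ Cfsg.pCore p L := by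
      rcases hcases with ⟨F, j1, j2, hF, ⟨e⟩⟩ | ⟨hp2, hidx⟩ | ⟨hp2, F, j1, j2, k, hk, hF1, hF2, f, hfs, hfk⟩
      · obtain ⟨hch, f, hf⟩ := H53.FL.exists_slc hc hF e
        exact H53.FL.eq_of_slc hc hf w
      · subst hp2
        exact H53.FL.eq_of_two hc hidx w
      · subst hp2
        exact H53.FL.eq_of_suzuki hc hk hF1 hF2 hfs hfk w
    rw [← hAe, ← aux hYN hNL, ← aux hAN' hNL, ← Subgroup.map_sup] at key
    have h5 := Subgroup.map_injective hinj key
    have h6 : V = W₀.map (QuotientGroup.mk' (A.subgroupOf N)) := by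
      rw [hW₀, Subgroup.map_comap_eq_self_of_surjective hsurj]
    rw [h6, h5, Subgroup.map_sup]
    have h7 : (A.subgroupOf N).map (QuotientGroup.mk' (A.subgroupOf N)) = ⊥ := by
      rw [Subgroup.map_eq_bot_iff, QuotientGroup.ker_mk']
    rw [h7, sup_bot_eq]

end Cfsg.Agent.S2861
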