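import Cfsg.Statements.S2863
import Cfsg.Agent.Lib.H53.FL6
import Mathlib

set_option autoImplicit false
open Cfsg

namespace Cfsg.Agent.S2863

/-- Standing hypotheses: G a finite group, S a Sylow p-subgroup, Q a nontrivial large p-subgroup of G contained in S, M a subgroup containing S with the basic property (M ∈ 𝔐_G(S)); Y_M the largest p-reduced normal subgroup of M and M† = M·C_G(Y_M). Let L ∈ 𝔏_G(Y_M) (L ∈ 𝔏_G(Y_M): Y_M ≤ L; O_p(L) is the normal closure in L of Y_M ∩ O_p(L) and normalizes Y_M; L is Y_M-minimal of characteristic p with N_L(Y_M) its unique maximal subgroup over Y_M; and L/O_p(L) ≅ SL₂(q) with q = |Y_M : Y_M ∩ O_p(L)|, or p = 2 and L/O_p(L) is a Suzuki group Sz(q) or dihedral of order 2r, r an odd prime), A = O_p(L), and C = C_{Y_M}(L). Then every element h of L whose order is not a power of p acts without nontrivial fixed points on A/C: for a ∈ A, hah⁻¹a⁻¹ ∈ C implies a ∈ C. -/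
theorem result {G : Type*} [Group G] [Finite G] {p : ℕ} [Fact p.Prime] (S : Sylow p G) (Q : Subgroup G) (hQp : IsPGroup p ↥Q) (hQ1 : Q ≠ ⊥) (hQS : Q ≤ (S : Subgroup G)) (hQ : Cfsg.IsLarge Q) (M : Subgroup G) (hSM : (S : Subgroup G) ≤ M) (hM : Cfsg.IsInFrakM p M) (L : Subgroup G) (hL : Cfsg.IsInFrakL p M L) (h : G) (hh : h ∈ L) (hnp : ¬ ∃ k : ℕ, orderOf h = p ^ k) : ∀ a ∈ (Cfsg.pCoreOf p L), h * a * h⁻¹ * a⁻¹ ∈ (Cfsg.largestPReducedOf p M) ⊓ Subgroup.centralizer ((L : Subgroup G) : Set G) → a ∈ (Cfsg.largestPReducedOf p M) ⊓ Subgroup.centralizer ((L : Subgroup G) : Set G) := by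
  intro a ha hha
  have hc := H53.FL.cfg_of_frakL hL
  have hYL : Cfsg.largestPReducedOf p M ≤ L := hL.1
  have hcases := H53.FL.cases_of_frakL hL
  set Y : Subgroup L := (Cfsg.largestPReducedOf p M).subgroupOf L with hY
  have hn : (Y ⊓ Subgroup.center L).Normal := hc.normal_C
  obtain ⟨V, i1, i2, π, m⟩ := H53.FL.exists_module (Cfsg.pCore p L) (Y ⊓ Subgroup.center L) hc.comm_AA
  obtain ⟨a', ha', rfl⟩ := ha
  have hx : ¬ ∃ k, orderOf (⟨h, hh⟩ : L) = p ^ k := by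
    rintro ⟨k, hk⟩
    apply hnp
    refine ⟨k, ?_⟩
    rw [← hk, ← Subgroup.orderOf_coe]
  have hfix : (⟨h, hh⟩ : L) • π ⟨a', ha'⟩ = π ⟨a', ha'⟩ := by
    rw [m.fixed_iff]
    refine Subgroup.mem_inf.2 ⟨Subgroup.mem_subgroupOf.2 hha.1, ?_⟩
    rw [Subgroup.mem_center_iff]
    intro g
    apply Subtype.ext
    exact Subgroup.mem_centralizer_iff.1 hha.2 g g.2
  have h0 : π ⟨a', ha'⟩ = 0 := by
    rcases hcases with ⟨F, j1, j2, hF, ⟨e⟩⟩ | ⟨hp2, hidx⟩ | ⟨hp2, F, j1, j2, k, hk, hF1, hF2, f, hfs, hfk⟩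
    · obtain ⟨hch, f, hf⟩ := H53.FL.exists_slc hc hF e
      exact hf.fpf hc m hx hfix
    · subst hp2
      exact H53.FL.fpf_real hc (H53.FL.real_of_two hc hidx) m hx hfix
    · subst hp2
      exact H53.FL.fpf_real hc (H53.FL.real_of_suzuki hc hk hF1 hfs hfk) m hx hfix
  rw [m.zero_iff] at h0
  refine Subgroup.mem_inf.2 ⟨Subgroup.mem_subgroupOf.1 h0.1, ?_⟩
  rw [Subgroup.mem_centralizer_iff]
  intro g hg
  exact congrArg Subtype.val (Subgroup.mem_center_iff.1 h0.2 ⟨g, hg⟩)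

end Cfsg.Agent.S2863
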