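import Cfsg.Statements.S2872
import Mathlib
import Cfsg.Agent.Lib.H53.SPE

set_option autoImplicit false
open Cfsg

namespace Cfsg.Agent.S2872

theorem coatom_index {P : Type*} [Group P] [Finite P] {p : ℕ} [hp : Fact p.Prime] (hP : IsPGroup p P)
    {M : Subgroup P} (hM : IsCoatom M) : M.index = p := by
  obtain ⟨n, hn⟩ := hP.exists_card_eq
  obtain ⟨k, hk⟩ := (hP.to_subgroup M).exists_card_eq
  have hlt : Nat.card ↥M < Nat.card P := by
    refine lt_of_le_of_ne (Subgroup.card_le_card_group M) ?_
    intro h
    exact hM.1 (Subgroup.eq_top_of_card_eq M h)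
  rw [hk, hn] at hlt
  have hkn : k < n := (Nat.pow_lt_pow_iff_right hp.out.one_lt).mp hlt
  obtain ⟨K, hK, hMK⟩ := Sylow.exists_subgroup_card_pow_succ (G := P) (p := p) (n := k)
    (by rw [hn]; exact pow_dvd_pow p hkn) hk
  have hne : M ≠ K := by
    intro h
    rw [← h, hk] at hK
    have := (Nat.pow_right_injective hp.out.two_le) hK
    omega
  have hKtop : K = ⊤ := hM.2 K (lt_of_le_of_ne hMK hne)
  have h1 := M.index_mul_card
  rw [hk, ← Subgroup.card_top, ← hKtop, hK, pow_succ'] at h1
  exact Nat.eq_of_mul_eq_mul_right (pow_pos hp.out.pos k) h1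

/-- The sign character of an index two subgroup. -/
noncomputable def signHom {P : Type*} [Group P] (M : Subgroup P) (hM : M.index = 2) : P →* ℤˣ := by
  classical
  exact
    { toFun := fun x => if x ∈ M then 1 else -1
      map_one' := by simp [M.one_mem]
      map_mul' := by
        intro x y
        have := Subgroup.mul_mem_iff_of_index_two hM (a := x) (b := y)
        by_cases hx : x ∈ M <;> by_cases hy : y ∈ M <;> simp [this, hx, hy] }

theorem signHom_eq_one_iff {P : Type*} [Group P] (M : Subgroup P) (hM : M.index = 2) (x : P) :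
    signHom M hM x = 1 ↔ x ∈ M := by
  classical
  show (if x ∈ M then (1 : ℤˣ) else -1) = 1 ↔ x ∈ M
  split_ifs with h
  · simp [h]
  · simp only [h, iff_false]
    decide

theorem unit_eq {u : ℤˣ} (h : u ≠ 1) : u = -1 := by
  rcases Int.units_eq_one_or u with h' | h'
  · exact absurd h' h
  · exact h'

/-- Let S be a Sylow 2-subgroup of the finite group G. Then G has a proper normal subgroup of 2-power index (O²(G) ≠ G), or Ω₁(Z(S)) is contained in the Frattini subgroup of S, or N_G(S) acts nontrivially on Ω₁(Z(S)) by conjugation. -/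
theorem result {G : Type*} [Group G] [Finite G] (S : Sylow 2 G) : Cfsg.pResidual 2 G ≠ ⊤ ∨ Cfsg.omegaOne 2 ((S : Subgroup G) ⊓ Subgroup.centralizer ((S : Subgroup G) : Set G)) ≤ (frattini ↥(S : Subgroup G)).map (S : Subgroup G).subtype ∨ ∃ g ∈ Subgroup.normalizer ((S : Subgroup G) : Set G), ∃ z ∈ Cfsg.omegaOne 2 ((S : Subgroup G) ⊓ Subgroup.centralizer ((S : Subgroup G) : Set G)), g * z * g⁻¹ ≠ z := by
  classical
  by_cases hfr : Cfsg.omegaOne 2 ((S : Subgroup G) ⊓ Subgroup.centralizer ((S : Subgroup G) : Set G)) ≤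
      (frattini ↥(S : Subgroup G)).map (S : Subgroup G).subtype
  · exact Or.inr (Or.inl hfr)
  by_cases hmv : ∃ g ∈ Subgroup.normalizer ((S : Subgroup G) : Set G),
      ∃ z ∈ Cfsg.omegaOne 2 ((S : Subgroup G) ⊓ Subgroup.centralizer ((S : Subgroup G) : Set G)), g * z * g⁻¹ ≠ z
  · exact Or.inr (Or.inr hmv)
  left
  push Not at hmv
  -- a central z of square one outside the Frattini subgroup
  obtain ⟨z, ⟨hzS, hzc⟩, hz2, hzf⟩ : ∃ z : G, z ∈ (S : Subgroup G) ⊓ Subgroup.centralizer ((S : Subgroup G) : Set G) ∧
      z ^ 2 = 1 ∧ z ∉ (frattini ↥(S : Subgroup G)).map (S : Subgroup G).subtype := by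
    by_contra hcon
    push Not at hcon
    apply hfr
    unfold Cfsg.omegaOne
    rw [Subgroup.closure_le]
    rintro x ⟨hx1, hx2⟩
    exact hcon x hx1 hx2
  have hzc' : ∀ s ∈ (S : Subgroup G), s * z = z * s := Subgroup.mem_centralizer_iff.mp hzc
  -- a maximal subgroup M of S with z ∉ M
  obtain ⟨M, hM, hzM⟩ : ∃ M : Subgroup ↥(S : Subgroup G), IsCoatom M ∧ (⟨z, hzS⟩ : ↥(S : Subgroup G)) ∉ M := by
    by_contra hcon
    push Not at hcon
    apply hzf
    refine ⟨⟨z, hzS⟩, ?_, rfl⟩
    show (⟨z, hzS⟩ : ↥(S : Subgroup G)) ∈ frattini ↥(S : Subgroup G)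
    unfold frattini Order.radical
    rw [Subgroup.mem_iInf]
    intro K
    rw [Subgroup.mem_iInf]
    intro hK
    exact hcon K hK
  have hMi : M.index = 2 := coatom_index S.2 hM
  set ϕ := signHom M hMi with hϕ
  have hϕz : ϕ ⟨z, hzS⟩ = -1 := unit_eq (fun h => hzM ((signHom_eq_one_iff M hMi _).mp h))
  have hconj : ∀ (s t : ↥(S : Subgroup G)), ϕ (s * t * s⁻¹) = ϕ t := by
    intro s t
    rw [map_mul, map_mul, mul_comm (ϕ s), mul_assoc, ← map_mul, mul_inv_cancel, map_one, mul_one]
  haveI : (S : Subgroup G).FiniteIndex := inferInstance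
  letI : Fintype (G ⧸ (S : Subgroup G)) := Fintype.ofFinite _
  letI : Fintype (Quotient (MulAction.orbitRel (Subgroup.zpowers z) (G ⧸ (S : Subgroup G)))) := Fintype.ofFinite _
  set V := MonoidHom.transfer ϕ with hV
  -- the set of fixed cosets with value -1
  let F : Set (G ⧸ (S : Subgroup G)) :=
    {x | ∃ (g : G) (h : g⁻¹ * z * g ∈ (S : Subgroup G)), x = (g : G ⧸ (S : Subgroup G)) ∧ ϕ ⟨g⁻¹ * z * g, h⟩ = -1}
  -- well-definedness
  have hFg : ∀ (g : G), ((g : G ⧸ (S : Subgroup G)) ∈ F ↔ ∃ h : g⁻¹ * z * g ∈ (S : Subgroup G), ϕ ⟨g⁻¹ * z * g, h⟩ = -1) := by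
    intro g
    constructor
    · rintro ⟨k, hk, he, hv⟩
      rw [QuotientGroup.eq] at he
      have hmem : g⁻¹ * z * g ∈ (S : Subgroup G) := by
        have := (S : Subgroup G).mul_mem ((S : Subgroup G).mul_mem he hk) ((S : Subgroup G).inv_mem he)
        simpa [mul_assoc] using this
      refine ⟨hmem, ?_⟩
      rw [← hv, ← hconj ⟨_, he⟩ ⟨_, hk⟩]
      congr 1
      apply Subtype.ext
      simp [mul_assoc]
    · rintro ⟨h, hv⟩
      exact ⟨g, h, rfl, hv⟩
  -- S acts on F
  have hFS : ∀ (s : ↥(S : Subgroup G)) (x : G ⧸ (S : Subgroup G)), x ∈ F → (s : G) • x ∈ F := by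
    rintro s x ⟨g, h, rfl, hv⟩
    have e : ((s : G) • (g : G ⧸ (S : Subgroup G))) = (((s : G) * g : G) : G ⧸ (S : Subgroup G)) := rfl
    rw [e, hFg]
    have e2 : ((s : G) * g)⁻¹ * z * ((s : G) * g) = g⁻¹ * z * g := by
      have := hzc' s s.2
      calc ((s : G) * g)⁻¹ * z * ((s : G) * g) = g⁻¹ * (s : G)⁻¹ * (z * (s : G)) * g := by group
        _ = g⁻¹ * (s : G)⁻¹ * ((s : G) * z) * g := by rw [this]
        _ = _ := by group
    have hmem : ((s : G) * g)⁻¹ * z * ((s : G) * g) ∈ (S : Subgroup G) := by rw [e2]; exact h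
    refine ⟨hmem, ?_⟩
    rw [← hv]
    congr 1
    exact Subtype.ext e2
  letI actF : MulAction ↥(S : Subgroup G) F :=
    { smul := fun s x => ⟨(s : G) • x.1, hFS s x.1 x.2⟩
      one_smul := fun x => Subtype.ext (one_smul G x.1)
      mul_smul := fun s t x => Subtype.ext (mul_smul (s : G) (t : G) x.1) }
  have hfixiff : ∀ g : G, (∀ s : ↥(S : Subgroup G), (s : G) • (g : G ⧸ (S : Subgroup G)) = g) →
      g ∈ Subgroup.normalizer ((S : Subgroup G) : Set G) := by
    intro g hg
    have h1 : ∀ s ∈ (S : Subgroup G), g⁻¹ * s * g ∈ (S : Subgroup G) := by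
      intro s hs
      have h2 : (((s * g : G)) : G ⧸ (S : Subgroup G)) = g := hg ⟨s, hs⟩
      rw [eq_comm, QuotientGroup.eq] at h2
      rw [mul_assoc]; exact h2
    have h3 : g⁻¹ ∈ Subgroup.normalizer ((S : Subgroup G) : Set G) := by
      apply H53.SPE.mem_normalizer_of_finite
      intro n hn
      simpa using h1 n hn
    simpa using (Subgroup.normalizer ((S : Subgroup G) : Set G)).inv_mem h3
  have hcardF : Odd (Nat.card F) := by
    have h1 := S.2.card_modEq_card_fixedPoints (α := F)
    have h2 := S.2.card_modEq_card_fixedPoints (α := G ⧸ (S : Subgroup G))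
    -- fixed points of S on F and on G/S agree
    have h3 : Nat.card (MulAction.fixedPoints ↥(S : Subgroup G) F) =
        Nat.card (MulAction.fixedPoints ↥(S : Subgroup G) (G ⧸ (S : Subgroup G))) := by
      apply Nat.card_congr
      refine
        { toFun := fun x => ⟨x.1.1, fun s => congrArg Subtype.val (x.2 s)⟩
          invFun := fun x => ⟨⟨x.1, ?_⟩, fun s => Subtype.ext (x.2 s)⟩
          left_inv := fun x => rfl
          right_inv := fun x => rfl }
      obtain ⟨g, hg⟩ := QuotientGroup.mk_surjective x.1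
      rw [← hg, hFg]
      have hn : g ∈ Subgroup.normalizer ((S : Subgroup G) : Set G) := by
        apply hfixiff
        intro s
        rw [hg]
        exact x.2 s
      have hn' := (Subgroup.normalizer ((S : Subgroup G) : Set G)).inv_mem hn
      have h4 := hmv g⁻¹ hn' z (Subgroup.subset_closure ⟨⟨hzS, hzc⟩, hz2⟩)
      rw [inv_inv] at h4
      refine ⟨by rw [h4]; exact hzS, ?_⟩
      rw [← hϕz]
      congr 1
      exact Subtype.ext h4
    have h5 : Odd (Nat.card (G ⧸ (S : Subgroup G))) := by
      rw [← Subgroup.index_eq_card, Nat.odd_iff, ← Nat.not_even_iff, even_iff_two_dvd]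
      exact S.not_dvd_index
    rw [Nat.odd_iff] at h5 ⊢
    unfold Nat.ModEq at h1 h2
    rw [h3] at h1
    omega
  -- value of the transfer
  have hzact : ∀ g : G, z • (g : G ⧸ (S : Subgroup G)) = ((z * g : G) : G ⧸ (S : Subgroup G)) := fun g => rfl
  have hVz : V z = -1 := by
    rw [hV, MonoidHom.transfer_eq_prod_quotient_orbitRel_zpowers_quot]
    -- each factor is ±1; the factors equal to -1 are in bijection with F
    set f : Quotient (MulAction.orbitRel (Subgroup.zpowers z) (G ⧸ (S : Subgroup G))) → ℤˣ := fun q =>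
      ϕ ⟨q.out.out⁻¹ * z ^ Function.minimalPeriod (z • ·) q.out * q.out.out,
            QuotientGroup.out_conj_pow_minimalPeriod_mem (S : Subgroup G) z q.out⟩ with hf
    have hfF : ∀ q, f q = -1 ↔ q.out ∈ F := by
      intro q
      have hq : ((q.out.out : G) : G ⧸ (S : Subgroup G)) = q.out := QuotientGroup.out_eq' _
      constructor
      · intro hv
        rw [← hq, hFg]
        -- minimal period is 1
        have hper : Function.minimalPeriod (z • ·) q.out = 1 := by
          have h2 : Function.IsPeriodicPt (z • · : (G ⧸ (S : Subgroup G)) → _) 2 q.out := by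
            show z • (z • q.out) = q.out
            rw [← mul_smul, ← pow_two, hz2, one_smul]
          have h3 := h2.minimalPeriod_dvd
          rcases (Nat.dvd_prime Nat.prime_two).mp h3 with h | h
          · exact h
          · exfalso
            have h4 : f q = 1 := by
              show ϕ _ = 1
              have : (⟨q.out.out⁻¹ * z ^ Function.minimalPeriod (z • ·) q.out * q.out.out,
                QuotientGroup.out_conj_pow_minimalPeriod_mem (S : Subgroup G) z q.out⟩ : ↥(S : Subgroup G)) = 1 := by
                apply Subtype.ext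
                show q.out.out⁻¹ * z ^ Function.minimalPeriod (z • ·) q.out * q.out.out = 1
                rw [h, hz2]; group
              rw [this, map_one]
            rw [h4] at hv
            exact absurd hv (by decide)
        have hmem := QuotientGroup.out_conj_pow_minimalPeriod_mem (S : Subgroup G) z q.out
        have e1 : q.out.out⁻¹ * z ^ Function.minimalPeriod (z • ·) q.out * q.out.out = q.out.out⁻¹ * z * q.out.out := by
          rw [hper, pow_one]
        refine ⟨e1 ▸ hmem, ?_⟩
        rw [← hv]
        show _ = ϕ _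
        congr 1
        exact Subtype.ext e1.symm
      · intro hqF
        rw [← hq, hFg] at hqF
        obtain ⟨hmem, hv⟩ := hqF
        have hfix : z • q.out = q.out := by
          rw [← hq, hzact, eq_comm, QuotientGroup.eq, ← mul_assoc]
          exact hmem
        have hper : Function.minimalPeriod (z • ·) q.out = 1 :=
          Function.minimalPeriod_eq_one_iff_isFixedPt.mpr hfix
        have e1 : q.out.out⁻¹ * z ^ Function.minimalPeriod (z • ·) q.out * q.out.out = q.out.out⁻¹ * z * q.out.out := by
          rw [hper, pow_one]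
        rw [← hv]
        show ϕ _ = _
        congr 1
        exact Subtype.ext e1
    have hprod : ∏ q, f q = (-1) ^ (Finset.univ.filter (fun q => f q = -1)).card := by
      rw [← Finset.prod_filter_mul_prod_filter_not Finset.univ (fun q => f q = -1)]
      rw [Finset.prod_congr rfl (fun q hq => (Finset.mem_filter.mp hq).2), Finset.prod_const]
      rw [Finset.prod_eq_one, mul_one]
      intro q hq
      by_contra h
      exact (Finset.mem_filter.mp hq).2 (unit_eq h)
    rw [hprod]
    have hcard : (Finset.univ.filter (fun q => f q = -1)).card = Nat.card F := by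
      rw [← Fintype.card_subtype, ← Nat.card_eq_fintype_card]
      symm
      apply Nat.card_eq_of_bijective (fun x : F => (⟨Quotient.mk _ x.1, ?_⟩ : {q // f q = -1}))
      · constructor
        · intro x y hxy
          have h1 : (Quotient.mk (MulAction.orbitRel (Subgroup.zpowers z) (G ⧸ (S : Subgroup G))) x.1) =
            Quotient.mk _ y.1 := congrArg Subtype.val hxy
          rw [Quotient.eq, MulAction.orbitRel_apply] at h1
          obtain ⟨⟨_, ⟨k, rfl⟩⟩, hk⟩ := h1
          apply Subtype.ext
          obtain ⟨g, hg, he, hv⟩ := y.2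
          have hfix : z • y.1 = y.1 := by
            rw [he, hzact, eq_comm, QuotientGroup.eq, ← mul_assoc]
            exact hg
          have h2 : (z ^ k) • y.1 = y.1 := by
            have : z ∈ MulAction.stabilizer G y.1 := hfix
            exact (MulAction.stabilizer G y.1).zpow_mem this k
          rw [← hk]
          exact h2
        · rintro ⟨q, hq⟩
          refine ⟨⟨q.out, (hfF q).mp hq⟩, ?_⟩
          apply Subtype.ext
          exact Quotient.out_eq q
      · rw [hfF]
        obtain ⟨g, hg, he, hv⟩ := x.2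
        have hfix : z • x.1 = x.1 := by
          rw [he, hzact, eq_comm, QuotientGroup.eq, ← mul_assoc]
          exact hg
        have h1 : (Quotient.mk (MulAction.orbitRel (Subgroup.zpowers z) (G ⧸ (S : Subgroup G))) x.1).out = x.1 := by
          have h2 := Quotient.mk_out (s := MulAction.orbitRel (Subgroup.zpowers z) (G ⧸ (S : Subgroup G))) x.1
          have h3 : (MulAction.orbitRel (Subgroup.zpowers z) (G ⧸ (S : Subgroup G)))
            (Quotient.mk (MulAction.orbitRel (Subgroup.zpowers z) (G ⧸ (S : Subgroup G))) x.1).out x.1 := h2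
          rw [MulAction.orbitRel_apply] at h3
          obtain ⟨⟨_, ⟨k, rfl⟩⟩, hk⟩ := h3
          have h4 : (z ^ k) • x.1 = x.1 := by
            have : z ∈ MulAction.stabilizer G x.1 := hfix
            exact (MulAction.stabilizer G x.1).zpow_mem this k
          rw [← hk]
          exact h4
        rw [h1]
        exact x.2
    rw [hcard]
    exact hcardF.neg_one_pow
  -- conclude
  intro htop
  have hle : Cfsg.pResidual 2 G ≤ V.ker := by
    unfold Cfsg.pResidual
    rw [Subgroup.closure_le]
    intro g hg
    show V g = 1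
    have h1 : orderOf (V g) ∣ orderOf g := orderOf_map_dvd V g
    have h2 : orderOf (V g) ∣ 2 := by
      apply orderOf_dvd_of_pow_eq_one
      rw [sq, Int.units_mul_self]
    have h3 : orderOf (V g) ∣ 1 := by
      have hg' : Nat.gcd (orderOf g) 2 = 1 := hg
      rw [← hg']
      exact Nat.dvd_gcd h1 h2
    exact orderOf_eq_one_iff.mp (Nat.dvd_one.mp h3)
  have hzker : z ∈ V.ker := hle (by rw [htop]; exact Subgroup.mem_top z)
  have : V z = 1 := hzker
  rw [hVz] at this
  exact absurd this (by decide)

end Cfsg.Agent.S2872
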