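import Cfsg.Statements.S2873
import Cfsg.Agent.Lib.H1.Cores
import Cfsg.Agent.Lib.H53.SPE

set_option autoImplicit false
open Cfsg

namespace Cfsg.Agent.S2873

theorem order2_dihedral {r : ℕ} [hr : Fact r.Prime] (hr2 : r ≠ 2) {d : DihedralGroup r} (hd : d ^ 2 = 1)
    (hd1 : d ≠ 1) : ∃ i, d = DihedralGroup.sr i := by
  have hodd : r % 2 = 1 := by
    rcases hr.out.eq_two_or_odd with h | h
    · exact absurd h hr2
    · exact h
  rcases d with i | i
  · exfalso
    apply hd1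
    have h1 : DihedralGroup.r i ^ r = 1 := by
      rw [DihedralGroup.r_pow]
      simp
    have h2 : orderOf (DihedralGroup.r i) ∣ 1 := by
      have h3 := Nat.dvd_gcd (orderOf_dvd_of_pow_eq_one hd) (orderOf_dvd_of_pow_eq_one h1)
      have h4 : Nat.gcd 2 r = 1 := by
        rw [Nat.Coprime.gcd_eq_one]
        exact (Nat.coprime_primes Nat.prime_two hr.out).mpr (Ne.symm hr2)
      rwa [h4] at h3
    exact orderOf_eq_one_iff.mp (Nat.dvd_one.mp h2)
  · exact ⟨i, rfl⟩

theorem conj_sr {r : ℕ} [hr : Fact r.Prime] (hr2 : r ≠ 2) (i j : ZMod r) :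
    ∃ d : DihedralGroup r, d * DihedralGroup.sr i * d⁻¹ = DihedralGroup.sr j := by
  have h2 : (2 : ZMod r) ≠ 0 := by
    intro h
    have : ((2 : ℕ) : ZMod r) = 0 := by exact_mod_cast h
    rw [ZMod.natCast_eq_zero_iff] at this
    exact hr2 ((Nat.prime_dvd_prime_iff_eq hr.out Nat.prime_two).mp this)
  refine ⟨DihedralGroup.r ((i - j) / 2), ?_⟩
  rw [DihedralGroup.r_mul_sr, DihedralGroup.inv_r, DihedralGroup.sr_mul_r]
  congr 1
  field_simp
  ring

variable {G : Type*} [Group G] [Finite G] {r : ℕ} [hr : Fact r.Prime]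

theorem exists_conj_zpowers (hr2 : r ≠ 2) {Q : Subgroup G} (f : G →* DihedralGroup r)
    (hf : Function.Surjective f) (hker : f.ker = Q) (hQ : IsPGroup 2 ↥Q) (R : Sylow r G) {y : G}
    (hy : ∃ i : ZMod r, i ≠ 0 ∧ f y = DihedralGroup.r i) :
    ∃ (m : ℕ) (g : G), ∀ x, x ∈ (R : Subgroup G) → g * x * g⁻¹ ∈ Subgroup.zpowers (y ^ m) ∧
      (y ^ m) ^ r = 1 ∧ Nat.card ↥(R : Subgroup G) = r ∧ f (y ^ m) ≠ 1 := by
  obtain ⟨n, hn⟩ := (IsPGroup.iff_card).mp hQ
  obtain ⟨i, hi, hfy⟩ := hy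
  have hcop : Nat.Coprime r (2 ^ n) :=
    Nat.Coprime.pow_right n ((Nat.coprime_primes hr.out Nat.prime_two).mpr hr2)
  have h1 : (y ^ 2 ^ n) ^ r = 1 := by
    have h2 : y ^ r ∈ Q := by
      rw [← hker, MonoidHom.mem_ker, map_pow, hfy, DihedralGroup.r_pow]
      simp
    have h3 : (⟨y ^ r, h2⟩ : ↥Q) ^ Nat.card ↥Q = 1 := pow_card_eq_one'
    have h4 := congrArg Subtype.val h3
    rw [hn] at h4
    rw [pow_right_comm]
    exact h4
  have hfu : f (y ^ 2 ^ n) ≠ 1 := by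
    intro h
    have h5 : f y ^ r = 1 := by rw [hfy, DihedralGroup.r_pow]; simp
    rw [map_pow] at h
    have h6 : orderOf (f y) ∣ 1 := by
      rw [← hcop]
      exact Nat.dvd_gcd (orderOf_dvd_of_pow_eq_one h5) (orderOf_dvd_of_pow_eq_one h)
    have h7 : f y = 1 := orderOf_eq_one_iff.mp (Nat.dvd_one.mp h6)
    rw [hfy] at h7
    apply hi
    have h8 : (DihedralGroup.r i : DihedralGroup r) = DihedralGroup.r 0 := h7
    exact DihedralGroup.r.inj h8
  have hcardG : Nat.card G = 2 * r * 2 ^ n := by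
    have h2 : Nat.card G = Nat.card (G ⧸ f.ker) * Nat.card ↥f.ker :=
      Subgroup.card_eq_card_quotient_mul_card_subgroup _
    rw [Nat.card_congr (QuotientGroup.quotientKerEquivOfSurjective f hf).toEquiv, hker, hn] at h2
    rw [h2]
    have h3 : Nat.card (DihedralGroup r) = 2 * r := DihedralGroup.nat_card
    rw [h3]
  have hR : Nat.card ↥(R : Subgroup G) = r := by
    have h2 := R.card_eq_multiplicity
    rw [h2, hcardG]
    have h3 : (2 * r * 2 ^ n).factorization r = 1 := by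
      have h4 : 2 * r * 2 ^ n = r * 2 ^ (n + 1) := by ring
      rw [h4, Nat.factorization_mul hr.out.ne_zero (by positivity), Finsupp.add_apply,
        Nat.Prime.factorization_self hr.out]
      have h5 : (2 ^ (n + 1)).factorization r = 0 := by
        apply Nat.factorization_eq_zero_of_not_dvd
        rw [← hr.out.coprime_iff_not_dvd]
        exact Nat.Coprime.pow_right _ ((Nat.coprime_primes hr.out Nat.prime_two).mpr hr2)
      rw [h5]
    rw [h3, pow_one]
  have hu1 : y ^ 2 ^ n ≠ 1 := fun h => hfu (by rw [h, map_one])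
  have hou : orderOf (y ^ 2 ^ n) = r := orderOf_eq_prime h1 hu1
  have hpz : IsPGroup r ↥(Subgroup.zpowers (y ^ 2 ^ n)) := by
    rw [IsPGroup.iff_card]
    exact ⟨1, by rw [Nat.card_zpowers, hou, pow_one]⟩
  obtain ⟨S, hS⟩ := hpz.exists_le_sylow
  obtain ⟨g, hg⟩ := MulAction.exists_smul_eq G R S
  have hS' : (S : Subgroup G) = Subgroup.zpowers (y ^ 2 ^ n) := by
    symm
    apply Subgroup.eq_of_le_of_card_ge hS
    rw [Nat.card_zpowers, hou]
    have h2 := S.card_eq_multiplicity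
    have h3 := R.card_eq_multiplicity
    rw [hR] at h3
    rw [h2, ← h3]
  refine ⟨2 ^ n, g, fun x hx => ⟨?_, h1, hR, hfu⟩⟩
  rw [← hS', ← hg, Sylow.coe_subgroup_smul]
  exact Subgroup.smul_mem_pointwise_smul _ (MulAut.conj g) _ hx

theorem mem_rot {r : ℕ} (d : DihedralGroup r) :
    d ∈ Subgroup.zpowers (DihedralGroup.r 1 : DihedralGroup r) ↔ ∃ j, d = DihedralGroup.r j := by
  constructor
  · rintro ⟨k, rfl⟩
    refine ⟨(k : ZMod r), ?_⟩
    simp [DihedralGroup.r_one_zpow]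
  · rintro ⟨j, rfl⟩
    refine ⟨(j.cast : ℤ), ?_⟩
    simp [DihedralGroup.r_one_zpow]

/-- Let G be a finite group and r an odd prime such that G ⧸ O₂(G) is dihedral of order 2r, and let R be a Sylow r-subgroup of G with C_{O₂(G)}(R) = 1. Then N_G(R) is dihedral of order 2r; for any involution a of N_G(R), every involution of G outside O₂(G) is conjugate to a; and |C_{O₂(G)}(a)|² = |O₂(G)|. -/
theorem result {G : Type*} [Group G] [Finite G] {r : ℕ} [Fact r.Prime] (hr : r ≠ 2) [hN : (Cfsg.pCore 2 G).Normal] (hquot : Nonempty (G ⧸ Cfsg.pCore 2 G ≃* DihedralGroup r)) (R : Sylow r G) (hC : Cfsg.pCore 2 G ⊓ Subgroup.centralizer ((R : Subgroup G) : Set G) = ⊥) : Nonempty (↥(Subgroup.normalizer ((R : Subgroup G) : Set G)) ≃* DihedralGroup r) ∧ ∀ a : G, a ∈ Subgroup.normalizer ((R : Subgroup G) : Set G) → orderOf a = 2 → (∀ b : G, orderOf b = 2 → b ∉ Cfsg.pCore 2 G → ∃ g : G, g * a * g⁻¹ = b) ∧ Nat.card ↥(Cfsg.pCore 2 G ⊓ Subgroup.centralizer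 ({a} : Set G)) ^ 2 = Nat.card ↥(Cfsg.pCore 2 G) := by
  obtain ⟨e⟩ := hquot
  obtain ⟨Q, hQdef⟩ : ∃ Q, Q = Cfsg.pCore 2 G := ⟨_, rfl⟩
  obtain ⟨f, hfdef⟩ : ∃ f : G →* DihedralGroup r, f = (e : (G ⧸ Cfsg.pCore 2 G) →* DihedralGroup r).comp (QuotientGroup.mk' (Cfsg.pCore 2 G)) := ⟨_, rfl⟩
  have hf : Function.Surjective f := by
    rw [hfdef]
    exact e.surjective.comp (QuotientGroup.mk'_surjective _)
  have hker : f.ker = Q := by
    rw [hfdef, hQdef]
    ext x
    rw [MonoidHom.mem_ker, MonoidHom.comp_apply, MonoidHom.coe_coe, MulEquiv.map_eq_one_iff, QuotientGroup.mk'_apply, QuotientGroup.eq_one_iff]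
  have hQ : IsPGroup 2 ↥Q := by rw [hQdef]; exact H1.Cores.isPGroup_pCore (G := G) 2
  rw [← hQdef] at hC ⊢
  have hQn : Q.Normal := hQdef ▸ hN
  clear hfdef e
  have hodd : r % 2 = 1 := by
    rcases (Fact.out : r.Prime).eq_two_or_odd with h | h
    · exact absurd h hr
    · exact h
  have hmemQ : ∀ x : G, x ∈ Q ↔ f x = 1 := by
    intro x
    rw [← hker, MonoidHom.mem_ker]
  -- centralizers of elements of order divisible by r
  have hCy : ∀ y : G, (∃ i : ZMod r, i ≠ 0 ∧ f y = DihedralGroup.r i) → ∀ x ∈ Q, x * y = y * x → x = 1 := by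
    intro y hy x hx hxy
    obtain ⟨m, g, hg⟩ := exists_conj_zpowers hr f hf hker hQ R hy
    have h1 : g⁻¹ * x * g ∈ Q ⊓ Subgroup.centralizer ((R : Subgroup G) : Set G) := by
      refine ⟨by simpa using hQn.conj_mem x hx g⁻¹, Subgroup.mem_centralizer_iff.mpr ?_⟩
      intro z hz
      obtain ⟨⟨k, hk⟩, -⟩ := hg z hz
      have hk' : (y ^ m) ^ k = g * z * g⁻¹ := hk
      have h2 : x * (g * z * g⁻¹) = (g * z * g⁻¹) * x := by
        rw [← hk']
        exact Commute.zpow_right (Commute.pow_right hxy m) k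
      calc z * (g⁻¹ * x * g) = g⁻¹ * ((g * z * g⁻¹) * x) * g := by group
        _ = g⁻¹ * (x * (g * z * g⁻¹)) * g := by rw [h2]
        _ = g⁻¹ * x * g * z := by group
    rw [hC, Subgroup.mem_bot] at h1
    have h3 : x = g * (g⁻¹ * x * g) * g⁻¹ := by group
    rw [h3, h1]; group
  have hR1 : f 1 ≠ 1 ∨ True := Or.inr trivial
  obtain ⟨y0, hy0⟩ := hf (DihedralGroup.r 1)
  have h10 : (1 : ZMod r) ≠ 0 := one_ne_zero
  obtain ⟨m0, g0, hg0⟩ := exists_conj_zpowers hr f hf hker hQ R (y := y0) ⟨1, h10, hy0⟩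
  have hRcard : Nat.card ↥(R : Subgroup G) = r := (hg0 1 (R : Subgroup G).one_mem).2.2.1
  clear hR1
  have hdisj : Disjoint (R : Subgroup G) Q :=
    IsPGroup.disjoint_of_ne r 2 hr _ _ R.isPGroup' hQ
  obtain ⟨N, hNdef⟩ : ∃ N, N = Subgroup.normalizer ((R : Subgroup G) : Set G) := ⟨_, rfl⟩
  have hRN : (R : Subgroup G) ≤ N := hNdef ▸ Subgroup.le_normalizer
  have hNQ : ∀ x ∈ N, x ∈ Q → x = 1 := by
    intro x hxN hxQ
    have h1 : x ∈ Q ⊓ Subgroup.centralizer ((R : Subgroup G) : Set G) := by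
      refine ⟨hxQ, Subgroup.mem_centralizer_iff.mpr ?_⟩
      intro z hz
      rw [hNdef, Subgroup.mem_normalizer_iff] at hxN
      have h2 : x * z * x⁻¹ ∈ (R : Subgroup G) := (hxN z).mp hz
      have h3 : x * z * x⁻¹ * z⁻¹ ∈ (R : Subgroup G) := mul_mem h2 (inv_mem hz)
      have h4 : x * z * x⁻¹ * z⁻¹ ∈ Q := by
        have : x * (z * x⁻¹ * z⁻¹) ∈ Q := Q.mul_mem hxQ (hQn.conj_mem _ (Q.inv_mem hxQ) z)
        have e : x * (z * x⁻¹ * z⁻¹) = x * z * x⁻¹ * z⁻¹ := by group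
        rwa [e] at this
      have h5 := Subgroup.disjoint_def.mp hdisj h3 h4
      have h6 : x * z = z * x := by
        have : x * z * x⁻¹ * z⁻¹ * (z * x) = 1 * (z * x) := by rw [h5]
        have e : x * z * x⁻¹ * z⁻¹ * (z * x) = x * z := by group
        rwa [e, one_mul] at this
      exact h6.symm
    rw [hC, Subgroup.mem_bot] at h1
    exact h1
  have hinj : ∀ x ∈ N, ∀ y ∈ N, f x = f y → x = y := by
    intro x hx y hy hxy
    have h1 : x * y⁻¹ = 1 := by
      apply hNQ _ (N.mul_mem hx (N.inv_mem hy))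
      rw [← hker, MonoidHom.mem_ker, map_mul, map_inv, hxy, mul_inv_cancel]
    exact mul_inv_eq_one.mp h1
  have hsr : ∀ i : ZMod r, (DihedralGroup.sr i) ^ r = DihedralGroup.sr i := by
    intro i
    have h1 : (DihedralGroup.sr i) ^ 2 = 1 := by rw [pow_two, DihedralGroup.sr_mul_self]
    have h2 : ∀ k : ℕ, (DihedralGroup.sr i) ^ (2 * k + 1) = DihedralGroup.sr i := by
      intro k
      rw [pow_add, pow_mul, h1, one_pow, pow_one, one_mul]
    have h3 := h2 (r / 2)
    rwa [show 2 * (r / 2) + 1 = r by omega] at h3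
  have hRrot : (R : Subgroup G).map f = Subgroup.zpowers (DihedralGroup.r 1 : DihedralGroup r) := by
    apply Subgroup.eq_of_le_of_card_ge
    · rintro _ ⟨z, hz, rfl⟩
      rw [mem_rot]
      have h1 : (⟨z, hz⟩ : ↥(R : Subgroup G)) ^ Nat.card ↥(R : Subgroup G) = 1 := pow_card_eq_one'
      have h2 := congrArg Subtype.val h1
      rw [hRcard] at h2
      have h3 : f z ^ r = 1 := by
        rw [← map_pow]
        have h4 : z ^ r = 1 := h2
        rw [h4, map_one]
      rcases hfz : f z with i | i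
      · exact ⟨i, rfl⟩
      · exfalso
        rw [hfz, hsr] at h3
        exact absurd h3 (by intro h; cases h)
    · rw [Nat.card_zpowers, DihedralGroup.orderOf_r_one]
      have h1 : Nat.card ↥((R : Subgroup G).map f) = Nat.card ↥(R : Subgroup G) := by
        have hinjR : Function.Injective (f.subgroupMap (R : Subgroup G)) := by
          intro a b hab
          have h2 : f a = f b := congrArg Subtype.val hab
          exact Subtype.ext (hinj _ (hRN a.2) _ (hRN b.2) h2)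
        exact (Nat.card_congr (Equiv.ofBijective _ ⟨hinjR, f.subgroupMap_surjective _⟩)).symm
      rw [h1, hRcard]
  have hrotn : (Subgroup.zpowers (DihedralGroup.r 1 : DihedralGroup r)).Normal := by
    constructor
    intro x hx g
    rw [mem_rot] at hx ⊢
    obtain ⟨j, rfl⟩ := hx
    rcases g with i | i
    · exact ⟨_, by rw [DihedralGroup.r_mul_r, DihedralGroup.inv_r, DihedralGroup.r_mul_r]⟩
    · exact ⟨_, by rw [DihedralGroup.sr_mul_r, DihedralGroup.inv_sr, DihedralGroup.sr_mul_sr]⟩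
  have hsurj : ∀ d : DihedralGroup r, ∃ n ∈ N, f n = d := by
    intro d
    have hK : ((Subgroup.zpowers (DihedralGroup.r 1 : DihedralGroup r)).comap f).Normal := inferInstance
    have hRK : (R : Subgroup G) ≤ (Subgroup.zpowers (DihedralGroup.r 1 : DihedralGroup r)).comap f := by
      rw [← hRrot]; exact Subgroup.le_comap_map _ _
    have htop : Subgroup.normalizer ((R : Subgroup G) : Set G) ⊔
      (Subgroup.zpowers (DihedralGroup.r 1 : DihedralGroup r)).comap f = ⊤ := Sylow.normalizer_sup_eq_top' R hRK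
    rw [← hNdef] at htop
    obtain ⟨g, rfl⟩ := hf d
    have hg : g ∈ N ⊔ (Subgroup.zpowers (DihedralGroup.r 1 : DihedralGroup r)).comap f := by
      rw [htop]; exact Subgroup.mem_top g
    rw [Subgroup.mem_sup_of_normal_right] at hg
    obtain ⟨n, hn, k, hk, rfl⟩ := hg
    have hk' : f k ∈ (R : Subgroup G).map f := by rw [hRrot]; exact hk
    obtain ⟨z, hz, hzk⟩ := hk'
    exact ⟨n * z, N.mul_mem hn (hRN hz), by rw [map_mul, map_mul, hzk]⟩
  have hiso : Nonempty (↥N ≃* DihedralGroup r) := by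
    refine ⟨MulEquiv.ofBijective (f.comp N.subtype) ⟨?_, ?_⟩⟩
    · intro x y hxy
      exact Subtype.ext (hinj _ x.2 _ y.2 hxy)
    · intro d
      obtain ⟨n, hn, hnd⟩ := hsurj d
      exact ⟨⟨n, hn⟩, hnd⟩
  rw [← hNdef]
  refine ⟨hiso, fun a haN ha2 => ?_⟩
  have ha2' : a ^ 2 = 1 := by rw [← ha2]; exact pow_orderOf_eq_one a
  have ha1 : a ≠ 1 := by rintro rfl; rw [orderOf_one] at ha2; omega
  obtain ⟨i, hi⟩ := order2_dihedral hr (d := f a) (by rw [← map_pow, ha2', map_one]) (by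
    intro h
    apply ha1
    exact hinj a haN 1 N.one_mem (by rw [h, map_one]))
  have conjb : ∀ b : G, orderOf b = 2 → b ∉ Q → ∃ g : G, g * a * g⁻¹ = b := by
    intro b hb2 hbQ
    have hb2' : b ^ 2 = 1 := by rw [← hb2]; exact pow_orderOf_eq_one b
    have hb1 : f b ≠ 1 := by
      intro h
      apply hbQ
      rw [← hker]; exact h
    obtain ⟨j, hj⟩ := order2_dihedral hr (d := f b) (by rw [← map_pow, hb2', map_one]) hb1
    obtain ⟨a', ha'N, ha'⟩ := hsurj (DihedralGroup.sr (j + 1))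
    have ha'2 : a' * a' = 1 := by
      apply hinj _ (N.mul_mem ha'N ha'N) _ N.one_mem
      rw [map_mul, ha', DihedralGroup.sr_mul_self, map_one]
    have hbb : b * b = 1 := by rw [← pow_two]; exact hb2'
    obtain ⟨m, g, hg⟩ := exists_conj_zpowers hr f hf hker hQ R (y := b * a') ⟨1, h10, by
      rw [map_mul, hj, ha', DihedralGroup.sr_mul_sr]
      congr 1; ring⟩
    -- b inverts y = b a'
    have hbinv : b⁻¹ = b := by rw [inv_eq_iff_mul_eq_one]; exact hbb
    have ha'inv : a'⁻¹ = a' := by rw [inv_eq_iff_mul_eq_one]; exact ha'2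
    have hby : b * (b * a') * b⁻¹ = (b * a')⁻¹ := by
      rw [mul_inv_rev, hbinv, ha'inv, ← mul_assoc, hbb, one_mul]
    have hbN : g⁻¹ * b * g ∈ N := by
      rw [hNdef]
      apply H53.SPE.mem_normalizer_of_finite
      intro z hz
      obtain ⟨⟨k, hk⟩, hur, -, hfu⟩ := hg z hz
      have hk' : ((b * a') ^ m) ^ k = g * z * g⁻¹ := hk
      -- g z g⁻¹ inverted by b
      have h1 : b * (g * z * g⁻¹) * b⁻¹ = (g * z * g⁻¹)⁻¹ := by
        rw [← hk', ← conj_zpow, ← conj_pow, hby, inv_pow, inv_zpow]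
      have h2 : g⁻¹ * b * g * z * (g⁻¹ * b * g)⁻¹ = z⁻¹ := by
        calc g⁻¹ * b * g * z * (g⁻¹ * b * g)⁻¹ = g⁻¹ * (b * (g * z * g⁻¹) * b⁻¹) * g := by group
          _ = g⁻¹ * (g * z * g⁻¹)⁻¹ * g := by rw [h1]
          _ = z⁻¹ := by group
      rw [h2]
      exact inv_mem hz
    have hcb2 : f (g⁻¹ * b * g) ^ 2 = 1 := by
      rw [← map_pow]
      have : (g⁻¹ * b * g) ^ 2 = g⁻¹ * (b * b) * g := by rw [pow_two]; group
      rw [this, hbb]; simp
    have hcb1 : f (g⁻¹ * b * g) ≠ 1 := by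
      intro h
      apply hb1
      rw [map_mul, map_mul, map_inv] at h
      have : f b = f g * ((f g)⁻¹ * f b * f g) * (f g)⁻¹ := by group
      rw [this, h]; group
    obtain ⟨l, hl⟩ := order2_dihedral hr hcb2 hcb1
    obtain ⟨d, hd⟩ := conj_sr hr i l
    obtain ⟨n, hnN, hnd⟩ := hsurj d
    have h3 : n * a * n⁻¹ = g⁻¹ * b * g := by
      apply hinj _ (N.mul_mem (N.mul_mem hnN haN) (N.inv_mem hnN)) _ hbN
      rw [hl, ← hd, map_mul, map_mul, map_inv, hnd, hi]
    refine ⟨g * n, ?_⟩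
    calc g * n * a * (g * n)⁻¹ = g * (n * a * n⁻¹) * g⁻¹ := by group
      _ = g * (g⁻¹ * b * g) * g⁻¹ := by rw [h3]
      _ = b := by group
  refine ⟨conjb, ?_⟩
  -- the order formula
  obtain ⟨a', ha'N, ha'⟩ := hsurj (DihedralGroup.sr (i + 1))
  have ha'2 : a' * a' = 1 := by
    apply hinj _ (N.mul_mem ha'N ha'N) _ N.one_mem
    rw [map_mul, ha', DihedralGroup.sr_mul_self, map_one]
  have ha'Q : a' ∉ Q := by
    rw [← hker, MonoidHom.mem_ker, ha']
    intro h; cases h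
  have ha'1 : a' ≠ 1 := by rintro rfl; exact ha'Q Q.one_mem
  obtain ⟨g, hg⟩ := conjb a' (orderOf_eq_prime (by rw [pow_two]; exact ha'2) ha'1) ha'Q
  have hCaa' : ∀ x ∈ Q, x * a = a * x → x * a' = a' * x → x = 1 := by
    intro x hx h1 h2
    apply hCy (a * a') ⟨1, h10, by
      rw [map_mul, hi, ha', DihedralGroup.sr_mul_sr]; congr 1; ring⟩ x hx
    exact Commute.mul_right h1 h2
  obtain ⟨A, hA⟩ : ∃ A, A = Q ⊓ Subgroup.centralizer ({a} : Set G) := ⟨_, rfl⟩
  obtain ⟨A', hA'⟩ : ∃ A', A' = Q ⊓ Subgroup.centralizer ({a'} : Set G) := ⟨_, rfl⟩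
  have memA : ∀ x, x ∈ A ↔ x ∈ Q ∧ x * a = a * x := by
    intro x
    rw [hA, Subgroup.mem_inf, Subgroup.mem_centralizer_singleton_iff]
  have memA' : ∀ x, x ∈ A' ↔ x ∈ Q ∧ x * a' = a' * x := by
    intro x
    rw [hA', Subgroup.mem_inf, Subgroup.mem_centralizer_singleton_iff]
  rw [← hA]
  have hcardAA' : Nat.card ↥A' = Nat.card ↥A := by
    symm
    apply Nat.card_congr
    refine ((MulAut.conj g).subgroupMap A).toEquiv.trans (Equiv.setCongr ?_)
    ext x
    constructor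
    · rintro ⟨y, hy, rfl⟩
      obtain ⟨hy1, hy2⟩ := (memA y).mp hy
      refine (memA' _).mpr ⟨hQn.conj_mem y hy1 g, ?_⟩
      show g * y * g⁻¹ * a' = a' * (g * y * g⁻¹)
      rw [← hg]
      calc g * y * g⁻¹ * (g * a * g⁻¹) = g * (y * a) * g⁻¹ := by group
        _ = g * (a * y) * g⁻¹ := by rw [hy2]
        _ = _ := by group
    · intro hx
      obtain ⟨hy1, hy2⟩ := (memA' x).mp hx
      refine ⟨g⁻¹ * x * g, (memA _).mpr ⟨by simpa using hQn.conj_mem x hy1 g⁻¹, ?_⟩, ?_⟩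
      · rw [← hg] at hy2
        calc g⁻¹ * x * g * a = g⁻¹ * (x * (g * a * g⁻¹)) * g := by group
          _ = g⁻¹ * (g * a * g⁻¹ * x) * g := by rw [hy2]
          _ = _ := by group
      · show g * (g⁻¹ * x * g) * g⁻¹ = x
        group
  have hle : Nat.card ↥A * Nat.card ↥A' ≤ Nat.card ↥Q := by
    rw [← Nat.card_prod]
    apply Nat.card_le_card_of_injective (fun z : ↥A × ↥A' => (⟨(z.1 : G) * (z.2 : G),
      Q.mul_mem ((memA _).mp z.1.2).1 ((memA' _).mp z.2.2).1⟩ : ↥Q))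
    intro z w hzw
    have h1 : (z.1 : G) * z.2 = w.1 * w.2 := congrArg Subtype.val hzw
    have h2 : (w.1 : G)⁻¹ * z.1 = w.2 * (z.2 : G)⁻¹ := by
      have : (w.1 : G)⁻¹ * (z.1 * z.2) * (z.2 : G)⁻¹ = (w.1 : G)⁻¹ * (w.1 * w.2) * (z.2 : G)⁻¹ := by rw [h1]
      calc (w.1 : G)⁻¹ * z.1 = (w.1 : G)⁻¹ * (z.1 * z.2) * (z.2 : G)⁻¹ := by group
        _ = (w.1 : G)⁻¹ * (w.1 * w.2) * (z.2 : G)⁻¹ := this
        _ = _ := by group
    have h3 : (w.1 : G)⁻¹ * z.1 ∈ A := A.mul_mem (A.inv_mem w.1.2) z.1.2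
    have h4 : (w.1 : G)⁻¹ * z.1 ∈ A' := by rw [h2]; exact A'.mul_mem w.2.2 (A'.inv_mem z.2.2)
    have h5 := hCaa' _ ((memA _).mp h3).1 ((memA _).mp h3).2 ((memA' _).mp h4).2
    have h6 : (z.1 : G) = w.1 := (inv_mul_eq_one.mp h5).symm
    have h7 : (z.2 : G) = w.2 := by rw [h6] at h1; exact mul_left_cancel h1
    exact Prod.ext (Subtype.ext h6) (Subtype.ext h7)
  have hge : Nat.card (↥Q ⧸ A.subgroupOf Q) * Nat.card (↥Q ⧸ A'.subgroupOf Q) ≤ Nat.card ↥Q := by
    rw [← Nat.card_prod]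
    have hmem : ∀ x y : ↥Q, ((x : G) * a * (x : G)⁻¹) * ((y : G) * a' * (y : G)⁻¹) * (a * a')⁻¹ ∈ Q := by
      intro x y
      rw [hmemQ]
      have hx : f (x : G) = 1 := (hmemQ _).mp x.2
      have hy : f (y : G) = 1 := (hmemQ _).mp y.2
      simp only [map_mul, map_inv, hx, hy]
      group
    apply Nat.card_le_card_of_injective (fun z : (↥Q ⧸ A.subgroupOf Q) × (↥Q ⧸ A'.subgroupOf Q) =>
      (⟨_, hmem z.1.out z.2.out⟩ : ↥Q))
    intro z w hzw
    have h1 := mul_right_cancel (congrArg Subtype.val hzw)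
    -- y := common product
    set b := ((z.1.out : ↥Q) : G) * a * ((z.1.out : ↥Q) : G)⁻¹ with hb
    set b' := ((z.2.out : ↥Q) : G) * a' * ((z.2.out : ↥Q) : G)⁻¹ with hb'
    set c := ((w.1.out : ↥Q) : G) * a * ((w.1.out : ↥Q) : G)⁻¹ with hc
    set c' := ((w.2.out : ↥Q) : G) * a' * ((w.2.out : ↥Q) : G)⁻¹ with hc'
    have haa : a * a = 1 := by rw [← pow_two]; exact ha2'
    have sq : ∀ x y : G, y * y = 1 → (x * y * x⁻¹) * (x * y * x⁻¹) = 1 := by
      intro x y hy
      calc (x * y * x⁻¹) * (x * y * x⁻¹) = x * (y * y) * x⁻¹ := by group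
        _ = 1 := by rw [hy]; group
    have hbb : b * b = 1 := sq _ _ haa
    have hb'b' : b' * b' = 1 := sq _ _ ha'2
    have hcc : c * c = 1 := sq _ _ haa
    have hc'c' : c' * c' = 1 := sq _ _ ha'2
    have hfQ : ∀ x : ↥Q, f (x : G) = 1 := fun x => (hmemQ _).mp x.2
    have hfb : f b = f a := by rw [hb, map_mul, map_mul, map_inv, hfQ]; group
    have hfb' : f b' = f a' := by rw [hb', map_mul, map_mul, map_inv, hfQ]; group
    have hfc : f c = f a := by rw [hc, map_mul, map_mul, map_inv, hfQ]; group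
    have hbc : b * c = 1 := by
      apply hCy (b * b') ⟨1, h10, by
        rw [map_mul, hfb, hfb', hi, ha', DihedralGroup.sr_mul_sr]; congr 1; ring⟩
      · rw [← hker, MonoidHom.mem_ker, map_mul, hfb, hfc, ← map_mul, haa, map_one]
      · -- b c commutes with b b' = c c'
        -- c (c c') = c' , (c c') c = c c' c; b (b b') b = b' b = (b b')^{-1}, c (c c') c = c' c
        have e1 : c * (b * b') = (b' * b) * c := by
          have h2 : c * (b * b') = c' := by rw [h1, ← mul_assoc, hcc, one_mul]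
          have h3 : (b * b') * c' = c := by rw [h1, mul_assoc, hc'c', mul_one]
          rw [h2, ← h3]
          calc c' = (b' * b') * c' := by rw [hb'b', one_mul]
            _ = b' * (b * b) * b' * c' := by rw [hbb, mul_one]
            _ = _ := by group
        calc b * c * (b * b') = b * (c * (b * b')) := by rw [mul_assoc]
          _ = b * ((b' * b) * c) := by rw [e1]
          _ = b * b' * (b * c) := by group
    have hbc' : b = c := by
      calc b = b * (c * c) := by rw [hcc, mul_one]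
        _ = (b * c) * c := by group
        _ = c := by rw [hbc, one_mul]
    have hb'c' : b' = c' := by rw [hbc'] at h1; exact mul_left_cancel h1
    have key : ∀ (x y t : G), x * t * x⁻¹ = y * t * y⁻¹ → (x⁻¹ * y) * t = t * (x⁻¹ * y) := by
      intro x y t h
      calc (x⁻¹ * y) * t = x⁻¹ * (y * t * y⁻¹) * y := by group
        _ = x⁻¹ * (x * t * x⁻¹) * y := by rw [h]
        _ = _ := by group
    apply Prod.ext
    · rw [← Quotient.out_eq z.1, ← Quotient.out_eq w.1]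
      apply QuotientGroup.eq.mpr
      rw [Subgroup.mem_subgroupOf]
      exact (memA _).mpr ⟨(z.1.out⁻¹ * w.1.out).2, key _ _ _ hbc'⟩
    · rw [← Quotient.out_eq z.2, ← Quotient.out_eq w.2]
      apply QuotientGroup.eq.mpr
      rw [Subgroup.mem_subgroupOf]
      exact (memA' _).mpr ⟨(z.2.out⁻¹ * w.2.out).2, key _ _ _ hb'c'⟩
  have hAQ : A ≤ Q := hA ▸ inf_le_left
  have hA'Q : A' ≤ Q := hA' ▸ inf_le_left
  have c1 : Nat.card ↥Q = Nat.card (↥Q ⧸ A.subgroupOf Q) * Nat.card ↥A := by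
    rw [Subgroup.card_eq_card_quotient_mul_card_subgroup (A.subgroupOf Q),
      Nat.card_congr (Subgroup.subgroupOfEquivOfLe hAQ).toEquiv]
  have c2 : Nat.card ↥Q = Nat.card (↥Q ⧸ A'.subgroupOf Q) * Nat.card ↥A' := by
    rw [Subgroup.card_eq_card_quotient_mul_card_subgroup (A'.subgroupOf Q),
      Nat.card_congr (Subgroup.subgroupOfEquivOfLe hA'Q).toEquiv]
  rw [hcardAA'] at hle c2
  have hQpos : 0 < Nat.card ↥Q := Nat.card_pos
  apply le_antisymm
  · rw [pow_two]; exact hle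
  · have h1 : Nat.card ↥Q * Nat.card ↥Q ≤ Nat.card ↥Q * (Nat.card ↥A) ^ 2 := by
      calc Nat.card ↥Q * Nat.card ↥Q = (Nat.card (↥Q ⧸ A.subgroupOf Q) * Nat.card ↥A) * (Nat.card (↥Q ⧸ A'.subgroupOf Q) * Nat.card ↥A) := by
            rw [← c1, ← c2]
        _ = (Nat.card (↥Q ⧸ A.subgroupOf Q) * Nat.card (↥Q ⧸ A'.subgroupOf Q)) * (Nat.card ↥A) ^ 2 := by ring
        _ ≤ Nat.card ↥Q * (Nat.card ↥A) ^ 2 := Nat.mul_le_mul_right _ hge
    exact Nat.le_of_mul_le_mul_left h1 hQpos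

end Cfsg.Agent.S2873
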