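import Cfsg.Statements.S2874
import Mathlib

set_option autoImplicit false
open Cfsg

namespace Cfsg.Agent.S2874

/-- structure extracted from `A₄` -/
structure A4at {G : Type*} [Group G] (H : Subgroup G) (w : G) : Prop where
  mem : w ∈ H
  w3 : w ^ 3 = 1
  w1 : w ≠ 1
  x3 : ∀ x ∈ H, x ^ 2 = 1 → x * w ≠ 1 ∧ (x * w) ^ 3 = 1
  all : ∀ h ∈ H, ∃ x ∈ H, x ^ 2 = 1 ∧ ∃ i : ℕ, h = x * w ^ i
  card : Nat.card {x : G // x ∈ H ∧ x ^ 2 = 1} = 4

theorem a4_fact : ∃ w : ↥(alternatingGroup (Fin 4)), w ^ 3 = 1 ∧ w ≠ 1 ∧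
    (∀ x : ↥(alternatingGroup (Fin 4)), x ^ 2 = 1 → x * w ≠ 1 ∧ (x * w) ^ 3 = 1) ∧
    (∀ h : ↥(alternatingGroup (Fin 4)), ∃ x : ↥(alternatingGroup (Fin 4)), x ^ 2 = 1 ∧ ∃ i : Fin 3, h = x * w ^ (i : ℕ)) := by
  decide +kernel

theorem a4_card : Fintype.card {x : ↥(alternatingGroup (Fin 4)) // x ^ 2 = 1} = 4 := by
  decide +kernel

theorem exists_A4at {G : Type*} [Group G] {H : Subgroup G} (e : ↥H ≃* ↥(alternatingGroup (Fin 4))) :
    ∃ w, A4at H w := by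
  obtain ⟨w, h1, h2, h3, h4⟩ := a4_fact
  have key : ∀ x : ↥H, x ^ 2 = 1 ↔ (e x) ^ 2 = 1 := by
    intro x
    rw [← map_pow, MulEquiv.map_eq_one_iff]
  refine ⟨(e.symm w : G), (e.symm w).2, ?_, ?_, ?_, ?_, ?_⟩
  · rw [← Subgroup.coe_pow, ← map_pow, h1, map_one]; rfl
  · intro h
    apply h2
    have : e.symm w = 1 := Subtype.ext h
    rwa [MulEquiv.map_eq_one_iff] at this
  · intro x hx hx2
    have hx2' : (⟨x, hx⟩ : ↥H) ^ 2 = 1 := Subtype.ext hx2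
    rw [key] at hx2'
    obtain ⟨h5, h6⟩ := h3 _ hx2'
    constructor
    · intro h
      apply h5
      have : (⟨x, hx⟩ : ↥H) * e.symm w = 1 := Subtype.ext h
      have h7 := congrArg e this
      rwa [map_mul, MulEquiv.apply_symm_apply, map_one] at h7
    · have : ((⟨x, hx⟩ : ↥H) * e.symm w) ^ 3 = 1 := by
        rw [← MulEquiv.map_eq_one_iff e, map_pow, map_mul, MulEquiv.apply_symm_apply]; exact h6
      exact congrArg Subtype.val this
  · intro h hh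
    obtain ⟨x, hx2, i, hi⟩ := h4 (e ⟨h, hh⟩)
    refine ⟨(e.symm x : G), (e.symm x).2, ?_, i, ?_⟩
    · rw [← Subgroup.coe_pow, ← map_pow, hx2, map_one]; rfl
    · rw [← Subgroup.coe_pow, ← Subgroup.coe_mul, ← map_pow, ← map_mul, ← hi, MulEquiv.symm_apply_apply]
  · rw [← a4_card, ← Nat.card_eq_fintype_card]
    apply Nat.card_congr
    refine
      { toFun := fun x => ⟨e ⟨x.1, x.2.1⟩, (key _).mp (Subtype.ext x.2.2)⟩
        invFun := fun y => ⟨(e.symm y.1 : G), (e.symm y.1).2, by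
          rw [← Subgroup.coe_pow, ← map_pow, y.2, map_one]; rfl⟩
        left_inv := fun x => by simp
        right_inv := fun y => by simp }

theorem A4at.conj {G : Type*} [Group G] {H : Subgroup G} {w : G} (h : A4at H w) (g : G) :
    A4at (H.map (MulAut.conj g).toMonoidHom) (g * w * g⁻¹) := by
  have hmem : ∀ x, x ∈ H.map (MulAut.conj g).toMonoidHom ↔ g⁻¹ * x * g ∈ H := by
    intro x
    constructor
    · rintro ⟨y, hy, rfl⟩
      have : g⁻¹ * (g * y * g⁻¹) * g = y := by group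
      show g⁻¹ * (g * y * g⁻¹) * g ∈ H
      rw [this]; exact hy
    · intro hx
      exact ⟨_, hx, by show g * (g⁻¹ * x * g) * g⁻¹ = x; group⟩
  have hsq : ∀ (x : G) (n : ℕ), x ^ n = 1 ↔ (g⁻¹ * x * g) ^ n = 1 := by
    intro x n
    have h1 : (g⁻¹ * x * g) ^ n = g⁻¹ * x ^ n * g := by
      have := conj_pow (a := g⁻¹) (b := x) (i := n)
      rwa [inv_inv] at this
    rw [h1]
    constructor
    · intro h2; rw [h2]; group
    · intro h2
      have : x ^ n = g * (g⁻¹ * x ^ n * g) * g⁻¹ := by group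
      rw [this, h2]; group
  constructor
  · exact ⟨w, h.mem, rfl⟩
  · rw [conj_pow, h.w3]; group
  · intro h1
    apply h.w1
    have : w = g⁻¹ * (g * w * g⁻¹) * g := by group
    rw [this, h1]; group
  · intro x hx hx2
    rw [hmem] at hx
    obtain ⟨h1, h2⟩ := h.x3 _ hx ((hsq x 2).mp hx2)
    constructor
    · intro h3
      apply h1
      calc g⁻¹ * x * g * w = g⁻¹ * (x * (g * w * g⁻¹)) * g := by group
        _ = 1 := by rw [h3]; group
    · rw [hsq]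
      have : g⁻¹ * (x * (g * w * g⁻¹)) * g = g⁻¹ * x * g * w := by group
      rw [this]; exact h2
  · intro y hy
    rw [hmem] at hy
    obtain ⟨x, hx, hx2, i, hi⟩ := h.all _ hy
    refine ⟨g * x * g⁻¹, ⟨x, hx, rfl⟩, by rw [conj_pow, hx2]; group, i, ?_⟩
    rw [conj_pow]
    calc y = g * (g⁻¹ * y * g) * g⁻¹ := by group
      _ = g * (x * w ^ i) * g⁻¹ := by rw [hi]
      _ = _ := by group
  · rw [← h.card]
    symm
    apply Nat.card_congr
    refine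
      { toFun := fun x => ⟨g * x.1 * g⁻¹, ⟨x.1, x.2.1, rfl⟩, by rw [conj_pow, x.2.2]; group⟩
        invFun := fun y => ⟨g⁻¹ * y.1 * g, (hmem _).mp y.2.1, (hsq _ _).mp y.2.2⟩
        left_inv := fun x => Subtype.ext (by group)
        right_inv := fun y => Subtype.ext (by group) }

section
variable {k : ℕ}

/-- matrices -/
abbrev MM (k : ℕ) := Matrix (Fin 2) (Fin 2) (ZMod (2 ^ k))

/-- reduction mod 2 -/
def red (hk : 2 ≤ k) : ZMod (2 ^ k) →+* ZMod 2 := ZMod.castHom (dvd_pow_self 2 (by omega)) (ZMod 2)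

theorem isUnit_of_red (hk : 2 ≤ k) {a : ZMod (2 ^ k)} (h : red hk a = 1) : IsUnit a := by
  have : NeZero (2 ^ k) := ⟨by positivity⟩
  rw [← ZMod.natCast_zmod_val a, ZMod.isUnit_iff_coprime]
  apply Nat.Coprime.pow_right
  rw [Nat.coprime_two_right]
  rw [← ZMod.natCast_zmod_val a, map_natCast] at h
  rw [← ZMod.natCast_eq_one_iff_odd]
  exact h

theorem mat2_fact : ∀ A : Matrix (Fin 2) (Fin 2) (ZMod 2), A ^ 3 = 1 → A = 1 ∨ (A 0 0 + A 1 1 = 1 ∧ A 0 0 * A 1 1 - A 0 1 * A 1 0 = 1 ∧ A 1 0 = 1) := by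
  decide +kernel

theorem tr_det (hk : 2 ≤ k) {w : GL (Fin 2) (ZMod (2 ^ k))} (h3 : w ^ 3 = 1) (h1 : w ≠ 1) :
    (w : MM k) 0 0 + (w : MM k) 1 1 = -1 ∧
    (w : MM k) 0 0 * (w : MM k) 1 1 - (w : MM k) 0 1 * (w : MM k) 1 0 = 1 ∧
      IsUnit ((w : MM k) 1 0) := by
  obtain ⟨A, hA⟩ : ∃ A : Matrix (Fin 2) (Fin 2) (ZMod (2 ^ k)), A = (w : MM k) := ⟨_, rfl⟩
  have hA3 : A ^ 3 = 1 := by
    rw [hA, ← Units.val_pow_eq_pow_val, h3]; rfl
  rw [← hA]
  have hB3 : ((red hk).mapMatrix A) ^ 3 = 1 := by rw [← map_pow, hA3, map_one]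
  rcases mat2_fact _ hB3 with h | ⟨h4, h5, h6⟩
  · exfalso
    apply h1
    have hu : IsUnit (A ^ 2 + A + 1) := by
      rw [Matrix.isUnit_iff_isUnit_det]
      apply isUnit_of_red hk
      rw [RingHom.map_det, map_add, map_add, map_pow, h, map_one]
      decide +kernel
    have h7 : (A - 1) * (A ^ 2 + A + 1) = 0 := by
      have : (A - 1) * (A ^ 2 + A + 1) = A ^ 3 - 1 := by noncomm_ring
      rw [this, hA3, sub_self]
    have h8 : A - 1 = 0 := by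
      obtain ⟨u, hu⟩ := hu
      rw [← hu] at h7
      have := congrArg (· * (↑u⁻¹ : Matrix (Fin 2) (Fin 2) (ZMod (2 ^ k)))) h7
      simpa [mul_assoc] using this
    apply Units.ext
    rw [← hA, sub_eq_zero.mp h8]; rfl
  · have e4 : red hk (A 0 0 + A 1 1) = 1 := by rw [map_add]; exact h4
    have e5 : red hk (A 0 0 * A 1 1 - A 0 1 * A 1 0) = 1 := by
      rw [map_sub, map_mul, map_mul]; exact h5
    have e6 : red hk (A 1 0) = 1 := h6
    have hu := isUnit_of_red hk e6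
    obtain ⟨t, ht⟩ : ∃ t, t = A 0 0 + A 1 1 := ⟨_, rfl⟩
    obtain ⟨δ, hδ⟩ : ∃ δ, δ = A 0 0 * A 1 1 - A 0 1 * A 1 0 := ⟨_, rfl⟩
    rw [← ht] at e4
    rw [← hδ] at e5
    -- entries of A ^ 3
    have c10 : (A ^ 3) 1 0 = (t ^ 2 - δ) * A 1 0 := by
      rw [ht, hδ]
      simp only [pow_succ, pow_zero, one_mul, Matrix.mul_apply, Fin.sum_univ_two]
      ring
    have c00 : (A ^ 3) 0 0 = (t ^ 2 - δ) * A 0 0 - t * δ := by
      rw [ht, hδ]
      simp only [pow_succ, pow_zero, one_mul, Matrix.mul_apply, Fin.sum_univ_two]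
      ring
    rw [hA3] at c10 c00
    have e7 : t ^ 2 - δ = 0 := by
      have : (t ^ 2 - δ) * A 1 0 = 0 := by rw [← c10]; rfl
      exact (hu.mul_left_eq_zero).mp this
    have e8 : t * δ = -1 := by
      rw [e7, zero_mul, zero_sub] at c00
      have : (1 : Matrix (Fin 2) (Fin 2) (ZMod (2 ^ k))) 0 0 = 1 := rfl
      rw [this] at c00
      rw [c00]; ring
    have e9 : δ = t ^ 2 := (sub_eq_zero.mp e7).symm
    have e10 : (t + 1) * (t ^ 2 - t + 1) = 0 := by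
      have : (t + 1) * (t ^ 2 - t + 1) = t * t ^ 2 + 1 := by ring
      rw [this, ← e9, e8]; ring
    have hu2 : IsUnit (t ^ 2 - t + 1) := by
      apply isUnit_of_red hk
      rw [map_add, map_sub, map_pow, e4, map_one]; ring
    have e11 : t + 1 = 0 := (hu2.mul_left_eq_zero).mp e10
    have e12 : t = -1 := eq_neg_of_add_eq_zero_left e11
    refine ⟨by rw [← ht, e12], by rw [← hδ, e9, e12]; ring, hu⟩

/-- the set determined by `w` -/
def W (w : GL (Fin 2) (ZMod (2 ^ k))) : Set (GL (Fin 2) (ZMod (2 ^ k))) :=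
  {x | (x : MM k) 0 0 = (x : MM k) 1 1 ∧ 2 * (x : MM k) 0 1 = 0 ∧
    2 * (x : MM k) 1 0 = 0 ∧
    (x : MM k) 0 0 = 1 + (x : MM k) 0 1 * (w : MM k) 1 0 + (x : MM k) 1 0 * (w : MM k) 0 1}

theorem mem_W (hk : 2 ≤ k) {H : Subgroup (GL (Fin 2) (ZMod (2 ^ k)))} {w : GL (Fin 2) (ZMod (2 ^ k))}
    (h : A4at H w) {x : GL (Fin 2) (ZMod (2 ^ k))} (hx : x ∈ H) (hx2 : x ^ 2 = 1) : x ∈ W w := by
  obtain ⟨t1, d1, -⟩ := tr_det hk h.w3 h.w1
  obtain ⟨h5, h6⟩ := h.x3 x hx hx2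
  obtain ⟨t2, d2, -⟩ := tr_det hk h6 h5
  obtain ⟨A, hA⟩ : ∃ A : Matrix (Fin 2) (Fin 2) (ZMod (2 ^ k)), A = (w : MM k) := ⟨_, rfl⟩
  obtain ⟨X, hX⟩ : ∃ X : Matrix (Fin 2) (Fin 2) (ZMod (2 ^ k)), X = (x : MM k) := ⟨_, rfl⟩
  have hxw : ((x * w : GL (Fin 2) (ZMod (2 ^ k))) : MM k) = X * A := by
    rw [hA, hX]; rfl
  rw [hxw] at t2 d2
  rw [← hA] at t1 d1
  have hXX : X * X = 1 := by
    rw [hX, ← pow_two, ← Units.val_pow_eq_pow_val, hx2]; rfl
  have hdetX : X 0 0 * X 1 1 - X 0 1 * X 1 0 = 1 := by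
    have e1 : (X * A) 0 0 * (X * A) 1 1 - (X * A) 0 1 * (X * A) 1 0 =
        (X 0 0 * X 1 1 - X 0 1 * X 1 0) * (A 0 0 * A 1 1 - A 0 1 * A 1 0) := by
      simp only [Matrix.mul_apply, Fin.sum_univ_two]; ring
    rw [e1, d1, mul_one] at d2
    exact d2
  have hadj : X * Matrix.adjugate X = 1 := by
    rw [Matrix.mul_adjugate, Matrix.det_fin_two, hdetX, one_smul]
  have hXadj : X = Matrix.adjugate X := by
    calc X = X * (X * Matrix.adjugate X) := by rw [hadj, mul_one]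
      _ = (X * X) * Matrix.adjugate X := by rw [mul_assoc]
      _ = _ := by rw [hXX, one_mul]
  rw [Matrix.adjugate_fin_two] at hXadj
  have q00 : X 0 0 = X 1 1 := by
    have := congrFun (congrFun hXadj 0) 0
    simpa using this
  have q01 : X 0 1 = - X 0 1 := by
    have := congrFun (congrFun hXadj 0) 1
    simpa using this
  have q10 : X 1 0 = - X 1 0 := by
    have := congrFun (congrFun hXadj 1) 0
    simpa using this
  unfold W
  rw [Set.mem_setOf_eq, ← hX, ← hA]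
  refine ⟨q00, ?_, ?_, ?_⟩
  · rw [two_mul]; nth_rewrite 1 [q01]; ring
  · rw [two_mul]; nth_rewrite 1 [q10]; ring
  · have e1 : (X * A) 0 0 + (X * A) 1 1 = X 0 0 * (A 0 0 + A 1 1) + X 0 1 * A 1 0 + X 1 0 * A 0 1 := by
      simp only [Matrix.mul_apply, Fin.sum_univ_two, ← q00]; ring
    rw [e1, t1] at t2
    calc X 0 0 = -(X 0 0 * -1 + X 0 1 * A 1 0 + X 1 0 * A 0 1) + X 0 1 * A 1 0 + X 1 0 * A 0 1 := by ring
      _ = _ := by rw [t2]; ring

theorem card_two_torsion (hk : 2 ≤ k) : Nat.card {b : ZMod (2 ^ k) // 2 * b = 0} ≤ 2 := by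
  have : NeZero (2 ^ k) := ⟨by positivity⟩
  have key : ∀ b : ZMod (2 ^ k), 2 * b = 0 → b = 0 ∨ b = (2 ^ (k - 1) : ℕ) := by
    intro b hb
    have h1 : ((2 * b.val : ℕ) : ZMod (2 ^ k)) = 0 := by
      push_cast
      rw [ZMod.natCast_zmod_val]; exact hb
    rw [ZMod.natCast_eq_zero_iff] at h1
    obtain ⟨k', hk'⟩ : ∃ k', k = k' + 1 := ⟨k - 1, by omega⟩
    have hkk : 2 ^ k = 2 * 2 ^ k' := by rw [hk', pow_succ, mul_comm]
    have h2 : 2 ^ k' ∣ b.val := by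
      obtain ⟨c, hc⟩ := h1
      refine ⟨c, ?_⟩
      have : 2 * b.val = 2 * (2 ^ k' * c) := by rw [hc, hkk]; ring
      exact Nat.eq_of_mul_eq_mul_left (by norm_num) this
    obtain ⟨c, hc⟩ := h2
    have h3 : 2 ^ k' * c < 2 * 2 ^ k' := by
      rw [← hc, ← hkk]; exact ZMod.val_lt b
    have hk1 : k - 1 = k' := by omega
    rw [hk1]
    have h4 : c < 2 := by
      by_contra hlt
      push Not at hlt
      have := Nat.mul_le_mul_left (2 ^ k') hlt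
      omega
    rw [← ZMod.natCast_zmod_val b, hc]
    interval_cases c
    · left; simp
    · right; simp
  have hinj : Function.Injective (fun b : {b : ZMod (2 ^ k) // 2 * b = 0} => (decide (b.1 = 0) : Bool)) := by
    intro a b hab
    apply Subtype.ext
    rcases key a.1 a.2 with h1 | h1 <;> rcases key b.1 b.2 with h2 | h2
    · rw [h1, h2]
    · by_contra hne
      simp only [h1, decide_true] at hab
      have := of_decide_eq_true hab.symm
      rw [this] at hne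
      exact hne h1
    · by_contra hne
      simp only [h2, decide_true] at hab
      have := of_decide_eq_true hab
      rw [this] at hne
      exact hne h2.symm
    · rw [h1, h2]
  have := Nat.card_le_card_of_injective _ hinj
  simpa using this

theorem card_W (hk : 2 ≤ k) (w : GL (Fin 2) (ZMod (2 ^ k))) : Nat.card (W w) ≤ 4 := by
  have : NeZero (2 ^ k) := ⟨by positivity⟩
  have hinj : Function.Injective (fun x : W w =>
      ((⟨(x.1 : MM k) 0 1, x.2.2.1⟩, ⟨(x.1 : MM k) 1 0, x.2.2.2.1⟩) :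
        {b : ZMod (2 ^ k) // 2 * b = 0} × {b : ZMod (2 ^ k) // 2 * b = 0})) := by
    intro x y hxy
    have h1 : (x.1 : MM k) 0 1 = (y.1 : MM k) 0 1 := congrArg (fun z => z.1.1) hxy
    have h2 : (x.1 : MM k) 1 0 = (y.1 : MM k) 1 0 := congrArg (fun z => z.2.1) hxy
    have h3 : (x.1 : MM k) 0 0 = (y.1 : MM k) 0 0 := by
      rw [x.2.2.2.2, y.2.2.2.2, h1, h2]
    have h4 : (x.1 : MM k) 1 1 = (y.1 : MM k) 1 1 := by
      rw [← x.2.1, ← y.2.1, h3]
    apply Subtype.ext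
    apply Units.ext
    ext i j
    fin_cases i <;> fin_cases j <;> assumption
  have h1 := Nat.card_le_card_of_injective _ hinj
  rw [Nat.card_prod] at h1
  have h2 := card_two_torsion hk
  calc Nat.card (W w) ≤ _ := h1
    _ ≤ 2 * 2 := Nat.mul_le_mul h2 h2
    _ = 4 := rfl

theorem mem_iff (hk : 2 ≤ k) {H : Subgroup (GL (Fin 2) (ZMod (2 ^ k)))} {w : GL (Fin 2) (ZMod (2 ^ k))}
    (h : A4at H w) (x : GL (Fin 2) (ZMod (2 ^ k))) : (x ∈ H ∧ x ^ 2 = 1) ↔ x ∈ W w := by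
  have : NeZero (2 ^ k) := ⟨by positivity⟩
  have hfin : Finite (GL (Fin 2) (ZMod (2 ^ k))) := inferInstance
  have hsub : {x : GL (Fin 2) (ZMod (2 ^ k)) | x ∈ H ∧ x ^ 2 = 1} ⊆ W w := fun x hx => mem_W hk h hx.1 hx.2
  have heq : {x : GL (Fin 2) (ZMod (2 ^ k)) | x ∈ H ∧ x ^ 2 = 1} = W w := by
    apply Set.eq_of_subset_of_ncard_le hsub
    have h1 : ({x : GL (Fin 2) (ZMod (2 ^ k)) | x ∈ H ∧ x ^ 2 = 1}).ncard = 4 := h.card
    rw [h1]
    exact card_W hk w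
  exact Set.ext_iff.mp heq x

theorem eq_of_A4at (hk : 2 ≤ k) {H H' : Subgroup (GL (Fin 2) (ZMod (2 ^ k)))} {w : GL (Fin 2) (ZMod (2 ^ k))}
    (h : A4at H w) (h' : A4at H' w) : H = H' := by
  apply le_antisymm
  · intro y hy
    obtain ⟨x, hx, hx2, i, rfl⟩ := h.all y hy
    have h1 := (mem_iff hk h' x).mpr ((mem_iff hk h x).mp ⟨hx, hx2⟩)
    exact mul_mem h1.1 (pow_mem h'.mem i)
  · intro y hy
    obtain ⟨x, hx, hx2, i, rfl⟩ := h'.all y hy
    have h1 := (mem_iff hk h x).mpr ((mem_iff hk h' x).mp ⟨hx, hx2⟩)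
    exact mul_mem h1.1 (pow_mem h.mem i)

theorem exists_companion (hk : 2 ≤ k) {w : GL (Fin 2) (ZMod (2 ^ k))} (h3 : w ^ 3 = 1) (h1 : w ≠ 1) :
    ∃ P : GL (Fin 2) (ZMod (2 ^ k)), (w : MM k) * (P : MM k) = (P : MM k) * !![0, -1; 1, -1] := by
  obtain ⟨t1, d1, hu⟩ := tr_det hk h3 h1
  obtain ⟨A, hA⟩ : ∃ A : Matrix (Fin 2) (Fin 2) (ZMod (2 ^ k)), A = (w : MM k) := ⟨_, rfl⟩
  rw [← hA] at t1 d1 hu ⊢
  have hdet : IsUnit (Matrix.det !![1, A 0 0; 0, A 1 0]) := by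
    rw [Matrix.det_fin_two_of]
    simpa using hu
  refine ⟨Matrix.GeneralLinearGroup.mk'' !![1, A 0 0; 0, A 1 0] hdet, ?_⟩
  have hcoe : ((Matrix.GeneralLinearGroup.mk'' !![1, A 0 0; 0, A 1 0] hdet : GL (Fin 2) (ZMod (2 ^ k))) :
      Matrix (Fin 2) (Fin 2) (ZMod (2 ^ k))) = !![1, A 0 0; 0, A 1 0] := rfl
  rw [hcoe]
  have ht : A 1 1 = -1 - A 0 0 := by rw [← t1]; ring
  have hd : A 0 1 * A 1 0 = A 0 0 * A 1 1 - 1 := by rw [← d1]; ring
  ext i j
  fin_cases i <;> fin_cases j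
  · simp [Matrix.mul_apply, Fin.sum_univ_two]
  · simp only [Matrix.mul_apply, Fin.sum_univ_two]
    simp
    rw [hd, ht]; ring
  · simp [Matrix.mul_apply, Fin.sum_univ_two]
  · simp only [Matrix.mul_apply, Fin.sum_univ_two]
    simp
    rw [ht]; ring

end

/-- For k ≥ 2, any two subgroups of GL₂(ℤ/2ᵏℤ) (the automorphism group of the homocyclic group ℤ/2ᵏ × ℤ/2ᵏ) that are isomorphic to the alternating group of degree 4 are conjugate. -/
theorem result (k : ℕ) (hk : 2 ≤ k) (H₁ H₂ : Subgroup (GL (Fin 2) (ZMod (2 ^ k)))) (h₁ : Nonempty (↥H₁ ≃* ↥(alternatingGroup (Fin 4)))) (h₂ : Nonempty (↥H₂ ≃* ↥(alternatingGroup (Fin 4)))) : ∃ g : GL (Fin 2) (ZMod (2 ^ k)), H₂ = H₁.map (MulAut.conj g).toMonoidHom := by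
  obtain ⟨e₁⟩ := h₁
  obtain ⟨e₂⟩ := h₂
  obtain ⟨w₁, hw₁⟩ := exists_A4at e₁
  obtain ⟨w₂, hw₂⟩ := exists_A4at e₂
  obtain ⟨P₁, hP₁⟩ := exists_companion hk hw₁.w3 hw₁.w1
  obtain ⟨P₂, hP₂⟩ := exists_companion hk hw₂.w3 hw₂.w1
  obtain ⟨g, hg⟩ : ∃ g, g = P₂ * P₁⁻¹ := ⟨_, rfl⟩
  have hconj : g * w₁ * g⁻¹ = w₂ := by
    have h1 : P₁⁻¹ * w₁ * P₁ = P₂⁻¹ * w₂ * P₂ := by
      apply Units.ext
      rw [Units.val_mul, Units.val_mul, Units.val_mul, Units.val_mul, mul_assoc, hP₁, mul_assoc, hP₂]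
      rw [← mul_assoc, ← mul_assoc]
      rw [← Units.val_mul, ← Units.val_mul, inv_mul_cancel, inv_mul_cancel]
    calc g * w₁ * g⁻¹ = P₂ * (P₁⁻¹ * w₁ * P₁) * P₂⁻¹ := by rw [hg]; group
      _ = P₂ * (P₂⁻¹ * w₂ * P₂) * P₂⁻¹ := by rw [h1]
      _ = w₂ := by group
  refine ⟨g, ?_⟩
  have h3 := hw₁.conj g
  rw [hconj] at h3
  exact eq_of_A4at hk hw₂ h3

end Cfsg.Agent.S2874
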