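import Cfsg.Statements.S2879
import Cfsg.Agent.Lib.H53.Q8
import Cfsg.Agent.Lib.H26.GenFitting

set_option autoImplicit false
open Cfsg

namespace Cfsg.Agent.S2879

theorem core {G : Type*} [Group G] [Finite G] {T Q : Subgroup G} [hQn : Q.Normal] (hQT : Q ≤ T)
    (hT : IsPGroup 2 ↥T) (hCQ : Subgroup.centralizer (Q : Set G) ≤ Q) {c z : G}
    (hidx : ∀ x ∈ T, ∀ y ∈ T, x ∉ Subgroup.zpowers c → y ∉ Subgroup.zpowers c → x⁻¹ * y ∈ Subgroup.zpowers c)
    (h4 : ∀ x ∈ T, x ∉ Subgroup.zpowers c → x ^ 4 = 1)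
    (hinv : ∀ x ∈ T, x ∉ Subgroup.zpowers c → x ^ 2 ≠ 1 → ∀ d ∈ Subgroup.zpowers c, d ^ 4 = 1 → x * d * x⁻¹ = d⁻¹)
    (hz1 : z ≠ 1) (hz2 : z ^ 2 = 1) (hzc : z ∈ Subgroup.zpowers c) (hzG : ∀ x : G, x * z = z * x)
    {g : G} (hg : Odd (orderOf g)) (hg1 : g ≠ 1) :
    ∃ U : Subgroup G, U.Normal ∧ Nonempty (↥U ≃* Matrix.SpecialLinearGroup (Fin 2) (ZMod 3)) := by
  have hQ2 : IsPGroup 2 ↥Q := hT.to_le hQT
  have hnorm : ∀ x : G, x ∈ Subgroup.normalizer (Q : Set G) := by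
    intro x; rw [Subgroup.normalizer_eq_top]; exact Subgroup.mem_top x
  have hodd1 : ∀ x : G, Odd (orderOf x) → x ∈ Subgroup.centralizer (Q : Set G) → x = 1 := by
    intro x hx hxc
    obtain ⟨k, hk⟩ := hQ2 ⟨x, hCQ hxc⟩
    have hk' : x ^ 2 ^ k = 1 := congrArg Subtype.val hk
    have h6 : orderOf x ∣ 1 := by
      have h7 : Nat.Coprime (2 ^ k) (orderOf x) := (Nat.coprime_two_left.mpr hx).pow_left k
      rw [← h7]
      exact Nat.dvd_gcd (orderOf_dvd_of_pow_eq_one hk') dvd_rfl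
    exact orderOf_eq_one_iff.mp (Nat.dvd_one.mp h6)
  have hgC : g ∉ Subgroup.centralizer (Q : Set G) := fun h => hg1 (hodd1 g hg h)
  have hzQ : z ∈ Q := by
    apply hCQ
    rw [Subgroup.mem_centralizer_iff]
    intro x _
    exact hzG x
  obtain ⟨D, hD⟩ : ∃ D, D = Q ⊓ Subgroup.zpowers c := ⟨_, rfl⟩
  have hDQ : D ≤ Q := hD ▸ inf_le_left
  have hDc : D ≤ Subgroup.zpowers c := hD ▸ inf_le_right
  have hDcyc : IsCyclic ↥D := Subgroup.isCyclic_of_le hDc
  obtain ⟨d, hdD, hdgen⟩ : ∃ d ∈ D, D = Subgroup.zpowers d := by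
    obtain ⟨⟨d, hd⟩, hgen⟩ := IsCyclic.exists_generator (α := ↥D)
    refine ⟨d, hd, le_antisymm ?_ ?_⟩
    · intro x hx
      obtain ⟨k, hk⟩ := hgen ⟨x, hx⟩
      exact ⟨k, congrArg Subtype.val hk⟩
    · rwa [Subgroup.zpowers_le]
  have hdQ : d ∈ Q := hDQ hdD
  obtain ⟨a, haQ, hac⟩ : ∃ a ∈ Q, a ∉ Subgroup.zpowers c := by
    by_contra hno
    push Not at hno
    have hQc : Q ≤ Subgroup.zpowers c := hno
    have : IsCyclic ↥Q := Subgroup.isCyclic_of_le hQc
    exact hgC (H53.Q8.mem_centralizer_of_cyclic hQ2 (hnorm g) hg)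
  have hrel : D.relIndex Q = 2 := by
    rw [Subgroup.relIndex_eq_two_iff_exists_notMem_and]
    refine ⟨a, haQ, fun h => hac (hDc h), fun b hb => ?_⟩
    by_cases hbc : b ∈ Subgroup.zpowers c
    · right; rw [hD]; exact ⟨hb, hbc⟩
    · left; rw [hD]
      refine ⟨Q.mul_mem hb haQ, ?_⟩
      have := hidx b⁻¹ (hQT (Q.inv_mem hb)) a (hQT haQ) (fun h => hbc ((Subgroup.inv_mem_iff _).mp h)) hac
      rwa [inv_inv] at this
  have hcard : Nat.card ↥Q = 2 * orderOf d := by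
    have h1 := (D.subgroupOf Q).card_mul_index
    have h2 : (D.subgroupOf Q).index = 2 := hrel
    rw [Nat.card_congr (Subgroup.subgroupOfEquivOfLe hDQ).toEquiv, h2] at h1
    rw [← h1]
    nth_rewrite 1 [hdgen]
    rw [Nat.card_zpowers, mul_comm]
  obtain ⟨j, hj⟩ : ∃ j, j = g * d * g⁻¹ := ⟨_, rfl⟩
  have hjQ : j ∈ Q := hj ▸ hQn.conj_mem d hdQ g
  have hjd : j ∉ Subgroup.zpowers d := by
    intro h
    apply hgC
    apply H53.Q8.mem_centralizer_of_index_two hQ2 hdQ hcard (hnorm g) hg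
    rwa [← hj]
  have hjc : j ∉ Subgroup.zpowers c := by
    intro h
    apply hjd
    rw [← hdgen, hD]
    exact ⟨hjQ, h⟩
  have hj4 : j ^ 4 = 1 := h4 j (hQT hjQ) hjc
  have hd4 : d ^ 4 = 1 := by
    have : j ^ 4 = g * d ^ 4 * g⁻¹ := by rw [hj, conj_pow]
    rw [hj4] at this
    calc d ^ 4 = g⁻¹ * (g * d ^ 4 * g⁻¹) * g := by group
      _ = 1 := by rw [← this]; group
  -- d ^ 2 = z
  have hzd : z ∈ Subgroup.zpowers d := by
    rw [← hdgen, hD]; exact ⟨hzQ, hzc⟩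
  have hgz : g * z * g⁻¹ = z := by rw [hzG g]; group
  have hdz : d ≠ z := by
    intro h
    apply hjd
    rw [hj, h, hgz]
    exact Subgroup.mem_zpowers z
  have hd2 : d ^ 2 = z := by
    obtain ⟨k, hk⟩ := hzd
    have hk' : d ^ k = z := hk
    have hd4z : d ^ (4 : ℤ) = 1 := by exact_mod_cast hd4
    have hmod : d ^ (k % 4) = z := by
      rw [← hk', ← Int.emod_add_mul_ediv k 4, zpow_add, zpow_mul, hd4z, one_zpow, mul_one]
      congr 1
      omega
    have h5 : k % 4 = 0 ∨ k % 4 = 1 ∨ k % 4 = 2 ∨ k % 4 = 3 := by omega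
    rcases h5 with h5 | h5 | h5 | h5 <;> rw [h5] at hmod
    · exact absurd (by simpa using hmod.symm) hz1
    · exact absurd (by simpa using hmod) hdz
    · exact_mod_cast hmod
    · exfalso
      apply hdz
      have h6 : d ^ 3 = z := by exact_mod_cast hmod
      have h7 : d ^ 9 = z ^ 3 := by rw [← h6, ← pow_mul]
      have h8 : d ^ 9 = d := by
        have : d ^ 9 = (d ^ 4) ^ 2 * d := by rw [← pow_mul, ← pow_succ]
        rw [this, hd4]; simp
      have h9 : z ^ 3 = z := by rw [pow_succ, hz2, one_mul]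
      rw [← h8, h7, h9]
  have hd2ne : d ^ 2 ≠ 1 := by rw [hd2]; exact hz1
  have hj2 : j ^ 2 = d ^ 2 := by rw [hj, conj_pow, hd2, hgz]
  have hji : j * d * j⁻¹ = d⁻¹ := by
    apply hinv j (hQT hjQ) hjc _ d (hDc hdD) hd4
    rw [hj2]; exact hd2ne
  have hq : H53.Q8.Quat d j := ⟨hd4, hj2, hji, hd2ne⟩
  have hod : orderOf d = 4 := by
    have : orderOf d = 2 ^ (1 + 1) := orderOf_eq_prime_pow (by simpa using hd2ne) (by simpa using hd4)
    simpa using this
  have hcard8 : Nat.card ↥Q = 8 := by rw [hcard, hod]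
  have hoj : orderOf j = 4 := by rw [hj]; rw [← hod]; exact MulEquiv.orderOf_eq (MulAut.conj g) d
  have hall : ∀ q ∈ Q, ∃ a b : ℕ, q = d ^ a * j ^ b := by
    have hDall : ∀ q ∈ Q, q ∈ Subgroup.zpowers c → ∃ a : ℕ, q = d ^ a := by
      intro q hqQ hqc
      have : q ∈ Subgroup.zpowers d := by rw [← hdgen, hD]; exact ⟨hqQ, hqc⟩
      obtain ⟨a, ha⟩ := mem_powers_iff_mem_zpowers.mpr this
      exact ⟨a, ha.symm⟩
    intro q hqQ
    by_cases hqc : q ∈ Subgroup.zpowers c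
    · obtain ⟨a, ha⟩ := hDall q hqQ hqc
      exact ⟨a, 0, by rw [ha, pow_zero, mul_one]⟩
    · have h5 : q * j ∈ Subgroup.zpowers c := by
        have := hidx q⁻¹ (hQT (Q.inv_mem hqQ)) j (hQT hjQ) (fun h => hqc ((Subgroup.inv_mem_iff _).mp h)) hjc
        rwa [inv_inv] at this
      obtain ⟨a, ha⟩ := hDall _ (Q.mul_mem hqQ hjQ) h5
      refine ⟨a, 3, ?_⟩
      rw [← ha]
      have : q * j * j ^ 3 = q * j ^ 4 := by rw [mul_assoc, ← pow_succ']
      rw [this, hj4, mul_one]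
  obtain ⟨k, hk⟩ : ∃ k, k = g * j * g⁻¹ := ⟨_, rfl⟩
  have hkQ : k ∈ Q := hk ▸ hQn.conj_mem j hjQ g
  have hk2 : k ^ 2 = d ^ 2 := by rw [hk, conj_pow, hj2, hd2, hgz]
  have hkj : k ∉ Subgroup.zpowers j := by
    intro h
    apply hgC
    apply H53.Q8.mem_centralizer_of_index_two hQ2 hjQ (by rw [hcard8, hoj]) (hnorm g) hg
    rwa [← hk]
  have hkd : k ∉ Subgroup.zpowers d := by
    intro h
    have hgg : Odd (orderOf (g ^ 2)) := Odd.of_dvd_nat hg (orderOf_pow_dvd 2)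
    have h5 : g ^ 2 ∈ Subgroup.centralizer (Q : Set G) := by
      apply H53.Q8.mem_centralizer_of_index_two hQ2 hdQ hcard (hnorm _) hgg
      have : g ^ 2 * d * (g ^ 2)⁻¹ = k := by
        rw [hk, hj, pow_two, mul_inv_rev]; simp only [mul_assoc]
      rwa [this]
    have h6 := hodd1 _ hgg h5
    apply hg1
    obtain ⟨m, hm⟩ := hg
    have h7 : g ^ orderOf g = 1 := pow_orderOf_eq_one g
    rw [hm, pow_add, pow_mul, h6, one_pow, one_mul, pow_one] at h7
    exact h7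
  obtain ⟨a', b', hab⟩ := hall k hkQ
  rcases hq.order4 hab (by rw [hk2]; exact hd2ne) with h5 | h5 | h5
  · exact absurd (H53.Q8.pow_inv_mem h5) hkd
  · exact absurd (H53.Q8.pow_inv_mem h5) hkj
  · rcases h5 with h5 | h5
    · exact H53.Q8.normal_SL3 hQ2 hCQ hdQ hjQ hq hall hcard8 hg hg1 hj.symm (by rw [← hk, h5])
    · -- replace d, j by their inverses
      have hq' : H53.Q8.Quat d⁻¹ j⁻¹ :=
        { d4 := by rw [inv_pow, hd4, inv_one]
          j2 := by rw [inv_pow, inv_pow, hj2]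
          ji := by
            simp only [mul_inv_rev, inv_inv, mul_assoc, pow_two, hq.r1, hq.r1', hq.r2, hq.r2', hq.r3, hq.r3', hq.r4, hq.r5, one_mul, mul_one]
          ne := by rw [inv_pow]; exact inv_ne_one.mpr hd2ne }
      refine H53.Q8.normal_SL3 hQ2 hCQ (Q.inv_mem hdQ) (Q.inv_mem hjQ) hq' ?_ hcard8 hg hg1 ?_ ?_
      · intro q hqQ
        obtain ⟨a, b, rfl⟩ := hall q hqQ
        refine ⟨3 * a, 3 * b, ?_⟩
        have e1 : d⁻¹ ^ 3 = d := by
          rw [inv_pow, inv_eq_iff_mul_eq_one, ← pow_succ]; exact hd4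
        have e2 : j⁻¹ ^ 3 = j := by
          rw [inv_pow, inv_eq_iff_mul_eq_one, ← pow_succ]; exact hj4
        rw [pow_mul, pow_mul, e1, e2]
      · rw [hj]; group
      · have : g * j⁻¹ * g⁻¹ = k⁻¹ := by rw [hk]; group
        rw [this, h5, inv_inv]
        simp only [mul_inv_rev, inv_inv, mul_assoc, pow_two, hq.r1, hq.r1', hq.r2, hq.r2', hq.r3, hq.r3', hq.r4, hq.r5, one_mul, mul_one]

theorem core2 {G : Type*} [Group G] [Finite G] {T Q : Subgroup G} [hQn : Q.Normal] (hQT : Q ≤ T)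
    (hT : IsPGroup 2 ↥T) (hCQ : Subgroup.centralizer (Q : Set G) ≤ Q)
    (hZ : (T ⊓ Subgroup.centralizer (T : Set G)).Normal) {c y : G} {m s : ℕ} (hm : 2 ≤ m)
    (hcT : c ∈ T) (hyT : y ∈ T) (hc : orderOf c = 2 ^ m) (hcard : Nat.card ↥T = 2 ^ (m + 1))
    (hyc : y ∉ Subgroup.zpowers c) (hy2 : y * y = 1) (hyy : y * c * y⁻¹ = c ^ s)
    (hs4 : s % 4 = 3) (hs2 : 2 ^ m ∣ 2 * (s + 1))
    {g : G} (hg : Odd (orderOf g)) (hg1 : g ≠ 1) :
    ∃ U : Subgroup G, U.Normal ∧ Nonempty (↥U ≃* Matrix.SpecialLinearGroup (Fin 2) (ZMod 3)) := by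
  obtain ⟨m', rfl⟩ : ∃ m', m = m' + 1 := ⟨m - 1, by omega⟩
  have hcle : Subgroup.zpowers c ≤ T := by rw [Subgroup.zpowers_le]; exact hcT
  have hrel : ((Subgroup.zpowers c).subgroupOf T).index = 2 := by
    have h1 := ((Subgroup.zpowers c).subgroupOf T).card_mul_index
    rw [Nat.card_congr (Subgroup.subgroupOfEquivOfLe hcle).toEquiv, hcard, Nat.card_zpowers, hc] at h1
    have h2 : 0 < 2 ^ (m' + 1) := by positivity
    have h3 : 2 ^ (m' + 1) * ((Subgroup.zpowers c).subgroupOf T).index = 2 ^ (m' + 1) * 2 := by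
      rw [h1]; ring
    exact Nat.eq_of_mul_eq_mul_left h2 h3
  have hidx : ∀ x ∈ T, ∀ y ∈ T, x ∉ Subgroup.zpowers c → y ∉ Subgroup.zpowers c → x⁻¹ * y ∈ Subgroup.zpowers c := by
    intro x hx w hw hxc hwc
    have := (Subgroup.mul_mem_iff_of_index_two hrel (a := (⟨x, hx⟩ : ↥T)⁻¹) (b := ⟨w, hw⟩)).mpr ?_
    · exact this
    · constructor
      · intro h
        exact absurd ((Subgroup.inv_mem_iff _).mp h) hxc
      · intro h
        exact absurd h hwc
  have hform : ∀ x ∈ T, x ∉ Subgroup.zpowers c → ∃ a : ℕ, x = y * c ^ a := by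
    intro x hx hxc
    obtain ⟨a, ha⟩ := mem_powers_iff_mem_zpowers.mpr (hidx y hyT x hx hyc hxc)
    refine ⟨a, ?_⟩
    have ha' : c ^ a = y⁻¹ * x := ha
    rw [ha']; group
  have hyinv : y⁻¹ = y := by rw [inv_eq_iff_mul_eq_one]; exact hy2
  have hypow : ∀ a : ℕ, y * c ^ a * y⁻¹ = c ^ (s * a) := by
    intro a; rw [← conj_pow, hyy, pow_mul]
  have hpow : ∀ a : ℕ, c ^ a = 1 ↔ 2 ^ (m' + 1) ∣ a := by
    intro a; rw [← hc, orderOf_dvd_iff_pow_eq_one]
  have h4 : ∀ x ∈ T, x ∉ Subgroup.zpowers c → x ^ 4 = 1 := by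
    intro x hx hxc
    obtain ⟨a, rfl⟩ := hform x hx hxc
    have h1 : (y * c ^ a) ^ 2 = c ^ ((s + 1) * a) := by
      calc (y * c ^ a) ^ 2 = (y * c ^ a * y⁻¹) * (y * y) * c ^ a := by rw [pow_two]; group
        _ = c ^ (s * a) * c ^ a := by rw [hypow, hy2, mul_one]
        _ = c ^ ((s + 1) * a) := by rw [← pow_add]; congr 1; ring
    have h2 : (y * c ^ a) ^ 4 = c ^ (((s + 1) * a) * 2) := by
      rw [pow_mul, ← h1, ← pow_mul]
    rw [h2, hpow]
    have : (s + 1) * a * 2 = 2 * (s + 1) * a := by ring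
    rw [this]
    exact hs2.mul_right a
  have hinv : ∀ x ∈ T, x ∉ Subgroup.zpowers c → x ^ 2 ≠ 1 → ∀ d ∈ Subgroup.zpowers c, d ^ 4 = 1 → x * d * x⁻¹ = d⁻¹ := by
    intro x hx hxc _ d hd hd4
    obtain ⟨a, rfl⟩ := hform x hx hxc
    obtain ⟨b, hb⟩ := mem_powers_iff_mem_zpowers.mpr hd
    have hb' : c ^ b = d := hb
    have h1 : y * c ^ a * d * (y * c ^ a)⁻¹ = y * d * y⁻¹ := by
      rw [← hb']
      have : c ^ a * c ^ b = c ^ b * c ^ a := by rw [← pow_add, ← pow_add, add_comm]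
      calc y * c ^ a * c ^ b * (y * c ^ a)⁻¹ = y * (c ^ a * c ^ b) * (c ^ a)⁻¹ * y⁻¹ := by group
        _ = y * (c ^ b * c ^ a) * (c ^ a)⁻¹ * y⁻¹ := by rw [this]
        _ = _ := by group
    have h2 : y * d * y⁻¹ = d ^ s := by
      rw [← hb', hypow, ← pow_mul, mul_comm]
    have h3 : d ^ s = d ^ 3 := by
      conv_lhs => rw [← Nat.div_add_mod s 4, pow_add, pow_mul, hd4, one_pow, one_mul, hs4]
    have h5 : d⁻¹ = d ^ 3 := by
      rw [inv_eq_iff_mul_eq_one, ← pow_succ']; exact hd4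
    rw [h1, h2, h3, h5]
  -- the involution z
  obtain ⟨z, hz⟩ : ∃ z, z = c ^ (2 ^ m') := ⟨_, rfl⟩
  have hz1 : z ≠ 1 := by
    rw [hz, Ne, hpow]
    intro h
    have := Nat.le_of_dvd (by positivity) h
    rw [pow_succ] at this
    have h2 : 0 < 2 ^ m' := by positivity
    omega
  have hz2 : z ^ 2 = 1 := by
    rw [hz, ← pow_mul, hpow, pow_succ]
  have hzc : z ∈ Subgroup.zpowers c := by rw [hz]; exact Subgroup.pow_mem _ (Subgroup.mem_zpowers c) _
  have hcomm_of : ∀ w : G, w * c = c * w → w * y = y * w → w ∈ Subgroup.centralizer (T : Set G) := by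
    intro w h1 h2
    rw [Subgroup.mem_centralizer_iff]
    intro x hx
    by_cases hxc : x ∈ Subgroup.zpowers c
    · obtain ⟨b, hb⟩ := mem_powers_iff_mem_zpowers.mpr hxc
      have hb' : c ^ b = x := hb
      rw [← hb']
      exact (Commute.pow_right h1 b).symm
    · obtain ⟨a, rfl⟩ := hform x hx hxc
      exact (Commute.mul_right h2 (Commute.pow_right h1 a)).symm
  have hzZ : z ∈ T ⊓ Subgroup.centralizer (T : Set G) := by
    refine ⟨hcle hzc, hcomm_of z ?_ ?_⟩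
    · rw [hz, ← pow_succ, ← pow_succ']
    · have h1 : y * z * y⁻¹ = z := by
        rw [hz, hypow]
        have h2 : s = 2 * (s / 2) + 1 := by omega
        rw [h2]
        have h3 : (2 * (s / 2) + 1) * 2 ^ m' = 2 ^ (m' + 1) * (s / 2) + 2 ^ m' := by rw [pow_succ]; ring
        rw [h3, pow_add, pow_mul, ← hc, pow_orderOf_eq_one, one_pow, one_mul]
      calc z * y = (y * z * y⁻¹) * y := by rw [h1]
        _ = y * z := by group
  have hZ2 : ∀ w ∈ T ⊓ Subgroup.centralizer (T : Set G), w ≠ 1 → w = z := by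
    rintro w ⟨hwT, hwC⟩ hw1
    have hwC' := Subgroup.mem_centralizer_iff.mp hwC
    have hwc : c * w = w * c := hwC' c hcT
    have hwy : y * w = w * y := hwC' y hyT
    by_cases hwcc : w ∈ Subgroup.zpowers c
    · obtain ⟨a, ha⟩ := mem_powers_iff_mem_zpowers.mpr hwcc
      have ha' : c ^ a = w := ha
      have h1 : y * w * y⁻¹ = w := by rw [hwy]; group
      rw [← ha', hypow] at h1
      have h2 : c ^ ((s - 1) * a) = 1 := by
        have h3 : s * a = (s - 1) * a + a := by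
          have : s = (s - 1) + 1 := by omega
          nth_rewrite 1 [this]; ring
        rw [h3, pow_add] at h1
        exact mul_eq_right.mp h1
      rw [hpow] at h2
      obtain ⟨u, hu⟩ : ∃ u, s - 1 = 2 * (2 * u + 1) := ⟨s / 4, by omega⟩
      have h5 : 2 ^ m' ∣ (2 * u + 1) * a := by
        rw [hu, pow_succ, mul_comm (2 ^ m') 2, mul_assoc] at h2
        exact Nat.dvd_of_mul_dvd_mul_left (by norm_num) h2
      have h6 : Nat.Coprime (2 ^ m') (2 * u + 1) := by
        apply Nat.Coprime.pow_left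
        rw [Nat.coprime_two_left]
        exact ⟨u, rfl⟩
      obtain ⟨t, ht⟩ := h6.dvd_of_dvd_mul_left h5
      have h7 : w = z ^ t := by rw [← ha', ht, pow_mul, hz]
      rcases Nat.even_or_odd' t with ⟨v, hv | hv⟩
      · exfalso; apply hw1; rw [h7, hv, pow_mul, hz2, one_pow]
      · rw [h7, hv, pow_add, pow_mul, hz2, one_pow, one_mul, pow_one]
    · exfalso
      obtain ⟨a, ha⟩ := hform w hwT hwcc
      have h1 : w * c * w⁻¹ = c := by rw [← hwc]; group
      have h2 : w * c * w⁻¹ = y * c * y⁻¹ := by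
        rw [ha]
        have : c ^ a * c = c * c ^ a := by rw [← pow_succ, ← pow_succ']
        calc y * c ^ a * c * (y * c ^ a)⁻¹ = y * (c ^ a * c) * (c ^ a)⁻¹ * y⁻¹ := by group
          _ = y * (c * c ^ a) * (c ^ a)⁻¹ * y⁻¹ := by rw [this]
          _ = _ := by group
      rw [h1, hyy] at h2
      have h3 : c ^ (s - 1) = 1 := by
        have h5 : c ^ (s - 1) * c = c := by
          rw [← pow_succ, show s - 1 + 1 = s by omega]; exact h2.symm
        exact mul_eq_right.mp h5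
      rw [hpow] at h3
      have h6 : 4 ∣ s - 1 := by
        refine dvd_trans ?_ h3
        have : (4 : ℕ) = 2 ^ 2 := by norm_num
        rw [this]
        exact pow_dvd_pow 2 hm
      omega
  have hzG : ∀ x : G, x * z = z * x := by
    intro x
    have h1 := hZ.conj_mem z hzZ x
    have h2 : x * z * x⁻¹ ≠ 1 := by
      intro h
      apply hz1
      have : z = x⁻¹ * (x * z * x⁻¹) * x := by group
      rw [this, h]; group
    have h3 := hZ2 _ h1 h2
    calc x * z = (x * z * x⁻¹) * x := by group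
      _ = z * x := by rw [h3]
  exact core hQT hT hCQ hidx h4 hinv hz1 hz2 hzc hzG hg hg1

/-- Let G be a finite solvable group with O(G) = 1 whose Sylow 2-subgroup T is dihedral of order at least 8 or semidihedral, with G ≠ T and Z(T) normal in G. Then G has a normal subgroup isomorphic to SL₂(3). -/
theorem result {G : Type*} [Group G] [Finite G] (hsol : IsSolvable G) (hO : Cfsg.oddCore G = ⊥) (T : Sylow 2 G) (hT : (∃ n : ℕ, 4 ≤ n ∧ Nonempty (↥(T : Subgroup G) ≃* DihedralGroup n)) ∨ Cfsg.IsQuasiDihedral ↥(T : Subgroup G)) (hne : (T : Subgroup G) ≠ ⊤) (hZ : ((T : Subgroup G) ⊓ Subgroup.centralizer ((T : Subgroup G) : Set G)).Normal) : ∃ U : Subgroup G, U.Normal ∧ Nonempty (↥U ≃* Matrix.SpecialLinearGroup (Fin 2) (ZMod 3)) := by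
  have hQT : Cfsg.pCore 2 G ≤ (T : Subgroup G) := H1.Cores.pCore_le_sylow T
  have hCQ : Subgroup.centralizer (Cfsg.pCore 2 G : Set G) ≤ Cfsg.pCore 2 G := by
    have h1 := H26.Components.centralizer_gFitting_le (G := G)
    have h2 : Cfsg.generalizedFittingSubgroup G = Cfsg.pCore 2 G := by
      rw [H26.GenFitting.gFitting_of_isSolvable hsol, H1.Cores.fittingSubgroup_eq_pCore_of 2 hO]
    rwa [h2] at h1
  have hT2 : IsPGroup 2 ↥(T : Subgroup G) := T.isPGroup'
  obtain ⟨g, hg, hg1⟩ : ∃ g : G, Odd (orderOf g) ∧ g ≠ 1 := by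
    by_contra hno
    push Not at hno
    apply hne
    have h1 : ∀ {q : ℕ}, q.Prime → q ∣ Nat.card G → q = 2 := by
      intro q hq hqG
      have : Fact q.Prime := ⟨hq⟩
      obtain ⟨x, hx⟩ := exists_prime_orderOf_dvd_card' q hqG
      by_contra hq2
      have h2 : Odd (orderOf x) := by rw [hx]; exact hq.odd_of_ne_two hq2
      have h3 := hno x h2
      rw [h3, orderOf_one] at hx
      exact hq.one_lt.ne hx
    have h2 := Nat.eq_prime_pow_of_unique_prime_dvd (n := Nat.card G) (p := 2) Nat.card_pos.ne' h1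
    have h3 := T.card_eq_multiplicity
    apply Subgroup.eq_top_of_card_eq
    rw [h3]
    nth_rewrite 1 [h2]
    rw [Nat.Prime.factorization_pow Nat.prime_two, Finsupp.single_eq_same, ← h2]
  rcases hT with ⟨n, hn, ⟨e⟩⟩ | ⟨n, hn, hcard, x, y, hx, hy, hyx⟩
  · -- dihedral
    have hn0 : NeZero n := ⟨by omega⟩
    have hcardT : Nat.card ↥(T : Subgroup G) = 2 * n := by
      rw [Nat.card_congr e.toEquiv]; exact DihedralGroup.nat_card
    obtain ⟨k, hk⟩ := IsPGroup.iff_card.mp hT2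
    rw [hcardT] at hk
    obtain ⟨m, rfl⟩ : ∃ m, k = m + 1 := ⟨k - 1, by
      rcases Nat.eq_zero_or_pos k with h | h
      · rw [h] at hk; omega
      · omega⟩
    have hnm : n = 2 ^ m := by rw [pow_succ] at hk; omega
    have hm : 2 ≤ m := by
      by_contra hlt
      have : m = 0 ∨ m = 1 := by omega
      rcases this with h | h <;> rw [h] at hnm <;> omega
    refine core2 (Q := Cfsg.pCore 2 G) (T := (T : Subgroup G)) hQT hT2 hCQ hZ (c := (e.symm (DihedralGroup.r 1) : G))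
      (y := (e.symm (DihedralGroup.sr 0) : G)) (m := m) (s := n - 1) hm (e.symm _).2 (e.symm _).2 ?_ ?_ ?_ ?_ ?_ ?_ ?_ hg hg1
    · rw [Subgroup.orderOf_coe, MulEquiv.orderOf_eq, DihedralGroup.orderOf_r_one, hnm]
    · rw [hcardT, hnm, pow_succ, mul_comm]
    · rintro ⟨k, hk⟩
      have h1 : e.symm (DihedralGroup.r 1) ^ k = e.symm (DihedralGroup.sr 0) := Subtype.ext hk
      rw [← map_zpow, e.symm.injective.eq_iff, DihedralGroup.r_one_zpow] at h1
      exact absurd h1 (by intro h; cases h)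
    · rw [← Subgroup.coe_mul, ← map_mul, DihedralGroup.sr_mul_self, map_one]; rfl
    · rw [← Subgroup.coe_inv, ← Subgroup.coe_mul, ← Subgroup.coe_mul, ← Subgroup.coe_pow]
      congr 1
      rw [← map_inv, ← map_mul, ← map_mul, ← map_pow, DihedralGroup.inv_sr, DihedralGroup.sr_mul_r,
        DihedralGroup.sr_mul_sr, DihedralGroup.r_one_pow, Nat.cast_sub (by omega)]
      simp
    · obtain ⟨v, hv⟩ : 4 ∣ n := by
        rw [hnm]
        have : (4 : ℕ) = 2 ^ 2 := by norm_num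
        rw [this]
        exact pow_dvd_pow 2 hm
      omega
    · rw [← hnm, show n - 1 + 1 = n by omega]
      exact Dvd.intro_left _ rfl
  · -- semidihedral
    obtain ⟨n', rfl⟩ : ∃ n', n = n' + 3 := ⟨n - 3, by omega⟩
    have hpos : 0 < 2 ^ n' := by positivity
    have e1 : 2 ^ (n' + 3 - 1) - 1 = 4 * 2 ^ n' - 1 := by
      rw [show n' + 3 - 1 = n' + 2 by omega, pow_add]; omega
    refine core2 (Q := Cfsg.pCore 2 G) (T := (T : Subgroup G)) hQT hT2 hCQ hZ (c := (x : G))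
      (y := (y : G)) (m := n' + 3) (s := 2 ^ (n' + 3 - 1) - 1) (by omega) x.2 y.2 ?_ ?_ ?_ ?_ ?_ ?_ ?_ hg hg1
    · rw [Subgroup.orderOf_coe, hx]
    · rw [hcard]
    · rintro ⟨k, hk⟩
      have h1 : x ^ k = y := Subtype.ext hk
      have h2 : y * x * y⁻¹ = x := by rw [← h1]; group
      rw [hyx] at h2
      have h3 : x ^ (2 ^ (n' + 3 - 1) - 1 - 1) = 1 := by
        have h5 : x ^ (2 ^ (n' + 3 - 1) - 1 - 1) * x = x := by
          rw [← pow_succ, show 2 ^ (n' + 3 - 1) - 1 - 1 + 1 = 2 ^ (n' + 3 - 1) - 1 by omega]; exact h2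
        exact mul_eq_right.mp h5
      have h4 := orderOf_dvd_of_pow_eq_one h3
      rw [hx] at h4
      have h5 := Nat.le_of_dvd (by omega) h4
      rw [pow_add] at h5
      omega
    · rw [← Subgroup.coe_mul]
      have : y * y = 1 := by rw [← pow_two]; exact orderOf_dvd_iff_pow_eq_one.mp hy.dvd
      rw [this]; rfl
    · rw [← Subgroup.coe_inv, ← Subgroup.coe_mul, ← Subgroup.coe_mul, ← Subgroup.coe_pow, hyx]
    · omega
    · have : 2 * (2 ^ (n' + 3 - 1) - 1 + 1) = 2 ^ (n' + 3) := by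
        rw [e1, pow_add]; omega
      rw [this]

end Cfsg.Agent.S2879
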