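import Cfsg.Statements.S2880


set_option autoImplicit false
open Cfsg

namespace Cfsg.Agent.S2880

open scoped commutatorElement

theorem two_mul_card_fiber {K C : Type*} [Group K] [Group C] [Fintype K] [DecidableEq C] [Finite C]
    (hC : Nat.card C = 2) (φ : K →* C) (hφ : ∃ k, φ k ≠ 1) (c : C) :
    2 * (Finset.univ.filter (fun k => φ k = c)).card = Fintype.card K := by
  classical
  obtain ⟨k₀, hk₀⟩ := hφ
  have : Fintype C := Fintype.ofFinite C
  rw [Nat.card_eq_fintype_card] at hC
  have hall : ∀ d : C, d = 1 ∨ d = φ k₀ := by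
    intro d
    by_contra hd
    push Not at hd
    have : ({1, φ k₀, d} : Finset C).card ≤ 2 := by
      rw [← hC]; exact Finset.card_le_univ _
    rw [Finset.card_insert_of_notMem, Finset.card_insert_of_notMem, Finset.card_singleton] at this
    · omega
    · simp only [Finset.mem_singleton]; exact hd.2.symm
    · simp only [Finset.mem_insert, Finset.mem_singleton]
      rintro (h | h)
      · exact hk₀ h.symm
      · exact hd.1 h.symm
  have hcc : c ∈ Set.range φ := by
    rcases hall c with h | h
    · exact ⟨1, by rw [map_one, h]⟩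
    · exact ⟨k₀, h.symm⟩
  have h1 : (Finset.univ.filter (fun k => φ k = c)).card = (Finset.univ.filter (fun k => φ k = 1)).card :=
    MonoidHom.card_fiber_eq_of_mem_range φ hcc ⟨1, map_one φ⟩
  have h2 : (Finset.univ.filter (fun k => φ k = φ k₀)).card = (Finset.univ.filter (fun k => φ k = 1)).card :=
    MonoidHom.card_fiber_eq_of_mem_range φ ⟨k₀, rfl⟩ ⟨1, map_one φ⟩
  have h3 : (Finset.univ.filter (fun k => φ k = 1)).card + (Finset.univ.filter (fun k => φ k = φ k₀)).card =
      Fintype.card K := by
    rw [← Finset.card_union_of_disjoint]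
    · rw [← Finset.card_univ]
      congr 1
      ext k
      simp only [Finset.mem_union, Finset.mem_filter, Finset.mem_univ, true_and, iff_true]
      exact hall (φ k)
    · rw [Finset.disjoint_filter]
      intro k _ hk hk'
      exact hk₀ (hk' ▸ hk)
  rw [h1]; omega

section
variable {E : Type*} [Group E]

theorem comm_mul (hc : ∀ x y : E, ⁅x, y⁆ ∈ Subgroup.center E) (x a b : E) : ⁅x, a * b⁆ = ⁅x, a⁆ * ⁅x, b⁆ := by
  have h := Subgroup.mem_center_iff.mp (hc x b) a
  calc ⁅x, a * b⁆ = ⁅x, a⁆ * (a * ⁅x, b⁆ * a⁻¹) := by simp only [commutatorElement_def]; group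
    _ = ⁅x, a⁆ * ⁅x, b⁆ := by rw [h]; group

/-- `a ↦ [x, a]` as a homomorphism to the centre. -/
def commHom (hc : ∀ x y : E, ⁅x, y⁆ ∈ Subgroup.center E) (x : E) : E →* ↥(Subgroup.center E) where
  toFun a := ⟨⁅x, a⁆, hc x a⟩
  map_one' := by ext; simp [commutatorElement_def]
  map_mul' a b := by ext; exact comm_mul hc x a b

theorem card_fiber_sub [Finite E] (hc : ∀ x y : E, ⁅x, y⁆ ∈ Subgroup.center E) (hZ : Nat.card (Subgroup.center E) = 2)
    (x : E) (K : Subgroup E) (hx : x ∉ Subgroup.centralizer (K : Set E)) (c : ↥(Subgroup.center E)) [Fintype ↥K]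
    [DecidablePred fun k : ↥K => ⁅x, (k : E)⁆ = c] :
    2 * (Finset.univ.filter (fun k : ↥K => ⁅x, (k : E)⁆ = c)).card = Fintype.card ↥K := by
  classical
  have := two_mul_card_fiber hZ ((commHom hc x).comp K.subtype) (by
    by_contra hcon
    push Not at hcon
    apply hx
    rw [Subgroup.mem_centralizer_iff]
    intro k hk
    have := congrArg Subtype.val (hcon ⟨k, hk⟩)
    have h2 : ⁅x, k⁆ = 1 := this
    exact (commutatorElement_eq_one_iff_mul_comm.mp h2).symm) c
  rw [← this]
  congr 2
  ext k
  simp only [Finset.mem_filter, Finset.mem_univ, true_and]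
  constructor
  · intro h; exact Subtype.ext h
  · intro h; exact congrArg Subtype.val h

end

/-- Let E be an extraspecial 2-group of order 2^(2m+1) of plus type, that is, containing an elementary abelian subgroup of order 2^(m+1) (equivalently, a central product of m dihedral groups of order 8). Then E has exactly 2^(2m) − 2^m elements of order 4. -/
theorem result {E : Type*} [Group E] [Finite E] (m : ℕ) (hm : 1 ≤ m) (hE : Cfsg.IsExtraspecial 2 E) (hcard : Nat.card E = 2 ^ (2 * m + 1)) (hplus : ∃ A : Subgroup E, Cfsg.IsElementaryAbelian 2 A ∧ Nat.card A = 2 ^ (m + 1)) : Nat.card {x : E // orderOf x = 4} = 2 ^ (2 * m) - 2 ^ m := by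
  classical
  have : Fintype E := Fintype.ofFinite E
  obtain ⟨⟨hp2, hfr, hcm⟩, hZ⟩ := hE
  obtain ⟨A, ⟨hAc, hA2⟩, hAcard⟩ := hplus
  have hc : ∀ x y : E, ⁅x, y⁆ ∈ Subgroup.center E := by
    intro x y
    rw [← hcm]
    exact Subgroup.commutator_mem_commutator (Subgroup.mem_top x) (Subgroup.mem_top y)
  have hz2 : ∀ z ∈ Subgroup.center E, z ^ 2 = 1 := by
    intro z hz
    have := pow_card_eq_one' (x := (⟨z, hz⟩ : ↥(Subgroup.center E)))
    rw [hZ] at this
    exact congrArg Subtype.val this
  have hsq : ∀ x : E, x ^ 2 ∈ Subgroup.center E := by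
    intro x
    rw [Subgroup.mem_center_iff]
    intro y
    have h1 : ⁅y, x ^ 2⁆ = 1 := by
      rw [pow_two, comm_mul hc, ← pow_two]
      exact hz2 _ (hc y x)
    exact commutatorElement_eq_one_iff_mul_comm.mp h1
  have hx4 : ∀ x : E, orderOf x = 4 ↔ ¬ x ^ 2 = 1 := by
    intro x
    constructor
    · intro h h2
      have := orderOf_dvd_of_pow_eq_one h2
      rw [h] at this
      norm_num at this
    · intro h
      have h4 : x ^ (2 ^ (1 + 1)) = 1 := by
        have := hz2 _ (hsq x)
        rw [← pow_mul] at this
        exact this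
      have := orderOf_eq_prime_pow (p := 2) (n := 1) (by simpa using h) h4
      rw [this]; norm_num
  -- squares of x * a
  have hAcomm : ∀ a ∈ A, ∀ b ∈ A, a * b = b * a := by
    intro a ha b hb
    exact congrArg Subtype.val (hAc.is_comm.comm ⟨a, ha⟩ ⟨b, hb⟩)
  have hsqa : ∀ (x a : E), a ∈ A → ((x * a) ^ 2 = 1 ↔ ⁅x⁻¹, a⁆ = (x ^ 2)⁻¹) := by
    intro x a ha
    have ha' : a⁻¹ = a := by
      have := hA2 a ha
      rw [pow_two] at this
      exact inv_eq_of_mul_eq_one_left this
    have h1 : (x * a) ^ 2 = x ^ 2 * ⁅x⁻¹, a⁆ := by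
      rw [commutatorElement_def, pow_two, pow_two, inv_inv, ha']
      group
    rw [h1]
    constructor
    · intro h; exact (inv_eq_of_mul_eq_one_right h).symm
    · intro h; rw [h]; group
  have hCcard : Fintype.card ↥A = 2 ^ (m + 1) := by rw [← Nat.card_eq_fintype_card]; exact hAcard
  have hEcard : Fintype.card E = 2 ^ (2 * m + 1) := by rw [← Nat.card_eq_fintype_card]; exact hcard
  have hsumE : ∀ (f : E → ℕ), (∑ x : E, f x) = ∑ x : E, f x := fun _ => rfl
  -- pairs of commuting elements
  set C := Subgroup.centralizer (A : Set E) with hCdef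
  have hAC : A ≤ C := by
    intro a ha
    rw [hCdef, Subgroup.mem_centralizer_iff]
    intro b hb
    exact hAcomm b hb a ha
  have hpair : Nat.card ↥C * Nat.card ↥A = Nat.card ↥(A ⊓ Subgroup.center E) * Nat.card E := by
    have h1 : ∑ x : E, ∑ a : ↥A, (if ⁅x, (a : E)⁆ = 1 then 2 else 0) =
        Fintype.card E * Fintype.card ↥A + Nat.card ↥C * Fintype.card ↥A := by
      have : ∀ x : E, ∑ a : ↥A, (if ⁅x, (a : E)⁆ = 1 then 2 else 0) =
          Fintype.card ↥A + (if x ∈ C then Fintype.card ↥A else 0) := by
        intro x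
        split_ifs with hx
        · have : ∀ a : ↥A, ⁅x, (a : E)⁆ = 1 := by
            intro a
            exact commutatorElement_eq_one_iff_mul_comm.mpr (Subgroup.mem_centralizer_iff.mp hx a a.2).symm
          simp only [this, if_true, Finset.sum_const, Finset.card_univ, smul_eq_mul]
          ring
        · have := card_fiber_sub hc hZ x A hx 1
          rw [← this, Finset.card_filter, Finset.mul_sum, add_zero]
          apply Finset.sum_congr rfl
          intro a _
          simp only [OneMemClass.coe_one]
          split_ifs <;> rfl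
      rw [Finset.sum_congr rfl (fun x _ => this x), Finset.sum_add_distrib, Finset.sum_const, Finset.card_univ,
        smul_eq_mul, ← Finset.sum_filter, Finset.sum_const, smul_eq_mul]
      congr 2
      rw [Nat.card_eq_fintype_card, Fintype.card_subtype]
    have h2 : ∑ x : E, ∑ a : ↥A, (if ⁅x, (a : E)⁆ = 1 then 2 else 0) =
        Fintype.card ↥A * Fintype.card E + Nat.card ↥(A ⊓ Subgroup.center E) * Fintype.card E := by
      rw [Finset.sum_comm]
      have : ∀ a : ↥A, ∑ x : E, (if ⁅x, (a : E)⁆ = 1 then 2 else 0) =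
          Fintype.card E + (if (a : E) ∈ Subgroup.center E then Fintype.card E else 0) := by
        intro a
        split_ifs with ha
        · have : ∀ x : E, ⁅x, (a : E)⁆ = 1 := by
            intro x
            exact commutatorElement_eq_one_iff_mul_comm.mpr (Subgroup.mem_center_iff.mp ha x)
          simp only [this, if_true, Finset.sum_const, Finset.card_univ, smul_eq_mul]
          ring
        · have h3 := two_mul_card_fiber hZ (commHom hc (a : E)) (by
            by_contra hcon
            push Not at hcon
            apply ha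
            rw [Subgroup.mem_center_iff]
            intro x
            have h4 : ⁅(a : E), x⁆ = 1 := congrArg Subtype.val (hcon x)
            exact (commutatorElement_eq_one_iff_mul_comm.mp h4).symm) 1
          rw [← h3, Finset.card_filter, Finset.mul_sum, add_zero]
          apply Finset.sum_congr rfl
          intro x _
          have h5 : ⁅x, (a : E)⁆ = 1 ↔ commHom hc (a : E) x = 1 := by
            rw [commutatorElement_eq_one_iff_mul_comm]
            constructor
            · intro h; apply Subtype.ext
              show ⁅(a : E), x⁆ = 1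
              rw [commutatorElement_eq_one_iff_mul_comm]; exact h.symm
            · intro h
              have h4 : ⁅(a : E), x⁆ = 1 := congrArg Subtype.val h
              exact (commutatorElement_eq_one_iff_mul_comm.mp h4).symm
          by_cases h6 : ⁅x, (a : E)⁆ = 1
          · rw [if_pos h6, if_pos (h5.mp h6), mul_one]
          · rw [if_neg h6, if_neg (fun h => h6 (h5.mpr h)), mul_zero]
      rw [Finset.sum_congr rfl (fun x _ => this x), Finset.sum_add_distrib, Finset.sum_const, Finset.card_univ,
        smul_eq_mul, ← Finset.sum_filter, Finset.sum_const, smul_eq_mul]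
      congr 2
      rw [← Fintype.card_subtype, ← Nat.card_eq_fintype_card]
      apply Nat.card_congr
      exact
        { toFun := fun a => ⟨a.1.1, a.1.2, a.2⟩
          invFun := fun a => ⟨⟨a.1, a.2.1⟩, a.2.2⟩
          left_inv := fun a => rfl
          right_inv := fun a => rfl }
    rw [h1, ← Nat.card_eq_fintype_card, ← Nat.card_eq_fintype_card] at h2
    have e1 := mul_comm (Nat.card E) (Nat.card ↥A)
    omega
  have hAZ : Nat.card ↥(A ⊓ Subgroup.center E) ≤ 2 := by
    rw [← hZ]; exact Subgroup.card_le_of_le inf_le_right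
  have hCA : C = A := by
    symm
    apply Subgroup.eq_of_le_of_card_ge hAC
    rw [hAcard, hcard] at hpair
    rw [hAcard]
    have h2 : Nat.card ↥C * 2 ^ (m + 1) ≤ 2 ^ (m + 1) * 2 ^ (m + 1) := by
      rw [hpair]
      calc Nat.card ↥(A ⊓ Subgroup.center E) * 2 ^ (2 * m + 1) ≤ 2 * 2 ^ (2 * m + 1) := Nat.mul_le_mul_right _ hAZ
        _ = 2 ^ (m + 1) * 2 ^ (m + 1) := by ring
    exact Nat.le_of_mul_le_mul_right h2 (by positivity)
  -- count of involutions
  obtain ⟨N, hN⟩ : ∃ N, N = (Finset.univ.filter (fun y : E => y ^ 2 = 1)).card := ⟨_, rfl⟩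
  have hcount : 2 * N = Fintype.card E + Fintype.card ↥A := by
    have h1 : ∑ x : E, ∑ a : ↥A, (if (x * (a : E)) ^ 2 = 1 then 2 else 0) = Fintype.card ↥A * (2 * N) := by
      rw [Finset.sum_comm]
      have : ∀ a : ↥A, ∑ x : E, (if (x * (a : E)) ^ 2 = 1 then 2 else 0) = 2 * N := by
        intro a
        rw [hN, Finset.card_filter, Finset.mul_sum]
        rw [← Equiv.sum_comp (Equiv.mulRight (a : E)) (fun y : E => 2 * if y ^ 2 = 1 then 1 else 0)]
        apply Finset.sum_congr rfl
        intro x _
        by_cases h6 : (x * (a : E)) ^ 2 = 1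
        · rw [if_pos h6, if_pos (show ((Equiv.mulRight (a : E)) x) ^ 2 = 1 from h6), mul_one]
        · rw [if_neg h6, if_neg (show ¬ ((Equiv.mulRight (a : E)) x) ^ 2 = 1 from h6), mul_zero]
      rw [Finset.sum_congr rfl (fun x _ => this x), Finset.sum_const, Finset.card_univ, smul_eq_mul]
    have h2 : ∑ x : E, ∑ a : ↥A, (if (x * (a : E)) ^ 2 = 1 then 2 else 0) =
        Fintype.card E * Fintype.card ↥A + Fintype.card ↥A * Fintype.card ↥A := by
      have : ∀ x : E, ∑ a : ↥A, (if (x * (a : E)) ^ 2 = 1 then 2 else 0) =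
          Fintype.card ↥A + (if x ∈ A then Fintype.card ↥A else 0) := by
        intro x
        split_ifs with hx
        · have : ∀ a : ↥A, (x * (a : E)) ^ 2 = 1 := by
            intro a
            exact hA2 _ (A.mul_mem hx a.2)
          simp only [this, if_true, Finset.sum_const, Finset.card_univ, smul_eq_mul]
          ring
        · have hx' : x⁻¹ ∉ Subgroup.centralizer (A : Set E) := by
            rw [← hCdef, hCA]
            intro h
            exact hx (by simpa using A.inv_mem h)
          have := card_fiber_sub hc hZ x⁻¹ A hx' ⟨(x ^ 2)⁻¹, (Subgroup.center E).inv_mem (hsq x)⟩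
          rw [← this, Finset.card_filter, Finset.mul_sum, add_zero]
          apply Finset.sum_congr rfl
          intro a _
          have h5 := hsqa x a a.2
          by_cases h6 : (x * (a : E)) ^ 2 = 1
          · rw [if_pos h6, if_pos (h5.mp h6), mul_one]
          · rw [if_neg h6, if_neg (fun h => h6 (h5.mpr h)), mul_zero]
      rw [Finset.sum_congr rfl (fun x _ => this x), Finset.sum_add_distrib, Finset.sum_const, Finset.card_univ,
        smul_eq_mul, ← Finset.sum_filter, Finset.sum_const, smul_eq_mul]
      congr 2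
      rw [← Fintype.card_subtype]
    rw [h1] at h2
    have h3 : Fintype.card ↥A * (2 * N) = Fintype.card ↥A * (Fintype.card E + Fintype.card ↥A) := by
      rw [h2]; ring
    exact Nat.eq_of_mul_eq_mul_left Fintype.card_pos h3
  rw [Nat.card_eq_fintype_card, Fintype.card_subtype]
  have h4 : (Finset.univ.filter (fun x : E => orderOf x = 4)) = Finset.univ.filter (fun x : E => ¬ x ^ 2 = 1) := by
    apply Finset.filter_congr
    intro x _
    exact hx4 x
  have h5 := Finset.card_filter_add_card_filter_not (s := (Finset.univ : Finset E)) (fun x : E => x ^ 2 = 1)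
  rw [h4]
  rw [← hN, Finset.card_univ] at h5
  rw [hEcard] at h5 hcount
  rw [hCcard] at hcount
  have e1 : 2 ^ (2 * m + 1) = 2 * 2 ^ (2 * m) := by ring
  have e2 : 2 ^ (m + 1) = 2 * 2 ^ m := by ring
  rw [e1] at h5 hcount
  rw [e2] at hcount
  omega

end Cfsg.Agent.S2880
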