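import Cfsg.Statements.S2881
import Mathlib
import Cfsg.Agent.S2880

set_option autoImplicit false
open Cfsg

namespace Cfsg.Agent.S2881

/-- Let E be an extraspecial 2-group of order 2^(2m+1) of plus type (containing an elementary abelian subgroup of order 2^(m+1)), and let ω be an automorphism of E of order 5 whose fixed points are exactly the centre of E. Then m is divisible by 4. -/
theorem result {E : Type*} [Group E] [Finite E] (m : ℕ) (hm : 1 ≤ m) (hE : Cfsg.IsExtraspecial 2 E) (hcard : Nat.card E = 2 ^ (2 * m + 1)) (hplus : ∃ A : Subgroup E, Cfsg.IsElementaryAbelian 2 A ∧ Nat.card A = 2 ^ (m + 1)) (ω : E ≃* E) (hω : orderOf ω = 5) (hfix : ∀ x : E, ω x = x ↔ x ∈ Subgroup.center E) : 4 ∣ m := by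
  classical
  have hcount := Cfsg.Agent.S2880.result m hm hE hcard hplus
  -- the group generated by ω acts on the elements of order 4
  set X := {x : E // orderOf x = 4} with hX
  let G := Subgroup.zpowers (ω : MulAut E)
  have hGcard : Nat.card ↥G = 5 ^ 1 := by
    rw [Nat.card_zpowers]
    have : orderOf (ω : MulAut E) = 5 := hω
    rw [this]; norm_num
  have hG : IsPGroup 5 ↥G := IsPGroup.of_card hGcard
  letI : MulAction ↥G X :=
    { smul := fun g x => ⟨(g : MulAut E) x.1, by rw [MulEquiv.orderOf_eq]; exact x.2⟩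
      one_smul := fun x => rfl
      mul_smul := fun g h x => rfl }
  have hfact : Fact (Nat.Prime 5) := ⟨by norm_num⟩
  have hmod := hG.card_modEq_card_fixedPoints (α := X)
  have hfixed : MulAction.fixedPoints ↥G X = ∅ := by
    rw [Set.eq_empty_iff_forall_notMem]
    intro x hx
    rw [MulAction.mem_fixedPoints] at hx
    have h1 := hx ⟨ω, Subgroup.mem_zpowers _⟩
    have h2 : ω x.1 = x.1 := congrArg Subtype.val h1
    have h3 := (hfix x.1).mp h2
    have h4 : (x.1 : E) ^ 2 = 1 := by
      have := pow_card_eq_one' (x := (⟨x.1, h3⟩ : ↥(Subgroup.center E)))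
      rw [hE.2] at this
      exact congrArg Subtype.val this
    have h5 := orderOf_dvd_of_pow_eq_one h4
    rw [x.2] at h5
    norm_num at h5
  rw [hfixed, hcount] at hmod
  have h6 : Nat.card ↥(∅ : Set X) = 0 := by simp
  rw [h6] at hmod
  have h7 : 5 ∣ 2 ^ (2 * m) - 2 ^ m := (Nat.modEq_zero_iff_dvd).mp hmod
  have h8 : 2 ^ (2 * m) - 2 ^ m = 2 ^ m * (2 ^ m - 1) := by
    rw [Nat.mul_sub, two_mul, pow_add, mul_one]
  rw [h8] at h7
  have h9 : 5 ∣ 2 ^ m - 1 := by
    rcases (Nat.Prime.dvd_mul (by norm_num)).mp h7 with h | h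
    · have := (Nat.prime_dvd_prime_iff_eq (by norm_num) (by norm_num)).mp (Nat.Prime.dvd_of_dvd_pow (by norm_num : Nat.Prime 5) h)
      norm_num at this
    · exact h
  have h10 : 2 ^ m % 5 = 1 := by
    have : 1 ≤ 2 ^ m := Nat.one_le_two_pow
    omega
  have h11 : 2 ^ m % 5 = 2 ^ (m % 4) % 5 := by
    conv_lhs => rw [← Nat.div_add_mod m 4, pow_add, pow_mul, Nat.mul_mod, Nat.pow_mod]
    norm_num
  rw [h11] at h10
  have h12 : m % 4 < 4 := Nat.mod_lt _ (by norm_num)
  apply Nat.dvd_of_mod_eq_zero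
  interval_cases h : m % 4 <;> simp_all

end Cfsg.Agent.S2881
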