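import Cfsg.Statements.S2933
import Cfsg.Agent.Lib.H54.L34b
import Cfsg.Agent.Lib.H54.L34e
import Cfsg.Agent.Lib.H26.RankTwoFus5

set_option autoImplicit false
open Cfsg

namespace Cfsg.Agent.S2933

/-- Let T be a 2-subgroup of a finite group G, V ≤ Z(T) a four-group, and t, ρ ∈ N_G(V) ∩ N_G(T) elements of order 2 and 3 with t commuting with ρ and with V. If [V, ρ] = V and C_T(t) = V, then T is elementary abelian of order 16, or homocyclic of rank 2 (ℤ/2ⁿ × ℤ/2ⁿ for some n ≥ 1), or isomorphic to a Sylow 2-subgroup of PSL₃(4) or of PSU₃(4). -/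
theorem result {G : Type*} [Group G] [Finite G] (T V : Subgroup G) (hT : IsPGroup 2 ↥T) (hVT : V ≤ T ⊓ Subgroup.centralizer (T : Set G)) (hV : Nat.card ↥V = 4 ∧ ∀ v ∈ V, v ^ 2 = 1) (t ρ : G) (ht : orderOf t = 2) (hρ : orderOf ρ = 3) (htn : t ∈ Subgroup.normalizer (V : Set G) ⊓ Subgroup.normalizer (T : Set G)) (hρn : ρ ∈ Subgroup.normalizer (V : Set G) ⊓ Subgroup.normalizer (T : Set G)) (htρ : t * ρ = ρ * t) (htV : t ∈ Subgroup.centralizer (V : Set G)) (hVρ : ⁅V, Subgroup.zpowers ρ⁆ = V) (hCt : T ⊓ Subgroup.centralizer ({t} : Set G) = V) : (Nat.card ↥T = 16 ∧ ∀ x ∈ T, x ^ 2 = 1) ∨ (∃ n : ℕ, 1 ≤ n ∧ Nonempty (↥T ≃* Multiplicative (ZMod (2 ^ n)) × Multiplicative (ZMod (2 ^ n)))) ∨ (∃ (F : Type) (_ : Field F) (_ : Fintype F), Fintype.card F = 4 ∧ ∀ P : Sylow 2 (Matrix.ProjectiveSpecialLinearGroup (Fin 3) F), Nonempty (↥T ≃* ↥(P : Subgroup (Matrix.ProjectiveSpecialLinearGroup (Fin 3) F)))) ∨ (∃ (F : Type) (_ : Field F) (_ : Fintype F), Fintype.card F = 16 ∧ ∀ P : Sylow 2 (Cfsg.PSU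 3 F 4), Nonempty (↥T ≃* ↥(P : Subgroup (Cfsg.PSU 3 F 4)))) := by
  classical
  obtain ⟨hV4, hVsq⟩ := hV
  obtain ⟨α, hα⟩ := H26.RankTwoFus2.exists_conjAut (Subgroup.mem_inf.mp hρn).2
  obtain ⟨τ, hτ⟩ := H26.RankTwoFus2.exists_conjAut (Subgroup.mem_inf.mp htn).2
  have hρ3 : ρ * ρ * ρ = 1 := by
    have := pow_orderOf_eq_one ρ
    rw [hρ, pow_succ, pow_two] at this
    exact this
  have ht2 : t * t = 1 := by
    have := pow_orderOf_eq_one t
    rw [ht, pow_two] at this
    exact this
  have hVT0 := hVT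
  have hVT : ∀ v ∈ V, v ∈ T := fun v hv => (Subgroup.mem_inf.mp (hVT0 hv)).1
  have hmem : ∀ x : T, x ∈ H54.L34.fx τ ↔ (x : G) ∈ V := by
    intro x
    rw [H54.L34.mem_fx, ← hCt, Subgroup.mem_inf, Subgroup.mem_centralizer_singleton_iff]
    constructor
    · intro hx
      refine ⟨x.2, ?_⟩
      have h1 := congrArg Subtype.val hx
      rw [hτ] at h1
      calc (x : G) * t = (t * x * t⁻¹) * t := by rw [h1]
        _ = t * x := by group
    · rintro ⟨-, hx⟩
      apply Subtype.ext
      rw [hτ, ← hx, mul_inv_cancel_right]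
  have hρfix : ∀ v ∈ V, ρ * v * ρ⁻¹ = v → v = 1 := by
    intro v hv hρv
    by_contra hv1
    -- ρ centralizes V
    have hcent : ∀ w ∈ V, ρ * w * ρ⁻¹ = w := by
      intro w hw
      by_contra hwne
      have hw' : ρ * w * ρ⁻¹ ∈ V := (Subgroup.mem_normalizer_iff.mp (Subgroup.mem_inf.mp hρn).1 w).mp hw
      have hw1 : w ≠ 1 := by
        rintro rfl
        apply hwne
        group
      have hwv : w ≠ v := by
        rintro rfl
        exact hwne hρv
      have hsub : ∀ y ∈ V, y = 1 ∨ y = v ∨ y = w ∨ y = w * v := by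
        intro y hy
        by_contra hcon
        push Not at hcon
        obtain ⟨c1, c2, c3, c4⟩ := hcon
        have hwv1 : w * v ≠ 1 := by
          intro e
          apply hwv
          have h1 := hVsq v hv
          rw [pow_two] at h1
          exact mul_right_cancel (e.trans h1.symm)
        have hwvv : w * v ≠ v := fun e => hw1 (mul_eq_right.mp e)
        have hwvw : w * v ≠ w := fun e => hv1 (mul_eq_left.mp e)
        have hcard : ({1, v, w, w * v, y} : Finset G).card = 5 := by
          rw [Finset.card_insert_of_notMem, Finset.card_insert_of_notMem, Finset.card_insert_of_notMem,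
            Finset.card_insert_of_notMem, Finset.card_singleton]
          · simp only [Finset.mem_singleton]; exact c4.symm
          · simp only [Finset.mem_insert, Finset.mem_singleton, not_or]
            exact ⟨hwvw.symm, c3.symm⟩
          · simp only [Finset.mem_insert, Finset.mem_singleton, not_or]
            exact ⟨hwv.symm, hwvv.symm, c2.symm⟩
          · simp only [Finset.mem_insert, Finset.mem_singleton, not_or]
            exact ⟨Ne.symm hv1, hw1.symm, hwv1.symm, c1.symm⟩
        have hsub : ((({1, v, w, w * v, y} : Finset G) : Set G)) ⊆ (V : Set G) := by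
          intro x hx
          simp only [Finset.coe_insert, Finset.coe_singleton, Set.mem_insert_iff,
            Set.mem_singleton_iff] at hx
          rcases hx with rfl | rfl | rfl | rfl | rfl
          · exact one_mem _
          · exact hv
          · exact hw
          · exact V.mul_mem hw hv
          · exact hy
        have h1 := Set.ncard_le_ncard hsub (Set.toFinite _)
        rw [Set.ncard_coe_finset, hcard] at h1
        have h2 : (V : Set G).ncard = Nat.card V := rfl
        omega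
      have hv2 : v * v = 1 := by rw [← pow_two]; exact hVsq v hv
      rcases hsub _ hw' with e | e | e | e
      · apply hw1
        have : w = ρ⁻¹ * (ρ * w * ρ⁻¹) * ρ := by group
        rw [this, e]; group
      · apply hwv
        have h1 : w = ρ⁻¹ * (ρ * w * ρ⁻¹) * ρ := by group
        have h2 : v = ρ⁻¹ * (ρ * v * ρ⁻¹) * ρ := by group
        rw [h1, e]
        conv_rhs => rw [h2, hρv]
      · exact hwne e
      · have h1 : ρ * (ρ * w * ρ⁻¹) * ρ⁻¹ = w := by
          rw [e]
          calc ρ * (w * v) * ρ⁻¹ = (ρ * w * ρ⁻¹) * (ρ * v * ρ⁻¹) := by group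
            _ = w * v * v := by rw [e, hρv]
            _ = w := by rw [mul_assoc, hv2, mul_one]
        have h2 : ρ * (ρ * (ρ * w * ρ⁻¹) * ρ⁻¹) * ρ⁻¹ = w := by
          calc ρ * (ρ * (ρ * w * ρ⁻¹) * ρ⁻¹) * ρ⁻¹ = (ρ * ρ * ρ) * w * (ρ * ρ * ρ)⁻¹ := by group
            _ = w := by rw [hρ3, inv_one, one_mul, mul_one]
        rw [h1] at h2
        exact hwne h2
    have hbot : ⁅V, Subgroup.zpowers ρ⁆ = ⊥ := by
      rw [Subgroup.commutator_eq_bot_iff_le_centralizer]
      intro w hw
      rw [Subgroup.mem_centralizer_iff]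
      rintro _ ⟨k, rfl⟩
      have hc : Commute ρ w := by
        have := hcent w hw
        calc ρ * w = (ρ * w * ρ⁻¹) * ρ := by group
          _ = w * ρ := by rw [this]
      exact (hc.zpow_left k)
    rw [hbot] at hVρ
    apply hv1
    rw [← hVρ] at hv
    exact Subgroup.mem_bot.mp hv
  have hH : H54.L34.Hyp T α τ := by
    refine ⟨hT, ?_, ?_, ?_, ?_, ?_, ?_, ?_⟩
    · intro x
      apply Subtype.ext
      rw [hα, hα, hα]
      calc ρ * (ρ * (ρ * x * ρ⁻¹) * ρ⁻¹) * ρ⁻¹ = (ρ * ρ * ρ) * x * (ρ * ρ * ρ)⁻¹ := by group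
        _ = x := by rw [hρ3, inv_one, one_mul, mul_one]
    · intro x
      apply Subtype.ext
      rw [hτ, hτ]
      calc t * (t * x * t⁻¹) * t⁻¹ = (t * t) * x * (t * t)⁻¹ := by group
        _ = x := by rw [ht2, inv_one, one_mul, mul_one]
    · intro x
      apply Subtype.ext
      rw [hα, hτ, hτ, hα]
      calc ρ * (t * x * t⁻¹) * ρ⁻¹ = (ρ * t) * x * (ρ * t)⁻¹ := by group
        _ = (t * ρ) * x * (t * ρ)⁻¹ := by rw [htρ]
        _ = t * (ρ * x * ρ⁻¹) * t⁻¹ := by group
    · rw [← hV4]
      apply Nat.card_le_card_of_injective (fun x : H54.L34.fx τ => (⟨((x : T) : G), (hmem x).mp x.2⟩ : V))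
      intro x y hxy
      exact Subtype.ext (Subtype.ext (congrArg (fun a : V => (a : G)) hxy))
    · intro x hx
      rw [Subgroup.mem_center_iff]
      intro g
      apply Subtype.ext
      exact Subgroup.mem_centralizer_iff.mp (Subgroup.mem_inf.mp (hVT0 ((hmem x).mp hx))).2 g g.2
    · intro x hx
      apply Subtype.ext
      rw [Subgroup.coe_mul, ← pow_two]
      exact hVsq _ ((hmem x).mp hx)
    · intro x hx hx2
      apply Subtype.ext
      apply hρfix _ ((hmem x).mp hx)
      rw [← hα, hx2]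
  have hnt : Nontrivial T := by
    have h1 : 1 < Nat.card V := by rw [hV4]; norm_num
    have h2 : Nontrivial V := (Finite.one_lt_card_iff_nontrivial).mp h1
    obtain ⟨v, hv⟩ := exists_ne (1 : V)
    refine ⟨⟨⟨v, hVT v v.2⟩, 1, ?_⟩⟩
    intro e
    exact hv (Subtype.ext (congrArg (fun a : T => (a : G)) e))
  rcases hH.main with ⟨h1, h2⟩ | ⟨n, hn, ⟨e⟩⟩ | ⟨u1, u2, v1, v2, e1, e2, h⟩ | ⟨u1, u2, v1, v2, e1, e2, h⟩
  · left
    refine ⟨h1, fun x hx => ?_⟩
    rw [pow_two]
    exact congrArg Subtype.val (h2 ⟨x, hx⟩)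
  · right; left
    exact ⟨n, hn, ⟨e.trans (MulEquiv.prodMultiplicative _ _)⟩⟩
  · right; right; left
    have hfin : Finite (GaloisField 2 2) := Nat.finite_of_card_ne_zero (by
      rw [GaloisField.card 2 2 (by norm_num)]; norm_num)
    let inst : Fintype (GaloisField 2 2) := Fintype.ofFinite _
    have hcard : Fintype.card (GaloisField 2 2) = 4 := by
      rw [← Nat.card_eq_fintype_card, GaloisField.card 2 2 (by norm_num)]
      norm_num
    refine ⟨GaloisField 2 2, inferInstance, inferInstance, hcard, fun P => ?_⟩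
    obtain ⟨w1, w2, w3, w4, w5, w6, hP⟩ := H54.L34.gen_psl hcard P
    exact H54.L34.iso h hP
  · right; right; right
    have hfin : Finite (GaloisField 2 4) := Nat.finite_of_card_ne_zero (by
      rw [GaloisField.card 2 4 (by norm_num)]; norm_num)
    let inst : Fintype (GaloisField 2 4) := Fintype.ofFinite _
    have hcard : Fintype.card (GaloisField 2 4) = 16 := by
      rw [← Nat.card_eq_fintype_card, GaloisField.card 2 4 (by norm_num)]
      norm_num
    refine ⟨GaloisField 2 4, inferInstance, inferInstance, hcard, fun P => ?_⟩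
    obtain ⟨w1, w2, w3, w4, w5, w6, hP⟩ := H26.RankTwoFus5.u34_gen hcard P
    exact H26.RankTwoAut4.iso h hP


end Cfsg.Agent.S2933
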