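import Cfsg.Statements.S2968
import Cfsg.Agent.Lib.H55.Isolated

set_option autoImplicit false
open Cfsg
namespace Cfsg.Agent.S2968

theorem result {G : Type*} [Group G] [Finite G] {p : ℕ} [Fact p.Prime] (P : Sylow p G) (x : G) (hxP : x ∈ (P : Subgroup G)) (hx : ∃ k : ℕ, orderOf x = p ^ k) (hiso : Cfsg.IsIsolated x) : x ∈ (P : Subgroup G) ⊓ Subgroup.centralizer ((P : Subgroup G) : Set G) ∧ Cfsg.IsStronglyClosed (Subgroup.zpowers x) (P : Subgroup G) ∧ Cfsg.IsWeaklyClosed (Subgroup.zpowers x) (P : Subgroup G) := by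
  have hle : Subgroup.zpowers x ≤ (P : Subgroup G) := by
    rwa [Subgroup.zpowers_le]
  have key := H55.Isolated.conj_eq_of_mem_sylow P x hxP hx hiso
  refine ⟨⟨hxP, ?_⟩, ⟨hle, ?_⟩, ⟨hle, ?_⟩⟩
  · have h1 := H55.Isolated.le_centralizer x hiso P P.2 hxP
    show x ∈ Subgroup.centralizer ((P : Subgroup G) : Set G)
    rw [Subgroup.mem_centralizer_iff]
    intro y hy
    exact Subgroup.mem_centralizer_singleton_iff.1 (h1 hy)
  · intro y hy g hg
    rw [key y hy g hg]
    exact hy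
  · intro g hg
    have h1 : g * x * g⁻¹ ∈ (P : Subgroup G) := hg ⟨x, Subgroup.mem_zpowers x, rfl⟩
    have h2 := key x (Subgroup.mem_zpowers x) g h1
    rw [MonoidHom.map_zpowers]
    congr 1

end Cfsg.Agent.S2968
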