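import Cfsg.Statements.S2969
import Cfsg.Agent.Lib.H55.Isolated

set_option autoImplicit false
open Cfsg
namespace Cfsg.Agent.S2969

theorem result {G : Type*} [Group G] [Finite G] {p : ℕ} [Fact p.Prime] (x : G) (hx : ∃ k : ℕ, orderOf x = p ^ k) (hiso : Cfsg.IsIsolated x) : (∀ R : Subgroup G, IsPGroup p ↥R → x ∈ R → Subgroup.normalizer (R : Set G) ≤ Subgroup.centralizer ({x} : Set G)) ∧ (∀ H N : Subgroup G, N ≤ H → H ≤ Subgroup.normalizer (N : Set G) → x ∈ N → N ⊔ (H ⊓ Subgroup.centralizer ({x} : Set G)) = H) :=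
  ⟨fun R hR hxR => H55.Isolated.normalizer_le_centralizer x hiso R hR hxR,
    fun H N h1 h2 h3 => H55.Isolated.sup_centralizer_eq x hx hiso H N h1 h2 h3⟩

end Cfsg.Agent.S2969
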