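import Mathlib.GroupTheory.Transfer
import Mathlib.NumberTheory.Basic
import Mathlib.RingTheory.Coprime.Lemmas
import Cfsg.Statements.S2970
import Cfsg.Agent.Lib.H55.Isolated

set_option autoImplicit false
open Cfsg
namespace Cfsg.Agent.S2970

open H55.SylowBasic

theorem quotient_part {G : Type*} [Group G] [Finite G] {p : ℕ} [Fact p.Prime] (x : G)
    (hx : ∃ k : ℕ, orderOf x = p ^ k) (hiso : Cfsg.IsIsolated x) (N : Subgroup G) [N.Normal] :
    Cfsg.IsIsolated (QuotientGroup.mk x : G ⧸ N) := by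
  intro gb hgb
  obtain ⟨g, rfl⟩ := QuotientGroup.mk_surjective gb
  set y : G := g * x * g⁻¹ with hy
  have hyx : (QuotientGroup.mk g : G ⧸ N) * QuotientGroup.mk x * (QuotientGroup.mk g)⁻¹ =
      QuotientGroup.mk y := rfl
  rw [hyx] at hgb ⊢
  have hyk : ∃ k : ℕ, orderOf y = p ^ k := by
    obtain ⟨k, hk⟩ := hx
    refine ⟨k, ?_⟩
    rw [← hk]
    exact MulEquiv.orderOf_eq (MulAut.conj g) x
  have hpx : IsPGroup p (Subgroup.zpowers (QuotientGroup.mk x : G ⧸ N)) := by
    have := (isPGroup_zpowers hx).map (QuotientGroup.mk' N)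
    rwa [MonoidHom.map_zpowers] at this
  have hpy : IsPGroup p (Subgroup.zpowers (QuotientGroup.mk y : G ⧸ N)) := by
    have := (isPGroup_zpowers hyk).map (QuotientGroup.mk' N)
    rwa [MonoidHom.map_zpowers] at this
  set Db : Subgroup (G ⧸ N) := Subgroup.zpowers (QuotientGroup.mk x : G ⧸ N) ⊔
    Subgroup.zpowers (QuotientGroup.mk y : G ⧸ N) with hDb
  have hDbp : IsPGroup p Db := by
    apply hpx.to_sup_of_normal_right' hpy
    rw [Subgroup.zpowers_le]
    apply mem_normalizer_of_forall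
    rintro _ ⟨k, rfl⟩
    have h1 : Commute (QuotientGroup.mk x : G ⧸ N) ((QuotientGroup.mk y : G ⧸ N) ^ k) :=
      hgb.zpow_right k
    show _ * (QuotientGroup.mk y : G ⧸ N) ^ k * _ ∈ _
    rw [h1.eq]
    simp
  set D : Subgroup G := Db.comap (QuotientGroup.mk' N) with hD
  have hxD : x ∈ D := by
    show (QuotientGroup.mk x : G ⧸ N) ∈ Db
    exact Subgroup.mem_sup_left (Subgroup.mem_zpowers _)
  have hyD : y ∈ D := by
    show (QuotientGroup.mk y : G ⧸ N) ∈ Db
    exact Subgroup.mem_sup_right (Subgroup.mem_zpowers _)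
  let f : D →* Db := ((QuotientGroup.mk' N).comp D.subtype).codRestrict Db (fun d => d.2)
  have hf : Function.Surjective f := by
    rintro ⟨d, hd⟩
    obtain ⟨e, rfl⟩ := QuotientGroup.mk_surjective d
    exact ⟨⟨e, hd⟩, rfl⟩
  have h1 : IsPGroup p ((Subgroup.zpowers x).subgroupOf D) :=
    (isPGroup_zpowers hx).comap_subtype
  obtain ⟨P, hP⟩ := h1.exists_le_sylow
  have hxP : x ∈ (P : Subgroup D).map D.subtype :=
    ⟨⟨x, hxD⟩, hP (by simp [Subgroup.mem_subgroupOf]), rfl⟩
  have hPx : (P : Subgroup D).map D.subtype ≤ Subgroup.centralizer ({x} : Set G) :=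
    H55.Isolated.le_centralizer x hiso _ (P.2.map D.subtype) hxP
  obtain ⟨d, hd, hdy⟩ := exists_conj_mem_sylow_of_mem D P y hyk hyD
  have h2 : d * y * d⁻¹ = (d * g) * x * (d * g)⁻¹ := by rw [hy]; group
  rw [h2] at hdy
  have h3 := hiso _ (Subgroup.mem_centralizer_singleton_iff.1 (hPx hdy)).symm
  rw [← h2] at h3
  -- f maps P onto Db
  have h4 : (P : Subgroup D).map f = ⊤ := by
    have h5 := (P.mapSurjective hf).is_maximal' (Q := ⊤) (hDbp.of_equiv Subgroup.topEquiv.symm) le_top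
    rw [← Sylow.coe_mapSurjective hf P]
    exact h5.symm
  have h6 : f ⟨d, hd⟩ ∈ (P : Subgroup D).map f := by rw [h4]; trivial
  obtain ⟨q, hq, hqd⟩ := h6
  have h7 : (QuotientGroup.mk (q : G) : G ⧸ N) = QuotientGroup.mk d := congrArg Subtype.val hqd
  have h8 : Commute (QuotientGroup.mk d : G ⧸ N) (QuotientGroup.mk x) := by
    rw [← h7]
    have h9 := Subgroup.mem_centralizer_singleton_iff.1 (hPx ⟨q, hq, rfl⟩)
    exact congrArg (QuotientGroup.mk' N) h9
  have h10 : (QuotientGroup.mk d : G ⧸ N) * QuotientGroup.mk y * (QuotientGroup.mk d)⁻¹ =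
      QuotientGroup.mk x := congrArg (QuotientGroup.mk' N) h3
  have h11 : (QuotientGroup.mk y : G ⧸ N) = (QuotientGroup.mk d)⁻¹ * QuotientGroup.mk x *
      (QuotientGroup.mk d) := by rw [← h10]; group
  rw [h11, mul_assoc, ← h8.eq]; group

theorem cyclic_part {G : Type*} [Group G] [Finite G] {p : ℕ} [hp : Fact p.Prime] (x : G)
    (hx : ∃ k : ℕ, orderOf x = p ^ k) (hiso : Cfsg.IsIsolated x) (hx1 : x ≠ 1)
    (hcyc : ∀ P : Sylow p G, IsCyclic ↥(P : Subgroup G)) : Cfsg.HasNormalPComplement p G := by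
  obtain ⟨P, hP⟩ := (isPGroup_zpowers hx).exists_le_sylow
  rw [Subgroup.zpowers_le] at hP
  have hN := H55.Isolated.normalizer_le_centralizer x hiso P P.2 hP
  have key : Subgroup.normalizer ((P : Subgroup G) : Set G) ≤
      Subgroup.centralizer ((P : Subgroup G) : Set G) := by
    have hc := hcyc P
    have hPC : (P : Subgroup G) ≤ Subgroup.centralizer ((P : Subgroup G) : Set G) := by
      have : IsMulCommutative (P : Subgroup G) := inferInstance
      exact Subgroup.le_centralizer _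
    obtain ⟨z, hz⟩ := hc.exists_generator
    intro n hn
    -- n acts on z
    obtain ⟨k, hk⟩ : ∃ k : ℕ, n * (z : G) * n⁻¹ = (z : G) ^ k := by
      have h1 : n * (z : G) * n⁻¹ ∈ (P : Subgroup G) :=
        (Subgroup.mem_normalizer_iff.1 hn z).1 z.2
      obtain ⟨k, hk⟩ := (mem_powers_iff_mem_zpowers (x := z)).2 (hz ⟨_, h1⟩)
      exact ⟨k, by simpa using (congrArg Subtype.val hk).symm⟩
    obtain ⟨j, hj⟩ : ∃ j : ℕ, x = (z : G) ^ j := by
      obtain ⟨k, hk⟩ := (mem_powers_iff_mem_zpowers (x := z)).2 (hz ⟨x, hP⟩)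
      exact ⟨k, by simpa using (congrArg Subtype.val hk).symm⟩
    obtain ⟨e, he⟩ := (IsPGroup.iff_orderOf.1 P.2) z
    have he' : orderOf (z : G) = p ^ e := by rw [← he, Subgroup.orderOf_coe]
    have h2 : ((z : G) ^ k) ^ j = (z : G) ^ j := by
      have h3 := Subgroup.mem_centralizer_singleton_iff.1 (hN hn)
      have h4 : n * x * n⁻¹ = x := by rw [h3]; group
      rw [← hk, conj_pow, ← hj, h4]
    -- p divides k - 1
    have h5 : (p : ℤ) ∣ (k : ℤ) - 1 := by
      by_contra hcon
      have h6 : (z : G) ^ (((k : ℤ) - 1) * j) = 1 := by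
        rw [sub_mul, zpow_sub, one_mul, zpow_mul, zpow_natCast, zpow_natCast, zpow_natCast, h2,
          mul_inv_cancel]
      have h7 : ((orderOf (z : G) : ℕ) : ℤ) ∣ ((k : ℤ) - 1) * j := orderOf_dvd_iff_zpow_eq_one.2 h6
      rw [he', Nat.cast_pow] at h7
      have h8 : IsCoprime ((p : ℤ) ^ e) ((k : ℤ) - 1) := by
        apply IsCoprime.pow_left
        rw [Int.isCoprime_iff_gcd_eq_one]
        exact (Nat.Prime.coprime_iff_not_dvd hp.out).2 (fun h => hcon (Int.natCast_dvd.2 h))
      have h9 := h8.dvd_of_dvd_mul_left h7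
      apply hx1
      rw [hj, ← zpow_natCast, ← orderOf_dvd_iff_zpow_eq_one, he', Nat.cast_pow]
      exact h9
    have h10 : (z : G) ^ (k ^ p ^ e) = z := by
      have h11 := dvd_sub_pow_of_dvd_sub h5 e
      have h12 : (z : G) ^ (((k : ℤ) ^ p ^ e) - 1) = 1 := by
        rw [← orderOf_dvd_iff_zpow_eq_one, he', Nat.cast_pow]
        rw [one_pow] at h11
        exact (pow_dvd_pow _ (Nat.le_succ e)).trans h11
      rw [zpow_sub, zpow_one, mul_inv_eq_one] at h12
      have h12' : ((k ^ p ^ e : ℕ) : ℤ) = (k : ℤ) ^ p ^ e := by push_cast; rfl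
      rw [← zpow_natCast, h12', h12]
    have h13 : ∀ m : ℕ, n ^ m * (z : G) * (n ^ m)⁻¹ = (z : G) ^ (k ^ m) := by
      intro m
      induction m with
      | zero => simp
      | succ m ih =>
        calc n ^ (m + 1) * (z : G) * (n ^ (m + 1))⁻¹ = n * (n ^ m * (z : G) * (n ^ m)⁻¹) * n⁻¹ := by
              rw [pow_succ']; group
          _ = (z : G) ^ (k ^ (m + 1)) := by
              rw [ih, ← conj_pow, hk, ← pow_mul, pow_succ']
    have h14 : n ^ p ^ e ∈ Subgroup.centralizer ((P : Subgroup G) : Set G) := by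
      rw [Subgroup.mem_centralizer_iff]
      intro w hw
      obtain ⟨i, hi⟩ := Subgroup.mem_zpowers_iff.1 (hz ⟨w, hw⟩)
      have hi' : (z : G) ^ i = w := congrArg Subtype.val hi
      have h15 := h13 (p ^ e)
      rw [h10] at h15
      have h16 : Commute (n ^ p ^ e) (z : G) := mul_inv_eq_iff_eq_mul.1 h15
      rw [← hi']
      exact (h16.zpow_right i).symm.eq
    -- coprimality
    set N := Subgroup.normalizer ((P : Subgroup G) : Set G) with hNdef
    set C := Subgroup.centralizer ((P : Subgroup G) : Set G) with hCdef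
    have h17 : (C.relIndex N).Coprime p := by
      apply Nat.Coprime.coprime_dvd_left (Subgroup.relIndex_dvd_of_le_left _ hPC)
      apply Nat.Coprime.coprime_dvd_left (Subgroup.relIndex_dvd_index_of_le P.le_normalizer)
      rw [Nat.coprime_comm, Nat.Prime.coprime_iff_not_dvd Fact.out]
      exact P.not_dvd_index
    have hCN : (C.subgroupOf N).Normal := by
      refine ⟨fun c hc g => ?_⟩
      rw [Subgroup.mem_subgroupOf] at hc ⊢
      rw [hCdef, Subgroup.mem_centralizer_iff] at hc ⊢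
      intro w hw
      have hw' : (g : G)⁻¹ * w * (g : G) ∈ (P : Subgroup G) := by
        have := (Subgroup.mem_normalizer_iff.1 (inv_mem g.2) w).1 hw
        simpa using this
      have := hc _ hw'
      simp only [Subgroup.coe_mul, InvMemClass.coe_inv]
      calc w * (↑g * ↑c * (↑g)⁻¹) = ↑g * (((g : G)⁻¹ * w * (g : G)) * ↑c) * (↑g)⁻¹ := by group
        _ = ↑g * (↑c * ((g : G)⁻¹ * w * (g : G))) * (↑g)⁻¹ := by rw [this]
        _ = _ := by group
    have h18 : (QuotientGroup.mk (⟨n, hn⟩ : N) : N ⧸ C.subgroupOf N) = 1 := by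
      rw [← orderOf_eq_one_iff]
      apply Nat.eq_one_of_dvd_coprimes (a := p ^ e) (b := C.relIndex N)
      · exact (Nat.Coprime.pow_right e h17).symm
      · apply orderOf_dvd_of_pow_eq_one
        rw [← QuotientGroup.mk_pow, QuotientGroup.eq_one_iff, Subgroup.mem_subgroupOf]
        exact h14
      · exact orderOf_dvd_natCard _
    rw [QuotientGroup.eq_one_iff, Subgroup.mem_subgroupOf] at h18
    exact h18
  exact ⟨P, (MonoidHom.transferSylow P key).ker, inferInstance,
    MonoidHom.ker_transferSylow_isComplement' P key⟩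

theorem result {G : Type*} [Group G] [Finite G] {p : ℕ} [Fact p.Prime] (x : G) (hx : ∃ k : ℕ, orderOf x = p ^ k) (hiso : Cfsg.IsIsolated x) : (∀ (N : Subgroup G) [N.Normal], Cfsg.IsIsolated (QuotientGroup.mk x : G ⧸ N)) ∧ (x ≠ 1 → (∀ P : Sylow p G, IsCyclic ↥(P : Subgroup G)) → Cfsg.HasNormalPComplement p G) :=
  ⟨fun N _ => quotient_part x hx hiso N, fun h1 h2 => cyclic_part x hx hiso h1 h2⟩

end Cfsg.Agent.S2970
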