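import Cfsg.Statements.S2971
import Cfsg.Agent.Lib.H24.OddPGroup
import Cfsg.Agent.Lib.H1.Cores
import Cfsg.Agent.S2970

set_option autoImplicit false
open Cfsg

namespace Cfsg.Agent.S2971

open Subgroup

/-- Let G be a finite group and p an odd prime such that G has p-rank at most 1 (no elementary abelian subgroup of order p²). If x ∈ G is an isolated element of order p, then x is central modulo the largest normal subgroup of G of order prime to p. -/
theorem result {G : Type*} [Group G] [Finite G] {p : ℕ} [Fact p.Prime] (hp : p ≠ 2) (hrk : Cfsg.PRankLE p 1 G) (x : G) (hx : orderOf x = p) (hiso : Cfsg.IsIsolated x) : Cfsg.InZStar p x := by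
  have hpp : p.Prime := Fact.out
  have hcyc : ∀ P : Sylow p G, IsCyclic ↥(P : Subgroup G) := by
    intro P
    by_contra hnc
    obtain ⟨A, -, hA2, hAp⟩ := H24.OddPGroup.exists_normal_elementary_sq hp P.2 hnc
    have hc : IsMulCommutative (A.map (P : Subgroup G).subtype) := by
      have : IsMulCommutative A := IsPGroup.isMulCommutative_of_card_eq_prime_sq hA2
      infer_instance
    have h1 := hrk (A.map (P : Subgroup G).subtype) hc (by
      rintro _ ⟨a, ha, rfl⟩
      have := hAp a ha
      simpa [Subtype.ext_iff] using this)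
    rw [Subgroup.card_map_of_injective (Subgroup.subtype_injective _), hA2] at h1
    have := hpp.two_le
    nlinarith
  have hx1 : x ≠ 1 := by
    rintro rfl
    rw [orderOf_one] at hx
    exact hpp.one_lt.ne hx
  obtain ⟨P, N, hN, hc⟩ := Cfsg.Agent.S2970.cyclic_part x ⟨1, by rw [pow_one, hx]⟩ hiso hx1 hcyc
  have hNc : (Nat.card N).Coprime p := by
    rw [← hc.index_eq_card, Nat.coprime_comm]
    exact (Nat.Prime.coprime_iff_not_dvd hpp).mpr P.not_dvd_index
  have hle : N ≤ pPrimeCore p G := H1.Cores.le_pPrimeCore hN hNc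
  intro g
  apply hle
  have hPc := hcyc P
  have hmul : ∀ y : G, ∃ s ∈ (P : Subgroup G), (QuotientGroup.mk y : G ⧸ N) = QuotientGroup.mk s := by
    intro y
    have : y ∈ N ⊔ (P : Subgroup G) := by rw [hc.sup_eq_top]; trivial
    obtain ⟨n, hn, s, hs, rfl⟩ := Subgroup.mem_sup_of_normal_left.mp this
    refine ⟨s, hs, ?_⟩
    rw [QuotientGroup.mk_mul, (QuotientGroup.eq_one_iff n).mpr hn, one_mul]
  obtain ⟨s, hs, hgs⟩ := hmul g
  obtain ⟨t, ht, hxt⟩ := hmul x
  rw [← QuotientGroup.eq_one_iff, QuotientGroup.mk_mul, QuotientGroup.mk_mul, QuotientGroup.mk_mul,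
    QuotientGroup.mk_inv, QuotientGroup.mk_inv, hgs, hxt]
  have hst : s * t = t * s := by
    have : IsMulCommutative (P : Subgroup G) := inferInstance
    have := this.is_comm.comm ⟨s, hs⟩ ⟨t, ht⟩
    simpa [Subtype.ext_iff] using this
  rw [← QuotientGroup.mk_mul, hst, QuotientGroup.mk_mul]
  group

end Cfsg.Agent.S2971
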