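import Cfsg.Statements.S2972
import Cfsg.Agent.Lib.H55.ZStarMin
import Cfsg.Agent.Lib.H55.FrobWielandt

set_option autoImplicit false
open Cfsg

namespace Cfsg.Agent.S2972

open Subgroup H55.ZStarMin H55.FW
open scoped commutatorElement

theorem result {G : Type*} [Group G] [Finite G] {p : ℕ} [Fact p.Prime] (x : G) (hx : orderOf x = p) (hiso : Cfsg.IsIsolated x) (hnz : ¬ Cfsg.InZStar p x) (hmin : ∀ (H : Subgroup G) (hxH : x ∈ H), H ≠ ⊤ → Cfsg.InZStar p (⟨x, hxH⟩ : ↥H)) (hquot : ∀ (N : Subgroup G) [N.Normal], N ≠ ⊥ → Cfsg.InZStar p (QuotientGroup.mk x : G ⧸ N)) : IsSimpleGroup ↥(commutator G) ∧ ¬ IsMulCommutative ↥(commutator G) ∧ commutator G ⊔ Subgroup.zpowers x = ⊤ := by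
  have hpp : p.Prime := Fact.out
  have hx' : ∃ k : ℕ, orderOf x = p ^ k := ⟨1, by rw [pow_one, hx]⟩
  have hcore := core_eq_bot x hnz hquot
  have hsup := fun (N : Subgroup G) [N.Normal] (hN : N ≠ ⊥) =>
    sup_zpowers_eq_top x hiso hnz hmin hquot N hN
  have hD1 : commutator G ≠ ⊥ := by
    intro h
    apply hnz
    apply inZStar_of_central
    intro g
    have : ⁅g, x⁆ ∈ commutator G := by
      rw [_root_.commutator_def]
      exact Subgroup.commutator_mem_commutator (Subgroup.mem_top _) (Subgroup.mem_top _)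
    rw [h, Subgroup.mem_bot, commutatorElement_def, mul_inv_eq_one] at this
    exact this
  -- `G'` lies in every nontrivial normal subgroup
  have hleast : ∀ N : Subgroup G, N.Normal → N ≠ ⊥ → commutator G ≤ N := by
    intro N hN hN1
    have h1 := hsup N hN1
    have hmk : ∀ g : G, ∃ i : ℤ, (QuotientGroup.mk g : G ⧸ N) = (QuotientGroup.mk x) ^ i := by
      intro g
      have : g ∈ N ⊔ zpowers x := by rw [h1]; trivial
      obtain ⟨n, hn, y, hy, rfl⟩ := Subgroup.mem_sup_of_normal_left.mp this
      obtain ⟨i, rfl⟩ := Subgroup.mem_zpowers_iff.mp hy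
      exact ⟨i, by rw [QuotientGroup.mk_mul, (QuotientGroup.eq_one_iff n).mpr hn, one_mul]; rfl⟩
    rw [_root_.commutator_def, Subgroup.commutator_le]
    intro a _ b _
    rw [← QuotientGroup.eq_one_iff, commutatorElement_def]
    obtain ⟨i, hi⟩ := hmk a
    obtain ⟨j, hj⟩ := hmk b
    rw [QuotientGroup.mk_mul, QuotientGroup.mk_mul, QuotientGroup.mk_mul, QuotientGroup.mk_inv,
      QuotientGroup.mk_inv, hi, hj]
    have : Commute ((QuotientGroup.mk x : G ⧸ N) ^ i) ((QuotientGroup.mk x : G ⧸ N) ^ j) :=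
      (Commute.refl _).zpow_zpow i j
    rw [this.eq]; group
  set D := commutator G with hD
  have hDn : D.Normal := inferInstance
  have hDx : D ⊔ zpowers x = ⊤ := hsup D hD1
  -- a Sylow subgroup containing `x`
  obtain ⟨R, hR⟩ := (H55.SylowBasic.isPGroup_zpowers hx').exists_le_sylow
  rw [Subgroup.zpowers_le] at hR
  have hRC := H55.Isolated.le_centralizer x hiso R R.2 hR
  have hsimple : IsSimpleGroup D := by
    have : Nontrivial D := (Subgroup.nontrivial_iff_ne_bot D).mpr hD1
    refine ⟨fun A hA => ?_⟩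
    by_cases hA1 : A = ⊥
    · exact Or.inl hA1
    right
    -- a minimal normal subgroup of `D` inside `A`
    obtain ⟨M, ⟨hMn, hM1, hMA⟩, hMmin⟩ := Set.exists_min_image
      {M : Subgroup D | M.Normal ∧ M ≠ ⊥ ∧ M ≤ A} (fun M => Nat.card M) (Set.toFinite _)
      ⟨A, hA, hA1, le_rfl⟩
    set M' := M.map D.subtype with hM'
    have hM'D : M' ≤ D := by rintro _ ⟨y, _, rfl⟩; exact y.2
    have hM'1 : M' ≠ ⊥ := by
      rwa [hM', Ne, Subgroup.map_eq_bot_iff_of_injective _ (Subgroup.subtype_injective _)]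
    have hM'n : ∀ d ∈ D, ∀ m ∈ M', d * m * d⁻¹ ∈ M' := by
      rintro d hd _ ⟨m, hm, rfl⟩
      exact ⟨⟨d, hd⟩ * m * ⟨d, hd⟩⁻¹, hMn.conj_mem m hm _, rfl⟩
    set M'' := M'.map (MulAut.conj x).toMonoidHom with hM''
    have hM''n : ∀ d ∈ D, ∀ m ∈ M'', d * m * d⁻¹ ∈ M'' := by
      intro d hd m hm
      rw [mem_map_conj] at hm ⊢
      have h1 : x⁻¹ * d * x ∈ D := by
        have := hDn.conj_mem d hd x⁻¹
        simpa using this
      have e : x⁻¹ * (d * m * d⁻¹) * x = (x⁻¹ * d * x) * (x⁻¹ * m * x) * (x⁻¹ * d * x)⁻¹ := by group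
      rw [e]
      exact hM'n _ h1 _ hm
    -- intersection
    set I : Subgroup D := (M' ⊓ M'').subgroupOf D with hI
    have hIn : I.Normal := by
      refine ⟨fun y hy d => ?_⟩
      rw [hI, Subgroup.mem_subgroupOf] at hy ⊢
      exact Subgroup.mem_inf.mpr ⟨hM'n d d.2 _ hy.1, hM''n d d.2 _ hy.2⟩
    have hIM : I ≤ M := by
      intro y hy
      rw [hI, Subgroup.mem_subgroupOf] at hy
      obtain ⟨m, hm, hmy⟩ := hy.1
      have : m = y := Subtype.ext hmy
      rwa [← this]
    by_cases hI1 : I = ⊥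
    · exfalso
      -- find an element of order `p` in `M'`
      have hdvd : p ∣ Nat.card M' := by
        by_contra hnd
        apply hM'1
        apply eq_bot_of_normal hcore D M' hM'D
        · intro d hd
          exact H55.SylowBasic.mem_normalizer_of_forall _ _ (hM'n d hd)
        · rw [Nat.coprime_comm]
          exact (Nat.Prime.coprime_iff_not_dvd hpp).mpr hnd
      obtain ⟨t, ht⟩ := exists_prime_orderOf_dvd_card' (G := M') p hdvd
      have hto : orderOf (t : G) = p := by rw [← ht]; exact Subgroup.orderOf_coe t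
      obtain ⟨g, hg⟩ := H55.SylowBasic.exists_conj_mem_sylow R (zpowers (t : G))
        (H55.SylowBasic.isPGroup_zpowers ⟨1, by rw [pow_one, hto]⟩)
      have hgt := hg t (Subgroup.mem_zpowers _)
      have hgm : g ∈ zpowers x ⊔ D := by rw [sup_comm, hDx]; trivial
      obtain ⟨y, hy, d, hd, rfl⟩ := Subgroup.mem_sup_of_normal_right.mp hgm
      -- `y` commutes with elements of `R`
      have hcy : ∀ r ∈ (R : Subgroup G), y * r = r * y := by
        intro r hr
        have h1 := Subgroup.mem_centralizer_singleton_iff.mp (hRC hr)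
        obtain ⟨i, rfl⟩ := Subgroup.mem_zpowers_iff.mp hy
        have h2 : Commute r x := h1
        exact (h2.zpow_right i).symm
      have hyR : y ∈ (R : Subgroup G) := (Subgroup.zpowers_le.mpr hR) hy
      have h3 : d * t * d⁻¹ ∈ (R : Subgroup G) := by
        have h4 := (R : Subgroup G).mul_mem ((R : Subgroup G).mul_mem
          ((R : Subgroup G).inv_mem hyR) hgt) hyR
        have e : y⁻¹ * (y * d * ↑t * (y * d)⁻¹) * y = d * t * d⁻¹ := by group
        rwa [e] at h4
      have h5 : d * t * d⁻¹ ∈ M' := hM'n d hd t t.2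
      have h6 : d * t * d⁻¹ ∈ M'' := by
        rw [mem_map_conj]
        have h7 := Subgroup.mem_centralizer_singleton_iff.mp (hRC h3)
        have : x⁻¹ * (d * ↑t * d⁻¹) * x = d * t * d⁻¹ := by
          rw [mul_assoc, h7, inv_mul_cancel_left]
        rw [this]; exact h5
      have h8 : (⟨d * t * d⁻¹, hM'D h5⟩ : D) ∈ I := by
        rw [hI, Subgroup.mem_subgroupOf]
        exact Subgroup.mem_inf.mpr ⟨h5, h6⟩
      rw [hI1, Subgroup.mem_bot] at h8
      have h9 : d * (t : G) * d⁻¹ = 1 := congrArg Subtype.val h8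
      have h10 : (t : G) = 1 := by
        rw [mul_inv_eq_one] at h9
        simpa using h9
      rw [h10, orderOf_one] at hto
      exact hpp.one_lt.ne hto
    · -- `M` is normalized by `x`, so it is normal in `G`
      have hcard := hMmin I ⟨hIn, hI1, hIM.trans hMA⟩
      have hIeq : I = M := Subgroup.eq_of_le_of_card_ge hIM hcard
      have hM'M'' : M' ≤ M'' := by
        intro y hy
        have h1 : (⟨y, hM'D hy⟩ : D) ∈ M := by
          obtain ⟨m, hm, hmy⟩ := hy
          have : m = ⟨y, hM'D ⟨m, hm, hmy⟩⟩ := Subtype.ext hmy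
          rwa [← this]
        rw [← hIeq, hI, Subgroup.mem_subgroupOf] at h1
        exact h1.2
      have hxinv : x⁻¹ ∈ normalizer (M' : Set G) := by
        apply H55.SylowBasic.mem_normalizer_of_forall
        intro m hm
        have := hM'M'' hm
        rw [mem_map_conj] at this
        simpa using this
      have hM'normal : M'.Normal := by
        rw [← Subgroup.normalizer_eq_top_iff, eq_top_iff, ← hDx]
        refine sup_le (fun d hd => H55.SylowBasic.mem_normalizer_of_forall _ _ (hM'n d hd)) ?_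
        rw [Subgroup.zpowers_le]
        exact (Subgroup.inv_mem_iff _).mp hxinv
      have h2 := hleast M' hM'normal hM'1
      rw [eq_top_iff]
      rintro y -
      apply hMA
      obtain ⟨m, hm, hmy⟩ := h2 y.2
      have : m = y := Subtype.ext hmy
      rwa [← this]
  refine ⟨hsimple, ?_, hDx⟩
  intro hcomm
  have hprime : (Nat.card D).Prime := Group.is_simple_iff_prime_card.mp hsimple
  by_cases hq : Nat.card D = p
  · have hGp : IsPGroup p G := by
      have h1 : IsPGroup p D := IsPGroup.of_card (n := 1) (by rw [hq, pow_one])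
      have h2 := IsPGroup.to_sup_of_normal_left h1 (H55.SylowBasic.isPGroup_zpowers hx')
      rw [hDx] at h2
      exact h2.of_equiv Subgroup.topEquiv
    have h3 := H55.Isolated.le_centralizer x hiso ⊤ (hGp.to_subgroup ⊤) trivial
    apply hnz
    apply inZStar_of_central
    intro g
    have := Subgroup.mem_centralizer_singleton_iff.mp (h3 (Subgroup.mem_top g))
    rw [this, mul_inv_cancel_right]
  · apply hD1
    rw [eq_bot_iff, ← hcore]
    apply H1.Cores.le_pPrimeCore hDn
    exact (Nat.coprime_primes hprime hpp).mpr hq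

end Cfsg.Agent.S2972
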