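import Cfsg.Statements.S2975
import Cfsg.Agent.Lib.H55.ZStarMin
import Cfsg.Agent.Lib.H55.FrobWielandt
import Cfsg.Agent.Lib.H1.Coprime2

set_option autoImplicit false
open Cfsg

namespace Cfsg.Agent.S2975

open Subgroup H55.ZStarMin H55.FW
open scoped Pointwise

theorem smul_conj_eq_map {G : Type*} [Group G] (g : G) (S : Subgroup G) :
    MulAut.conj g • S = S.map (MulAut.conj g).toMonoidHom := rfl

theorem part2 {G : Type*} [Group G] [Finite G] {p : ℕ} [Fact p.Prime] (x : G) (hx : orderOf x = p) (hiso : Cfsg.IsIsolated x) (q : ℕ) [Fact q.Prime] (S₁ S₂ : Sylow q G) (h₁ : x ∈ Subgroup.normalizer ((S₁ : Subgroup G) : Set G)) (h₂ : x ∈ Subgroup.normalizer ((S₂ : Subgroup G) : Set G)) : ∃ c ∈ Subgroup.centralizer ({x} : Set G), (S₁ : Subgroup G).map (MulAut.conj c).toMonoidHom = (S₂ : Subgroup G) := by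
  have hx' : ∃ k : ℕ, orderOf x = p ^ k := ⟨1, by rw [pow_one, hx]⟩
  obtain ⟨g, hg⟩ := MulAction.exists_smul_eq G S₁ S₂
  have hg' : (S₁ : Subgroup G).map (MulAut.conj g).toMonoidHom = (S₂ : Subgroup G) := by
    rw [← hg]; rfl
  set N := Subgroup.normalizer ((S₁ : Subgroup G) : Set G) with hN
  have hyN : g⁻¹ * x * g ∈ N := by
    apply H55.SylowBasic.mem_normalizer_of_forall
    intro s hs
    have h3 : g * s * g⁻¹ ∈ (S₂ : Subgroup G) := by rw [← hg']; exact ⟨s, hs, rfl⟩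
    have h4 := (Subgroup.mem_normalizer_iff.mp h₂ _).mp h3
    rw [← hg', mem_map_conj] at h4
    have e : g⁻¹ * x * g * s * (g⁻¹ * x * g)⁻¹ = g⁻¹ * (x * (g * s * g⁻¹) * x⁻¹) * g := by group
    rw [e]; exact h4
  have hxp : IsPGroup p (zpowers (⟨x, h₁⟩ : N)) := by
    apply H55.SylowBasic.isPGroup_zpowers
    exact ⟨1, by rw [Subgroup.orderOf_mk, hx, pow_one]⟩
  obtain ⟨P, hP⟩ := hxp.exists_le_sylow
  rw [Subgroup.zpowers_le] at hP
  have hord : orderOf (g⁻¹ * x * g) = p := by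
    have := (MulAut.conj g⁻¹).orderOf_eq x
    rw [hx] at this
    simpa using this
  obtain ⟨d, hd, hdP⟩ := H55.SylowBasic.exists_conj_mem_sylow_of_mem N P (g⁻¹ * x * g)
    ⟨1, by rw [hord, pow_one]⟩ hyN
  have hPp : IsPGroup p ((P : Subgroup N).map N.subtype) := P.2.map _
  obtain ⟨R, hR⟩ := hPp.exists_le_sylow
  have hxR : x ∈ (R : Subgroup G) := hR ⟨⟨x, h₁⟩, hP, rfl⟩
  have hdR := hR hdP
  have e1 : d * (g⁻¹ * x * g) * d⁻¹ = (d * g⁻¹) * x * (d * g⁻¹)⁻¹ := by group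
  rw [e1] at hdR
  have h5 := H55.Isolated.conj_eq_of_mem_sylow R x hxR hx' hiso x (Subgroup.mem_zpowers x) _ hdR
  have h6 := H55.Isolated.mem_centralizer_of_conj_eq h5
  refine ⟨g * d⁻¹, ?_, ?_⟩
  · have := Subgroup.inv_mem _ h6
    simpa using this
  · ext y
    rw [mem_map_conj, ← hg', mem_map_conj]
    have := Subgroup.mem_normalizer_iff.mp hd (g⁻¹ * y * g)
    rw [this]
    have e : (g * d⁻¹)⁻¹ * y * (g * d⁻¹) = d * (g⁻¹ * y * g) * d⁻¹ := by group
    rw [e]

theorem card_le_of_isSylIn {G : Type*} [Group G] [Finite G] {q : ℕ} [hq : Fact q.Prime] {N S R : Subgroup G}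
    (hS : H1.Coprime2.IsSylIn q N S) (hR : IsPGroup q R) (hRN : R ≤ N) : Nat.card R ≤ Nat.card S := by
  obtain ⟨n, hn⟩ := IsPGroup.iff_card.mp hR
  rw [hS.2, hn]
  apply Nat.pow_le_pow_right hq.out.pos
  rw [← hq.out.pow_dvd_iff_le_factorization Nat.card_pos.ne', ← hn]
  exact Subgroup.card_dvd_of_le hRN

theorem isSylIn_of_le {G : Type*} [Group G] [Finite G] {q : ℕ} [hq : Fact q.Prime] {N W S : Subgroup G}
    (hS : H1.Coprime2.IsSylIn q N S) (hSW : S ≤ W) (hWN : W ≤ N) : H1.Coprime2.IsSylIn q W S := by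
  refine ⟨hSW, ?_⟩
  apply le_antisymm
  · obtain ⟨T, hT⟩ := H1.Coprime2.exists_isSylIn q W
    rw [← hT.2]
    exact card_le_of_isSylIn hT hS.isPGroup hSW
  · obtain ⟨T, hT⟩ := H1.Coprime2.exists_isSylIn q W
    rw [← hT.2]
    exact card_le_of_isSylIn hS hT.isPGroup (hT.1.trans hWN)

theorem part1 {G : Type*} [Group G] [Finite G] {p : ℕ} [hpf : Fact p.Prime] (x : G) (hx : orderOf x = p) (hnz : ¬ Cfsg.InZStar p x) (hmin : ∀ (H : Subgroup G) (hxH : x ∈ H), H ≠ ⊤ → Cfsg.InZStar p (⟨x, hxH⟩ : ↥H)) (hquot : ∀ (N : Subgroup G) [N.Normal], N ≠ ⊥ → Cfsg.InZStar p (QuotientGroup.mk x : G ⧸ N)) (q : ℕ) [hqf : Fact q.Prime] (Q : Subgroup G) (hQ : IsPGroup q ↥Q) (hxQ : x ∈ Subgroup.normalizer (Q : Set G)) (hmax : ∀ R : Subgroup G, IsPGroup q ↥R → x ∈ Subgroup.normalizer (R : Set G) → Q ≤ R → R = Q) : Q = ⊥ ∨ ∃ S : Sylow q G, (S : Subgroup G) = Q := by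
  by_cases hQ1 : Q = ⊥
  · exact Or.inl hQ1
  right
  have hcore := core_eq_bot x hnz hquot
  have hx' : ∃ k : ℕ, orderOf x = p ^ k := ⟨1, by rw [pow_one, hx]⟩
  obtain ⟨S₀, hS₀⟩ := hQ.exists_le_sylow
  by_cases hSQ : (S₀ : Subgroup G) = Q
  · exact ⟨S₀, hSQ⟩
  exfalso
  have hlt : Q < S₀ := lt_of_le_of_ne hS₀ (Ne.symm hSQ)
  obtain ⟨n, hnS, hnQ, hnN⟩ := H55.SylowBasic.exists_mem_normalizer_notMem (p := q) Q S₀ S₀.2 hlt
  by_cases hqp : q = p
  · subst hqp
    have hxmem : x ∈ Q := by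
      have h1 : IsPGroup q (zpowers x ⊔ Q : Subgroup G) :=
        IsPGroup.to_sup_of_normal_right' (H55.SylowBasic.isPGroup_zpowers hx') hQ (by
          rwa [Subgroup.zpowers_le])
      have h2 : x ∈ zpowers x ⊔ Q := Subgroup.mem_sup_left (Subgroup.mem_zpowers x)
      have := hmax _ h1 (Subgroup.le_normalizer h2) le_sup_right
      rwa [this] at h2
    have h3 : IsPGroup q ((S₀ : Subgroup G) ⊓ normalizer (Q : Set G) : Subgroup G) :=
      S₀.2.to_le inf_le_left
    have h4 : Q ≤ (S₀ : Subgroup G) ⊓ normalizer (Q : Set G) := le_inf hS₀ Subgroup.le_normalizer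
    have h5 := hmax _ h3 (Subgroup.le_normalizer (h4 hxmem)) h4
    exact hnQ (h5 ▸ Subgroup.mem_inf.mpr ⟨hnS, hnN⟩)
  · set N := normalizer (Q : Set G) with hN
    have hQc : (Nat.card Q).Coprime p := by
      obtain ⟨k, hk⟩ := IsPGroup.iff_card.mp hQ
      rw [hk]
      exact Nat.Coprime.pow_left k ((Nat.coprime_primes hqf.out hpf.out).mpr hqp)
    have hNtop : N ≠ ⊤ := by
      intro h
      have hQn : Q.Normal := Subgroup.normalizer_eq_top_iff.mp h
      apply hQ1
      rw [eq_bot_iff, ← hcore]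
      exact H1.Cores.le_pPrimeCore hQn hQc
    have hz := hmin N hxQ hNtop
    set K := (pPrimeCore p N).map N.subtype with hK
    have hKN : K ≤ N := by rintro _ ⟨y, _, rfl⟩; exact y.2
    have hNK : ∀ n ∈ N, ∀ k ∈ K, n * k * n⁻¹ ∈ K := by
      rintro n hn _ ⟨k, hk, rfl⟩
      exact ⟨⟨n, hn⟩ * k * ⟨n, hn⟩⁻¹, (inferInstance : (pPrimeCore p N).Normal).conj_mem k hk _, rfl⟩
    have hNK' : N ≤ normalizer (K : Set G) := fun n hn =>
      H55.SylowBasic.mem_normalizer_of_forall _ _ (hNK n hn)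
    have hcomm : ∀ n ∈ N, ∀ a ∈ zpowers x, a * n * a⁻¹ * n⁻¹ ∈ K := by
      intro n hn a ha
      -- work in the quotient N/K
      have h1 : ∀ m : N, (QuotientGroup.mk m : N ⧸ pPrimeCore p N) * QuotientGroup.mk ⟨x, hxQ⟩ =
          QuotientGroup.mk ⟨x, hxQ⟩ * QuotientGroup.mk m := by
        intro m
        have h2 := hz m
        rw [← QuotientGroup.eq_one_iff] at h2
        rw [QuotientGroup.mk_mul, QuotientGroup.mk_mul, QuotientGroup.mk_mul, QuotientGroup.mk_inv,
          QuotientGroup.mk_inv, mul_inv_eq_one, mul_inv_eq_iff_eq_mul] at h2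
        exact h2
      obtain ⟨i, rfl⟩ := Subgroup.mem_zpowers_iff.mp ha
      have h3 : Commute (QuotientGroup.mk (⟨n, hn⟩ : N) : N ⧸ pPrimeCore p N)
          ((QuotientGroup.mk (⟨x, hxQ⟩ : N)) ^ i) := by
        have h5 : Commute (QuotientGroup.mk (⟨n, hn⟩ : N) : N ⧸ pPrimeCore p N)
          (QuotientGroup.mk (⟨x, hxQ⟩ : N)) := h1 ⟨n, hn⟩
        exact h5.zpow_right i
      have h4 : (⟨x, hxQ⟩ : N) ^ i * ⟨n, hn⟩ * ((⟨x, hxQ⟩ : N) ^ i)⁻¹ * (⟨n, hn⟩ : N)⁻¹ ∈ pPrimeCore p N := by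
        rw [← QuotientGroup.eq_one_iff, QuotientGroup.mk_mul, QuotientGroup.mk_mul,
          QuotientGroup.mk_mul, QuotientGroup.mk_inv, QuotientGroup.mk_inv, QuotientGroup.mk_zpow]
        rw [← h3.eq]; group
      exact ⟨_, h4, by simp⟩
    obtain ⟨S, hS⟩ := H1.Coprime2.exists_isSylIn q N
    have hzN : zpowers x ≤ N := by rwa [Subgroup.zpowers_le]
    have hcop : (Nat.card (zpowers x)).Coprime (Nat.card K) := by
      rw [Nat.card_zpowers, hx, hK, Subgroup.card_map_of_injective (Subgroup.subtype_injective _)]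
      exact (H1.Cores.coprime_card_pPrimeCore p).symm
    have hinv : ∀ a ∈ zpowers x, ∃ k ∈ K, MulAut.conj k • S = MulAut.conj a • S := by
      intro a ha
      have hWN : K ⊔ S ≤ N := sup_le hKN hS.1
      have hW1 : H1.Coprime2.IsSylIn q (K ⊔ S) S := isSylIn_of_le hS le_sup_right hWN
      have hW2 : H1.Coprime2.IsSylIn q (K ⊔ S) (MulAut.conj a • S) := by
        refine ⟨?_, ?_⟩
        · rintro _ ⟨s, hs, rfl⟩
          show a * s * a⁻¹ ∈ K ⊔ S
          have h1 := hcomm s (hS.1 hs) a ha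
          have e : a * s * a⁻¹ = (a * s * a⁻¹ * s⁻¹) * s := by group
          rw [e]
          exact Subgroup.mul_mem _ (Subgroup.mem_sup_left h1) (Subgroup.mem_sup_right hs)
        · rw [← hW1.2, smul_conj_eq_map]
          exact Subgroup.card_map_of_injective (MulAut.conj a).injective
      obtain ⟨w, hw, hwS⟩ := hW1.conj hW2
      rw [← SetLike.mem_coe, Subgroup.coe_mul_of_right_le_normalizer_left K S (hS.1.trans hNK')] at hw
      obtain ⟨k, hk, s, hs, rfl⟩ := hw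
      refine ⟨k, hk, ?_⟩
      rw [← hwS]
      show MulAut.conj k • S = MulAut.conj (k * s) • S
      rw [map_mul, mul_smul]
      rw [Subgroup.conj_smul_eq_self_of_mem hs]
    obtain ⟨k, hk, hkx⟩ := H1.Coprime.exists_invariant_conj (zpowers x) K (hzN.trans hNK') hcop
      (Or.inl (by
        have : IsMulCommutative (zpowers x) := inferInstance
        infer_instance)) S hinv
    have hT := hS.smul (Subgroup.le_normalizer (hKN hk))
    set T := MulAut.conj k • S with hTdef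
    have hxT : x ∈ normalizer (T : Set G) := hkx (Subgroup.mem_zpowers x)
    have hQT : IsPGroup q (Q ⊔ T : Subgroup G) := by
      rw [sup_comm]
      exact IsPGroup.to_sup_of_normal_right' hT.isPGroup hQ hT.1
    have h1 : Nat.card (Q ⊔ T : Subgroup G) ≤ Nat.card T :=
      card_le_of_isSylIn hT hQT (sup_le Subgroup.le_normalizer hT.1)
    have h2 : T = Q ⊔ T := Subgroup.eq_of_le_of_card_ge le_sup_right h1
    have h3 : Q ≤ T := by rw [h2]; exact le_sup_left
    have h4 : T = Q := hmax T hT.isPGroup hxT h3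
    have h5 : IsPGroup q ((S₀ : Subgroup G) ⊓ N : Subgroup G) := S₀.2.to_le inf_le_left
    have h6 := card_le_of_isSylIn hT h5 inf_le_right
    rw [h4] at h6
    have h7 : Q = (S₀ : Subgroup G) ⊓ N :=
      Subgroup.eq_of_le_of_card_ge (le_inf hS₀ Subgroup.le_normalizer) h6
    exact hnQ (h7 ▸ Subgroup.mem_inf.mpr ⟨hnS, hnN⟩)

/-- Let G be a finite group, p a prime and x ∈ G an isolated element of order p (the only conjugate of x commuting with x is x) which is not central modulo the largest normal subgroup of order prime to p, while x is central modulo the largest normal subgroup of order prime to p in every proper subgroup containing x, and the image of x is so in every quotient of G by a nontrivial normal subgroup (a minimal counterexample to the Z*_p statement). Then for every prime q, every q-subgroup of G that is normalized by x and maximal among the q-subgroups normalized by x is either trivial or a Sylow q-subgroup of G; and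 C_G(x) permutes the x-invariant Sylow q-subgroups of G transitively by conjugation. -/
theorem result {G : Type*} [Group G] [Finite G] {p : ℕ} [Fact p.Prime] (x : G) (hx : orderOf x = p) (hiso : Cfsg.IsIsolated x) (hnz : ¬ Cfsg.InZStar p x) (hmin : ∀ (H : Subgroup G) (hxH : x ∈ H), H ≠ ⊤ → Cfsg.InZStar p (⟨x, hxH⟩ : ↥H)) (hquot : ∀ (N : Subgroup G) [N.Normal], N ≠ ⊥ → Cfsg.InZStar p (QuotientGroup.mk x : G ⧸ N)) (q : ℕ) [Fact q.Prime] : (∀ Q : Subgroup G, IsPGroup q ↥Q → x ∈ Subgroup.normalizer (Q : Set G) → (∀ R : Subgroup G, IsPGroup q ↥R → x ∈ Subgroup.normalizer (R : Set G) → Q ≤ R → R = Q) → Q = ⊥ ∨ ∃ S : Sylow q G, (S : Subgroup G) = Q) ∧ (∀ S₁ S₂ : Sylow q G, x ∈ Subgroup.normalizer ((S₁ : Subgroup G) : Set G) → x ∈ Subgroup.normalizer ((S₂ : Subgroup G) : Set G) → ∃ c ∈ Subgroup.centralizer ({x} : Set G), (S₁ : Subgroup G).map (MulAut.conj c).toMonoidHom = (S₂ : Subgroup G)) :=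
  ⟨fun Q h1 h2 h3 => part1 x hx hnz hmin hquot q Q h1 h2 h3,
    fun S₁ S₂ h1 h2 => part2 x hx hiso q S₁ S₂ h1 h2⟩

end Cfsg.Agent.S2975
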