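import Cfsg.Statements.S2987
import Cfsg.Agent.Lib.H56.BZG
import Cfsg.Agent.Lib.H51.BZL1
import Cfsg.Agent.Lib.H51.BZL2
import Cfsg.Agent.Lib.H51.BZA2
import Cfsg.Agent.Lib.H44.BZS
import Cfsg.Agent.Lib.H14.BZG1
import Cfsg.Agent.Lib.H14.BZG2
import Cfsg.Agent.Lib.H25.BzA1
import Cfsg.Agent.Lib.H52.BZJ

set_option autoImplicit false
open Cfsg

namespace Cfsg.Agent.S2987

theorem hp_all {G : Type*} [Group G] [Finite G] {p : ℕ} [Fact p.Prime] (hG : Subgroup.centralizer (Cfsg.pCore p G : Set G) ≤ Cfsg.pCore p G) (E : Subgroup G)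
    (T : Sylow p G) (hE : Cfsg.IsBaumannBlock p (T : Subgroup G) E) : H56.BZ.HP p (T : Subgroup G) E ∧ H56.BZ.FP p (T : Subgroup G) E := by
  by_cases hs : Group.IsSolvable E
  · exact ⟨H44.BZ.small_HP hG hE hs, H56.BZ.fp_of_Z hG hE (H52.BB.small hE hs).2.1⟩
  · rcases H56.BZ.cases3 hE hs with ⟨F, i1, i2, n, hF, h4, hiso, hact⟩ | ⟨rfl, m, hm, hiso, hact⟩
    · exact ⟨H56.BZ.hp_of_le hG hE (H51.BZ.lin_HP hF h4 hG hE hiso hact), H51.BZ.lin_FP hF h4 hG hE hiso hact⟩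
    · exact ⟨H51.BZ.alt_HP hG hm hE hiso hact, H56.BZ.fp_of_Z hG hE (H25.BZ.alt_Z hG hm hE hiso hact)⟩

theorem result {G : Type*} [Group G] [Finite G] {p : ℕ} [Fact p.Prime] (hG : Subgroup.centralizer (Cfsg.pCore p G : Set G) ≤ Cfsg.pCore p G) (E : Subgroup G) (hE : ∃ T : Sylow p G, Cfsg.IsBaumannBlock p (T : Subgroup G) E) (hEs : E.IsSubnormal) : E ≤ Cfsg.baumannSubgroup p G ∧ Cfsg.baumannSubgroup p G ≤ Subgroup.normalizer (E : Set G) ∧ (∀ T' : Sylow p G, Cfsg.IsBaumannBlock p (T' : Subgroup G) E) ∧ ∀ F : Subgroup G, (∃ T' : Sylow p G, Cfsg.IsBaumannBlock p (T' : Subgroup G) F) → F ≤ E ∨ ⁅F, E⁆ = ⊥ := by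
  obtain ⟨T, hT⟩ := hE
  have hcom := H56.BZ.com_of hG hT hEs
  exact H56.BZ.glue hG hT hEs (fun T hT => (hp_all hG E T hT).1) (fun T hT => (hp_all hG E T hT).2)
    (fun T' => H52.BZ.J_le_nz hG hT hcom T') (fun T hT h => H14.BZ.C_le_nz hG hT hcom h)
    (fun T' h => H14.BZ.norm_elt hG hT hcom T' h)

end Cfsg.Agent.S2987
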