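import Cfsg.Statements.S2999
import Cfsg.Agent.Lib.H51.FFMin
import Cfsg.Agent.Lib.H51.NAct

set_option autoImplicit false
open Cfsg

namespace Cfsg.Agent.S2999

/-- Let p be a prime and let P and V be subgroups of a finite group with V elementary abelian, P normalizing V and acting faithfully on it (P ∩ C(V) = 1). Suppose P is p-minimal (a Sylow p-subgroup T of P is not normal and lies in a unique maximal subgroup M of P) and A ≤ T is an elementary abelian subgroup such that: |V/C_V(A)| ≤ |A| while |A₀|·|C_V(A₀)| < |A|·|C_V(A)| for every nontrivial proper subgroup A₀ of A; [C_V(T), P] ≠ 1; and P = ⟨A, xAx⁻¹⟩ for every x ∈ P outside M. Then, with q = |A|, there is a field F with q elements such that P ≅ SL₂(F), C_V(A) = [V, A]·C_V(P), and P acts on V/C_V(P) as SL₂(F) on its natural two-dimensional module. -/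
theorem result {G : Type*} [Group G] [Finite G] {p : ℕ} [Fact p.Prime] (V P : Subgroup G) (hV : Cfsg.IsElementaryAbelian p V) (hPV : P ≤ Subgroup.normalizer (V : Set G)) (hfaith : P ⊓ Subgroup.centralizer (V : Set G) = ⊥) (hmin : Cfsg.IsPMinimal p ↥P) (T : Sylow p ↥P) (M : Subgroup ↥P) (hM : IsCoatom M) (hTM : (T : Subgroup ↥P) ≤ M) (A : Subgroup G) (hAT : A ≤ ((T : Subgroup ↥P).map P.subtype)) (hAel : Cfsg.IsElementaryAbelian p A) (hi : Nat.card ↥V ≤ Nat.card ↥A * Nat.card ↥(V ⊓ Subgroup.centralizer ((A : Subgroup G) : Set G)) ∧ ∀ A₀ : Subgroup G, A₀ ≤ A → A₀ ≠ ⊥ → A₀ ≠ A → Nat.card ↥A₀ * Nat.card ↥(V ⊓ Subgroup.centralizer ((A₀ : Subgroup G) : Set G)) < Nat.card ↥A * Nat.card ↥(V ⊓ Subgroup.centralizer ((A : Subgroup G) : Set G))) (hii : ⁅(V ⊓ Subgroup.centralizer ((((T : Subgroup ↥P).map P.subtype) : Subgroup G) : Set G)), P⁆ ≠ ⊥) (hiii : ∀ x : ↥P, x ∉ M → A ⊔ A.map (MulAut.conj (x : G)).toMonoidHom = P) : ∃ (F : Type) (_ : Field F) (_ : Fintype F), Fintype.card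 F = Nat.card ↥A ∧ Nonempty (↥P ≃* Matrix.SpecialLinearGroup (Fin 2) F) ∧ (V ⊓ Subgroup.centralizer ((A : Subgroup G) : Set G)) = ⁅V, A⁆ ⊔ (V ⊓ Subgroup.centralizer ((P : Subgroup G) : Set G)) ∧ Cfsg.ActsAsSL2OnSection F ⊤ P V (V ⊓ Subgroup.centralizer ((P : Subgroup G) : Set G)) := by
  classical
  have hp : p.Prime := Fact.out
  obtain ⟨hVcomm, hVp⟩ := hV
  obtain ⟨hAcomm, hAp⟩ := hAel
  have hVab : ∀ a ∈ V, ∀ b ∈ V, a * b = b * a := by
    intro a ha b hb
    have h1 := hVcomm.is_comm.comm (⟨a, ha⟩ : V) ⟨b, hb⟩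
    exact congrArg Subtype.val h1
  have hAab : ∀ a ∈ A, ∀ b ∈ A, a * b = b * a := by
    intro a ha b hb
    have h1 := hAcomm.is_comm.comm (⟨a, ha⟩ : A) ⟨b, hb⟩
    exact congrArg Subtype.val h1
  letI i0 := H51.NAct.addV V hVab
  letI i1 := H51.NAct.actV V P hVab hPV
  have hAP : A ≤ P := hAT.trans (Subgroup.map_subtype_le _)
  have hAmap : (A.subgroupOf P).map P.subtype = A := by
    rw [Subgroup.subgroupOf_map_subtype, inf_eq_left.2 hAP]
  have hmapinj : Function.Injective (Subgroup.map P.subtype) := Subgroup.map_injective P.subtype_injective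
  have htopmap : (⊤ : Subgroup ↥P).map P.subtype = P := by
    rw [← MonoidHom.range_eq_map, Subgroup.range_subtype]
  have hcardmap : ∀ Z : Subgroup ↥P, Nat.card (Z.map P.subtype) = Nat.card Z := fun Z =>
    Subgroup.card_map_of_injective P.subtype_injective
  have hcA : Nat.card (A.subgroupOf P) = Nat.card A :=
    Nat.card_congr (Subgroup.subgroupOfEquivOfLe hAP).toEquiv
  have hfaith' : ∀ h : ↥P, (∀ v : Additive V, h • v = v) → h = 1 := by
    intro g hg
    have h1 : (g : G) ∈ P ⊓ Subgroup.centralizer (V : Set G) :=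
      Subgroup.mem_inf.2 ⟨g.2, (H51.NAct.fix_all_iff V P hVab hPV g).1 hg⟩
    rw [hfaith, Subgroup.mem_bot] at h1
    exact Subtype.ext h1
  have hcg : ∀ x : ↥P, (H51.FF.cg x (A.subgroupOf P)).map P.subtype = A.map (MulAut.conj (x : G)).toMonoidHom := by
    intro x
    conv_rhs => rw [← hAmap]
    unfold H51.FF.cg
    rw [Subgroup.map_map, Subgroup.map_map]
    rfl
  have pm : H51.FF.PM p (Additive V) (T : Subgroup ↥P) M (A.subgroupOf P) := by
    refine ⟨?_, hfaith', T.2, hM.1, hTM, ?_, ?_, ?_, ?_, ?_, ?_, ?_⟩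
    · intro v
      obtain ⟨v, rfl⟩ := Additive.ofMul.surjective v
      apply Additive.toMul.injective
      apply Subtype.ext
      show ((v ^ p : V) : G) = 1
      rw [Subgroup.coe_pow]
      exact hVp v v.2
    · intro N hN hTN
      obtain ⟨_, M₀, _, hu⟩ := hmin T
      obtain ⟨M₁, hM₁, hNM₁⟩ := (eq_top_or_exists_le_coatom N).resolve_left hN
      have h1 := hu M₁ ⟨hM₁, hTN.trans hNM₁⟩
      have h2 := hu M ⟨hM, hTM⟩
      rw [h2, ← h1]
      exact hNM₁
    · intro x hx
      obtain ⟨y, hy, hyx⟩ := hAT (Subgroup.mem_subgroupOf.1 hx)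
      have : y = x := Subtype.ext hyx
      rwa [← this]
    · intro a ha b hb
      exact Subtype.ext (hAab _ (Subgroup.mem_subgroupOf.1 ha) _ (Subgroup.mem_subgroupOf.1 hb))
    · rw [H51.NAct.card_fx V P hVab hPV, hAmap, hcA]
      exact hi.1
    · intro Z hZ hZ1 hZ2
      unfold H53.PU.vl
      rw [H51.NAct.card_fx V P hVab hPV, H51.NAct.card_fx V P hVab hPV, hAmap, ← hcardmap Z, hcA]
      apply hi.2
      · rw [← hAmap]; exact Subgroup.map_mono hZ
      · intro h
        apply hZ1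
        apply hmapinj
        rw [h, Subgroup.map_bot]
      · intro h
        apply hZ2
        apply hmapinj
        rw [h, hAmap]
    · by_contra hcon
      push Not at hcon
      apply hii
      rw [eq_bot_iff, Subgroup.commutator_le]
      rintro w ⟨hw1, hw2⟩ x hx
      rw [Subgroup.mem_bot, commutatorElement_eq_one_iff_mul_comm]
      have h1 := hcon (Additive.ofMul ⟨w, hw1⟩) ((H51.NAct.mem_fx_iff V P hVab hPV _ _).2 hw2) ⟨x, hx⟩
        (Subgroup.mem_top _)
      exact ((H51.NAct.smul_eq_self_iff V P hVab hPV _ _).1 h1).symm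
    · intro x hx
      apply hmapinj
      rw [Subgroup.map_sup, hAmap, hcg, htopmap]
      exact hiii x hx
  obtain ⟨F, i2, i3, ρ, Ψ, hΨs, hΨk, hΨ, hF⟩ := pm.main
  refine ⟨F, i2, i3, by rw [hF, hcA], ⟨ρ⟩, ?_, ?_, inf_le_left, ?_⟩
  · apply le_antisymm
    · rintro y ⟨hy1, hy2⟩
      have hy3 : (Additive.ofMul (⟨y, hy1⟩ : V) : Additive V) ∈ H53.PU.fx (Additive V) (A.subgroupOf P) := by
        rw [H51.NAct.mem_fx_iff V P hVab hPV, hAmap]
        exact hy2
      obtain ⟨a, ha, w, c, hc, hyw⟩ := pm.fx_eq hy3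
      obtain ⟨w, rfl⟩ := Additive.ofMul.surjective w
      obtain ⟨c, rfl⟩ := Additive.ofMul.surjective c
      have h1 : y = ((a : G) * w * (a : G)⁻¹ * (w : G)⁻¹) * c := by
        have h2 := congrArg (fun z : Additive V => ((z.toMul : V) : G)) hyw
        show y = _
        exact h2.trans (by
          show ((a : G) * w * (a : G)⁻¹ / (w : G)) * c = _
          rw [div_eq_mul_inv])
      rw [h1]
      apply mul_mem
      · apply Subgroup.mem_sup_left
        rw [Subgroup.commutator_comm]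
        exact Subgroup.commutator_mem_commutator (Subgroup.mem_subgroupOf.1 ha) w.2
      · apply Subgroup.mem_sup_right
        refine Subgroup.mem_inf.2 ⟨c.2, ?_⟩
        have h2 := (H51.NAct.mem_fx_iff V P hVab hPV _ _).1 hc
        rwa [htopmap] at h2
    · apply sup_le
      · rw [Subgroup.commutator_comm, Subgroup.commutator_le]
        intro a ha v hv
        have h1 := pm.quad ⟨a, hAP ha⟩ (Subgroup.mem_subgroupOf.2 ha) (Additive.ofMul ⟨v, hv⟩)
        have h2 : a * v * a⁻¹ * v⁻¹ ∈ V := mul_mem (H51.NAct.conj_mem_of hPV (hAP ha) hv) (inv_mem hv)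
        have h3 : (⟨a, hAP ha⟩ : ↥P) • (Additive.ofMul (⟨v, hv⟩ : V) : Additive V) - Additive.ofMul ⟨v, hv⟩ =
            Additive.ofMul ⟨a * v * a⁻¹ * v⁻¹, h2⟩ := by
          apply Additive.toMul.injective
          apply Subtype.ext
          show a * v * a⁻¹ / v = a * v * a⁻¹ * v⁻¹
          rw [div_eq_mul_inv]
        rw [h3, H51.NAct.mem_fx_iff V P hVab hPV, hAmap] at h1
        exact Subgroup.mem_inf.2 ⟨h2, h1⟩
      · exact inf_le_inf_left _ (Subgroup.centralizer_le hAP)
  · exact hPV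
  · refine ⟨(ρ : ↥P →* Matrix.SpecialLinearGroup (Fin 2) F), 
      { toFun := fun u => Multiplicative.ofAdd (Ψ (Additive.ofMul u))
        map_one' := by
          show Multiplicative.ofAdd (Ψ 0) = 1
          rw [map_zero]; rfl
        map_mul' := by
          intro u w
          show Multiplicative.ofAdd (Ψ (Additive.ofMul u + Additive.ofMul w)) = _
          rw [map_add]; rfl }, ?_, ?_, ?_, ?_⟩
    · rw [MonoidHom.range_eq_top]
      exact ρ.surjective
    · intro z
      obtain ⟨v, hv⟩ := hΨs z.toAdd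
      exact ⟨v.toMul, hv⟩
    · intro u
      show Ψ (Additive.ofMul u) = 0 ↔ _
      rw [hΨk]
      constructor
      · intro h
        refine Subgroup.mem_inf.2 ⟨u.2, Subgroup.mem_centralizer_iff.2 ?_⟩
        intro x hx
        exact (H51.NAct.smul_eq_self_iff V P hVab hPV ⟨x, hx⟩ u).1 (h _)
      · intro h x
        apply (H51.NAct.smul_eq_self_iff V P hVab hPV x u).2
        exact Subgroup.mem_centralizer_iff.1 h.2 x x.2
    · intro e u
      refine ⟨⟨(e : G) * u * (e : G)⁻¹, H51.NAct.conj_mem_of hPV e.2 u.2⟩, rfl, ?_⟩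
      exact hΨ e (Additive.ofMul u)

end Cfsg.Agent.S2999
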