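import Cfsg.Statements.S3000
import Cfsg.Agent.Lib.H51.OffSetup

set_option autoImplicit false
open Cfsg

namespace Cfsg.Agent.S3000

/-- Let p be a prime and let P and V be subgroups of a finite group with V elementary abelian, P normalizing V and acting faithfully on it (P ∩ C(V) = 1). Suppose P is p-minimal (a Sylow p-subgroup T of P is not normal and lies in a unique maximal subgroup M of P), O_p(P) = 1, C_P(C_V(T)) ≤ M, and P has a best offender on V: a subgroup A not centralizing V, with A/C_A(V) elementary abelian, such that |B|·|C_V(B)| ≤ |A|·|C_V(A)| for every subgroup B of A. Then there are subgroups E₁, …, E_r of P (r ≥ 1), pairwise commuting and forming with T a product P = (E₁ × ⋯ × E_r)T (internal direct product of the E_i), any two of which are conjugate by an element of T, such that V = C_V(E₁⋯E_r)·∏[V, E_i] with [V, E_i, E_j] = 1 for i ≠ j, and for each i there is n ≥ 1 with either E_i ≅ SL₂(pⁿ) acting on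 [V, E_i]/C_{[V,E_i]}(E_i) as on its natural two-dimensional module, or p = 2 and E_i isomorphic to the symmetric group of degree 2ⁿ + 1 acting on [V, E_i]/C_{[V,E_i]}(E_i) as on its even-weight permutation module. -/
theorem result {G : Type*} [Group G] [Finite G] {p : ℕ} [Fact p.Prime] (V P : Subgroup G) (hV : Cfsg.IsElementaryAbelian p V) (hPV : P ≤ Subgroup.normalizer (V : Set G)) (hfaith : P ⊓ Subgroup.centralizer (V : Set G) = ⊥) (hmin : Cfsg.IsPMinimal p ↥P) (T : Sylow p ↥P) (M : Subgroup ↥P) (hM : IsCoatom M) (hTM : (T : Subgroup ↥P) ≤ M) (hOp : Cfsg.pCore p ↥P = ⊥) (hoff : ∃ A : Subgroup G, A ≤ P ∧ ¬ A ≤ Subgroup.centralizer (V : Set G) ∧ Cfsg.IsBestOffenderOn p V A) (hCT : P ⊓ Subgroup.centralizer ((V ⊓ Subgroup.centralizer ((((T : Subgroup ↥P).map P.subtype) : Subgroup G) : Set G)) : Set G) ≤ M.map P.subtype) : ∃ (r : ℕ) (E : Fin r → Subgroup G), 1 ≤ r ∧ (∀ i, E i ≤ P) ∧ (∀ i j, i ≠ j → ⁅E i, E j⁆ = ⊥) ∧ (∀ i, E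 i ⊓ (⨆ j ∈ {j | j ≠ i}, E j) = ⊥) ∧ (⨆ i, E i) ⊔ ((T : Subgroup ↥P).map P.subtype) = P ∧ (∀ i j, ∃ t ∈ ((T : Subgroup ↥P).map P.subtype), (E i).map (MulAut.conj t).toMonoidHom = E j) ∧ (V ⊓ Subgroup.centralizer (((⨆ i, E i) : Subgroup G) : Set G)) ⊔ (⨆ i, ⁅V, E i⁆) = V ∧ (∀ i j, i ≠ j → ⁅⁅V, E i⁆, E j⁆ = ⊥) ∧ ∀ i, ∃ n : ℕ, 1 ≤ n ∧ ((∃ (F : Type) (_ : Field F) (_ : Fintype F), Fintype.card F = p ^ n ∧ Nonempty (↥(E i) ≃* Matrix.SpecialLinearGroup (Fin 2) F) ∧ Cfsg.ActsAsSL2OnSection F ⊤ (E i) ⁅V, E i⁆ (⁅V, E i⁆ ⊓ Subgroup.centralizer ((E i : Subgroup G) : Set G))) ∨ (p = 2 ∧ Nonempty (↥(E i) ≃* Equiv.Perm (Fin (2 ^ n + 1))) ∧ Cfsg.ActsAsOddPermModuleOnSection (2 ^ n + 1) ⊤ (E i) ⁅V, E i⁆ (⁅V, E i⁆ ⊓ Subgroup.centralizer ((E i : Subgroup G) : Set G)))) := by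

  classical
  have hp : p.Prime := Fact.out
  have hVab := H51.OG.ab_of hV
  letI i0 := H51.NAct.addV V hVab
  letI i1 := H51.NAct.actV V P hVab hPV
  have ms := H51.OG.ms_of hmin T M hM hTM hOp
  have sit : H51.OG.Sit p (Additive V) (T : Subgroup ↥P) M := by
    refine ⟨ms, H51.OG.pz_of hV hVab, H51.OG.faith_of hVab hPV hfaith, ?_, H51.OG.off_of hVab hPV hfaith hoff⟩
    intro g hg
    have h1 : (g : G) ∈ P ⊓ Subgroup.centralizer ((V ⊓ Subgroup.centralizer ((((T : Subgroup ↥P).map P.subtype) : Subgroup G) : Set G)) : Set G) := by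
      refine Subgroup.mem_inf.2 ⟨g.2, Subgroup.mem_centralizer_iff.2 ?_⟩
      intro x hx
      have hx1 : x ∈ V := hx.1
      have hx2 : x ∈ Subgroup.centralizer ((((T : Subgroup ↥P).map P.subtype) : Subgroup G) : Set G) := hx.2
      have h2 := hg (Additive.ofMul ⟨x, hx1⟩) ((H51.NAct.mem_fx_iff V P hVab hPV _ _).2 hx2)
      exact ((H51.NAct.smul_eq_self_iff V P hVab hPV _ _).1 h2).symm
    obtain ⟨m, hm, hmg⟩ := hCT h1
    have : m = g := Subtype.ext hmg
    rwa [← this]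
  obtain ⟨r, E, o, -⟩ := H51.OG.final sit
  have tr := H51.OG.tr_of hVab hPV
  have hup : ∀ i, H51.OG.up (MonoidHom.id ↥P) (E i) = (E i).map P.subtype := fun i => H51.OG.up_id (E i)
  have hinj : Function.Injective (Subgroup.map P.subtype) := Subgroup.map_injective P.subtype_injective
  refine ⟨r, fun i => (E i).map P.subtype, o.pos, fun i => Subgroup.map_subtype_le _, ?_, ?_, ?_, ?_, ?_, ?_, ?_⟩
  · intro i j hij
    rw [← Subgroup.map_commutator]
    have h1 : ⁅E i, E j⁆ = ⊥ := by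
      rw [Subgroup.commutator_eq_bot_iff_le_centralizer]
      exact H51.OG.cm_iff.1 (o.cm hij)
    rw [h1, Subgroup.map_bot]
  · intro i
    have h1 : (⨆ j ∈ {j | j ≠ i}, (E j).map P.subtype) = (⨆ j ∈ {j | j ≠ i}, E j).map P.subtype := by
      rw [Subgroup.map_iSup]
      congr 1
      ext1 j
      rw [Subgroup.map_iSup]
    rw [h1, ← Subgroup.map_inf _ _ _ P.subtype_injective, o.inf_bot i, Subgroup.map_bot]
  · have h1 := congrArg (Subgroup.map P.subtype) o.top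
    rw [Subgroup.map_sup, Subgroup.map_iSup, ← MonoidHom.range_eq_map, Subgroup.range_subtype] at h1
    exact h1
  · intro i j
    obtain ⟨t, ht, htE⟩ := o.conj i j
    refine ⟨(t : G), ⟨t, ht, rfl⟩, ?_⟩
    have h1 := congrArg (Subgroup.map P.subtype) htE
    rw [H51.OG.map_cg] at h1
    exact h1
  · have h1 := tr.out7 o
    simp only [hup] at h1
    exact h1
  · intro i j hij
    have h1 := tr.out8 o hij
    rw [hup, hup] at h1
    exact h1
  · intro i
    obtain ⟨n, hn, h1 | ⟨hp2, h1⟩⟩ := o.str i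
    · refine ⟨n, hn, Or.inl ?_⟩
      obtain ⟨F, i2, i3, h0, ⟨ρ⟩, h2⟩ := tr.outSL o h1
      rw [hup] at h2
      exact ⟨F, i2, i3, h0, ⟨((E i).equivMapOfInjective P.subtype P.subtype_injective).symm.trans ρ⟩, h2⟩
    · refine ⟨n, hn, Or.inr ⟨hp2, ?_⟩⟩
      obtain ⟨⟨ρ⟩, h2⟩ := tr.outSy o h1
      rw [hup] at h2
      exact ⟨⟨((E i).equivMapOfInjective P.subtype P.subtype_injective).symm.trans ρ⟩, h2⟩

end Cfsg.Agent.S3000
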