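import Cfsg.Statements.S3001
import Cfsg.Agent.Lib.H51.OffLift3
import Cfsg.Agent.Lib.H51.OffSetup

set_option autoImplicit false
open Cfsg

namespace Cfsg.Agent.S3001

/-- Let p be a prime and let P and V be subgroups of a finite group with V elementary abelian, P normalizing V and acting faithfully on it (P ∩ C(V) = 1). Suppose P is p-minimal (a Sylow p-subgroup is not normal and lies in a unique maximal subgroup), O_p(P) = 1, and P has a best offender on V (a subgroup A not centralizing V, with A/C_A(V) elementary abelian and |B|·|C_V(B)| ≤ |A|·|C_V(A)| for every B ≤ A). Then [C_V(T), P] ≠ 1 for every Sylow p-subgroup T of P. -/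
theorem result {G : Type*} [Group G] [Finite G] {p : ℕ} [Fact p.Prime] (V P : Subgroup G) (hV : Cfsg.IsElementaryAbelian p V) (hPV : P ≤ Subgroup.normalizer (V : Set G)) (hfaith : P ⊓ Subgroup.centralizer (V : Set G) = ⊥) (hmin : Cfsg.IsPMinimal p ↥P) (hOp : Cfsg.pCore p ↥P = ⊥) (hoff : ∃ A : Subgroup G, A ≤ P ∧ ¬ A ≤ Subgroup.centralizer (V : Set G) ∧ Cfsg.IsBestOffenderOn p V A) (T : Sylow p ↥P) : ⁅(V ⊓ Subgroup.centralizer ((((T : Subgroup ↥P).map P.subtype) : Subgroup G) : Set G)), P⁆ ≠ ⊥ := by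
  classical
  have hp : p.Prime := Fact.out
  have hVab := H51.OG.ab_of hV
  letI i0 := H51.NAct.addV V hVab
  letI i1 := H51.NAct.actV V P hVab hPV
  obtain ⟨_, M, ⟨hM, hTM⟩, hu⟩ := hmin T
  have ms := H51.OG.ms_of hmin T M hM hTM hOp
  obtain ⟨v, hv, h, hh⟩ := H51.OG.exists_fixed_moved p ms _ (Additive V) le_rfl (H51.OG.pz_of hV hVab)
    (H51.OG.faith_of hVab hPV hfaith) (H51.OG.off_of hVab hPV hfaith hoff)
  intro hcon
  apply hh
  rw [Subgroup.commutator_eq_bot_iff_le_centralizer] at hcon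
  have h1 : ((v.toMul : V) : G) ∈ V ⊓ Subgroup.centralizer ((((T : Subgroup ↥P).map P.subtype) : Subgroup G) : Set G) :=
    Subgroup.mem_inf.2 ⟨(v.toMul : V).2, (H51.NAct.mem_fx_iff V P hVab hPV _ _).1 hv⟩
  have h2 := hcon h1
  rw [Subgroup.mem_centralizer_iff] at h2
  exact (H51.NAct.smul_eq_self_iff V P hVab hPV _ _).2 (h2 h h.2)

end Cfsg.Agent.S3001
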