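import Cfsg.Statements.S3016
import Cfsg.Agent.Lib.H37.EX5

set_option autoImplicit false
set_option maxHeartbeats 1000000
open Cfsg

namespace Cfsg.Agent.S3016

/-- Let G be a finite group, p an odd prime, and H an abelian p-subgroup of G that is extremely closed (for every g, the subgroup generated by H and g H g⁻¹ meets N_G(H) exactly in H). Then the normal closure of H meets N_G(H) exactly in H, and G = N_G(H) O_{p'}(G). -/
theorem result {G : Type*} [Group G] [Finite G] {p : ℕ} [Fact p.Prime] (hp : p ≠ 2) (H : Subgroup G) (hHp : IsPGroup p H) (hHab : IsMulCommutative H) (hcl : Cfsg.IsExtremelyClosed H) : Subgroup.normalClosure (H : Set G) ⊓ Subgroup.normalizer (H : Set G) = H ∧ Subgroup.normalizer (H : Set G) ⊔ Cfsg.pPrimeCore p G = ⊤ := by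
  have E : H37.EX1.Ext p H := by
    refine ⟨hHp, fun a ha b hb => ?_, fun g x hx hn => ?_⟩
    · exact congrArg Subtype.val (hHab.is_comm.comm (⟨a, ha⟩ : H) ⟨b, hb⟩)
    · have h1 := hcl g
      have h2 : x ∈ (H ⊔ H.map (MulAut.conj g).toMonoidHom) ⊓ Subgroup.normalizer (H : Set G) :=
        Subgroup.mem_inf.2 ⟨hx, hn⟩
      rw [h1] at h2
      exact h2
  obtain ⟨h1, M, hM, hMp, htop⟩ := H37.EX1.final hp H E
  refine ⟨h1, ?_⟩
  have h2 : M ≤ Cfsg.pPrimeCore p G := by
    refine H1.Cores.le_pPrimeCore hM ?_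
    rw [Nat.coprime_comm]
    exact (Nat.Prime.coprime_iff_not_dvd (Fact.out : p.Prime)).2 hMp
  rw [eq_top_iff, ← htop]
  exact sup_le_sup_left h2 _

end Cfsg.Agent.S3016
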