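import Cfsg.Statements.S3022
import Cfsg.Agent.Lib.H53.GR6

set_option autoImplicit false
open Cfsg

namespace Cfsg.Agent.S3022

/-- Let G be a finite group all of whose non-abelian simple sections are known simple groups, such that a Sylow 2-subgroup of G lies in exactly one maximal subgroup of G and C_G(O₂(G)) ≤ O₂(G). Let S be a Sylow 2-subgroup of G and A a group of automorphisms of S of odd order. Then some nontrivial A-invariant subgroup of S is normal in G. -/
theorem result {G : Type*} [Group G] [Finite G] (hK : Cfsg.IsKGroup G) (hirr : ∀ S : Sylow 2 G, ∃! M : Subgroup G, IsCoatom M ∧ (S : Subgroup G) ≤ M) (hchar : Subgroup.centralizer (Cfsg.pCore 2 G : Set G) ≤ Cfsg.pCore 2 G) (S : Sylow 2 G) (A : Subgroup (MulAut ↥(S : Subgroup G))) (hA : Odd (Nat.card A)) : ∃ U : Subgroup G, U ≠ ⊥ ∧ U.Normal ∧ U ≤ (S : Subgroup G) ∧ ∀ a ∈ A, ∀ x : ↥(S : Subgroup G), (x : G) ∈ U → ((a x : ↥(S : Subgroup G)) : G) ∈ U := by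
  haveI hp2 : Fact (Nat.Prime 2) := ⟨Nat.prime_two⟩
  by_cases hno : ∀ K : Subgroup G, K ≠ ⊥ → H52.Foc.Ch (S : Subgroup G) K → ¬ K.Normal
  · obtain ⟨M, s⟩ := H53.GR.exists_std (hirr S) hchar hno
    exact H53.GR.main s hno A hA
  · push Not at hno
    obtain ⟨K, h1, h2, h3⟩ := hno
    exact ⟨K, h1, h3, h2.1, fun a _ x hx => h2.2 a x hx⟩

end Cfsg.Agent.S3022
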