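import Cfsg.Statements.S3070
import Mathlib
import Cfsg.Agent.S2005
import Cfsg.Agent.S2007
import Cfsg.Agent.Lib.H56.JRed
import Cfsg.Agent.Lib.H88.Fun
import Cfsg.Agent.Lib.H51.ThompsonA

set_option autoImplicit false
open Cfsg

namespace Cfsg.Agent.S3070

theorem normal_of {X : Type*} [Group X] [Finite X] {p : ℕ} [hp : Fact p.Prime] (hp5 : 5 ≤ p) (S : Sylow p X)
    (hSc : IsCoatom (S : Subgroup X)) (hNPC : HasNormalPComplement p (X ⧸ pCore p X))
    (hC : Subgroup.centralizer ((pCore p X : Subgroup X) : Set X) ≤ pCore p X) :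
    (thompsonSubgroupAOf (S : Subgroup X)).Normal := by
  have h1 : thompsonSubgroupAOf (S : Subgroup X) ≤ pCore p X := by
    rw [H14.ZJ2.thompsonA_eq p]
    exact sSup_le fun A hA => H56.JRed.le_pCore hp5 S hSc hNPC hC hA
  rw [H51.ThompsonA.thompsonSubgroupAOf_eq] at h1 ⊢
  rw [← H51.ThompsonA.J_eq_of_le h1 (H52.PCore.pCore_le_sylow S)]
  rw [← Subgroup.normalizer_eq_top_iff, ← top_le_iff]
  refine le_trans ?_ (H51.ThompsonA.normalizer_le_normalizer_J _)
  rw [Subgroup.normalizer_eq_top]

/-- Let p ≥ 5 be a prime, S a Sylow p-subgroup of the finite group G and J(S) the subgroup generated by the abelian subgroups of S of largest order. Then G has a normal p-complement if and only if N_G(J(S))/C_G(J(S)) is a p-group (every element of N_G(J(S)) of order prime to p centralizes J(S)). -/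
theorem result {G : Type*} [Group G] [Finite G] {p : ℕ} [Fact p.Prime]
    (hp : 5 ≤ p) (S : Sylow p G) :
    Cfsg.HasNormalPComplement p G ↔
      ∀ g ∈ Subgroup.normalizer (Cfsg.thompsonSubgroupAOf (S : Subgroup G) : Set G), (orderOf g).Coprime p →
        g ∈ Subgroup.centralizer (Cfsg.thompsonSubgroupAOf (S : Subgroup G) : Set G) := by
  have hJS : thompsonSubgroupAOf (S : Subgroup G) ≤ S := Subgroup.map_subtype_le _
  have hSN : (S : Subgroup G) ≤ Subgroup.normalizer (thompsonSubgroupAOf (S : Subgroup G) : Set G) := by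
    rw [H51.ThompsonA.thompsonSubgroupAOf_eq]
    exact Subgroup.le_normalizer.trans (H51.ThompsonA.normalizer_le_normalizer_J _)
  have hCJ : (S : Subgroup G) ⊓ Subgroup.centralizer (thompsonSubgroupAOf (S : Subgroup G) : Set G) ≤
      thompsonSubgroupAOf (S : Subgroup G) := by
    rw [H51.ThompsonA.thompsonSubgroupAOf_eq]
    intro x hx
    obtain ⟨A, hA⟩ := H51.ThompsonA.exists_maxAb (S : Subgroup G)
    exact hA.le_J (H51.ThompsonA.mem_of_center hA (Subgroup.mem_inf.1 hx).1 fun a ha =>
      Subgroup.mem_centralizer_iff.1 (Subgroup.mem_inf.1 hx).2 a (hA.le_J ha))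
  constructor
  · intro h g hg hgo
    exact H2.Frobenius.local_of_hasNPC h _ (S.2.to_le hJS) g hg hgo
  · intro h
    have hN := Cfsg.Agent.S2007.result S (thompsonSubgroupAOf (S : Subgroup G)) hJS hSN hCJ h
    refine Cfsg.Agent.S2005.result (p := p) H88.Fun.WJ ⟨H88.Fun.isFun_J.ne, H88.Fun.isFun_J.map⟩ S ?_ ?_
    · have h1 : Cfsg.inducedFunctor H88.Fun.WJ (S : Subgroup G) = thompsonSubgroupAOf (S : Subgroup G) :=
        H88.Fun.sub_J (S : Subgroup G)
      rw [h1]; exact hN
    · intro K R hR hC hNPC T hT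
      have h1 : Cfsg.inducedFunctor H88.Fun.WJ (T : Subgroup (↥K ⧸ R.subgroupOf K)) =
          thompsonSubgroupAOf (T : Subgroup (↥K ⧸ R.subgroupOf K)) := H88.Fun.sub_J _
      rw [h1]
      exact normal_of hp T hT hNPC hC

end Cfsg.Agent.S3070
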