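import Cfsg.Statements.S3071
import Mathlib
import Cfsg.Agent.Lib.H56.ZJSl2

set_option autoImplicit false
open Cfsg

namespace Cfsg.Agent.S3071

/-- Let p be an odd prime and S a Sylow p-subgroup of the finite group G such that, for every subgroup P with Z(S) ≤ P ≤ S, the normalizer N_G(P) has no section isomorphic to SL₂(p). Let J(S) be the subgroup generated by the abelian subgroups of S of largest order. Then two elements of S are conjugate in G if and only if they are conjugate in N_G(Z(J(S))). -/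
theorem result {G : Type*} [Group G] [Finite G] {p : ℕ} [Fact p.Prime]
    (hp : p ≠ 2) (S : Sylow p G)
    (hfree : ∀ P : Subgroup G, (S : Subgroup G) ⊓ Subgroup.centralizer ((S : Subgroup G) : Set G) ≤ P → P ≤ S →
      ¬ ∃ (H K : Subgroup G) (hK : (K.subgroupOf H).Normal), H ≤ Subgroup.normalizer (P : Set G) ∧
        Nonempty ((H ⧸ K.subgroupOf H) ≃* Matrix.SpecialLinearGroup (Fin 2) (ZMod p))) :
    ∀ x ∈ S, ∀ y ∈ S, (∃ g : G, g * x * g⁻¹ = y) ↔
      ∃ n ∈ Subgroup.normalizer (Cfsg.centerThompsonAOf (S : Subgroup G) : Set G), n * x * n⁻¹ = y := by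
  rw [H14.ZJ2.centerThompsonA_eq p (S : Subgroup G)]
  have h := H56.ZJSl2.main hp S (fun U hZU hUS hinv => hfree U hZU hUS (by
    have h1 : Involves (Matrix.SpecialLinearGroup (Fin 2) (ZMod p)) ↥(Subgroup.normalizer (U : Set G)) :=
      H51.QdStab3.involves_sl2_of_qd (F := ZMod p) hinv
    exact H56.ZJSl2.exists_section h1))
  intro x hx y hy
  constructor
  · rintro ⟨g, hg⟩
    obtain ⟨n, hn, hna⟩ := h {x} g trivial (Set.singleton_subset_iff.2 hx) (by
      rintro _ ⟨a, ha, rfl⟩
      rw [Set.mem_singleton_iff.1 ha]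
      show g * x * g⁻¹ ∈ (S : Subgroup G)
      rw [hg]; exact hy)
    exact ⟨n, hn, by rw [hna x rfl, hg]⟩
  · rintro ⟨n, _, hn⟩
    exact ⟨n, hn⟩

end Cfsg.Agent.S3071
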