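import Cfsg.Statements.S3074
import Mathlib
import Cfsg.Agent.Lib.H56.Heis
import Cfsg.Agent.Lib.H6.SLCard
import Cfsg.Agent.Lib.H28.RelSyl

set_option autoImplicit false
open Cfsg

namespace Cfsg.Agent.S3074

open Matrix Subgroup H28.RelSyl H56.Heis

theorem exponent_congr {G H : Type*} [Group G] [Group H] (e : G ≃* H) :
    Monoid.exponent G = Monoid.exponent H := Monoid.exponent_eq_of_mulEquiv e

theorem not_dvd_aux (p : ℕ) [hp : Fact p.Prime] :
    ¬ p ^ 4 ∣ Nat.card (SpecialLinearGroup (Fin 3) (ZMod p)) := by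
  intro h
  have h1 := H6.SLCard.card_sl (F := ZMod p) (n := 3) (by norm_num)
  rw [ZMod.card, Fin.prod_univ_three] at h1
  simp only [Fin.val_zero, Fin.val_one, Fin.val_two, pow_zero, pow_one] at h1
  have hp1 : 1 < p := hp.out.one_lt
  have e1 : p ^ 3 - p = p * (p ^ 2 - 1) := by
    rw [Nat.mul_sub]; ring_nf
  have e2 : p ^ 3 - p ^ 2 = p ^ 2 * (p - 1) := by
    rw [Nat.mul_sub]; ring_nf
  rw [e1, e2] at h1
  have h2 : p ^ 4 ∣ (p ^ 3 - 1) * (p * (p ^ 2 - 1)) * (p ^ 2 * (p - 1)) := by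
    rw [← h1]; exact Dvd.dvd.mul_left h _
  have e3 : (p ^ 3 - 1) * (p * (p ^ 2 - 1)) * (p ^ 2 * (p - 1)) =
      p ^ 3 * ((p ^ 3 - 1) * (p ^ 2 - 1) * (p - 1)) := by ring
  rw [e3, show p ^ 4 = p ^ 3 * p by ring] at h2
  have h3 : p ∣ (p ^ 3 - 1) * (p ^ 2 - 1) * (p - 1) :=
    Nat.dvd_of_mul_dvd_mul_left (pow_pos hp.out.pos 3) h2
  have key : ∀ k : ℕ, k ≠ 0 → ¬ p ∣ p ^ k - 1 := by
    intro k hk hd
    have h4 : p ∣ p ^ k := dvd_pow_self p hk
    have h5 : 1 ≤ p ^ k := Nat.one_le_pow _ _ hp.out.pos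
    have h6 : p ∣ 1 := by
      have := (Nat.dvd_sub h4 hd)
      rwa [Nat.sub_sub_self h5] at this
    exact hp.out.one_lt.ne' (Nat.dvd_one.mp h6)
  rcases (hp.out.dvd_mul).mp h3 with h4 | h4
  · rcases (hp.out.dvd_mul).mp h4 with h5 | h5
    · exact key 3 (by norm_num) h5
    · exact key 2 (by norm_num) h5
  · exact key 1 (by norm_num) (by rwa [pow_one])

/-- Let p be an odd prime. A Sylow p-subgroup of Qd(p), the split extension of an elementary abelian group of order p² by SL₂(p) acting naturally, is extraspecial of order p³ and exponent p. -/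
theorem result (p : ℕ) [Fact p.Prime] (hp : p ≠ 2) (P : Sylow p ↥(Cfsg.qd p)) :
    Cfsg.IsExtraspecial p ↥P ∧ Nat.card P = p ^ 3 ∧ Monoid.exponent ↥P = p := by
  have hpp : p.Prime := Fact.out
  have hU : U (ZMod p) ≤ Cfsg.qd p := by
    rintro _ ⟨a, b, c, rfl⟩
    apply Subgroup.subset_closure
    refine ⟨?_, ?_, ?_⟩ <;> simp [u]
  -- the Sylow subgroup as a subgroup of SL3
  let P' : Subgroup (SpecialLinearGroup (Fin 3) (ZMod p)) := (P : Subgroup ↥(Cfsg.qd p)).map (Cfsg.qd p).subtype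
  have hP' : IsSyl p P' (Cfsg.qd p) := isSyl_map P
  have hcard : Nat.card P' = p ^ 3 := by
    obtain ⟨n, hn⟩ := hP'.isPGroup.exists_card_eq
    have h1 : p ^ 3 ≤ Nat.card P' := by
      rw [← card_U (p := p)]
      exact hP'.le_card isPGroup_U hU
    have h2 : Nat.card P' ∣ Nat.card (SpecialLinearGroup (Fin 3) (ZMod p)) := card_subgroup_dvd_card P'
    rw [hn] at h1 h2 ⊢
    have h3 : 3 ≤ n := (Nat.pow_le_pow_iff_right hpp.one_lt).mp h1
    have h4 : ¬ 4 ≤ n := fun h => not_dvd_aux p ((pow_dvd_pow p h).trans h2)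
    have : n = 3 := by omega
    rw [this]
  have hUs : IsSyl p (U (ZMod p)) (Cfsg.qd p) :=
    isSyl_of_card_le hP' isPGroup_U hU (by rw [hcard, card_U])
  obtain ⟨g, hg, hgP⟩ := hUs.exists_conj_eq hP'
  have e1 : U (ZMod p) ≃* P' := (H28.Cj.cjEquiv g (U (ZMod p))).trans (MulEquiv.subgroupCongr hgP.symm)
  have e2 : (P : Subgroup ↥(Cfsg.qd p)) ≃* P' := (P : Subgroup ↥(Cfsg.qd p)).equivMapOfInjective _ (subtype_injective _)
  have e : U (ZMod p) ≃* ↥P := e1.trans e2.symm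
  refine ⟨isExtraspecial_congr e isExtraspecial_U, ?_, ?_⟩
  · exact (Nat.card_congr e.toEquiv).symm.trans card_U
  · exact (exponent_congr e).symm.trans (exponent_U hp)

end Cfsg.Agent.S3074
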