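import Cfsg.Statements.S3161
import Cfsg.Agent.Lib.H98.TwI

set_option autoImplicit false
open Cfsg

namespace Cfsg.Agent.S3161

/-- Let Q be a non-abelian finite 2-group admitting commuting automorphisms α of order 2 and ρ of order 2^n − 1, where n ≥ 2, such that the fixed points of α form an elementary abelian subgroup of order 2^n on whose nonidentity elements the group generated by ρ acts transitively. Then Q is isomorphic to a Sylow 2-subgroup of the projective special unitary group of dimension 3 with parameter 2^n (realised over the field with 4^n elements) or of the projective special linear group of dimension 3 over the field with 2^n elements. -/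
theorem result {Q : Type*} [Group Q] [Finite Q] (hQ : IsPGroup 2 Q) (hna : ¬ IsMulCommutative Q) (n : ℕ) (hn : 2 ≤ n)
    (α ρ : MulAut Q) (hα : orderOf α = 2) (hρ : orderOf ρ = 2 ^ n - 1) (hc : Commute α ρ)
    (C : Subgroup Q) (hC : ∀ x : Q, x ∈ C ↔ α x = x) (hCE : Cfsg.IsElementaryAbelian 2 C ∧ Nat.card ↥C = 2 ^ n)
    (htr : ∀ x y : Q, x ∈ C → y ∈ C → x ≠ 1 → y ≠ 1 → ∃ k : ℕ, (ρ ^ k) x = y) :
    (∃ (F : Type) (_ : Field F) (_ : Fintype F), Fintype.card F = 4 ^ n ∧
        ∃ S : Sylow 2 (Cfsg.PSU 3 F (2 ^ n)), Nonempty (Q ≃* ↥(S : Subgroup (Cfsg.PSU 3 F (2 ^ n))))) ∨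
      (∃ (F : Type) (_ : Field F) (_ : Fintype F), Fintype.card F = 2 ^ n ∧
        ∃ S : Sylow 2 (Matrix.ProjectiveSpecialLinearGroup (Fin 3) F), Nonempty (Q ≃* ↥(S : Subgroup (Matrix.ProjectiveSpecialLinearGroup (Fin 3) F)))) := by
  classical
  have hcC : ∀ a b : C, a * b = b * a := fun a b => hCE.1.1.is_comm.comm a b
  letI : CommGroup C := { (inferInstance : Group C) with mul_comm := hcC }
  have hαρ : ∀ x, α (ρ x) = ρ (α x) := fun x => DFunLike.congr_fun (hc.eq : α * ρ = ρ * α) x
  have hCρ : ∀ x ∈ C, ρ x ∈ C := by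
    intro x hx
    rw [hC] at hx ⊢
    rw [hαρ, hx]
  have hα2 : ∀ x, α (α x) = x := by
    intro x
    have h1 : α ^ 2 = 1 := by rw [← hα]; exact pow_orderOf_eq_one α
    have h2 := DFunLike.congr_fun h1 x
    rw [pow_two] at h2
    exact h2
  have hρ1 : ρ ^ (2 ^ n - 1) = 1 := by rw [← hρ]; exact pow_orderOf_eq_one ρ
  let r : AddMonoid.End (Additive C) :=
    { toFun := fun d => Additive.ofMul ⟨ρ (d.toMul : C), hCρ _ d.toMul.2⟩
      map_zero' := by
        apply Additive.toMul.injective
        apply Subtype.ext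
        exact map_one ρ
      map_add' := by
        intro x y
        apply Additive.toMul.injective
        apply Subtype.ext
        exact map_mul ρ _ _ }
  have hr : ∀ (k : ℕ) (d : Additive C), ((((r ^ k) d).toMul : C) : Q) = (ρ ^ k) ((d.toMul : C) : Q) := by
    intro k
    induction k with
    | zero => intro d; rfl
    | succ k ih =>
      intro d
      rw [pow_succ, pow_succ]
      show ((((r ^ k) (r d)).toMul : C) : Q) = (ρ ^ k) (ρ ((d.toMul : C) : Q))
      rw [ih]
      rfl
  obtain ⟨F, iF1, iF2, ζ, e, hcF, two, hgen, hadd, hbij, hre⟩ := H98.TwA.exists_field (A := Additive C) hn hCE.2 (by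
      intro a
      apply Additive.toMul.injective
      apply Subtype.ext
      have := hCE.1.2 _ (a.toMul : C).2
      rw [pow_two] at this
      exact this) r (by
      refine AddMonoidHom.ext fun d => ?_
      apply Additive.toMul.injective
      apply Subtype.ext
      have h1 := hr (2 ^ n - 1) d
      rw [hρ1] at h1
      exact h1) (by
      intro a b ha hb
      obtain ⟨k, hk⟩ := htr (a.toMul : C) (b.toMul : C) (a.toMul : C).2 (b.toMul : C).2
        (fun h => ha (Additive.toMul.injective (Subtype.ext h))) (fun h => hb (Additive.toMul.injective (Subtype.ext h)))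
      refine ⟨k, ?_⟩
      apply Additive.toMul.injective
      apply Subtype.ext
      rw [hr]
      exact hk)
  have hcF' : Fintype.card F = 2 ^ n := by rw [← Nat.card_eq_fintype_card]; exact hcF
  have hG : H98.TwB.Gn ζ :=
    { two := two
      gen := hgen
      big := by
        rw [hcF']
        calc 4 = 2 ^ 2 := by norm_num
          _ ≤ 2 ^ n := Nat.pow_le_pow_right (by norm_num) hn
      pw := ⟨n, hcF'⟩ }
  have H : H98.TwB.Hyp ζ Q α ρ (fun s => (((e s).toMul : C) : Q)) :=
    { a2 := hα2
      comm := hαρ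
      rord := by rw [hcF']; exact hρ1
      Eadd := by
        intro s t
        show (((e (s + t)).toMul : C) : Q) = _
        rw [hadd]; rfl
      Einj := by
        intro s t h
        exact hbij.1 (Additive.toMul.injective (Subtype.ext h))
      Efix := by
        intro x
        rw [← hC]
        constructor
        · intro hx
          obtain ⟨s, hs⟩ := hbij.2 (Additive.ofMul ⟨x, hx⟩)
          exact ⟨s, by show (((e s).toMul : C) : Q) = x; rw [hs]; rfl⟩
        · rintro ⟨s, rfl⟩
          exact ((e s).toMul : C).2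
      Erho := by
        intro s
        show _ = (((e (ζ * s)).toMul : C) : Q)
        rw [← hre]; rfl }
  have hnab : ∃ x y : Q, x * y ≠ y * x := by
    by_contra hcon
    push Not at hcon
    exact hna ⟨⟨hcon⟩⟩
  have S := H98.TwF.str hG (Nat.card Q) Q α ρ _ hQ H hnab le_rfl
  by_cases hin : ∀ w : Q, w * w = 1 → w ∈ H.A
  · exact Or.inl (H98.TwI.aniso S hG hQ hnab hin hn hcF')
  · right
    push Not at hin
    obtain ⟨w, hw1, hw2⟩ := hin
    obtain ⟨f⟩ := H98.TwI.iso_ut S hG hQ w hw2 hw1
    obtain ⟨P⟩ : Nonempty (Sylow 2 (Matrix.ProjectiveSpecialLinearGroup (Fin 3) F)) := inferInstance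
    obtain ⟨g⟩ := H98.TwH.psl_syl (by omega) hcF' P
    exact ⟨F, iF1, iF2, hcF', P, ⟨f.trans g.symm⟩⟩

end Cfsg.Agent.S3161
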