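import Cfsg.Statements.S3192
import Cfsg.Agent.Lib.H74.Ito5
import Cfsg.Agent.S2507

set_option autoImplicit false
open Cfsg

namespace Cfsg.Agent.S3192

/-- class sizes are transported by isomorphisms -/
theorem index_map {G H : Type*} [Group G] [Group H] (e : G ≃* H) (x : G) :
    (Subgroup.centralizer ({e x} : Set H)).index = (Subgroup.centralizer ({x} : Set G)).index := by
  have h1 : (Subgroup.centralizer ({x} : Set G)).map e.toMonoidHom =
      Subgroup.centralizer ({e x} : Set H) := by
    ext y
    rw [Subgroup.mem_map_equiv, Subgroup.mem_centralizer_singleton_iff,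
      Subgroup.mem_centralizer_singleton_iff]
    constructor
    · intro h
      have := congrArg e h
      simpa using this
    · intro h
      apply e.injective
      simpa using h
  rw [← h1]
  exact Subgroup.index_map_equiv _ e

/-- Simple groups of conjugate type rank three. For a finite group G consider the set of indices of the centralizers of the non-central elements of G. Then G is a non-abelian simple group for which this set has exactly three members if and only if G is isomorphic to PSL(2, 2^m) for some m ≥ 2. -/
theorem result (G : Type*) [Group G] [Finite G] :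
    (IsSimpleGroup G ∧ ¬ IsMulCommutative G ∧
        Set.ncard {m : ℕ | ∃ x : G, x ∉ Subgroup.center G ∧ m = (Subgroup.centralizer ({x} : Set G)).index} = 3) ↔
      ∃ (m : ℕ) (F : Type) (_ : Field F) (_ : Fintype F), 2 ≤ m ∧ Fintype.card F = 2 ^ m ∧
        Nonempty (G ≃* Matrix.ProjectiveSpecialLinearGroup (Fin 2) F) := by
  constructor
  · rintro ⟨hs, hc, hn⟩
    letI : Fintype G := Fintype.ofFinite G
    have hna : ∃ a b : G, a * b ≠ b * a := by
      by_contra hcon
      push Not at hcon
      exact hc ⟨⟨hcon⟩⟩
    obtain ⟨F, i1, i2, n, h1, h2, h3⟩ := H74.Ito3.forward hna hn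
    exact ⟨n, F, i1, i2, h1, h2, h3⟩
  · rintro ⟨m, F, _, _, hm, hF, ⟨e⟩⟩
    have hq4 : 4 ≤ Fintype.card F := by
      rw [hF]
      calc 4 = 2 ^ 2 := by norm_num
        _ ≤ 2 ^ m := Nat.pow_le_pow_right (by norm_num) hm
    have h2 : 2 ∣ Fintype.card F := by
      rw [hF]; exact dvd_pow_self 2 (by omega)
    have hsimp : IsSimpleGroup (Matrix.ProjectiveSpecialLinearGroup (Fin 2) F) :=
      Matrix.ProjectiveSpecialLinearGroup.rank_two_simple (by
        rw [Nat.card_eq_fintype_card]; omega)
    have hsG : IsSimpleGroup G := e.isSimpleGroup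
    have hr := Cfsg.Agent.S2507.result (F := F) h2 hq4
    have hcen : ∀ x : G, x ∈ Subgroup.center G ↔
        (Subgroup.centralizer ({x} : Set G)).index = 1 := by
      intro x
      rw [Subgroup.index_eq_one, Subgroup.centralizer_eq_top_iff_subset,
        Set.singleton_subset_iff, SetLike.mem_coe]
    obtain ⟨q, hq⟩ : ∃ q, q = Fintype.card F := ⟨_, rfl⟩
    rw [← hq] at hr hq4
    obtain ⟨k, rfl⟩ : ∃ k, q = k + 1 := ⟨q - 1, by omega⟩
    have e1 : (k + 1) * (k + 1 - 1) = k * k + k := by
      rw [Nat.add_sub_cancel]; ring
    have e2 : (k + 1) ^ 2 - 1 = k * k + 2 * k := by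
      have : (k + 1) ^ 2 = k * k + 2 * k + 1 := by ring
      omega
    have e3 : (k + 1) * (k + 1 + 1) = k * k + 3 * k + 2 := by ring
    rw [e1, e2, e3] at hr
    have hrange : ∀ n : ℕ, (∃ x : G, (Subgroup.centralizer ({x} : Set G)).index = n) ↔
        n = 1 ∨ n = k * k + k ∨ n = k * k + 2 * k ∨ n = k * k + 3 * k + 2 := by
      intro n
      have h3 : n ∈ Set.range (fun g : (Matrix.ProjectiveSpecialLinearGroup (Fin 2) F) =>
          (Subgroup.centralizer ({g} : Set (Matrix.ProjectiveSpecialLinearGroup (Fin 2) F))).index) ↔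
          n ∈ ({1, k * k + k, k * k + 2 * k, k * k + 3 * k + 2} : Set ℕ) := by rw [hr]
      rw [Set.mem_range] at h3
      simp only [Set.mem_insert_iff, Set.mem_singleton_iff] at h3
      rw [← h3]
      constructor
      · rintro ⟨x, hx⟩
        exact ⟨e x, by rw [index_map, hx]⟩
      · rintro ⟨y, hy⟩
        exact ⟨e.symm y, by rw [← index_map e, e.apply_symm_apply]; exact hy⟩
    refine ⟨hsG, ?_, ?_⟩
    · intro hcomm
      obtain ⟨x, hx⟩ := (hrange (k * k + k)).mpr (by simp)
      have h3 : x ∈ Subgroup.center G := Subgroup.mem_center_iff.mpr fun g => hcomm.is_comm.comm g x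
      rw [hcen, hx] at h3
      nlinarith
    · have hset : {m : ℕ | ∃ x : G, x ∉ Subgroup.center G ∧
          m = (Subgroup.centralizer ({x} : Set G)).index} =
          ({k * k + k, k * k + 2 * k, k * k + 3 * k + 2} : Set ℕ) := by
        ext n
        rw [Set.mem_ofPred_eq]
        simp only [Set.mem_insert_iff, Set.mem_singleton_iff]
        constructor
        · rintro ⟨x, hx, rfl⟩
          rw [hcen] at hx
          rcases (hrange _).mp ⟨x, rfl⟩ with h | h | h | h
          · exact absurd h hx
          · exact Or.inl h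
          · exact Or.inr (Or.inl h)
          · exact Or.inr (Or.inr h)
        · intro h
          have hn1 : n ≠ 1 := by
            rcases h with h | h | h <;> nlinarith
          obtain ⟨x, hx⟩ := (hrange n).mpr (Or.inr h)
          refine ⟨x, ?_, hx.symm⟩
          rw [hcen, hx]
          exact hn1
      rw [hset, Set.ncard_eq_three]
      exact ⟨_, _, _, by omega, by omega, by omega, rfl⟩

end Cfsg.Agent.S3192
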