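import Cfsg.Statements.S3219
import Cfsg.Agent.Lib.H12.B4Main
-- import your own Cfsg.Agent.* helpers here

set_option autoImplicit false
open Cfsg

namespace Cfsg.Agent.S3219

/-- Let G be a finite doubly transitive permutation group on a set Ω in which the stabilizer of two points is isomorphic to the alternating group A₄. Then Ω has 6 points and G ≅ A₆, or Ω has 15 points and G ≅ A₇, or Ω has 16 points and G is isomorphic to the group of all affine transformations of the affine plane over the field with 4 elements, or G = C_G(J)O(G) for some involution J of G, where O(G) is the largest normal subgroup of G of odd order. -/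
theorem result {G : Type*} [Group G] [Finite G] {Ω : Type*} [Fintype Ω] [MulAction G Ω] [FaithfulSMul G Ω]
    (h2 : MulAction.IsMultiplyPretransitive G Ω 2) (a b : Ω) (hab : a ≠ b)
    (e : ↥(MulAction.stabilizer G a ⊓ MulAction.stabilizer G b) ≃* ↥(alternatingGroup (Fin 4))) :
    (Fintype.card Ω = 6 ∧ Nonempty (G ≃* ↥(alternatingGroup (Fin 6)))) ∨ (Fintype.card Ω = 15 ∧ Nonempty (G ≃* ↥(alternatingGroup (Fin 7)))) ∨
      (Fintype.card Ω = 16 ∧ ∃ (F : Type) (_ : Field F) (_ : Fintype F), Fintype.card F = 4 ∧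
        Nonempty (G ≃* ((Fin 2 → F) ≃ᵃ[F] (Fin 2 → F)))) ∨
      (∃ J : G, orderOf J = 2 ∧ Subgroup.centralizer ({J} : Set G) ⊔ Cfsg.oddCore G = ⊤) := by
  classical
  have htr : ∀ a b c d : Ω, a ≠ b → c ≠ d → ∃ g : G, g • a = c ∧ g • b = d := by
    intro a b c d hab hcd
    exact (MulAction.is_two_pretransitive_iff (G := G) (α := Ω)).1 h2 hab hcd
  have hfa : ∀ g : G, (∀ x : Ω, g • x = x) → g = 1 := by
    intro g hg
    apply FaithfulSMul.eq_of_smul_eq_smul (α := Ω)
    intro x
    rw [hg x, one_smul]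
  have hb : H39.DA.B4 G Ω := by
    refine ⟨⟨htr, hfa, ⟨a, b, hab⟩⟩, ?_⟩
    intro c d hcd
    obtain ⟨g, hga, hgb⟩ := htr a b c d hab hcd
    refine ⟨MulEquiv.trans (MulEquiv.symm ?_) e⟩
    have hmap : (MulAction.stabilizer G a ⊓ MulAction.stabilizer G b).map (MulAut.conj g).toMonoidHom = H39.DA.St G c d := by
      ext x
      constructor
      · rintro ⟨y, ⟨hy1, hy2⟩, rfl⟩
        refine ⟨?_, ?_⟩
        · rw [← hga]
          show (g * y * g⁻¹) • (g • a) = g • a
          rw [mul_smul, inv_smul_smul, mul_smul, show y • a = a from hy1]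
        · rw [← hgb]
          show (g * y * g⁻¹) • (g • b) = g • b
          rw [mul_smul, inv_smul_smul, mul_smul, show y • b = b from hy2]
      · rintro ⟨hx1, hx2⟩
        refine ⟨g⁻¹ * x * g, ⟨?_, ?_⟩, ?_⟩
        · show (g⁻¹ * x * g) • a = a
          rw [mul_smul, mul_smul, hga, show x • c = c from hx1, ← hga, inv_smul_smul]
        · show (g⁻¹ * x * g) • b = b
          rw [mul_smul, mul_smul, hgb, show x • d = d from hx2, ← hgb, inv_smul_smul]
        · show g * (g⁻¹ * x * g) * g⁻¹ = x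
          group
    exact (Subgroup.equivMapOfInjective _ _ (MulAut.conj g).injective).trans (MulEquiv.subgroupCongr hmap)
  rcases H12.B4.main4 hb with ⟨h6, hA⟩ | ⟨h15, hA⟩ | ⟨h16, hF⟩ | ⟨J, hJ, hC⟩
  · exact Or.inl ⟨by rw [← Nat.card_eq_fintype_card, h6], hA⟩
  · exact Or.inr (Or.inl ⟨by rw [← Nat.card_eq_fintype_card, h15], hA⟩)
  · exact Or.inr (Or.inr (Or.inl ⟨by rw [← Nat.card_eq_fintype_card, h16], hF⟩))
  · refine Or.inr (Or.inr (Or.inr ⟨J, ?_, hC⟩))
    exact orderOf_eq_prime (by rw [pow_two]; exact hJ.2) hJ.1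

end Cfsg.Agent.S3219
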