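import Cfsg.Statements.S3285
import Cfsg.Agent.Lib.H92.JA10
import Cfsg.Agent.S1136
import Cfsg.Agent.Lib.H58.J1J

set_option autoImplicit false
open Cfsg

namespace Cfsg.Agent.S3285

/-- Let G be a finite non-solvable group with no normal subgroup of index 2, and J an involution lying in the centre of a Sylow 2-subgroup of G whose centralizer is the internal direct product of ⟨J⟩ with a subgroup isomorphic to the alternating group of degree m. Then either m = 4 and G is isomorphic to the automorphism group PΓL(2, 8) of PSL(2, 8), or m = 5 and G is isomorphic to the first Janko group. -/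
theorem result {G : Type*} [Group G] [Finite G] (hns : ¬ Group.IsSolvable G) (h2 : ∀ N : Subgroup G, N.Normal → N.index ≠ 2)
    (J : G) (hJ : Cfsg.IsTwoCentralInvolution J) (m : ℕ) (T : Subgroup G)
    (hT : Nonempty (↥T ≃* ↥(alternatingGroup (Fin m))))
    (hd : Cfsg.IsInternalDirectProduct (Subgroup.zpowers J) T (Subgroup.centralizer ({J} : Set G))) :
    (m = 4 ∧ ∃ (F : Type) (_ : Field F) (_ : Fintype F), Fintype.card F = 8 ∧
        Nonempty (G ≃* MulAut (Matrix.ProjectiveSpecialLinearGroup (Fin 2) F))) ∨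
      (m = 5 ∧ Cfsg.Spor.IsoJ1 G) := by
  obtain ⟨hJ2, P, hJP, hPJ⟩ := hJ
  obtain ⟨e⟩ := hT
  have X := H92.JA.ctx_of hJ2 hd
  obtain ⟨g, hg⟩ := H92.JA.fuse X h2 P hJP hPJ
  have hg2 : orderOf (g * J * g⁻¹) = 2 := by
    have := MulEquiv.orderOf_eq (MulAut.conj g) J
    rw [MulAut.conj_apply] at this
    rw [this, hJ2]
  rcases Nat.lt_or_ge m 4 with h | h
  · exact (H92.JA.not_three (by omega) e hg hg2).elim
  rcases Nat.lt_or_ge m 6 with h' | h'
  · rcases (by omega : m = 4 ∨ m = 5) with h4 | h5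
    · subst h4
      left
      refine ⟨rfl, ?_⟩
      have H : H92.JA.Syl4 J T P := H92.JA.syl4_of X e hJP hPJ ⟨g, hg⟩
      haveI := H.faithful hns
      obtain ⟨u, hS⟩ := H.setup hns
      obtain ⟨L, hL, hodd, hc⟩ := Cfsg.Agent.S1136.result hS H.two
      exact H.ident hns L hL hodd hc
    · subst h5
      right
      refine ⟨rfl, ?_⟩
      have H : H92.JA.Syl J T P 15 := ⟨X, H92.JA.alt5 e, hJP, hPJ, ⟨g, hg⟩⟩
      haveI : IsSimpleGroup ↥T := (MulEquiv.isSimpleGroup_congr e).2 inferInstance
      haveI : IsSimpleGroup G := H.simple inferInstance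
      obtain ⟨f⟩ := H92.JA.exists_equiv X e
      exact H58.J1.main' J ⟨hJ2, P, hJP, hPJ⟩ f
  · exact (H92.JA.not_six X h' e hg).elim

end Cfsg.Agent.S3285
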