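import Cfsg.Statements.S3239
import Cfsg.Agent.Lib.H58.WCj
import Cfsg.Agent.Lib.H18.Bender
import Cfsg.Agent.Lib.H83.BdC4
import Cfsg.Agent.S0205
import Cfsg.Agent.S3285
import Cfsg.Agent.S0215
import Cfsg.Agent.Lib.H61.J1Mult
-- import your own Cfsg.Agent.* helpers here

set_option autoImplicit false
open Cfsg

namespace Cfsg.Agent.S3239

/-- Let t be an involution of a finite group G lying in the centre of a Sylow 2-subgroup of G, and suppose the weak closure of t in C_G(t) — the subgroup generated by all G-conjugates of t that commute with t — is isomorphic to Z₂ × A₅. Then the normal closure ⟨t^G⟩ of t in G is isomorphic to the first Janko group J₁. -/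
theorem result {G : Type*} [Group G] [Finite G]
    (t : G) (ht : orderOf t = 2) (S : Sylow 2 G) (htS : t ∈ (S : Subgroup G)) (htc : ∀ s ∈ (S : Subgroup G), s * t = t * s)
    (hW : Nonempty (↥(Subgroup.closure {x : G | ∃ g : G, x = g * t * g⁻¹ ∧ x * t = t * x}) ≃*
      (Multiplicative (ZMod 2) × ↥(alternatingGroup (Fin 5))))) :
    Cfsg.Spor.IsoJ1 ↥(Subgroup.normalClosure ({t} : Set G)) := by
  classical
  have hD := H58.WC.hy_of t ht S htS htc hW
  have hB : H58.WC.BendS := by
    intro X _ _ hF H hH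
    obtain ⟨a, b, ha, hb, hab, haa, hbb, hc⟩ := hF
    exact H83.BdC.s2903 H18.Bender.bender (fun K _ _ h => Cfsg.Agent.S0205.result h)
      ⟨a, b, hab, orderOf_eq_prime (by rw [pow_two, haa]) ha, orderOf_eq_prime (by rw [pow_two, hbb]) hb, hc⟩ H hH
  have hrec : H58.WC.Rec5 := by
    intro X _ _ hns h2 J hJ U hU hd
    rcases Cfsg.Agent.S3285.result hns h2 J hJ 5 U hU hd with h | h
    · exact absurd h.1 (by norm_num)
    · exact h.2
  have hstem : H58.WC.StemJ1 := fun Γ _ _ σ hσ w hw => H61.J1.stem_ker_trivial σ hσ hw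
  refine H58.WC.main hD ⟨t, 1, by group⟩ (fun b P u hu huP hiso => Cfsg.Agent.S0215.result P u hu huP hiso) hB hrec hstem _ ?_
  apply le_antisymm
  · unfold Subgroup.normalClosure
    rw [Subgroup.closure_le]
    intro x hx
    obtain ⟨y, hy, hyx⟩ := Group.mem_conjugatesOfSet_iff.1 hx
    rw [Set.mem_singleton_iff] at hy
    rw [hy] at hyx
    obtain ⟨g, hg⟩ := isConj_iff.1 hyx
    exact Subgroup.subset_closure ⟨g, hg.symm⟩
  · rw [Subgroup.closure_le]
    rintro x ⟨g, rfl⟩
    have h1 : t ∈ Subgroup.normalClosure ({t} : Set G) := Subgroup.subset_normalClosure (Set.mem_singleton t)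
    exact Subgroup.normalClosure_normal.conj_mem t h1 g


end Cfsg.Agent.S3239
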