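import Cfsg.Statements.S3245
import Cfsg.Agent.Lib.H61.OneMax
import Cfsg.Agent.Lib.H83.BdC3
import Cfsg.Agent.Lib.H18.Bender
import Cfsg.Agent.S1136
import Cfsg.Agent.S0205

set_option autoImplicit false
open Cfsg

namespace Cfsg.Agent.S3245

/-- A finite non-abelian simple group in which all maximal 2-local subgroups are conjugate is isomorphic to L₂(2ⁿ), Sz(2ⁿ) or U₃(2ⁿ) for some n ≥ 2. -/
theorem result {G : Type*} [Group G] [Finite G] [IsSimpleGroup G] (hG : ¬ IsMulCommutative G)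
    (h1 : ∀ M M' : Subgroup G, Cfsg.IsMaximalTwoLocal M → Cfsg.IsMaximalTwoLocal M' → ∃ g : G, M' = M.map (MulAut.conj g).toMonoidHom) :
    (∃ (F : Type) (_ : Field F) (_ : Fintype F) (n : ℕ), 2 ≤ n ∧ Fintype.card F = 2 ^ n ∧
        Nonempty (G ≃* Matrix.ProjectiveSpecialLinearGroup (Fin 2) F)) ∨
      Cfsg.Lie.IsoSuzuki G ∨
      (∃ (F : Type) (_ : Field F) (_ : Fintype F) (n : ℕ), 2 ≤ n ∧ Fintype.card F = (2 ^ n) ^ 2 ∧ Nonempty (G ≃* Cfsg.PSU 3 F (2 ^ n))) := by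
  have hp : Fact (Nat.Prime 2) := ⟨Nat.prime_two⟩
  have hev : Even (Nat.card G) := by
    by_contra h
    rw [Nat.not_even_iff_odd] at h
    have hs := Cfsg.Agent.S0205.result h
    exact hG ⟨⟨IsSimpleGroup.comm_iff_isSolvable.2 hs⟩⟩
  obtain ⟨M, hM⟩ := H61.OneMax.stronglyEmbedded (fun M M' hM hM' => h1 M M' hM hM') hG hev
  have hC := H83.BdC.concl_of_se H18.Bender.bender
    (fun G Ω _ _ _ _ a t Q hS h2 => Cfsg.Agent.S1136.result hS h2) hM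
  rcases hC with ⟨F, i1, i2, ⟨n, hn, hc⟩, he⟩ | h | ⟨F, i1, i2, n, hn, hc, he⟩
  · exact Or.inl ⟨F, i1, i2, n, hn, hc, he⟩
  · exact Or.inr (Or.inl h)
  · exact Or.inr (Or.inr ⟨F, i1, i2, n, hn, hc, he⟩)

end Cfsg.Agent.S3245
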