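import Cfsg.Statements.S3250
import Cfsg.Agent.Lib.H67.L8f
import Cfsg.Agent.Lib.H67.L8g
import Cfsg.Agent.Lib.H22.LenB3
import Cfsg.Agent.Lib.H22.LenCh
import Cfsg.Agent.Lib.H78.Ess
import Cfsg.Agent.Lib.H27.L8Final

set_option autoImplicit false
open Cfsg

namespace Cfsg.Agent.S3250

/-- With the length of a finite group defined as the maximum n for which there is a chain G = G₀ > G₁ > ⋯ > G_n = 1 of subgroups: a finite non-abelian simple group of length exactly 8 whose Sylow 2-subgroups have order 2⁷ is isomorphic to PSL₂(127). -/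
theorem result {G : Type*} [Group G] [Finite G] [IsSimpleGroup G]
    (hG : ¬ IsMulCommutative G) (h8 : ∃ c : Fin 9 → Subgroup G, StrictAnti c) (h9 : ∀ c : Fin 10 → Subgroup G, ¬ StrictAnti c)
    (S : Sylow 2 G) (hS : Nat.card ↥(S : Subgroup G) = 2 ^ 7) :
    ∃ (F : Type) (_ : Field F) (_ : Fintype F), Fintype.card F = 127 ∧ Nonempty (G ≃* Matrix.ProjectiveSpecialLinearGroup (Fin 2) F) := by
  have hyp : H67.L8.Hyp (S : Subgroup G) := H67.L8.hyp h9 hG hS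
  have hSb : (S : Subgroup G) ≠ ⊥ := by
    intro h
    rw [h, Subgroup.card_bot] at hS
    norm_num at hS
  have hN : Subgroup.normalizer ((S : Subgroup G) : Set G) ≤ S := by
    intro g hg
    exact hyp.nrm S le_rfl hSb (fun s hs k hk => S.mul_mem (S.mul_mem hs hk) (S.inv_mem hs)) g
      (fun k hk => H67.L8.nz_conj hg hk)
  have hess : ∀ T0 : Subgroup G, T0 ≤ (S : Subgroup G) → T0 ≠ (S : Subgroup G) →
      (∀ s ∈ (S : Subgroup G), ∀ t ∈ T0, s * t * s⁻¹ ∈ T0) →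
      (∀ a ∈ (S : Subgroup G), ∀ b ∈ (S : Subgroup G), a ∉ T0 → b ∉ T0 → a * b ∈ T0) →
      ∃ E : Subgroup G, H67.L8.Es (S : Subgroup G) E ∧ ¬ E ≤ T0 := by
    intro T0 hT hne hn hi
    obtain ⟨E, h1, h2, h3, h4, h5, h6⟩ := H78.Ess.ess (H22.LenCh.perfect hG) S hN T0 hT hne hn hi
    exact ⟨E, ⟨h1, h3, h4, h5, h6⟩, h2⟩
  refine H27.L8.endgame hG S hS ?_ ?_ ?_
  · intro z hz hz1 hzc g hg
    exact H22.LenCh.cent_le h9 hG hS hz1 hzc hg
  · intro U hU hUn hUc hU2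
    exact H67.L8.no_four hyp (fun h _ hE hE4 hX hor => H78.Burn.burn h hE hE4 hX hor)
      (fun h _ hE _ _ hz hz1 hz2 hzc hv hv1 hvz hv2 hvc =>
        H22.LenB.caseB h hE hz hz1 hz2 hzc hv hv1 hvz hv2 hvc) hess U hU hUn hUc hU2
  · intro T0 hT hne hn hi
    obtain ⟨E, hE, h2⟩ := hess T0 hT hne hn hi
    exact ⟨E, hE.le, h2, hE.cen, hE.nt⟩

end Cfsg.Agent.S3250
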