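import Cfsg.Statements.S3493
import Mathlib
import Cfsg.Agent.Lib.H62.HSType
import Cfsg.Agent.Lib.H62.ConjRep
import Cfsg.Agent.Lib.H63.MinNormalFactor
import Cfsg.Agent.S3495
import Cfsg.Agent.S3497

set_option autoImplicit false
open Cfsg

namespace Cfsg.Agent.S3493

theorem prod_invariant {G : Type*} [Group G] [DecidableEq G] (A : Finset G)
    (hcomm : ∀ a ∈ A, ∀ b ∈ A, a * b = b * a) :
    ∃ n : G, (∀ h : G, (∀ a ∈ A, h * a * h⁻¹ ∈ A) → h * n * h⁻¹ = n) ∧
      ∀ t ∈ A, ∀ C : Subgroup G, (∀ a ∈ A, a ≠ t → a ∈ C) → ∃ c ∈ C, n = t * c := by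
  have hc : (A : Set G).Pairwise (Function.onFun Commute (fun x : G => x)) := fun a ha b hb _ => hcomm a ha b hb
  refine ⟨A.noncommProd (fun x => x) hc, ?_, ?_⟩
  · intro h hh
    have hm : A.map ⟨fun x => MulAut.conj h x, (MulAut.conj h).injective⟩ = A := by
      apply Finset.eq_of_subset_of_card_le
      · intro x hx
        obtain ⟨a, ha, rfl⟩ := Finset.mem_map.mp hx
        exact hh a ha
      · rw [Finset.card_map]
    have h1 := Finset.map_noncommProd A (fun x => x) hc (MulAut.conj h)
    change MulAut.conj h (A.noncommProd (fun x => x) hc) = _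
    rw [h1]
    have key : ∀ (m m' : Multiset G) (e : m = m') (c : _) (c' : _), m.noncommProd c = m'.noncommProd c' := by
      intro m m' e c c'
      subst e
      rfl
    unfold Finset.noncommProd
    apply key
    have h2 := congrArg Finset.val hm
    rw [Finset.map_val] at h2
    rw [Multiset.map_id']
    exact h2
  · intro t ht C hC
    refine ⟨(A.erase t).noncommProd (fun x => x) (fun a ha b hb _ =>
      hcomm a (Finset.mem_of_mem_erase ha) b (Finset.mem_of_mem_erase hb)), ?_, ?_⟩
    · apply Subgroup.noncommProd_mem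
      intro c hc
      exact hC c (Finset.mem_of_mem_erase hc) (Finset.ne_of_mem_erase hc)
    · exact (Finset.mul_noncommProd_erase A ht (fun x => x) hc _).symm

open MulAction in
/-- A normal subgroup with nontrivial point stabilizers is quasiprimitive. -/
theorem claimA {G : Type*} [Group G] [Finite G] {Ω : Type*} [Finite Ω] [MulAction G Ω] [FaithfulSMul G Ω]
    [IsPreprimitive G Ω] (hH : ∀ α : Ω, stabilizer G α ≠ ⊥)
    (hep : ∀ (α : Ω) (ω : Ω), IsPreprimitive (stabilizer G α) (orbit (stabilizer G α) ω))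
    (X : Subgroup G) (hX : X.Normal) [Nontrivial Ω] (hXα : ∀ α : Ω, X ⊓ stabilizer G α ≠ ⊥)
    (Y : Subgroup G) (hn : ∀ x ∈ X, ∀ y ∈ Y, x * y * x⁻¹ ∈ Y) (hY : Y ≠ ⊥) : IsPretransitive Y Ω := by
  have hdich : ∀ α : Ω, (∀ ω : Ω, ω ∈ orbit Y α) ∨ Y ≤ stabilizer G α := by
    intro α
    have horb := Cfsg.Agent.S3495.orbit_eq (G := G) (Ω := Ω) inferInstance hH hep α (X ⊓ stabilizer G α) (hXα α)
      inf_le_right (by
        rw [Subgroup.le_normalizer_iff]
        intro h hh m hm
        exact ⟨hX.conj_mem m hm.1 h,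
          Subgroup.mul_mem _ (Subgroup.mul_mem _ hh hm.2) (Subgroup.inv_mem _ hh)⟩)
    let L : Submonoid G :=
      { carrier := {g | ∀ ω ∈ orbit Y α, g • ω ∈ orbit Y α}
        one_mem' := fun ω hω => by rw [one_smul]; exact hω
        mul_mem' := fun {a b} ha hb ω hω => by rw [mul_smul]; exact ha _ (hb _ hω) }
    have hHL : ∀ h ∈ stabilizer G α, h ∈ L := by
      rintro h hh _ ⟨y, rfl⟩
      have h1 : h • ((y : G) • α) ∈ orbit (stabilizer G α) ((y : G) • α) := ⟨⟨h, hh⟩, rfl⟩
      rw [← horb] at h1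
      obtain ⟨m, hm⟩ := h1
      have hm' : (m : G) • ((y : G) • α) = h • ((y : G) • α) := hm
      change h • ((y : G) • α) ∈ orbit Y α
      rw [← hm']
      refine ⟨⟨(m : G) * y * (m : G)⁻¹, hn m m.2.1 y y.2⟩, ?_⟩
      change ((m : G) * y * (m : G)⁻¹) • α = (m : G) • ((y : G) • α)
      have h2 : (m : G)⁻¹ • α = α := inv_smul_eq_iff.mpr (mem_stabilizer_iff.mp m.2.2).symm
      rw [mul_smul, mul_smul, h2]
    have hYL : ∀ y ∈ Y, y ∈ L := by
      rintro y hy _ ⟨z, rfl⟩
      exact ⟨⟨y, hy⟩ * z, mul_smul _ _ _⟩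
    have hall : ∀ g ∈ (stabilizer G α ⊔ Y : Subgroup G), g ∈ L := by
      intro g hg
      rw [Subgroup.sup_eq_closure] at hg
      induction hg using Subgroup.closure_induction with
      | mem x hx =>
        rcases hx with hx | hx
        · exact hHL x hx
        · exact hYL x hx
      | one => exact L.one_mem
      | mul x y _ _ hx hy => exact L.mul_mem hx hy
      | inv x _ hx =>
        have hinv : x⁻¹ = x ^ (orderOf x - 1) := by
          rw [inv_eq_iff_mul_eq_one, ← pow_succ', Nat.sub_add_cancel (orderOf_pos x), pow_orderOf_eq_one]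
        rw [hinv]
        exact L.pow_mem hx _
    have hco : IsCoatom (stabilizer G α) := IsPreprimitive.isCoatom_stabilizer_of_isPreprimitive G α
    by_cases hlt : stabilizer G α ⊔ Y = stabilizer G α
    · right
      rw [← hlt]; exact le_sup_right
    · left
      have htop := hco.2 _ (lt_of_le_of_ne le_sup_left (fun h => hlt h.symm))
      intro ω
      obtain ⟨g, rfl⟩ := exists_smul_eq G α ω
      exact hall g (by rw [htop]; trivial) α (mem_orbit_self α)
  obtain ⟨α, hα⟩ : ∃ α : Ω, ∀ ω : Ω, ω ∈ orbit Y α := by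
    by_contra hcon
    apply hY
    rw [eq_bot_iff]
    intro y hy
    rw [Subgroup.mem_bot]
    apply FaithfulSMul.eq_of_smul_eq_smul (α := Ω)
    intro x
    rw [one_smul]
    rcases hdich x with h | h
    · exact absurd ⟨x, h⟩ hcon
    · exact h hy
  constructor
  intro a b
  obtain ⟨y, hy⟩ := hα a
  obtain ⟨z, hz⟩ := hα b
  have hy' : y • α = a := hy
  have hz' : z • α = b := hz
  exact ⟨z * y⁻¹, by rw [mul_smul, ← hy', inv_smul_smul, hz']⟩

open MulAction H63.MinNormalFactor in
theorem cj_normalized {G : Type*} [Group G] {N T : Subgroup G} (hN : N.Normal) (hTn : NormBy N T)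
    (n : G) (hn : n ∈ N) (g : G) : cj (n * g) T = cj g T := by
  ext x
  rw [mem_cj, mem_cj]
  have hn1 : g⁻¹ * n * g ∈ N := by simpa using hN.conj_mem n hn g⁻¹
  have e : (n * g)⁻¹ * x * (n * g) = (g⁻¹ * n * g)⁻¹ * (g⁻¹ * x * g) * (g⁻¹ * n * g) := by group
  rw [e]
  constructor
  · intro h
    have := hTn _ hn1 _ h
    have e2 : g⁻¹ * n * g * ((g⁻¹ * n * g)⁻¹ * (g⁻¹ * x * g) * (g⁻¹ * n * g)) * (g⁻¹ * n * g)⁻¹
      = g⁻¹ * x * g := by group
    rwa [e2] at this
  · intro h
    have := hTn _ (N.inv_mem hn1) _ h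
    rwa [inv_inv] at this

open MulAction H63.MinNormalFactor in
theorem cj_cj {G : Type*} [Group G] {T : Subgroup G} (g h : G) (hgh : cj g T = cj h T) : cj (g⁻¹ * h) T = T := by
  ext x
  have h4 := SetLike.ext_iff.mp hgh (g * x * g⁻¹)
  rw [mem_cj, mem_cj] at h4
  rw [mem_cj]
  have e1 : h⁻¹ * (g * x * g⁻¹) * h = (g⁻¹ * h)⁻¹ * x * (g⁻¹ * h) := by group
  have e2 : g⁻¹ * (g * x * g⁻¹) * g = x := by group
  rw [e1, e2] at h4
  exact h4.symm

open MulAction H63.MinNormalFactor in
/-- the regular non-simple case is impossible -/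
theorem regular_case {G : Type*} [Group G] [Finite G] {Ω : Type*} [Finite Ω] [MulAction G Ω] [FaithfulSMul G Ω]
    [IsPreprimitive G Ω] (hH : ∀ α : Ω, stabilizer G α ≠ ⊥)
    (hep : ∀ (α : Ω) (ω : Ω), IsPreprimitive (stabilizer G α) (orbit (stabilizer G α) ω))
    (N : Subgroup G) (hN : N.Normal) [IsPretransitive N Ω]
    (hmin : ∀ M : Subgroup G, M.Normal → M ≤ N → M ≠ ⊥ → M = N)
    (hNc : ¬ ∀ a ∈ N, ∀ b ∈ N, a * b = b * a)
    (hreg : ∀ n ∈ N, ∀ ω : Ω, n • ω = ω → n = 1)
    (T : Subgroup G) (hT : Factor N T) (hne : ∃ g, cj g T ≠ T) (α : Ω) : False := by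
  classical
  have hinf := H63.MinNormalFactor.inf_cc hN hmin hT hNc
  obtain ⟨t, htT, ht1⟩ : ∃ t ∈ T, t ≠ 1 := by
    by_contra hcon
    push Not at hcon
    exact hT.ne ((Subgroup.eq_bot_iff_forall _).mpr hcon)
  have hmv : ∀ n ∈ N, n ≠ 1 → n • α ≠ α := fun n hn hn1 h => hn1 (hreg n hn α h)
  let R : Subgroup G :=
    { carrier := {h | h • α = α ∧ cj h T = T}
      one_mem' := ⟨one_smul _ _, by ext x; rw [mem_cj]; simp⟩
      mul_mem' := fun {a b} ha hb => ⟨by rw [mul_smul, hb.1, ha.1], by
        ext x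
        have h1 := SetLike.ext_iff.mp ha.2 x
        have h2 := SetLike.ext_iff.mp hb.2 (a⁻¹ * x * a)
        rw [mem_cj] at h1 h2 ⊢
        rw [← h1, ← h2]
        have e : (a * b)⁻¹ * x * (a * b) = b⁻¹ * (a⁻¹ * x * a) * b := by group
        rw [e]⟩
      inv_mem' := fun {a} ha => ⟨by rw [inv_smul_eq_iff, ha.1], by
        ext x
        have h1 := SetLike.ext_iff.mp ha.2 (a * x * a⁻¹)
        rw [mem_cj] at h1 ⊢
        rw [inv_inv, ← h1]
        have e : a⁻¹ * (a * x * a⁻¹) * a = x := by group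
        rw [e]⟩ }
  have htcj : ∀ h : G, h * t * h⁻¹ ∈ cj h T := fun h => mem_cj.mpr (by
    have : h⁻¹ * (h * t * h⁻¹) * h = t := by group
    rw [this]; exact htT)
  have hcent : ∀ h : G, h • α = α → h • (t • α) = t • α → h * t * h⁻¹ = t := by
    intro h hα hω
    have h1 : (h * t * h⁻¹) • α = t • α := by
      rw [mul_smul, mul_smul, inv_smul_eq_iff.mpr hα.symm, hω]
    have h2 : t⁻¹ * (h * t * h⁻¹) = 1 := by
      apply hreg _ (N.mul_mem (N.inv_mem (hT.le htT)) (hN.conj_mem t (hT.le htT) h)) α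
      rw [mul_smul, h1, inv_smul_smul]
    exact (inv_mul_eq_one.mp h2).symm
  have hRmax := H62.ExtPrim.two_pt_maximal (H62.ExtPrim.exists_moves (hH α) (hmv t (hT.le htT) ht1))
    (hep α (t • α)) R (by
      rintro h ⟨hα, hω⟩
      refine ⟨hα, ?_⟩
      have h1 := hcent h hα hω
      rcases cj_eq_or_inf_eq_bot hN hT h with h2 | h2
      · exact h2
      · exfalso
        have h3 : t ∈ cj h T ⊓ T := by
          refine ⟨?_, htT⟩
          have := htcj h
          rw [h1] at this
          exact this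
        rw [h2, Subgroup.mem_bot] at h3
        exact ht1 h3) (fun h hh => hh.1)
  have hRne : R ≠ stabilizer G α := by
    intro hR
    obtain ⟨g, hg⟩ := hne
    obtain ⟨n, hn⟩ := exists_smul_eq N α (g • α)
    have hn' : (n : G) • α = g • α := hn
    apply hg
    have h1 : (n : G)⁻¹ * g ∈ stabilizer G α := by
      rw [mem_stabilizer_iff, mul_smul, ← hn', inv_smul_smul]
    rw [← hR] at h1
    rw [← cj_normalized hN hT.norm _ (N.inv_mem n.2) g]
    exact h1.2
  have hReq : R = stabilizer G α ⊓ stabilizer G (t • α) := hRmax.resolve_right hRne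
  have hRc : ∀ h : G, h • α = α → cj h T = T → h * t * h⁻¹ = t := by
    intro h hα hcj
    have : h ∈ R := ⟨hα, hcj⟩
    rw [hReq] at this
    exact hcent h hα this.2
  let A : Finset G := (Set.toFinite {a : G | ∃ h : G, h • α = α ∧ a = h * t * h⁻¹}).toFinset
  have hA : ∀ a, a ∈ A ↔ ∃ h : G, h • α = α ∧ a = h * t * h⁻¹ := fun a => by simp [A]
  have hAcomm : ∀ a ∈ A, ∀ b ∈ A, a * b = b * a := by
    intro a ha b hb
    obtain ⟨h, hα, rfl⟩ := (hA a).mp ha
    obtain ⟨k, kα, rfl⟩ := (hA b).mp hb
    by_cases hhk : cj h T = cj k T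
    · have h1 := cj_cj h k hhk
      have h2 := hRc (h⁻¹ * k) (by rw [mul_smul, kα, inv_smul_eq_iff, hα]) h1
      have h3 : k * t * k⁻¹ = h * t * h⁻¹ := by
        have e : h * (h⁻¹ * k * t * (h⁻¹ * k)⁻¹) * h⁻¹ = k * t * k⁻¹ := by group
        rw [← e, h2]
      rw [h3]
    · have h1 : cj (h⁻¹ * k) T ≠ T := by
        intro h2
        apply hhk
        ext x
        have h4 := SetLike.ext_iff.mp h2 (h⁻¹ * x * h)
        rw [mem_cj] at h4
        rw [mem_cj, mem_cj, ← h4]
        have e : (h⁻¹ * k)⁻¹ * (h⁻¹ * x * h) * (h⁻¹ * k) = k⁻¹ * x * k := by group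
        rw [e]
      have h2 := cj_comm hN hT h1 _ (htcj (h⁻¹ * k)) t htT
      have h3 := congrArg (fun z => h * z * h⁻¹) h2
      have e1 : h * (h⁻¹ * k * t * (h⁻¹ * k)⁻¹ * t) * h⁻¹ = (k * t * k⁻¹) * (h * t * h⁻¹) := by group
      have e2 : h * (t * (h⁻¹ * k * t * (h⁻¹ * k)⁻¹)) * h⁻¹ = (h * t * h⁻¹) * (k * t * k⁻¹) := by group
      simp only [e1, e2] at h3
      exact h3.symm
  obtain ⟨n, hn1, hn2⟩ := prod_invariant A hAcomm
  have htA : t ∈ A := (hA t).mpr ⟨1, one_smul _ _, by simp⟩
  obtain ⟨c, hc, hnc⟩ := hn2 t htA (cc N T) (by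
    intro a ha hat
    obtain ⟨h, hα, rfl⟩ := (hA a).mp ha
    by_cases hcj : cj h T = T
    · exact absurd (hRc h hα hcj) hat
    · exact cj_le_cc hN hT hcj (htcj h))
  have hnN : n ∈ N := by
    rw [hnc]
    exact N.mul_mem (hT.le htT) (mem_cc.mp hc).1
  have hn1' : n ≠ 1 := by
    intro h1
    rw [h1] at hnc
    have h2 : t = c⁻¹ := eq_inv_of_mul_eq_one_left hnc.symm
    have h3 : t ∈ T ⊓ cc N T := ⟨htT, by rw [h2]; exact Subgroup.inv_mem _ hc⟩
    rw [hinf, Subgroup.mem_bot] at h3
    exact ht1 h3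
  obtain ⟨h, hh, hmvn⟩ := H62.ExtPrim.exists_moves (hH α) (hmv n hnN hn1')
  apply hmvn
  have h1 := hn1 h (by
    intro a ha
    obtain ⟨k, kα, rfl⟩ := (hA a).mp ha
    refine (hA _).mpr ⟨h * k, by rw [mul_smul, kα]; exact hh, by group⟩)
  have h2 : h⁻¹ • α = α := inv_smul_eq_iff.mpr (mem_stabilizer_iff.mp hh).symm
  calc h • n • α = h • n • h⁻¹ • α := by rw [h2]
    _ = (h * n * h⁻¹) • α := by simp only [mul_smul]
    _ = n • α := by rw [h1]

open H63.MinNormalFactor in
/-- An extremely primitive permutation group is of affine type or almost simple. Let a finite group G act faithfully and primitively on a finite set Ω with at least two points, in such a way that every point stabilizer acts primitively on each of its own orbits in Ω (an orbit of size one counts as primitive). Then either G has a non-trivial abelian normal subgroup whose elements other than the identity fix no point (affine type), or G has a non-abelian simple normal subgroup with trivial centralizer (almost simple). -/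
theorem result {G : Type*} [Group G] [Finite G] {Ω : Type*} [Fintype Ω] [MulAction G Ω] [FaithfulSMul G Ω] (hΩ : 2 ≤ Fintype.card Ω) (hprim : MulAction.IsPreprimitive G Ω) (hep : ∀ (α : Ω) (ω : Ω), MulAction.IsPreprimitive (MulAction.stabilizer G α) (MulAction.orbit (MulAction.stabilizer G α) ω)) :
    (∃ N : Subgroup G, N.Normal ∧ N ≠ ⊥ ∧ IsMulCommutative N ∧ ∀ ω : Ω, MulAction.stabilizer N ω = ⊥) ∨ (∃ T : Subgroup G, T.Normal ∧ IsSimpleGroup T ∧ ¬ IsMulCommutative T ∧ Subgroup.centralizer (T : Set G) = ⊥) := by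
  classical
  have hnt : Nontrivial Ω := Fintype.one_lt_card_iff_nontrivial.mp (by omega)
  have hne : Nonempty Ω := inferInstance
  obtain ⟨α⟩ := hne
  have hne : Nonempty Ω := ⟨α⟩
  have hGbot : (⊤ : Subgroup G) ≠ ⊥ := by
    intro h
    obtain ⟨β, hβ⟩ := exists_ne α
    obtain ⟨g, hg⟩ := MulAction.exists_smul_eq G α β
    have hg1 : g ∈ (⊥ : Subgroup G) := by rw [← h]; trivial
    rw [Subgroup.mem_bot] at hg1
    rw [hg1, one_smul] at hg
    exact hβ hg.symm
  obtain ⟨N, hN, -, hNbot, hNmin⟩ := H62.ConjRep.exists_minimal (⊤ : Subgroup G) hGbot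
  have hmin : ∀ M : Subgroup G, M.Normal → M ≤ N → M ≠ ⊥ → M = N := fun M h1 h2 h3 =>
    (hNmin M h1 h2).resolve_left h3
  have hNtr : MulAction.IsPretransitive N Ω := H62.PrimGroup.normal_transitive (Δ := Ω) N hNbot
  by_cases hNc : ∀ a ∈ N, ∀ b ∈ N, a * b = b * a
  · left
    refine ⟨N, hN, hNbot, ⟨⟨fun a b => Subtype.ext (hNc a a.2 b b.2)⟩⟩, ?_⟩
    intro ω
    rw [eq_bot_iff]
    intro x hx
    rw [Subgroup.mem_bot]
    exact Subtype.ext (H62.PrimGroup.eq_one_of_centralizes (Δ := Ω) N (fun n hn => hNc x x.2 n hn) hx)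
  -- stabilizers are nontrivial
  have hHα : MulAction.stabilizer G α ≠ ⊥ := by
    intro hbot
    have hco : IsCoatom (MulAction.stabilizer G α) := MulAction.IsPreprimitive.isCoatom_stabilizer_of_isPreprimitive G α
    rw [hbot] at hco
    apply hNc
    intro a _ b _
    by_cases ha : a = 1
    · rw [ha, one_mul, mul_one]
    · have h1 : Subgroup.zpowers a = ⊤ := by
        apply hco.2
        rw [bot_lt_iff_ne_bot, Ne, Subgroup.zpowers_eq_bot]
        exact ha
      have h2 : b ∈ Subgroup.zpowers a := by rw [h1]; trivial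
      obtain ⟨i, rfl⟩ := h2
      exact (Commute.self_zpow a i)
  have hH : ∀ β : Ω, MulAction.stabilizer G β ≠ ⊥ := Cfsg.Agent.S3497.stabilizers_ne_bot hHα
  obtain ⟨T, hTle, hTne, hTn, hTmin⟩ := H63.MinNormalFactor.exists_min N hNbot
  have hT : Factor N T := ⟨hTle, hTne, hTn, hTmin⟩
  have hTs := H63.MinNormalFactor.isSimpleGroup hN hmin hT
  have hTc := H63.MinNormalFactor.T_not_comm hN hmin hT hNc
  have hinf := H63.MinNormalFactor.inf_cc hN hmin hT hNc
  by_cases hC : Subgroup.centralizer (N : Set G) = ⊥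
  · by_cases hsimple : ∀ g, cj g T = T
    · right
      have hTN : T = N := by
        rw [← H63.MinNormalFactor.iSup_cj hN hmin hT]
        simp only [hsimple]
        exact ciSup_const.symm
      refine ⟨N, hN, ?_, ?_, hC⟩
      · rw [← hTN]; exact hTs
      · intro h
        exact hNc (fun a ha b hb => congrArg Subtype.val (h.is_comm.comm ⟨a, ha⟩ ⟨b, hb⟩))
    · exfalso
      push Not at hsimple
      by_cases hNα : ∃ ω : Ω, N ⊓ MulAction.stabilizer G ω = ⊥
      · -- regular
        obtain ⟨ω, hω⟩ := hNα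
        have hreg : ∀ n ∈ N, ∀ β : Ω, n • β = β → n = 1 := by
          intro n hn β hβ
          obtain ⟨g, hg⟩ := MulAction.exists_smul_eq G β ω
          have h1 : g * n * g⁻¹ ∈ N ⊓ MulAction.stabilizer G ω := by
            refine ⟨hN.conj_mem n hn g, ?_⟩
            change (g * n * g⁻¹) • ω = ω
            rw [← hg, mul_smul, mul_smul, inv_smul_smul, hβ]
          rw [hω, Subgroup.mem_bot] at h1
          rw [mul_inv_eq_one, mul_eq_left] at h1
          exact h1
        exact regular_case hH hep N hN hmin hNc hreg T hT hsimple α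
      · push Not at hNα
        have hclaim := claimA hH hep N hN hNα
        have hTtr : MulAction.IsPretransitive T Ω := hclaim T hTn hTne
        have hcjtr : ∀ g, MulAction.IsPretransitive (cj g T) Ω := fun g => hclaim _ (hTn.cj g) (cj_ne_bot hTne)
        obtain ⟨g, hg⟩ := hsimple
        have h2 : ∀ k, cj k T = T ∨ cj k T = cj g T := by
          intro k
          by_contra hcon
          push Not at hcon
          obtain ⟨hk1, hk2⟩ := hcon
          have htr := hcjtr k
          have hc1 := cj_comm hN hT hk1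
          have hc2 : ∀ a ∈ cj k T, ∀ b ∈ cj g T, a * b = b * a := by
            intro a ha b hb
            have h3 : cj (g⁻¹ * k) T ≠ T := fun h4 => hk2 (by
              ext x
              have h5 := SetLike.ext_iff.mp h4 (g⁻¹ * x * g)
              rw [mem_cj] at h5
              rw [mem_cj, mem_cj, ← h5]
              have e : (g⁻¹ * k)⁻¹ * (g⁻¹ * x * g) * (g⁻¹ * k) = k⁻¹ * x * k := by group
              rw [e])
            have h4 := cj_comm hN hT h3 (g⁻¹ * a * g) (by
              rw [mem_cj] at ha ⊢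
              have e : (g⁻¹ * k)⁻¹ * (g⁻¹ * a * g) * (g⁻¹ * k) = k⁻¹ * a * k := by group
              rw [e]; exact ha) (g⁻¹ * b * g) (mem_cj.mp hb)
            have h5 := congrArg (fun z => g * z * g⁻¹) h4
            have e1 : g * (g⁻¹ * a * g * (g⁻¹ * b * g)) * g⁻¹ = a * b := by group
            have e2 : g * (g⁻¹ * b * g * (g⁻¹ * a * g)) * g⁻¹ = b * a := by group
            simp only [e1, e2] at h5
            exact h5
          obtain ⟨x, hx, hx1⟩ : ∃ x ∈ cj g T, x ≠ 1 := by
            by_contra hcon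
            push Not at hcon
            exact cj_ne_bot (g := g) hTne ((Subgroup.eq_bot_iff_forall _).mpr hcon)
          obtain ⟨t, ht⟩ := MulAction.exists_smul_eq T α (x • α)
          have ht' : (t : G) • α = x • α := ht
          have h3 : (t : G)⁻¹ * x = 1 := by
            apply H62.PrimGroup.eq_one_of_centralizes (Δ := Ω) (cj k T) (x := α)
            · intro n hn
              have e1 := hc1 n hn _ (T.inv_mem t.2)
              have e2 := hc2 n hn x hx
              rw [mul_assoc, ← e2, ← mul_assoc, ← e1, mul_assoc]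
            · rw [mul_smul, ← ht', inv_smul_smul]
          rw [inv_mul_eq_one] at h3
          have h4 := (cj_eq_or_inf_eq_bot hN hT g).resolve_left hg
          have h5 : x ∈ cj g T ⊓ T := ⟨hx, by rw [← h3]; exact t.2⟩
          rw [h4, Subgroup.mem_bot] at h5
          exact hx1 h5
        have htr2 := hcjtr g
        have hconj : ∀ k : G, ∀ S : Subgroup G, ∀ t ∈ S, k * t * k⁻¹ ∈ cj k S := fun k S t ht => mem_cj.mpr (by
          have e : k⁻¹ * (k * t * k⁻¹) * k = t := by group
          rw [e]; exact ht)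
        have hconj2 : ∀ k : G, ∀ t ∈ cj g T, k * t * k⁻¹ ∈ cj (k * g) T := fun k t ht => mem_cj.mpr (by
          have e : (k * g)⁻¹ * (k * t * k⁻¹) * (k * g) = g⁻¹ * t * g := by group
          rw [e]; exact mem_cj.mp ht)
        have hnekg : ∀ k : G, cj k T ≠ cj (k * g) T := by
          intro k h3
          have h4 := cj_cj k (k * g) h3
          rw [inv_mul_cancel_left] at h4
          exact hg h4
        apply H62.HSType.false_of_two hH hep T (cj g T) (fun a ha b hb => (cj_comm hN hT hg b hb a ha).symm)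
          hTs hTc _ α
        intro k
        rcases h2 k with h3 | h3
        · left
          rcases h2 (k * g) with h4 | h4
          · exact absurd (h3.trans h4.symm) (hnekg k)
          · exact ⟨fun t ht => by rw [← h3]; exact hconj k T t ht, fun t ht => by rw [← h4]; exact hconj2 k t ht⟩
        · right
          rcases h2 (k * g) with h4 | h4
          · refine ⟨fun t ht => by rw [← h3]; exact hconj k T t ht, fun t ht => ?_⟩
            have := hconj2 k t ht
            rw [h4] at this
            exact this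
          · exact absurd (h3.trans h4.symm) (hnekg k)
  · -- the centralizer is transitive
    exfalso
    set C := Subgroup.centralizer (N : Set G) with hCdef
    have hCn : C.Normal := inferInstance
    have hCtr : MulAction.IsPretransitive C Ω := H62.PrimGroup.normal_transitive (Δ := Ω) _ hC
    have hcomm : ∀ a ∈ N, ∀ b ∈ C, a * b = b * a := fun a ha b hb => (Subgroup.mem_centralizer_iff.mp hb) a ha
    have hregN : ∀ n ∈ N, ∀ ω : Ω, n • ω = ω → n = 1 := fun n hn ω h =>
      H62.PrimGroup.eq_one_of_centralizes (Δ := Ω) C (fun b hb => hcomm n hn b hb) h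
    -- X = N C
    have hX : (N ⊔ C).Normal := inferInstance
    have hXα : ∀ ω : Ω, (N ⊔ C) ⊓ MulAction.stabilizer G ω ≠ ⊥ := by
      intro ω hbot
      push Not at hNc
      obtain ⟨a, ha, b, hb, hab⟩ := hNc
      obtain ⟨c, hc⟩ := MulAction.exists_smul_eq C ω (a • ω)
      have hc' : (c : G) • ω = a • ω := hc
      have h1 : (c : G)⁻¹ * a ∈ (N ⊔ C) ⊓ MulAction.stabilizer G ω := by
        refine ⟨Subgroup.mul_mem _ (Subgroup.inv_mem _ (Subgroup.mem_sup_right c.2)) (Subgroup.mem_sup_left ha), ?_⟩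
        change ((c : G)⁻¹ * a) • ω = ω
        rw [mul_smul, ← hc', inv_smul_smul]
      rw [hbot, Subgroup.mem_bot, inv_mul_eq_one] at h1
      apply hab
      rw [← h1]
      exact (hcomm b hb c c.2).symm
    have hclaim := claimA hH hep (N ⊔ C) hX hXα
    have hns : IsSimpleGroup N := by
      have h1 : T = N := by
        have hTtr : MulAction.IsPretransitive T Ω := by
          apply hclaim T _ hTne
          intro x hx t ht
          rw [Subgroup.mem_sup_of_normal_left] at hx
          obtain ⟨n, hn, c, hc, rfl⟩ := hx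
          have e : n * c * t * (n * c)⁻¹ = n * t * n⁻¹ := by
            rw [mul_assoc n c t, ← hcomm t (hTle ht) c hc]
            group
          rw [e]
          exact hTn n hn t ht
        apply le_antisymm hTle
        intro n hn
        obtain ⟨t, ht⟩ := MulAction.exists_smul_eq T α (n • α)
        have ht' : (t : G) • α = n • α := ht
        have h3 : (t : G)⁻¹ * n = 1 := by
          apply hregN _ (N.mul_mem (N.inv_mem (hTle t.2)) hn) α
          rw [mul_smul, ← ht', inv_smul_smul]
        rw [inv_mul_eq_one] at h3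
        rw [← h3]
        exact t.2
      rw [← h1]; exact hTs
    exact H62.HSType.false_of_two hH hep N C hcomm hns hNc
      (fun g => Or.inl ⟨fun t ht => hN.conj_mem t ht g, fun t ht => hCn.conj_mem t ht g⟩) α

end Cfsg.Agent.S3493
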