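import Cfsg.Statements.S3496
import Mathlib
import Cfsg.Agent.Lib.H62.ConjRep
import Cfsg.Agent.Lib.H62.IrrAbelian
import Cfsg.Agent.S3495
import Cfsg.Agent.S3497
import Cfsg.Agent.Lib.H1.Solv

set_option autoImplicit false
open Cfsg

namespace Cfsg.Agent.S3496

open MulAction in
theorem core {G : Type*} [Group G] [Finite G] {Ω : Type*} [Finite Ω] [MulAction G Ω] [FaithfulSMul G Ω]
    (p d : ℕ) (hp : p.Prime) (N : Subgroup G) [N.Normal] [IsPretransitive N Ω]
    (hcomm : ∀ a ∈ N, ∀ b ∈ N, a * b = b * a) (hexp : ∀ a ∈ N, a ^ p = 1) (hNcard : Nat.card N = p ^ d)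
    (hNbot : N ≠ ⊥)
    (α ω : Ω) (hω : ω ≠ α) (M : Subgroup G) (hMle : M ≤ stabilizer G α)
    (hMn : stabilizer G α ≤ Subgroup.normalizer (M : Set G))
    (hMc : ∀ a ∈ M, ∀ b ∈ M, a * b = b * a)
    (hirr : ∀ L : Subgroup G, L ≤ N → M ≤ Subgroup.normalizer (L : Set G) → L = ⊥ ∨ L = N) :
    IsCyclic M ∧ Nat.card (stabilizer G α ⊓ stabilizer G ω : Subgroup G) ∣ d ∧
      IsCyclic (stabilizer G α ⊓ stabilizer G ω : Subgroup G) ∧
      (∀ i, 0 < i → i < d → ¬ Nat.card M ∣ p ^ i - 1) := by
  have hfact := Fact.mk hp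
  obtain ⟨V, hV1, hV2, hV3, e, ρ, he, hρ⟩ := H62.ConjRep.exists_rep N p hcomm hexp
  have he0 : ((e 0 : N) : G) = 1 := by
    have := he 0 0
    rw [add_zero] at this
    exact (mul_eq_left.mp this.symm)
  have hker : ∀ g ∈ stabilizer G α, ρ g = 1 → g = 1 := by
    intro g hg h1
    apply H62.PrimGroup.eq_one_of_centralizes (Δ := Ω) N (x := α) _ hg
    intro n hn
    have h2 := hρ g (e.symm ⟨n, hn⟩)
    rw [h1, Module.End.one_apply, e.apply_symm_apply] at h2
    exact (eq_mul_inv_iff_mul_eq.mp h2).symm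
  have hinj : ∀ S : Subgroup G, S ≤ stabilizer G α → Function.Injective (ρ.comp S.subtype) := by
    intro S hS
    rw [injective_iff_map_eq_one]
    intro s hs
    exact Subtype.ext (hker s (hS s.2) hs)
  have hVcard : Nat.card V = p ^ d := by rw [Nat.card_congr e, hNcard]
  have hVnt : Nontrivial V := by
    rw [← Finite.one_lt_card_iff_nontrivial, Nat.card_congr e, Finite.one_lt_card_iff_nontrivial]
    exact (Subgroup.nontrivial_iff_ne_bot N).mpr hNbot
  obtain ⟨n, hn⟩ := exists_smul_eq N α ω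
  have hn' : (n : G) • α = ω := hn
  have hev : e (e.symm n) = n := e.apply_symm_apply n
  have hreg : ∀ a ∈ N, a • α = α → a = 1 := by
    intro a ha h
    exact H62.PrimGroup.eq_one_of_centralizes (Δ := Ω) N (x := α) (fun b hb => hcomm a ha b hb) h
  have := H62.IrrAbelian.main (p := p) (d := d) (V := V) (M := M)
    (K := (stabilizer G α ⊓ stabilizer G ω : Subgroup G))
    (fun a b => Subtype.ext (hMc a a.2 b b.2)) hVcard (ρ.comp M.subtype) (hinj M hMle) (by
      intro W hW
      let L : Subgroup G :=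
        { carrier := {x | ∃ v ∈ W, ((e v : N) : G) = x}
          one_mem' := ⟨0, W.zero_mem, he0⟩
          mul_mem' := by
            rintro _ _ ⟨v, hv, rfl⟩ ⟨w, hw, rfl⟩
            exact ⟨v + w, W.add_mem hv hw, he v w⟩
          inv_mem' := by
            rintro _ ⟨v, hv, rfl⟩
            refine ⟨-v, W.neg_mem hv, ?_⟩
            rw [eq_inv_iff_mul_eq_one, ← he, neg_add_cancel, he0] }
      have hL : ∀ v, ((e v : N) : G) ∈ L → v ∈ W := by
        rintro v ⟨w, hw, hwv⟩
        have : w = v := e.injective (Subtype.ext hwv)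
        rwa [← this]
      rcases hirr L (by rintro _ ⟨v, _, rfl⟩; exact (e v).2) (by
        rw [Subgroup.le_normalizer_iff]
        rintro m hm _ ⟨v, hv, rfl⟩
        exact ⟨ρ m v, hW ⟨m, hm⟩ v hv, hρ m v⟩) with h | h
      · left
        rw [eq_bot_iff]
        intro v hv
        have h1 : ((e v : N) : G) ∈ L := ⟨v, hv, rfl⟩
        rw [h, Subgroup.mem_bot, ← he0] at h1
        exact (Submodule.mem_bot _).mpr (e.injective (Subtype.ext h1))
      · right
        rw [eq_top_iff]
        intro v _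
        apply hL
        rw [h]
        exact (e v).2) (ρ.comp (Subgroup.subtype _)) (hinj _ inf_le_left) (by
      intro k m
      refine ⟨⟨k * m * k⁻¹, (Subgroup.le_normalizer_iff.mp hMn) k k.2.1 m m.2⟩, ?_⟩
      change ρ k * ρ m = ρ ((k : G) * m * (k : G)⁻¹) * ρ k
      rw [← map_mul, ← map_mul, inv_mul_cancel_right]) (e.symm n) (by
      intro h0
      have h1 := congrArg e h0
      rw [hev] at h1
      rw [h1, he0, one_smul] at hn'
      exact hω hn'.symm) (by
      intro k
      apply e.injective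
      apply Subtype.ext
      change ((e (ρ k (e.symm n)) : N) : G) = _
      rw [hρ, hev]
      have h1 : (k : G) * n * (k : G)⁻¹ ∈ N := ‹N.Normal›.conj_mem _ n.2 _
      have h2 : (n : G)⁻¹ * ((k : G) * n * (k : G)⁻¹) = 1 := by
        apply hreg _ (N.mul_mem (N.inv_mem n.2) h1)
        have hkα : (k : G)⁻¹ • α = α := by
          rw [inv_smul_eq_iff]; exact (mem_stabilizer_iff.mp k.2.1).symm
        have hkω : (k : G) • ω = ω := mem_stabilizer_iff.mp k.2.2
        rw [mul_smul, mul_smul, mul_smul, hkα, hn', hkω, inv_smul_eq_iff, hn']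
      exact (inv_mul_eq_one.mp h2).symm)
  exact this

/-- The soluble extremely primitive groups. Let a finite solvable group G act faithfully and primitively on a finite set Ω with p ^ d points (p prime), with non-trivial point stabilizers each acting primitively on every one of its orbits. Then there is a prime q such that every orbit of a point stabilizer G_α other than {α} has exactly q points, q divides p ^ d − 1 but no p ^ i − 1 with 0 < i < d, and G_α has a normal subgroup T of order q with G_α generated by T and one further element and the order of G_α dividing q·d (so G_α is cyclic of order q, or an extension of T by a cyclic group of order dividing d). -/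
theorem result {G : Type*} [Group G] [Finite G] {Ω : Type*} [Fintype Ω] [MulAction G Ω] [FaithfulSMul G Ω] [Group.IsSolvable G] (p d : ℕ) (hp : p.Prime) (hcard : Fintype.card Ω = p ^ d)
    (hprim : MulAction.IsPreprimitive G Ω) (hH : ∀ α : Ω, MulAction.stabilizer G α ≠ ⊥) (hep : ∀ (α : Ω) (ω : Ω), MulAction.IsPreprimitive (MulAction.stabilizer G α) (MulAction.orbit (MulAction.stabilizer G α) ω)) (α : Ω) :
    ∃ q : ℕ, q.Prime ∧ (∀ ω : Ω, ω ≠ α → Nat.card (MulAction.orbit (MulAction.stabilizer G α) ω) = q) ∧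
      q ∣ p ^ d - 1 ∧ (∀ i : ℕ, 0 < i → i < d → ¬ q ∣ p ^ i - 1) ∧
      ∃ T : Subgroup G, T ≤ MulAction.stabilizer G α ∧ MulAction.stabilizer G α ≤ Subgroup.normalizer (T : Set G) ∧ Nat.card T = q ∧
        (∃ h : G, MulAction.stabilizer G α = T ⊔ Subgroup.zpowers h) ∧ Nat.card (MulAction.stabilizer G α) ∣ q * d := by
  classical
  have hfact := Fact.mk hp
  -- a point different from α
  obtain ⟨ω, hω⟩ : ∃ ω : Ω, ω ≠ α := by
    by_contra hcon
    push Not at hcon
    apply hH α
    rw [eq_bot_iff]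
    intro g _
    rw [Subgroup.mem_bot]
    apply FaithfulSMul.eq_of_smul_eq_smul (α := Ω)
    intro x
    rw [hcon x, hcon (g • α), one_smul]
  have hGbot : (⊤ : Subgroup G) ≠ ⊥ := by
    intro h
    apply hH α
    rw [eq_bot_iff, ← h]
    exact le_top
  obtain ⟨N, hNn, -, hNbot, hNmin⟩ := H62.ConjRep.exists_minimal (⊤ : Subgroup G) hGbot
  obtain ⟨hNab, p', hp', hNexp⟩ := H1.Solv.minimal_normal_elementary ‹Group.IsSolvable G› N hNbot hNmin
  have hNtr : MulAction.IsPretransitive N Ω := H62.PrimGroup.normal_transitive (Δ := Ω) N hNbot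
  have hNcomm : ∀ a ∈ N, ∀ b ∈ N, a * b = b * a := fun a ha b hb =>
    congrArg Subtype.val (hNab.is_comm.comm ⟨a, ha⟩ ⟨b, hb⟩)
  have hne : Nonempty Ω := ⟨α⟩
  have hNcard : Nat.card N = p ^ d := by
    rw [H62.PrimGroup.card_eq_of_comm (Δ := Ω) N hNcomm, Nat.card_eq_fintype_card, hcard]
  have hreg : ∀ ω : Ω, MulAction.stabilizer N ω = ⊥ := by
    intro x
    rw [eq_bot_iff]
    intro a ha
    rw [Subgroup.mem_bot]
    apply Subtype.ext
    exact H62.PrimGroup.eq_one_of_centralizes (Δ := Ω) N (x := x) (fun b hb => hNcomm a a.2 b hb) ha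
  have hpp : p' = p := by
    have hfact' := Fact.mk hp'
    have h1 : Nontrivial N := (Subgroup.nontrivial_iff_ne_bot N).mpr hNbot
    obtain ⟨x, hx⟩ := exists_ne (1 : N)
    have h2 : orderOf x = p' := orderOf_eq_prime (Subtype.ext (hNexp x x.2)) hx
    have h3 : p' ∣ p ^ d := by
      rw [← h2, ← hNcard]
      exact orderOf_dvd_natCard x
    exact (Nat.prime_dvd_prime_iff_eq hp' hp).mp (hp'.dvd_of_dvd_pow h3)
  rw [hpp] at hNexp
  -- minimal normal subgroup of the stabilizer
  set H := MulAction.stabilizer G α with hHdef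
  have hHtop : (⊤ : Subgroup H) ≠ ⊥ := by
    intro h
    apply hH α
    rw [← hHdef]
    have := (Subgroup.nontrivial_iff_ne_bot H).mpr (hH α)
    exact absurd h (by exact top_ne_bot)
  obtain ⟨M', hM'n, -, hM'bot, hM'min⟩ := H62.ConjRep.exists_minimal (⊤ : Subgroup H) hHtop
  have hHs : Group.IsSolvable H := inferInstance
  obtain ⟨hM'ab, q, hq, hM'exp⟩ := H1.Solv.minimal_normal_elementary hHs M' hM'bot hM'min
  set M : Subgroup G := M'.map H.subtype with hMdef
  have hMle : M ≤ H := by
    rintro _ ⟨m, _, rfl⟩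
    exact m.2
  have hMn : H ≤ Subgroup.normalizer (M : Set G) := by
    rw [Subgroup.le_normalizer_iff]
    rintro h hh _ ⟨m, hm, rfl⟩
    exact ⟨⟨h, hh⟩ * m * ⟨h, hh⟩⁻¹, hM'n.conj_mem m hm ⟨h, hh⟩, rfl⟩
  have hMbot : M ≠ ⊥ := by
    intro h
    rw [hMdef, Subgroup.map_eq_bot_iff_of_injective _ H.subtype_injective] at h
    exact hM'bot h
  have hMcomm : ∀ a ∈ M, ∀ b ∈ M, a * b = b * a := by
    rintro _ ⟨a, ha, rfl⟩ _ ⟨b, hb, rfl⟩
    exact congrArg (fun z : M' => ((z : H) : G)) (hM'ab.is_comm.comm ⟨a, ha⟩ ⟨b, hb⟩)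
  have hMexp : ∀ a ∈ M, a ^ q = 1 := by
    rintro _ ⟨a, ha, rfl⟩
    exact congrArg Subtype.val (hM'exp a ha)
  obtain ⟨horb, hirr⟩ := Cfsg.Agent.S3495.result hprim hH hep N hNab p hp hNexp hNtr hreg α M hMbot hMle hMn
  have hcore := fun ω hω => core p d hp N hNcomm hNexp hNcard hNbot α ω hω M hMle hMn hMcomm hirr
  have hMcyc : IsCyclic M := (hcore ω hω).1
  have hMcard : Nat.card M = q := by
    obtain ⟨g, hg⟩ := hMcyc.exists_generator
    have h1 : orderOf g = Nat.card M := orderOf_eq_card_of_forall_mem_zpowers hg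
    rw [← h1]
    have hfactq := Fact.mk hq
    apply orderOf_eq_prime (Subtype.ext (hMexp g g.2))
    rintro rfl
    rw [orderOf_one] at h1
    exact hMbot (Subgroup.card_eq_one.mp h1.symm)
  have horbcard : ∀ ω : Ω, ω ≠ α → Nat.card (MulAction.orbit H ω) = q := by
    intro ω hω
    rw [← horb ω]
    have h1 := MulAction.index_stabilizer M ω
    have h2 := (MulAction.stabilizer M ω).index_dvd_card
    rw [hMcard] at h2
    rw [h1] at h2
    rcases (Nat.dvd_prime hq).mp h2 with h3 | h3
    · exfalso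
      obtain ⟨h, hh, hmv⟩ := H62.ExtPrim.exists_moves (hH α) hω
      rw [Set.ncard_eq_one] at h3
      obtain ⟨x, hx⟩ := h3
      have h4 : ω ∈ MulAction.orbit M ω := MulAction.mem_orbit_self ω
      have h5 : h • ω ∈ MulAction.orbit M ω := by
        rw [horb]
        exact ⟨⟨h, hh⟩, rfl⟩
      rw [hx] at h4 h5
      exact hmv (h5.trans h4.symm)
    · exact h3
  refine ⟨q, hq, horbcard, ?_, ?_, M, hMle, hMn, hMcard, ?_, ?_⟩
  · have h1 : p ^ d - 1 = ({α}ᶜ : Set Ω).ncard := by
      rw [Set.ncard_compl, Set.ncard_singleton, Nat.card_eq_fintype_card, hcard]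
    rw [h1]
    apply H62.DerIndex.dvd_ncard_of_dvd_orbit (H := H) _ _ _ rfl
    · intro h x hx hmem
      apply hx
      have h2 : (h : G) • x = α := hmem
      have h3 : (h : G) • α = α := h.2
      exact smul_left_cancel (h : G) (h2.trans h3.symm)
    · intro x hx
      rw [← horbcard x hx]
      rfl
  · have := (hcore ω hω).2.2.2
    rwa [hMcard] at this
  · obtain ⟨k, hk⟩ := (hcore ω hω).2.2.1.exists_generator
    refine ⟨k, ?_⟩
    apply le_antisymm
    · intro h hh
      have h1 : h • ω ∈ MulAction.orbit M ω := by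
        rw [horb]
        exact ⟨⟨h, hh⟩, rfl⟩
      obtain ⟨m, hm⟩ := h1
      have hm' : (m : G) • ω = h • ω := hm
      have h2 : (m : G)⁻¹ * h ∈ H ⊓ MulAction.stabilizer G ω := by
        refine ⟨H.mul_mem (H.inv_mem (hMle m.2)) hh, ?_⟩
        change ((m : G)⁻¹ * h) • ω = ω
        rw [mul_smul, ← hm', inv_smul_smul]
      obtain ⟨j, hj⟩ := hk ⟨_, h2⟩
      have hj' : (k : G) ^ j = (m : G)⁻¹ * h := congrArg Subtype.val hj
      have h3 : h = (m : G) * (k : G) ^ j := by rw [hj']; group
      rw [h3]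
      exact Subgroup.mul_mem _ (Subgroup.mem_sup_left m.2)
        (Subgroup.mem_sup_right (Subgroup.zpow_mem _ (Subgroup.mem_zpowers _) j))
    · rw [sup_le_iff]
      refine ⟨hMle, ?_⟩
      rw [Subgroup.zpowers_le]
      exact k.2.1
  · have h1 := MulAction.index_stabilizer H ω
    have h2 := (MulAction.stabilizer H ω).card_mul_index
    rw [h1] at h2
    have h3 : (MulAction.orbit H ω).ncard = q := horbcard ω hω
    rw [h3] at h2
    have h4 : Nat.card (MulAction.stabilizer H ω) = Nat.card (H ⊓ MulAction.stabilizer G ω : Subgroup G) := by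
      apply Nat.card_congr
      exact
        { toFun := fun x => ⟨x.1.1, x.1.2, x.2⟩
          invFun := fun x => ⟨⟨x.1, x.2.1⟩, x.2.2⟩
          left_inv := fun x => rfl
          right_inv := fun x => rfl }
    rw [← h2, h4, mul_comm]
    exact Nat.mul_dvd_mul_left q (hcore ω hω).2.1

end Cfsg.Agent.S3496
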