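import Cfsg.Statements.S3501
import Mathlib
import Cfsg.Agent.Lib.H62.AffineDer

set_option autoImplicit false
open Cfsg

namespace Cfsg.Agent.S3501

open MulAction in
/-- In a sharply 2-transitive group any two derangements are conjugate. -/
theorem isConj_of_sharp {G : Type*} [Group G] [Finite G] {Ω : Type*} [Fintype Ω] [MulAction G Ω] [FaithfulSMul G Ω]
    (hΩ : 2 ≤ Fintype.card Ω) (h2 : IsMultiplyPretransitive G Ω 2)
    (hs : ∀ g : G, g ≠ 1 → ∀ a b : Ω, a ≠ b → g • a = a → g • b ≠ b)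
    (d e : G) (hd : ∀ ω : Ω, d • ω ≠ ω) (he : ∀ ω : Ω, e • ω ≠ ω) : IsConj d e := by
  classical
  have := Fintype.ofFinite G
  have htr : IsPretransitive G Ω := isPretransitive_of_is_two_pretransitive
  have hnt : Nontrivial Ω := Fintype.one_lt_card_iff_nontrivial.mp (by omega)
  have hne : Nonempty Ω := inferInstance
  obtain ⟨α⟩ := hne
  have hne : Nonempty Ω := ⟨α⟩
  rw [is_two_pretransitive_iff] at h2
  set n := Fintype.card Ω with hn
  have hle : ∀ g : G, g ≠ 1 → Nat.card (fixedBy Ω g) ≤ 1 := by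
    intro g hg
    rw [Finite.card_le_one_iff_subsingleton]
    constructor
    rintro ⟨a, ha⟩ ⟨b, hb⟩
    by_contra hab
    exact hs g hg a b (fun h => hab (Subtype.ext h)) ha hb
  -- |G| = n (n - 1)
  have hcardG : Nat.card G = n * (n - 1) := by
    obtain ⟨β, hβ⟩ := exists_ne α
    have h3 := index_stabilizer G α
    have h4 := index_stabilizer (stabilizer G α) β
    have h5 : orbit (stabilizer G α) β = {α}ᶜ := by
      ext x
      constructor
      · rintro ⟨h, rfl⟩ hmem
        apply hβ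
        have h6 : (h : G) • β = α := hmem
        have h7 : (h : G) • α = α := h.2
        exact smul_left_cancel (h : G) (h6.trans h7.symm)
      · intro hx
        obtain ⟨g, hg1, hg2⟩ := h2 hβ.symm (fun h => hx h.symm : α ≠ x)
        exact ⟨⟨g, hg1⟩, hg2⟩
    have h6 : stabilizer (stabilizer G α) β = ⊥ := by
      rw [eq_bot_iff]
      intro x hx
      rw [Subgroup.mem_bot]
      by_contra hne
      exact hs x (fun h => hne (Subtype.ext h)) α β hβ.symm x.2 hx
    rw [h5, h6, Subgroup.index_bot, Set.ncard_compl, Set.ncard_singleton, Nat.card_eq_fintype_card (α := Ω)] at h4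
    rw [orbit_eq_univ, Set.ncard_univ, Nat.card_eq_fintype_card (α := Ω)] at h3
    rw [← (stabilizer G α).card_mul_index, h3, h4, mul_comm]
  -- number of derangements
  have hD : ({g : G | ∀ ω : Ω, g • ω ≠ ω} : Set G).ncard ≤ n - 1 := by
    have htop : IsPretransitive (⊤ : Subgroup G) Ω := by
      constructor
      intro a b
      obtain ⟨g, hg⟩ := exists_smul_eq G a b
      exact ⟨⟨g, trivial⟩, hg⟩
    have hsum := H62.Derangement.sum_fixed_coset (Ω := Ω) (⊤ : Subgroup G) 1
    rw [Subgroup.card_top] at hsum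
    have hsum' : ∑ g : G, Nat.card (fixedBy Ω g) = Nat.card G := by
      rw [← hsum]
      symm
      apply Fintype.sum_equiv Subgroup.topEquiv.toEquiv
      intro x
      rw [mul_one]
      rfl
    have hpt : ∀ g : G, Nat.card (fixedBy Ω g) + (if (∀ ω : Ω, g • ω ≠ ω) then 1 else 0) ≤
        1 + (if g = 1 then n - 1 else 0) := by
      intro g
      by_cases hg : g = 1
      · subst hg
        have h1 : ¬ ∀ ω : Ω, (1 : G) • ω ≠ ω := fun h => h α (one_smul _ _)
        rw [if_neg h1, if_pos rfl]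
        have h3 : Nat.card (fixedBy Ω (1 : G)) ≤ n := by
          rw [hn, ← Nat.card_eq_fintype_card]
          exact Finite.card_subtype_le _
        omega
      · rw [if_neg hg]
        by_cases hdg : ∀ ω : Ω, g • ω ≠ ω
        · rw [if_pos hdg, H62.AffineDer.card_fixedBy_eq_zero hdg]
        · rw [if_neg hdg]
          have := hle g hg
          omega
    have h3 := Finset.sum_le_sum (fun g (_ : g ∈ (Finset.univ : Finset G)) => hpt g)
    rw [Finset.sum_add_distrib, Finset.sum_add_distrib, hsum', Finset.sum_ite_eq' , Finset.sum_const,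
      Finset.card_univ, smul_eq_mul, mul_one, ← Nat.card_eq_fintype_card, Finset.sum_ite] at h3
    simp only [Finset.mem_univ, if_true, Finset.sum_const, smul_eq_mul, mul_one, mul_zero, add_zero] at h3
    have h4 : ({g : G | ∀ ω : Ω, g • ω ≠ ω} : Set G).ncard = (Finset.univ.filter (fun g : G => ∀ ω : Ω, g • ω ≠ ω)).card := by
      rw [← Set.ncard_coe_finset]
      congr 1
      ext g
      simp
    rw [h4]
    omega
  -- sizes of classes
  have hcls : ∀ g : G, (∀ ω : Ω, g • ω ≠ ω) → n - 1 ≤ (orbit (ConjAct G) g).ncard := by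
    intro g hg
    have h3 := index_stabilizer (ConjAct G) g
    have h4 := (stabilizer (ConjAct G) g).card_mul_index
    have h5 : Nat.card (ConjAct G) = n * (n - 1) := hcardG
    have h6 : Nat.card (stabilizer (ConjAct G) g) ≤ n := by
      rw [hn, ← Nat.card_eq_fintype_card]
      apply Nat.card_le_card_of_injective (fun c : stabilizer (ConjAct G) g => (ConjAct.ofConjAct (c : ConjAct G)) • α)
      have hcc : ∀ c : stabilizer (ConjAct G) g, ConjAct.ofConjAct (c : ConjAct G) * g = g * ConjAct.ofConjAct (c : ConjAct G) := by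
        intro c
        have h1 := mem_stabilizer_iff.mp c.2
        rw [ConjAct.smul_def] at h1
        exact mul_inv_eq_iff_eq_mul.mp h1
      intro c c' hcc'
      have h1 := hcc c
      have h1' := hcc c'
      simp only at hcc'
      set x := ConjAct.ofConjAct (c : ConjAct G)
      set y := ConjAct.ofConjAct (c' : ConjAct G)
      have h2 : (y⁻¹ * x) • α = α := by rw [mul_smul, hcc', inv_smul_smul]
      have h2' : (y⁻¹ * x) * g = g * (y⁻¹ * x) := by
        rw [mul_assoc, h1, ← mul_assoc, ← mul_assoc]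
        congr 1
        rw [inv_mul_eq_iff_eq_mul, ← mul_assoc, h1', mul_inv_cancel_right]
      have h7 : (y⁻¹ * x) • (g • α) = g • α := by rw [← mul_smul, h2', mul_smul, h2]
      have h8 : y⁻¹ * x = 1 := by
        by_contra hne
        exact hs _ hne α (g • α) (hg α).symm h2 h7
      rw [inv_mul_eq_one] at h8
      apply Subtype.ext
      exact h8.symm
    rw [h3, h5] at h4
    by_contra hcon
    push Not at hcon
    have h7 : Nat.card (stabilizer (ConjAct G) g) * (orbit (ConjAct G) g).ncard < n * (n - 1) := by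
      calc Nat.card (stabilizer (ConjAct G) g) * (orbit (ConjAct G) g).ncard
          ≤ n * (orbit (ConjAct G) g).ncard := Nat.mul_le_mul_right _ h6
        _ < n * (n - 1) := Nat.mul_lt_mul_of_pos_left hcon (by omega)
    omega
  by_contra hcon
  have hdisj : Disjoint (orbit (ConjAct G) d) (orbit (ConjAct G) e) := by
    rw [Set.disjoint_left]
    rintro x ⟨a, rfl⟩ ⟨b, hb⟩
    apply hcon
    have h1 : b • e = a • d := hb
    have h3 : (b⁻¹ * a) • d = e := by rw [mul_smul, ← h1, inv_smul_smul]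
    rw [ConjAct.smul_def] at h3
    exact isConj_iff.mpr ⟨_, h3⟩
  have hsub : ∀ g : G, (∀ ω : Ω, g • ω ≠ ω) → orbit (ConjAct G) g ⊆ {g : G | ∀ ω : Ω, g • ω ≠ ω} := by
    rintro g hg _ ⟨a, rfl⟩ ω hω
    change (a • g) • ω = ω at hω
    rw [ConjAct.smul_def, mul_smul, mul_smul] at hω
    apply hg ((ConjAct.ofConjAct a)⁻¹ • ω)
    rw [eq_inv_smul_iff]
    exact hω
  have h3 := Set.ncard_le_ncard (Set.union_subset (hsub d hd) (hsub e he)) (Set.toFinite _)
  rw [Set.ncard_union_eq hdisj] at h3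
  have h4 := hcls d hd
  have h5 := hcls e he
  omega

theorem result {G : Type*} [Group G] [Finite G] {Ω : Type*} [Fintype Ω] [MulAction G Ω] [FaithfulSMul G Ω] (hΩ : 2 ≤ Fintype.card Ω) (hprim : MulAction.IsPreprimitive G Ω) (hnas : ¬ ∃ T : Subgroup G, T.Normal ∧ IsSimpleGroup T ∧ ¬ IsMulCommutative T ∧ Subgroup.centralizer (T : Set G) = ⊥) :
    Nat.card {c : ConjClasses G // ∃ g : G, ConjClasses.mk g = c ∧ ∀ ω : Ω, g • ω ≠ ω} = 1 ↔ (MulAction.IsMultiplyPretransitive G Ω 2 ∧ ∀ g : G, g ≠ 1 → ∀ a b : Ω, a ≠ b → g • a = a → g • b ≠ b) := by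
  classical
  have hnt : Nontrivial Ω := Fintype.one_lt_card_iff_nontrivial.mp (by omega)
  have hne : Nonempty Ω := inferInstance
  obtain ⟨α⟩ := hne
  have hne : Nonempty Ω := ⟨α⟩
  have hGbot : (⊤ : Subgroup G) ≠ ⊥ := by
    intro h
    obtain ⟨β, hβ⟩ := exists_ne α
    obtain ⟨g, hg⟩ := MulAction.exists_smul_eq G α β
    have hg1 : g ∈ (⊥ : Subgroup G) := by rw [← h]; trivial
    rw [Subgroup.mem_bot] at hg1
    rw [hg1, one_smul] at hg
    exact hβ hg.symm
  constructor
  · intro hκ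
    obtain ⟨N, hN, -, hNbot, hNmin⟩ := H62.ConjRep.exists_minimal (⊤ : Subgroup G) hGbot
    have hmin : ∀ M : Subgroup G, M.Normal → M ≤ N → M ≠ ⊥ → M = N := fun M h1 h2 h3 =>
      (hNmin M h1 h2).resolve_left h3
    have hNtr : MulAction.IsPretransitive N Ω := H62.PrimGroup.normal_transitive (Δ := Ω) N hNbot
    have hc : ∀ a ∈ N, ∀ b ∈ N, a * b = b * a := by
      by_contra hNc
      obtain ⟨x, hx, hxc⟩ := H62.DerClasses.exists_three (Ω := Ω) N hN hNbot hmin hNc hnas
      have := H62.DerClasses.three_le_card (Ω := Ω) hx hxc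
      omega
    have hall : ∀ x y : G, (∀ ω : Ω, x • ω ≠ ω) → (∀ ω : Ω, y • ω ≠ ω) → IsConj x y := by
      intro x y hx hy
      rw [Nat.card_eq_one_iff_unique] at hκ
      have hsub := hκ.1
      have h1 : (⟨ConjClasses.mk x, x, rfl, hx⟩ : {c : ConjClasses G // ∃ g : G, ConjClasses.mk g = c ∧ ∀ ω : Ω, g • ω ≠ ω})
        = ⟨ConjClasses.mk y, y, rfl, hy⟩ := Subsingleton.elim _ _
      rw [← ConjClasses.mk_eq_mk_iff_isConj]
      exact congrArg Subtype.val h1
    have hconj : ∀ a ∈ N, ∀ b ∈ N, a ≠ 1 → b ≠ 1 → IsConj a b := fun a ha b hb ha1 hb1 =>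
      hall a b (H62.AffineDer.not_fixed_of_mem N hc ha ha1) (H62.AffineDer.not_fixed_of_mem N hc hb hb1)
    have hD : ∀ g : G, (∀ ω : Ω, g • ω ≠ ω) → g ∈ N := by
      intro g hg
      obtain ⟨n, hn, hn1⟩ : ∃ n ∈ N, n ≠ 1 := by
        by_contra hcon
        push Not at hcon
        exact hNbot ((Subgroup.eq_bot_iff_forall _).mpr hcon)
      obtain ⟨y, hy⟩ := isConj_iff.mp (hall n g (H62.AffineDer.not_fixed_of_mem N hc hn hn1) hg)
      rw [← hy]
      exact hN.conj_mem n hn y
    refine ⟨H62.AffineDer.two_transitive N hc hconj, ?_⟩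
    intro g hg a b hab ha hb
    have h1 := H62.AffineDer.le_one_of_derangements_le (Ω := Ω) N hc hD g hg
    rw [Finite.card_le_one_iff_subsingleton] at h1
    have h2 : (⟨a, ha⟩ : MulAction.fixedBy Ω g) = ⟨b, hb⟩ := Subsingleton.elim _ _
    exact hab (congrArg Subtype.val h2)
  · rintro ⟨h2, hs⟩
    rw [Nat.card_eq_one_iff_unique]
    obtain ⟨d, hd⟩ := H62.Derangement.jordan (G := G) (Ω := Ω) (by rw [Nat.card_eq_fintype_card]; exact hΩ)
    refine ⟨⟨?_⟩, ⟨⟨ConjClasses.mk d, d, rfl, hd⟩⟩⟩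
    rintro ⟨_, x, rfl, hx⟩ ⟨_, y, rfl, hy⟩
    apply Subtype.ext
    rw [ConjClasses.mk_eq_mk_iff_isConj]
    exact isConj_of_sharp hΩ h2 hs x y hx hy

end Cfsg.Agent.S3501
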