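import Cfsg.Statements.S3520
import Mathlib
import Cfsg.Agent.Lib.H62.AffineDer

set_option autoImplicit false
open Cfsg

namespace Cfsg.Agent.S3520

open MulAction in
theorem affine_part {G : Type*} [Group G] [Finite G] {Ω : Type*} [Finite Ω] [MulAction G Ω] [FaithfulSMul G Ω]
    [IsPreprimitive G Ω] (N : Subgroup G) (hNbot : N ≠ ⊥) (hc : ∀ a ∈ N, ∀ b ∈ N, a * b = b * a)
    [IsPretransitive N Ω] : (∀ ω : Ω, stabilizer N ω = ⊥) := by
  intro ω
  rw [eq_bot_iff]
  intro x hx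
  rw [Subgroup.mem_bot]
  by_contra hne
  exact H62.AffineDer.not_fixed_of_mem N hc x.2 (fun h => hne (Subtype.ext h)) ω hx

open MulAction in
theorem card_fiber {G : Type*} [Group G] [Finite G] {Ω : Type*} [Finite Ω] [MulAction G Ω] [FaithfulSMul G Ω]
    (N : Subgroup G) [N.Normal] (hc : ∀ a ∈ N, ∀ b ∈ N, a * b = b * a)
    [IsPretransitive N Ω] (hle : ∀ g : G, g ≠ 1 → Nat.card (fixedBy Ω g) ≤ 1) (α : Ω)
    (c : ConjClasses G) (hcc : ∃ g : G, ConjClasses.mk g = c ∧ g ∈ N ∧ g ≠ 1) :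
    Nat.card {x : {x : G // x ∈ N ∧ x ≠ 1} // ConjClasses.mk (x : G) = c} = Nat.card (stabilizer G α) := by
  obtain ⟨g, rfl, hg, hg1⟩ := hcc
  symm
  have hne : ∀ h : G, h * g * h⁻¹ ≠ 1 := by
    intro h hh
    rw [mul_inv_eq_one, mul_eq_left] at hh
    exact hg1 hh
  let f : stabilizer G α → {x : {x : G // x ∈ N ∧ x ≠ 1} // ConjClasses.mk (x : G) = ConjClasses.mk g} :=
    fun h => ⟨⟨(h : G) * g * (h : G)⁻¹, ‹N.Normal›.conj_mem g hg h, hne h⟩, by
      rw [ConjClasses.mk_eq_mk_iff_isConj]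
      exact (isConj_iff.mpr ⟨(h : G), rfl⟩ : IsConj g ((h : G) * g * (h : G)⁻¹)).symm⟩
  apply Nat.card_congr
  apply Equiv.ofBijective f
  constructor
  · intro h k hhk
    have h1 : (h : G) * g * (h : G)⁻¹ = (k : G) * g * (k : G)⁻¹ := congrArg (fun z => z.1.1) hhk
    set u : G := (k : G)⁻¹ * h with hu
    have h2 : u * g = g * u := by
      rw [hu]
      have := congrArg (fun z => (k : G)⁻¹ * z * h) h1
      have e1 : (k : G)⁻¹ * ((h : G) * g * (h : G)⁻¹) * h = (k : G)⁻¹ * h * g := by group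
      have e2 : (k : G)⁻¹ * ((k : G) * g * (k : G)⁻¹) * h = g * ((k : G)⁻¹ * h) := by group
      rw [e1, e2] at this
      exact this
    have h3 : u • α = α := by
      rw [hu, mul_smul, mem_stabilizer_iff.mp h.2, inv_smul_eq_iff, mem_stabilizer_iff.mp k.2]
    have h4 : u • (g • α) = g • α := by
      rw [← mul_smul, h2, mul_smul, h3]
    by_cases hu1 : u = 1
    · apply Subtype.ext
      rw [hu, inv_mul_eq_one] at hu1
      exact hu1.symm
    · exfalso
      have h5 := hle u hu1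
      have h6 : g • α ≠ α := H62.AffineDer.not_fixed_of_mem N hc hg hg1 α
      have h7 : 2 ≤ Nat.card (fixedBy Ω u) := by
        have hsub : ({g • α, α} : Set Ω) ⊆ fixedBy Ω u := by
          rintro x (rfl | rfl)
          · exact h4
          · exact h3
        have h8 := Set.ncard_le_ncard hsub (Set.toFinite _)
        rw [Set.ncard_pair h6] at h8
        exact h8
      omega
  · rintro ⟨⟨x, hx, hx1⟩, hxc⟩
    simp only [ConjClasses.mk_eq_mk_iff_isConj] at hxc
    obtain ⟨y, hy⟩ := isConj_iff.mp hxc.symm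
    obtain ⟨m, hm⟩ := exists_smul_eq N α (y • α)
    have hm' : (m : G) • α = y • α := hm
    refine ⟨⟨(m : G)⁻¹ * y, ?_⟩, ?_⟩
    · rw [mem_stabilizer_iff, mul_smul, ← hm', inv_smul_smul]
    · apply Subtype.ext
      apply Subtype.ext
      change (m : G)⁻¹ * y * g * ((m : G)⁻¹ * y)⁻¹ = x
      have e : (m : G)⁻¹ * y * g * ((m : G)⁻¹ * y)⁻¹ = (m : G)⁻¹ * (y * g * y⁻¹) * m := by group
      rw [e, hy, mul_assoc, hc x hx m m.2, inv_mul_cancel_left]

theorem result {G : Type*} [Group G] [Finite G] {Ω : Type*} [Fintype Ω] [MulAction G Ω] [FaithfulSMul G Ω] (hΩ : 2 ≤ Fintype.card Ω) (hprim : MulAction.IsPreprimitive G Ω) (hnas : ¬ ∃ T : Subgroup G, T.Normal ∧ IsSimpleGroup T ∧ ¬ IsMulCommutative T ∧ Subgroup.centralizer (T : Set G) = ⊥)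
    (hκ : Nat.card {c : ConjClasses G // ∃ g : G, ConjClasses.mk g = c ∧ ∀ ω : Ω, g • ω ≠ ω} = 2) (α : Ω) :
    (Fintype.card Ω = 3 ∧ Nat.card G = 3) ∨
    ((∃ N : Subgroup G, N.Normal ∧ N ≠ ⊥ ∧ IsMulCommutative N ∧ ∀ ω : Ω, MulAction.stabilizer N ω = ⊥) ∧ (∀ g : G, g ≠ 1 → Nat.card (MulAction.fixedBy Ω g) ≤ 1) ∧ ¬ 2 ∣ Fintype.card Ω ∧
        2 * Nat.card (MulAction.stabilizer G α) = Fintype.card Ω - 1) ∨
    ((∃ N : Subgroup G, N.Normal ∧ N ≠ ⊥ ∧ IsMulCommutative N ∧ ∀ ω : Ω, MulAction.stabilizer N ω = ⊥) ∧ MulAction.IsMultiplyPretransitive G Ω 2 ∧ ∃ g : G, g ≠ 1 ∧ 2 ≤ Nat.card (MulAction.fixedBy Ω g)) := by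
  classical
  have hne : Nonempty Ω := ⟨α⟩
  have hGbot : (⊤ : Subgroup G) ≠ ⊥ := by
    intro h
    have : Nontrivial Ω := Fintype.one_lt_card_iff_nontrivial.mp (by omega)
    obtain ⟨β, hβ⟩ := exists_ne α
    obtain ⟨g, hg⟩ := MulAction.exists_smul_eq G α β
    have hg1 : g ∈ (⊥ : Subgroup G) := by rw [← h]; trivial
    rw [Subgroup.mem_bot] at hg1
    rw [hg1, one_smul] at hg
    exact hβ hg.symm
  obtain ⟨N, hN, -, hNbot, hNmin⟩ := H62.ConjRep.exists_minimal (⊤ : Subgroup G) hGbot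
  have hmin : ∀ M : Subgroup G, M.Normal → M ≤ N → M ≠ ⊥ → M = N := fun M h1 h2 h3 =>
    (hNmin M h1 h2).resolve_left h3
  have hNtr : MulAction.IsPretransitive N Ω := H62.PrimGroup.normal_transitive (Δ := Ω) N hNbot
  have hc : ∀ a ∈ N, ∀ b ∈ N, a * b = b * a := by
    by_contra hNc
    obtain ⟨x, hx, hxc⟩ := H62.DerClasses.exists_three (Ω := Ω) N hN hNbot hmin hNc hnas
    have := H62.DerClasses.three_le_card (Ω := Ω) hx hxc
    omega
  have haff : ∃ N : Subgroup G, N.Normal ∧ N ≠ ⊥ ∧ IsMulCommutative N ∧ ∀ ω : Ω, MulAction.stabilizer N ω = ⊥ :=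
    ⟨N, hN, hNbot, ⟨⟨fun a b => Subtype.ext (hc a a.2 b b.2)⟩⟩, affine_part N hNbot hc⟩
  right
  by_cases hD : ∀ g : G, (∀ ω : Ω, g • ω ≠ ω) → g ∈ N
  · left
    have hle := H62.AffineDer.le_one_of_derangements_le (Ω := Ω) N hc hD
    have hcard : Nat.card {x : G // x ∈ N ∧ x ≠ 1} = 2 * Nat.card (MulAction.stabilizer G α) := by
      let f : {x : G // x ∈ N ∧ x ≠ 1} → {c : ConjClasses G // ∃ g : G, ConjClasses.mk g = c ∧ ∀ ω : Ω, g • ω ≠ ω} :=
        fun x => ⟨ConjClasses.mk (x : G), x, rfl, H62.AffineDer.not_fixed_of_mem N hc x.2.1 x.2.2⟩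
      have : Fintype {c : ConjClasses G // ∃ g : G, ConjClasses.mk g = c ∧ ∀ ω : Ω, g • ω ≠ ω} := Fintype.ofFinite _
      rw [← Nat.card_congr (Equiv.sigmaFiberEquiv f), Nat.card_sigma]
      have h1 : ∀ c : {c : ConjClasses G // ∃ g : G, ConjClasses.mk g = c ∧ ∀ ω : Ω, g • ω ≠ ω},
          Nat.card {x // f x = c} = Nat.card (MulAction.stabilizer G α) := by
        intro c
        rw [← card_fiber (Ω := Ω) N hc hle α c.1 (by
          obtain ⟨g, hg, hgd⟩ := c.2
          refine ⟨g, hg, hD g hgd, ?_⟩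
          rintro rfl
          exact hgd α (one_smul _ _))]
        apply Nat.card_congr
        apply Equiv.subtypeEquivRight
        intro x
        exact Subtype.ext_iff
      rw [Finset.sum_congr rfl (fun c _ => h1 c), Finset.sum_const, Finset.card_univ, smul_eq_mul,
        ← Nat.card_eq_fintype_card, hκ]
    have hcard2 : Nat.card {x : G // x ∈ N ∧ x ≠ 1} = Fintype.card Ω - 1 := by
      rw [← Nat.card_eq_fintype_card, ← H62.PrimGroup.card_eq_of_comm (Δ := Ω) N hc]
      have h1 : Nat.card {x : G // x ∈ N ∧ x ≠ 1} = ((N : Set G) \ {1}).ncard := rfl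
      rw [h1, Set.ncard_sdiff_singleton_of_mem N.one_mem]
      rfl
    have heq : 2 * Nat.card (MulAction.stabilizer G α) = Fintype.card Ω - 1 := by rw [← hcard, hcard2]
    refine ⟨haff, hle, ?_, heq⟩
    omega
  · right
    push Not at hD
    obtain ⟨d, hd, hdN⟩ := hD
    have hconj : ∀ a ∈ N, ∀ b ∈ N, a ≠ 1 → b ≠ 1 → IsConj a b := by
      intro a ha b hb ha1 hb1
      by_contra hab
      have had : ∀ x ∈ N, ¬ IsConj x d := by
        intro x hx h
        obtain ⟨y, hy⟩ := isConj_iff.mp h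
        apply hdN
        rw [← hy]
        exact hN.conj_mem x hx y
      have := H62.DerClasses.three_le_card (Ω := Ω) (x := ![a, b, d]) (by
        intro i
        fin_cases i
        · exact H62.AffineDer.not_fixed_of_mem N hc ha ha1
        · exact H62.AffineDer.not_fixed_of_mem N hc hb hb1
        · exact hd) (by
        intro i j hij
        fin_cases i <;> fin_cases j
        · exact absurd rfl hij
        · exact hab
        · exact had a ha
        · exact fun h => hab h.symm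
        · exact absurd rfl hij
        · exact had b hb
        · exact fun h => had a ha h.symm
        · exact fun h => had b hb h.symm
        · exact absurd rfl hij)
      omega
    refine ⟨haff, H62.AffineDer.two_transitive N hc hconj, ?_⟩
    by_contra hcon
    push Not at hcon
    apply hdN
    apply H62.AffineDer.mem_of_le_one (Ω := Ω) N _ d hd
    intro g hg
    have := hcon g hg
    omega

end Cfsg.Agent.S3520
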