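import Cfsg.Statements.S3554

set_option autoImplicit false
open Cfsg

namespace Cfsg.Agent.S3554

theorem result {G Ω : Type*} [Group G] [Finite G] [MulAction G Ω] [FaithfulSMul G Ω] [Finite Ω]
    (htrans : MulAction.IsPretransitive G Ω) (C : Subgroup G) (hC : C.Normal) (hC1 : C ≠ ⊥) (hcyc : IsCyclic ↥C) :
    ∃ g : G, (orderOf g).Prime ∧ ∀ ω : Ω, g • ω ≠ ω := by
  classical
  obtain ⟨c, hc⟩ := hcyc.exists_generator
  have hCcard : Nat.card C ≠ 1 := by
    intro h
    exact hC1 (Subgroup.card_eq_one.mp h)
  set p := (Nat.card C).minFac with hp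
  have hpp : p.Prime := Nat.minFac_prime hCcard
  have := Fact.mk hpp
  obtain ⟨x, hx⟩ := exists_prime_orderOf_dvd_card' (G := C) p (Nat.minFac_dvd _)
  refine ⟨(x : G), ?_, ?_⟩
  · rw [Subgroup.orderOf_coe, hx]
    exact hpp
  · intro ω hω
    -- every conjugate of x is a power of x
    have key : ∀ g : G, g * (x : G) * g⁻¹ ∈ Subgroup.zpowers (x : G) := by
      intro g
      obtain ⟨m, hm⟩ := MonoidHom.map_cyclic ((MulAut.conjNormal g : MulAut C) : C →* C)
      have := congrArg Subtype.val (hm x)
      refine Subgroup.mem_zpowers_iff.mpr ⟨m, ?_⟩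
      simpa using this.symm
    have hfix : ∀ y ∈ Subgroup.zpowers (x : G), y • ω = ω := by
      intro y hy
      have : Subgroup.zpowers (x : G) ≤ MulAction.stabilizer G ω := by
        rw [Subgroup.zpowers_le]
        exact hω
      exact this hy
    have hone : (x : G) = 1 := by
      apply FaithfulSMul.eq_of_smul_eq_smul (α := Ω)
      intro ω'
      obtain ⟨g, rfl⟩ := htrans.exists_smul_eq ω ω'
      have := hfix _ (key g⁻¹)
      rw [inv_inv, mul_smul, mul_smul] at this
      rw [one_smul]
      have h2 := congrArg (fun z => g • z) this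
      simpa using h2
    have : orderOf (x : G) = 1 := by rw [hone, orderOf_one]
    rw [Subgroup.orderOf_coe, hx] at this
    exact hpp.one_lt.ne' this

end Cfsg.Agent.S3554
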