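import Cfsg.Statements.S3555
import Cfsg.Agent.Lib.H1.FrobThm
import Cfsg.Agent.Lib.H62.Derangement

set_option autoImplicit false
open Cfsg

namespace Cfsg.Agent.S3555

open MulAction Finset Pointwise

section count
variable {G Ω : Type*} [Group G] [Fintype G] [MulAction G Ω] [Fintype Ω] [DecidableEq Ω]
  [DecidableEq G]

/-- number of fixed points -/
def fp (Ω : Type*) [Fintype Ω] [DecidableEq Ω] {G : Type*} [Group G] [MulAction G Ω] (g : G) : ℕ :=
  (univ.filter fun ω : Ω => g • ω = ω).card

theorem fp_eq (g : G) : fp Ω g = ∑ ω : Ω, if g • ω = ω then 1 else 0 := by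
  rw [fp, card_filter]

theorem sum_fp [IsPretransitive G Ω] [Nonempty Ω] :
    ∑ g : G, fp Ω g = Fintype.card G := by
  have hD : IsPretransitive (⊤ : Subgroup G) Ω := by
    constructor
    intro a b
    obtain ⟨g, hg⟩ := exists_smul_eq G a b
    exact ⟨⟨g, trivial⟩, hg⟩
  have : Fintype (⊤ : Subgroup G) := Fintype.ofFinite _
  have h := H62.Derangement.sum_fixed_coset (Ω := Ω) (⊤ : Subgroup G) 1
  have h2 : ∀ g : G, Nat.card (fixedBy Ω g) = fp Ω g := by
    intro g
    rw [fp, Nat.card_eq_fintype_card, ← Fintype.card_subtype]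
    exact Fintype.card_congr (Equiv.refl _)
  simp only [mul_one, h2] at h
  rw [← Nat.card_eq_fintype_card, ← Subgroup.card_top (G := G), ← h]
  exact (Fintype.sum_equiv (Subgroup.topEquiv (G := G)).toEquiv _ _ (fun x => rfl)).symm

/-- the key inequality -/
theorem key (hinv : ∀ g : G, (∀ ω : Ω, g • ω ≠ ω) → orderOf g = 2) :
    Fintype.card Ω * (univ.filter fun g : G => ∀ ω : Ω, g • ω ≠ ω).card ≤
      ∑ g : G, (fp Ω g * fp Ω g - fp Ω g) := by
  -- right-hand side as a sum over pairs
  have hR : ∀ g : G, fp Ω g * fp Ω g - fp Ω g =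
      ∑ α : Ω, ∑ β ∈ univ.erase α, if g • α = α ∧ g • β = β then 1 else 0 := by
    intro g
    have h1 : fp Ω g * fp Ω g = ∑ α : Ω, ∑ β : Ω, if g • α = α ∧ g • β = β then 1 else 0 := by
      rw [fp_eq, sum_mul_sum]
      refine sum_congr rfl fun α _ => sum_congr rfl fun β _ => ?_
      by_cases h : g • α = α <;> by_cases h' : g • β = β <;> simp [h, h']
    have h2 : fp Ω g * fp Ω g = fp Ω g +
        ∑ α : Ω, ∑ β ∈ univ.erase α, if g • α = α ∧ g • β = β then 1 else 0 := by
      rw [h1, fp_eq, ← sum_add_distrib]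
      refine sum_congr rfl fun α _ => ?_
      rw [← add_sum_erase _ _ (mem_univ α)]
      simp
    omega
  simp_rw [hR]
  rw [sum_comm]
  have hL : Fintype.card Ω * (univ.filter fun g : G => ∀ ω : Ω, g • ω ≠ ω).card =
      ∑ α : Ω, (univ.filter fun g : G => ∀ ω : Ω, g • ω ≠ ω).card := by
    rw [sum_const, card_univ, smul_eq_mul]
  rw [hL]
  refine sum_le_sum fun α _ => ?_
  rw [sum_comm]
  have h3 : (univ.filter fun g : G => ∀ ω : Ω, g • ω ≠ ω).card =
      ∑ β ∈ univ.erase α, ((univ.filter fun g : G => ∀ ω : Ω, g • ω ≠ ω).filter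
        fun g => g • α = β).card := by
    rw [← card_eq_sum_card_fiberwise]
    intro g hg
    simp only [coe_filter, mem_univ, true_and, Set.mem_setOf_eq] at hg
    simp only [coe_erase, coe_univ]
    exact ⟨trivial, hg α⟩
  rw [h3]
  refine sum_le_sum fun β hβ => ?_
  rw [← card_filter]
  by_cases hne : ((univ.filter fun g : G => ∀ ω : Ω, g • ω ≠ ω).filter
        fun g => g • α = β).Nonempty
  · obtain ⟨d, hd⟩ := hne
    rw [mem_filter, mem_filter] at hd
    obtain ⟨⟨_, hd1⟩, hd2⟩ := hd
    have hdd : d * d = 1 := by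
      have := pow_orderOf_eq_one d
      rwa [hinv d hd1, pow_two] at this
    have hdβ : d • β = α := by rw [← hd2, ← mul_smul, hdd, one_smul]
    refine card_le_card_of_injOn (fun x => d * x) ?_ ?_
    · intro x hx
      simp only [coe_filter, mem_univ, true_and, Set.mem_setOf_eq, mem_filter] at hx ⊢
      obtain ⟨hx1, hx2⟩ := hx
      have hxx : x * x = 1 := by
        have := pow_orderOf_eq_one x
        rwa [hinv x hx1, pow_two] at this
      have hxβ : x • β = α := by rw [← hx2, ← mul_smul, hxx, one_smul]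
      exact ⟨by rw [mul_smul, hx2, hdβ], by rw [mul_smul, hxβ, hd2]⟩
    · intro x _ y _ hxy
      exact mul_left_cancel hxy
  · rw [not_nonempty_iff_eq_empty] at hne
    rw [hne, card_empty]
    exact Nat.zero_le _

/-- elements with a fixed point have one fixed point, or fix everything -/
theorem dichotomy [IsPretransitive G Ω] [Nonempty Ω]
    (hinv : ∀ g : G, (∀ ω : Ω, g • ω ≠ ω) → orderOf g = 2) (g : G)
    (hg : fp Ω g ≠ 0) : fp Ω g = 1 ∨ fp Ω g = Fintype.card Ω := by
  have h1 := sum_fp (G := G) (Ω := Ω)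
  have h2 := key (G := G) (Ω := Ω) hinv
  have hle : ∀ g : G, fp Ω g ≤ Fintype.card Ω := fun g => by
    rw [fp]; exact card_le_univ _
  have hzero : ∀ g : G, (∀ ω : Ω, g • ω ≠ ω) ↔ fp Ω g = 0 := by
    intro g
    rw [fp, card_eq_zero, filter_eq_empty_iff]
    constructor
    · intro h ω _; exact h ω
    · intro h ω; exact h (mem_univ ω)
  -- work in ℤ
  have h3 : (∑ g : G, ((fp Ω g : ℤ) - 1) * ((fp Ω g : ℤ) - Fintype.card Ω)) =
      ∑ g : G, ((fp Ω g * fp Ω g - fp Ω g : ℕ) : ℤ) := by
    have e : ∀ g : G, ((fp Ω g : ℤ) - 1) * ((fp Ω g : ℤ) - Fintype.card Ω) =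
        ((fp Ω g * fp Ω g - fp Ω g : ℕ) : ℤ) - (Fintype.card Ω : ℤ) * (fp Ω g : ℤ) +
          Fintype.card Ω := by
      intro g
      rw [Nat.cast_sub (Nat.le_mul_self _)]
      push_cast
      ring
    simp_rw [e]
    rw [sum_add_distrib, sum_sub_distrib, ← mul_sum, ← Nat.cast_sum (s := univ) (f := fun g => fp Ω g),
      h1, sum_const, card_univ, nsmul_eq_mul]
    ring
  have h4 : (Fintype.card Ω : ℤ) * ((univ.filter fun g : G => ∀ ω : Ω, g • ω ≠ ω).card : ℤ) ≤
      ∑ g : G, ((fp Ω g : ℤ) - 1) * ((fp Ω g : ℤ) - Fintype.card Ω) := by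
    rw [h3, ← Nat.cast_sum, ← Nat.cast_mul]
    exact_mod_cast h2
  rw [← sum_filter_add_sum_filter_not univ (fun g : G => ∀ ω : Ω, g • ω ≠ ω)] at h4
  have h5 : ∑ g ∈ univ.filter (fun g : G => ∀ ω : Ω, g • ω ≠ ω),
      ((fp Ω g : ℤ) - 1) * ((fp Ω g : ℤ) - Fintype.card Ω) =
      (Fintype.card Ω : ℤ) * ((univ.filter fun g : G => ∀ ω : Ω, g • ω ≠ ω).card : ℤ) := by
    rw [sum_congr rfl (g := fun _ => (Fintype.card Ω : ℤ))]
    · rw [sum_const, nsmul_eq_mul, mul_comm]
    · intro g hg
      rw [mem_filter] at hg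
      rw [(hzero g).mp hg.2]
      push_cast; ring
  rw [h5] at h4
  have h6 : 0 ≤ ∑ g ∈ univ.filter (fun g : G => ¬ ∀ ω : Ω, g • ω ≠ ω),
      ((fp Ω g : ℤ) - 1) * ((fp Ω g : ℤ) - Fintype.card Ω) := by linarith
  have h7 : ∀ g ∈ univ.filter (fun g : G => ¬ ∀ ω : Ω, g • ω ≠ ω),
      ((fp Ω g : ℤ) - 1) * ((fp Ω g : ℤ) - Fintype.card Ω) ≤ 0 := by
    intro g hg
    rw [mem_filter, hzero] at hg
    have := hle g
    apply mul_nonpos_of_nonneg_of_nonpos
    · have : 1 ≤ fp Ω g := Nat.one_le_iff_ne_zero.mpr hg.2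
      have : (1 : ℤ) ≤ fp Ω g := by exact_mod_cast this
      linarith
    · have : (fp Ω g : ℤ) ≤ Fintype.card Ω := by exact_mod_cast this
      linarith
  have h8 := (sum_eq_zero_iff_of_nonpos h7).mp (le_antisymm (sum_nonpos h7) h6) g (by
    rw [mem_filter, hzero]; exact ⟨mem_univ _, hg⟩)
  rcases mul_eq_zero.mp h8 with h | h
  · left
    have : (fp Ω g : ℤ) = 1 := by linarith
    exact_mod_cast this
  · right
    have : (fp Ω g : ℤ) = Fintype.card Ω := by linarith
    exact_mod_cast this

end count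

/-- Let G act faithfully and transitively on a finite set and suppose every element of G fixing no point is an involution. Then either G is an elementary abelian 2-group, or G is a Frobenius group whose Frobenius kernel is an elementary abelian 2-group: G has a Frobenius complement H, and the elements lying in no conjugate of H, together with the identity, pairwise commute and square to the identity. -/
theorem result {G Ω : Type*} [Group G] [Finite G] [MulAction G Ω] [FaithfulSMul G Ω] [Finite Ω]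
    (htrans : MulAction.IsPretransitive G Ω) (hinv : ∀ g : G, (∀ ω : Ω, g • ω ≠ ω) → orderOf g = 2) :
    (IsMulCommutative G ∧ ∀ g : G, g ^ 2 = 1) ∨
    (∃ H : Subgroup G, Cfsg.IsFrobeniusComplement H ∧
      (∀ x ∈ Cfsg.frobeniusKernel H, x ^ 2 = 1) ∧
      ∀ x ∈ Cfsg.frobeniusKernel H, ∀ y ∈ Cfsg.frobeniusKernel H, x * y = y * x) := by
  classical
  have : Fintype G := Fintype.ofFinite G
  have : Fintype Ω := Fintype.ofFinite Ω
  by_cases hall : ∀ g : G, g ^ 2 = 1
  · left
    refine ⟨⟨⟨fun a b => ?_⟩⟩, hall⟩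
    have ha := hall a
    have hb := hall b
    have hab := hall (a * b)
    rw [pow_two] at ha hb hab
    calc a * b = a * 1 * b := by rw [mul_one]
      _ = a * ((a * b) * (a * b)) * b := by rw [hab]
      _ = (a * a) * (b * a) * (b * b) := by simp only [mul_assoc]
      _ = b * a := by rw [ha, hb, one_mul, mul_one]
  right
  -- there is an element which is not an involution; it fixes a point
  push Not at hall
  obtain ⟨g₀, hg₀⟩ := hall
  have hg₀fix : ∃ α : Ω, g₀ • α = α := by
    by_contra hcon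
    push Not at hcon
    have := hinv g₀ hcon
    apply hg₀
    rw [← this]
    exact pow_orderOf_eq_one g₀
  obtain ⟨α, hα⟩ := hg₀fix
  have hne : Nonempty Ω := ⟨α⟩
  have hg₀1 : g₀ ≠ 1 := fun h => hg₀ (by rw [h, one_pow])
  -- two fixed points imply trivial
  have htwo : ∀ (g : G) (a b : Ω), a ≠ b → g • a = a → g • b = b → g = 1 := by
    intro g a b hab ha hb
    have h2 : 1 < fp Ω g := by
      rw [fp, one_lt_card]
      exact ⟨a, by simpa using ha, b, by simpa using hb, hab⟩
    rcases dichotomy hinv g (by omega) with h | h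
    · omega
    · rw [fp] at h
      have h3 : (univ.filter fun ω : Ω => g • ω = ω) = univ := by
        apply eq_univ_of_card
        exact h
      refine eq_of_smul_eq_smul (α := Ω) fun ω => ?_
      have : ω ∈ (univ.filter fun ω : Ω => g • ω = ω) := by rw [h3]; exact mem_univ _
      rw [one_smul]
      simpa using this
  have hHtop : stabilizer G α ≠ ⊤ := by
    intro htop
    apply hg₀1
    refine eq_of_smul_eq_smul (α := Ω) fun ω => ?_
    obtain ⟨x, hx⟩ := exists_smul_eq G α ω
    have hxα : x • α = α := by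
      have : x ∈ stabilizer G α := by rw [htop]; trivial
      exact mem_stabilizer_iff.mp this
    rw [one_smul, ← hx, hxα, hα]
  have hTI : ∀ g : G, g ∉ stabilizer G α → stabilizer G α ⊓ (MulAut.conj g • stabilizer G α) = ⊥ := by
    intro g hg
    rw [eq_bot_iff]
    intro x hx
    rw [Subgroup.mem_inf] at hx
    obtain ⟨h1, h2⟩ := hx
    rw [H1.SZ.mem_conj_smul, mem_stabilizer_iff, mul_smul, mul_smul] at h2
    rw [mem_stabilizer_iff] at h1
    have h3 : x • (g • α) = g • α := by
      have := congrArg (fun z => g • z) h2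
      simpa using this
    rw [Subgroup.mem_bot]
    refine htwo x α (g • α) ?_ h1 h3
    intro h
    exact hg (mem_stabilizer_iff.mpr h.symm)
  have hsq : ∀ x ∈ Cfsg.frobeniusKernel (stabilizer G α), x ^ 2 = 1 := by
    intro x hx
    rcases hx with rfl | hx
    · exact one_pow 2
    · have hd : ∀ ω : Ω, x • ω ≠ ω := by
        intro ω hω
        obtain ⟨y, hy⟩ := exists_smul_eq G α ω
        apply hx y
        rw [H1.SZ.mem_conj_smul, mem_stabilizer_iff, mul_smul, mul_smul, hy, hω, ← hy,
          inv_smul_smul]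
      rw [← hinv x hd]
      exact pow_orderOf_eq_one x
  refine ⟨stabilizer G α, ⟨?_, hHtop, hTI⟩, hsq, ?_⟩
  · intro hbot
    apply hg₀1
    have : g₀ ∈ stabilizer G α := mem_stabilizer_iff.mpr hα
    rwa [hbot, Subgroup.mem_bot] at this
  · obtain ⟨N, hN, -, -⟩ := H1.FrobThm.frobenius_kernel (H := stabilizer G α) hTI
    intro x hx y hy
    rw [← hN] at hx hy hsq
    have hxy : x * y ∈ (N : Set G) := N.mul_mem hx hy
    have h1 := hsq x hx
    have h2 := hsq y hy
    have h3 := hsq _ hxy
    rw [pow_two] at h1 h2 h3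
    calc x * y = x * 1 * y := by rw [mul_one]
      _ = x * ((x * y) * (x * y)) * y := by rw [h3]
      _ = (x * x) * (y * x) * (y * y) := by simp only [mul_assoc]
      _ = y * x := by rw [h1, h2, one_mul, mul_one]

end Cfsg.Agent.S3555
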