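import Cfsg.Statements.S3556
import Cfsg.Agent.Lib.H63.MinNormalFactor
import Cfsg.Agent.Lib.H62.Derangement

set_option autoImplicit false
open Cfsg

namespace Cfsg.Agent.S3556

open MulAction H63.MinNormalFactor

/-- Let G act faithfully and primitively on a finite set with at least two points, and suppose that for some fixed prime p every element of G fixing no point has order a power of p. Then G is of affine type (it has a regular normal subgroup that is an elementary abelian r-group for some prime r) or almost simple (it has a non-abelian simple normal subgroup with trivial centralizer). -/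
theorem result {G Ω : Type*} [Group G] [Finite G] [MulAction G Ω] [FaithfulSMul G Ω] [Finite Ω]
    (hprim : MulAction.IsPreprimitive G Ω) (hΩ : 2 ≤ Nat.card Ω) (p : ℕ) (hp : p.Prime)
    (hder : ∀ g : G, (∀ ω : Ω, g • ω ≠ ω) → ∃ k : ℕ, orderOf g = p ^ k) :
    (∃ (N : Subgroup G) (r : ℕ), r.Prime ∧ N.Normal ∧ Cfsg.IsElementaryAbelian r N ∧
      MulAction.IsPretransitive N Ω ∧ ∀ a : Ω, MulAction.stabilizer N a = ⊥) ∨
    (∃ T : Subgroup G, T.Normal ∧ IsSimpleGroup ↥T ∧ ¬ IsMulCommutative ↥T ∧
      Subgroup.centralizer (T : Set G) = ⊥) := by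
  classical
  have hnt : Nontrivial Ω := Finite.one_lt_card_iff_nontrivial.mp (by omega)
  have hqp : ∀ N : Subgroup G, N.Normal → N ≠ ⊥ → IsPretransitive N Ω := by
    intro N hN hNne
    apply IsQuasiPreprimitive.isPretransitive_of_normal
    intro h
    apply hNne
    rw [eq_bot_iff]
    intro n hn
    rw [Subgroup.mem_bot]
    apply FaithfulSMul.eq_of_smul_eq_smul (α := Ω)
    intro a
    have : a ∈ fixedPoints N Ω := by rw [h]; trivial
    rw [one_smul]
    exact this ⟨n, hn⟩
  have hGnt : Nontrivial G := by
    obtain ⟨a, b, hab⟩ := hnt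
    obtain ⟨g, hg⟩ := exists_smul_eq G a b
    refine ⟨g, 1, ?_⟩
    rintro rfl
    exact hab (by simpa using hg)
  -- minimal normal subgroup
  obtain ⟨N, ⟨hN, hNne⟩, hNmin⟩ := Set.Finite.exists_minimal
    (s := {M : Subgroup G | M.Normal ∧ M ≠ ⊥}) (Set.toFinite _) ⟨⊤, inferInstance, top_ne_bot⟩
  have hmin : ∀ M : Subgroup G, M.Normal → M ≤ N → M ≠ ⊥ → M = N :=
    fun M hM hMN hMne => le_antisymm hMN (hNmin ⟨hM, hMne⟩ hMN)
  have hNtr := hqp N hN hNne
  by_cases hNc : ∀ a ∈ N, ∀ b ∈ N, a * b = b * a
  · left
    have hcard : Nat.card N ≠ 1 := fun h => hNne (Subgroup.card_eq_one.mp h)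
    obtain ⟨r, hr, hrd⟩ := Nat.exists_prime_and_dvd hcard
    have : Fact r.Prime := ⟨hr⟩
    obtain ⟨a0, ha0⟩ := exists_prime_orderOf_dvd_card' r hrd
    let E : Subgroup G :=
      { carrier := {v | v ∈ N ∧ v ^ r = 1}
        mul_mem' := by
          rintro x y ⟨hx, hx'⟩ ⟨hy, hy'⟩
          refine ⟨N.mul_mem hx hy, ?_⟩
          rw [(show Commute x y from hNc x hx y hy).mul_pow, hx', hy', one_mul]
        one_mem' := ⟨N.one_mem, one_pow _⟩
        inv_mem' := by
          rintro x ⟨hx, hx'⟩
          exact ⟨N.inv_mem hx, by rw [inv_pow, hx', inv_one]⟩ }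
    have hE : E = N := by
      apply hmin
      · constructor
        rintro x ⟨hx, hx'⟩ g
        exact ⟨hN.conj_mem x hx g, by rw [conj_pow, hx', mul_one, mul_inv_cancel]⟩
      · rintro x ⟨hx, -⟩; exact hx
      · intro h
        have h1 : (a0 : G) ∈ E := by
          refine ⟨a0.2, ?_⟩
          have : a0 ^ r = 1 := orderOf_dvd_iff_pow_eq_one.mp (dvd_of_eq ha0)
          rw [← Subgroup.coe_pow, this, Subgroup.coe_one]
        rw [h, Subgroup.mem_bot] at h1
        have h2 : a0 = 1 := Subtype.ext h1
        rw [h2, orderOf_one] at ha0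
        exact hr.one_lt.ne ha0
    refine ⟨N, r, hr, hN, ⟨⟨⟨fun a b => Subtype.ext (hNc a a.2 b b.2)⟩⟩, ?_⟩, hNtr, ?_⟩
    · intro a ha
      rw [← hE] at ha
      exact ha.2
    · intro a
      rw [eq_bot_iff]
      intro n hn
      rw [Subgroup.mem_bot]
      apply Subtype.ext
      apply FaithfulSMul.eq_of_smul_eq_smul (α := Ω)
      intro b
      obtain ⟨m, hm⟩ := hNtr.exists_smul_eq a b
      have h1 : (n : G) • a = a := mem_stabilizer_iff.mp hn
      have h2 : (m : G) • a = b := hm
      rw [← h2, ← mul_smul, hNc n n.2 m m.2, mul_smul, h1]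
      simp
  · right
    obtain ⟨T, hTle, hTne, hTn, hTmin⟩ := exists_min N hNne
    have hT : Factor N T := ⟨hTle, hTne, hTn, hTmin⟩
    have hTc := T_not_comm hN hmin hT hNc
    have hinf := inf_cc hN hmin hT hNc
    -- elements of p-power order: T has an element of prime order q ≠ p
    obtain ⟨q, hq, hqp', s0, hs0, hs0q⟩ := exists_orderOf_prime_ne hN hmin hT hNc p hp
    have hNfix : ∀ α : Ω, ∀ β : Ω, ∃ n ∈ N, n • α = β := by
      intro α β
      obtain ⟨n, hn⟩ := hNtr.exists_smul_eq α β
      exact ⟨n, n.2, hn⟩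
    have hqnot : ∀ k : ℕ, q ≠ p ^ k := by
      intro k hk
      have h1 : q ∣ p ^ k := dvd_of_eq hk
      exact hqp' ((Nat.prime_dvd_prime_iff_eq hq hp).mp (hq.dvd_of_dvd_pow h1))
    have : Nonempty Ω := ⟨hnt.exists_pair_ne.choose⟩
    obtain ⟨α⟩ := this
    -- the centralizer of N in G is trivial
    have hcent : Subgroup.centralizer (N : Set G) = ⊥ := by
      by_contra hne
      have hcn : (Subgroup.centralizer (N : Set G)).Normal := by
        constructor
        intro x hx g
        rw [Subgroup.mem_centralizer_iff] at hx ⊢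
        intro n hn
        have hn' : g⁻¹ * n * g ∈ N := by simpa using hN.conj_mem n hn g⁻¹
        have := hx _ hn'
        have e := congrArg (fun y => g * y * g⁻¹) this
        simp only [mul_assoc, mul_inv_cancel_left] at e
        simpa [mul_assoc] using e
      have htr := hqp _ hcn hne
      -- s0 is a derangement
      have hd : ∀ ω : Ω, s0 • ω ≠ ω := by
        intro ω hω
        have hs1 : s0 = 1 := by
          apply FaithfulSMul.eq_of_smul_eq_smul (α := Ω)
          intro β
          obtain ⟨c, hc⟩ := htr.exists_smul_eq ω β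
          have hc' : (c : G) • ω = β := hc
          have h1 := (Subgroup.mem_centralizer_iff.mp c.2) s0 (hTle hs0)
          rw [← hc', ← mul_smul, h1, mul_smul, hω]
          simp
        rw [hs1, orderOf_one] at hs0q
        exact hq.one_lt.ne hs0q
      obtain ⟨k, hk⟩ := hder s0 hd
      exact hqnot k (hs0q.symm.trans hk)
    by_cases hC : cc N T = ⊥
    · -- N = T simple
      have hNT : T = N := by
        have := sup_cc hN hmin hT
        rwa [hC, sup_bot_eq] at this
      refine ⟨N, hN, ?_, ?_, hcent⟩
      · rw [← hNT]; exact isSimpleGroup hN hmin hT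
      · intro h
        apply hNc
        intro a ha b hb
        exact congrArg Subtype.val (h.is_comm.comm (⟨a, ha⟩ : N) ⟨b, hb⟩)
    · exfalso
      -- an element of order q in cc N T
      obtain ⟨s, hsC, hsq⟩ : ∃ s ∈ cc N T, orderOf s = q := by
        have hex : ∃ g : G, cj g T ≠ T := by
          by_contra hcon
          push Not at hcon
          apply hC
          have h1 := iSup_cj hN hmin hT
          simp_rw [hcon] at h1
          rw [ciSup_const] at h1
          rw [← h1] at hinf ⊢
          rw [eq_bot_iff, ← hinf]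
          exact le_inf inf_le_left le_rfl
        obtain ⟨g, hg⟩ := hex
        refine ⟨g * s0 * g⁻¹, cj_le_cc hN hT hg (mem_cj.mpr (by simpa [mul_assoc] using hs0)), ?_⟩
        have : g * s0 * g⁻¹ = MulAut.conj g s0 := rfl
        rw [this, MulEquiv.orderOf_eq, hs0q]
      -- R
      let R : Subgroup G := (stabilizer G α ⊓ N ⊔ cc N T) ⊓ T
      have hCnorm : ∀ n ∈ N, ∀ c ∈ cc N T, n * c * n⁻¹ ∈ cc N T := by
        intro n hn c hc
        obtain ⟨t, ht, c', hc', rfl⟩ := exists_mul hN hmin hT hn
        have h1 : c' * c * c'⁻¹ ∈ cc N T :=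
          (cc N T).mul_mem ((cc N T).mul_mem hc' hc) ((cc N T).inv_mem hc')
        have h2 := (mem_cc.mp h1).2 t ht
        have e : t * c' * c * (t * c')⁻¹ = c' * c * c'⁻¹ := by
          calc t * c' * c * (t * c')⁻¹ = (t * (c' * c * c'⁻¹)) * t⁻¹ := by group
            _ = (c' * c * c'⁻¹) * t * t⁻¹ := by rw [h2]
            _ = _ := by group
        rw [e]; exact h1
      by_cases hR : R = T
      · -- T ⊓ stabilizer is normal in N
        have hTM : NormBy N (T ⊓ stabilizer G α) := by
          intro n hn x hx
          obtain ⟨t, ht, c, hc, rfl⟩ := exists_mul hN hmin hT hn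
          -- t = m * c' with m in the stabilizer
          have ht' : t ∈ stabilizer G α ⊓ N ⊔ cc N T := by
            rw [← hR] at ht; exact ht.1
          -- elements of this sup are products
          have hprod : ∀ y ∈ stabilizer G α ⊓ N ⊔ cc N T, ∃ m ∈ stabilizer G α ⊓ N, ∃ c' ∈ cc N T, y = m * c' := by
            intro y hy
            let L : Subgroup G :=
              { carrier := {y | ∃ m ∈ stabilizer G α ⊓ N, ∃ c' ∈ cc N T, y = m * c'}
                mul_mem' := by
                  rintro _ _ ⟨m, hm, c, hc, rfl⟩ ⟨m', hm', c', hc', rfl⟩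
                  refine ⟨m * m', Subgroup.mul_mem _ hm hm', (m'⁻¹ * c * m') * c', ?_, by group⟩
                  apply Subgroup.mul_mem _ _ hc'
                  have := hCnorm m'⁻¹ (N.inv_mem hm'.2) c hc
                  simpa using this
                one_mem' := ⟨1, Subgroup.one_mem _, 1, Subgroup.one_mem _, by simp⟩
                inv_mem' := by
                  rintro _ ⟨m, hm, c, hc, rfl⟩
                  refine ⟨m⁻¹, Subgroup.inv_mem _ hm, m * c⁻¹ * m⁻¹, ?_, by group⟩
                  exact hCnorm m hm.2 _ (Subgroup.inv_mem _ hc) }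
            have hL : stabilizer G α ⊓ N ⊔ cc N T ≤ L := by
              apply sup_le
              · intro m hm
                exact ⟨m, hm, 1, Subgroup.one_mem _, by simp⟩
              · intro c hc
                exact ⟨1, Subgroup.one_mem _, c, hc, by simp⟩
            exact hL hy
          obtain ⟨m, hm, c', hc', hmc⟩ := hprod t ht'
          have hxc := (mem_cc.mp hc).2 x hx.1
          have hxc' := (mem_cc.mp hc').2 x hx.1
          have e : t * c * x * (t * c)⁻¹ = m * x * m⁻¹ := by
            have e1 : t * c * x * (t * c)⁻¹ = t * x * t⁻¹ := by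
              rw [mul_assoc t c x, ← hxc]; group
            rw [e1, hmc, mul_assoc m c' x, ← hxc']
            group
          rw [e]
          refine ⟨?_, ?_⟩
          · exact hT.norm m hm.2 x hx.1
          · exact Subgroup.mul_mem _ (Subgroup.mul_mem _ hm.1 hx.2) (Subgroup.inv_mem _ hm.1)
        by_cases hTα : T ⊓ stabilizer G α = ⊥
        · -- s0 is a derangement
          have hd : ∀ ω : Ω, s0 • ω ≠ ω := by
            intro ω hω
            obtain ⟨n, hn, hnα⟩ := hNfix α ω
            have h1 : n⁻¹ * s0 * n ∈ T ⊓ stabilizer G α := by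
              refine ⟨?_, ?_⟩
              · have := hT.norm n⁻¹ (N.inv_mem hn) s0 hs0
                simpa using this
              · show (n⁻¹ * s0 * n) • α = α
                rw [mul_smul, mul_smul, hnα, hω, ← hnα, inv_smul_smul]
            rw [hTα, Subgroup.mem_bot] at h1
            have h2 : s0 = 1 := by
              have := congrArg (fun y => n * y * n⁻¹) h1
              simpa [mul_assoc] using this
            rw [h2, orderOf_one] at hs0q
            exact hq.one_lt.ne hs0q
          obtain ⟨k, hk⟩ := hder s0 hd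
          exact hqnot k (hs0q.symm.trans hk)
        · -- T ≤ stabilizer, hence N ≤ stabilizer
          have h1 : T ⊓ stabilizer G α = T := hTmin _ inf_le_left hTα hTM
          have hTle' : T ≤ stabilizer G α := h1.ge.trans inf_le_right
          have hNle : N ≤ stabilizer G α := by
            rw [← iSup_cj hN hmin hT]
            apply iSup_le
            intro g x hx
            -- g = n * h with n ∈ N, h ∈ stabilizer
            obtain ⟨n, hn, hnα⟩ := hNfix (g⁻¹ • α) α
            -- n * g⁻¹ fixes α
            have hh : n * g⁻¹ ∈ stabilizer G α := by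
              rw [mem_stabilizer_iff, mul_smul, hnα]
            have hx' := mem_cj.mp hx
            have hx2 : n * (g⁻¹ * x * g) * n⁻¹ ∈ T := hT.norm n hn _ hx'
            have hx3 := hTle' hx2
            have : x = (n * g⁻¹)⁻¹ * (n * (g⁻¹ * x * g) * n⁻¹) * (n * g⁻¹) := by group
            rw [this]
            exact Subgroup.mul_mem _ (Subgroup.mul_mem _ (Subgroup.inv_mem _ hh) hx3) hh
          obtain ⟨β, hβ⟩ := exists_ne α
          obtain ⟨n, hn, hnβ⟩ := hNfix α β
          exact hβ (hnβ.symm.trans (mem_stabilizer_iff.mp (hNle hn)))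
      · -- R < T: use Jordan's theorem in T
        have hRtop : R.subgroupOf T ≠ ⊤ := by
          intro h
          apply hR
          apply le_antisymm inf_le_right
          exact Subgroup.subgroupOf_eq_top.mp h
        obtain ⟨t, ht⟩ := H62.Derangement.exists_not_mem_conj (R.subgroupOf T) hRtop
        have hd : ∀ ω : Ω, ((t : G) * s) • ω ≠ ω := by
          intro ω hω
          obtain ⟨n, hn, hnα⟩ := hNfix α ω
          obtain ⟨t1, ht1, c1, hc1, rfl⟩ := exists_mul hN hmin hT hn
          have hstab : (t1 * c1)⁻¹ * ((t : G) * s) * (t1 * c1) ∈ stabilizer G α ⊓ N := by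
            refine ⟨?_, ?_⟩
            · show ((t1 * c1)⁻¹ * ((t : G) * s) * (t1 * c1)) • α = α
              rw [mul_smul _ (t1 * c1) α, mul_smul (t1 * c1)⁻¹ _ _, hnα, hω, ← hnα, inv_smul_smul]
            · exact N.mul_mem (N.mul_mem (N.inv_mem hn) (N.mul_mem (hTle t.2) (mem_cc.mp hsC).1)) hn
          -- conjugate of t by t1 lies in R
          have hcs : (t1 * c1)⁻¹ * s * (t1 * c1) ∈ cc N T := by
            have := hCnorm (t1 * c1)⁻¹ (N.inv_mem hn) s hsC
            simpa using this
          have htc : (t1 * c1)⁻¹ * (t : G) * (t1 * c1) = t1⁻¹ * t * t1 := by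
            have h1 : t1⁻¹ * (t : G) * t1 ∈ T := T.mul_mem (T.mul_mem (T.inv_mem ht1) t.2) ht1
            have h2 := (mem_cc.mp ((cc N T).inv_mem hc1)).2 _ h1
            calc (t1 * c1)⁻¹ * (t : G) * (t1 * c1) = c1⁻¹ * (t1⁻¹ * t * t1) * c1 := by group
              _ = (t1⁻¹ * t * t1) * c1⁻¹ * c1 := by rw [h2]
              _ = _ := by group
          have hmem : t1⁻¹ * (t : G) * t1 ∈ stabilizer G α ⊓ N ⊔ cc N T := by
            have h1 : (t1 * c1)⁻¹ * (t : G) * (t1 * c1) =
                ((t1 * c1)⁻¹ * ((t : G) * s) * (t1 * c1)) * ((t1 * c1)⁻¹ * s * (t1 * c1))⁻¹ := by group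
            rw [← htc, h1]
            exact Subgroup.mul_mem_sup hstab ((cc N T).inv_mem hcs)
          apply ht ⟨t1, ht1⟩
          show t1⁻¹ * (t : G) * t1 ∈ R
          exact ⟨hmem, T.mul_mem (T.mul_mem (T.inv_mem ht1) t.2) ht1⟩
        obtain ⟨k, hk⟩ := hder _ hd
        have hpow : ((t : G) * s) ^ p ^ k = 1 := by rw [← hk]; exact pow_orderOf_eq_one _
        have hcomm : Commute (t : G) s := (mem_cc.mp hsC).2 t t.2
        rw [hcomm.mul_pow] at hpow
        have hsp : s ^ p ^ k = 1 := by
          have h1 : s ^ p ^ k ∈ T ⊓ cc N T := by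
            refine ⟨?_, (cc N T).pow_mem hsC _⟩
            have : s ^ p ^ k = ((t : G) ^ p ^ k)⁻¹ := (inv_eq_of_mul_eq_one_right hpow).symm
            rw [this]
            exact T.inv_mem (T.pow_mem t.2 _)
          rw [hinf, Subgroup.mem_bot] at h1
          exact h1
        have h2 : q ∣ p ^ k := by rw [← hsq]; exact orderOf_dvd_of_pow_eq_one hsp
        exact hqp' ((Nat.prime_dvd_prime_iff_eq hq hp).mp (hq.dvd_of_dvd_pow h2))

end Cfsg.Agent.S3556
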