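import Cfsg.Statements.S3557
import Cfsg.Agent.Lib.H63.PGroupBasics

set_option autoImplicit false
open Cfsg

namespace Cfsg.Agent.S3557

open MulAction

/-- Let G act faithfully and transitively on a finite set with 2p² points, p a prime, and suppose G is 2-closed: every permutation of the set which, on each ordered pair of points, agrees with some element of G, is itself induced by an element of G. Then some element of G of prime order fixes no point. -/
theorem result {G Ω : Type*} [Group G] [Finite G] [MulAction G Ω] [FaithfulSMul G Ω] [Finite Ω]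
    (htrans : MulAction.IsPretransitive G Ω) (p : ℕ) (hp : p.Prime) (hcard : Nat.card Ω = 2 * p ^ 2)
    (hcl : ∀ σ : Equiv.Perm Ω, (∀ a b : Ω, ∃ g : G, σ a = g • a ∧ σ b = g • b) → ∃ g : G, ∀ a : Ω, σ a = g • a) :
    ∃ g : G, (orderOf g).Prime ∧ ∀ ω : Ω, g • ω ≠ ω := by
  classical
  have : Fact p.Prime := ⟨hp⟩
  have hp2 : 2 ≤ p := hp.two_le
  obtain ⟨P⟩ : Nonempty (Sylow p G) := inferInstance
  let PP := ↥(P : Subgroup G)
  have hPG : IsPGroup p PP := P.isPGroup'
  have hsq : p ^ 2 ∣ Nat.card Ω := ⟨2, by rw [hcard]; ring⟩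
  have horb : ∀ a : Ω, p ^ 2 ∣ Nat.card (orbit PP a) :=
    fun a => H63.PGroupBasics.pow_dvd_card_orbit_sylow P hsq a
  have hΩpos : 0 < Nat.card Ω := by rw [hcard]; positivity
  have : Nonempty Ω := (Nat.card_pos_iff.mp hΩpos).1
  have horbpos : ∀ a : Ω, 0 < Nat.card (orbit PP a) := by
    intro a
    have : Nonempty (orbit PP a) := ⟨⟨a, mem_orbit_self a⟩⟩
    exact Nat.card_pos
  have horbge : ∀ a : Ω, p ^ 2 ≤ Nat.card (orbit PP a) := fun a => Nat.le_of_dvd (horbpos a) (horb a)
  have hsq1 : 1 < p ^ 2 := by nlinarith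
  -- P is nontrivial
  have hPne : (⊤ : Subgroup PP) ≠ ⊥ := by
    intro h
    obtain ⟨a⟩ := ‹Nonempty Ω›
    have hsub : Subsingleton PP := by
      constructor
      intro x y
      have hx : x ∈ (⊤ : Subgroup PP) := trivial
      have hy : y ∈ (⊤ : Subgroup PP) := trivial
      rw [h, Subgroup.mem_bot] at hx hy
      rw [hx, hy]
    have h1 := horbge a
    have h2 : Nat.card (orbit PP a) ≤ 1 := by
      have : Subsingleton (orbit PP a) := by
        constructor
        rintro ⟨_, x, rfl⟩ ⟨_, y, rfl⟩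
        have : x = y := Subsingleton.elim _ _
        subst this
        rfl
      exact Finite.card_le_one_iff_subsingleton.mpr this
    omega
  obtain ⟨z, -, hzp, hzc⟩ := H63.PGroupBasics.exists_central_orderOf_eq hPG (⊤ : Subgroup PP) hPne
  have hz1 : z ≠ 1 := by
    intro h
    rw [h, orderOf_one] at hzp
    exact hp.one_lt.ne hzp
  have hfixorb : ∀ x : Ω, z • x = x → ∀ y ∈ orbit PP x, z • y = y := by
    rintro x hx _ ⟨h, rfl⟩
    show z • (h • x) = h • x
    rw [← mul_smul, ← hzc h, mul_smul, hx]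
  by_cases hz : ∀ x : Ω, z • x ≠ x
  · refine ⟨(z : G), ?_, fun ω => hz ω⟩
    rw [Subgroup.orderOf_coe, hzp]
    exact hp
  push Not at hz
  obtain ⟨b0, hb0⟩ := hz
  obtain ⟨a0, ha0⟩ : ∃ a0 : Ω, z • a0 ≠ a0 := by
    by_contra hcon
    push Not at hcon
    apply hz1
    apply Subtype.ext
    apply FaithfulSMul.eq_of_smul_eq_smul (α := Ω)
    intro a
    rw [Subgroup.coe_one, one_smul]
    exact hcon a
  have hΔ1 : ∀ x ∈ orbit PP a0, z • x ≠ x := by
    intro x hx hzx
    apply ha0
    apply hfixorb x hzx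
    rw [orbit_eq_iff.mpr hx]
    exact mem_orbit_self a0
  have hΔ2 : ∀ x ∈ orbit PP b0, z • x = x := hfixorb b0 hb0
  have hdisj : Disjoint (orbit PP a0) (orbit PP b0) := by
    rw [Set.disjoint_left]
    intro x h1 h2
    exact hΔ1 x h1 (hΔ2 x h2)
  have hsum : (orbit PP a0 ∪ orbit PP b0).ncard = Nat.card (orbit PP a0) + Nat.card (orbit PP b0) := by
    rw [Set.ncard_union_eq hdisj (Set.toFinite _) (Set.toFinite _)]
    rfl
  have hle : (orbit PP a0 ∪ orbit PP b0).ncard ≤ 2 * p ^ 2 := by
    rw [← hcard]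
    exact Set.ncard_le_card _
  have hca : Nat.card (orbit PP a0) = p ^ 2 := by
    have := horbge a0; have := horbge b0; omega
  have hcb : Nat.card (orbit PP b0) = p ^ 2 := by
    have := horbge a0; have := horbge b0; omega
  have hun : orbit PP a0 ∪ orbit PP b0 = Set.univ := by
    apply Set.eq_of_subset_of_ncard_le (Set.subset_univ _) _ Set.finite_univ
    rw [Set.ncard_univ, hcard, hsum, hca, hcb]
    omega
  have hcases : ∀ x : Ω, x ∉ orbit PP b0 → x ∈ orbit PP a0 := by
    intro x hx
    have : x ∈ orbit PP a0 ∪ orbit PP b0 := by rw [hun]; trivial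
    exact this.resolve_right hx
  -- the action on the second orbit
  let f : PP →* Equiv.Perm (orbit PP b0) := MulAction.toPermHom PP (orbit PP b0)
  let fr : PP →* f.range := f.rangeRestrict
  have hfr : Function.Surjective fr := f.rangeRestrict_surjective
  have hfrapp : ∀ (h : PP) (x : orbit PP b0), ((fr h : Equiv.Perm (orbit PP b0)) x : Ω) = h • (x : Ω) := by
    intro h x
    rfl
  let S : Subgroup PP := stabilizer PP a0
  have hSidx : S.index = p ^ 2 := by
    rw [← hca]
    exact MulAction.index_stabilizer PP a0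
  have hzker : z ∈ fr.ker := by
    rw [MonoidHom.mem_ker]
    apply Subtype.ext
    ext x
    rw [hfrapp]
    exact hΔ2 _ x.2
  have hzS : z ∉ S := by
    rw [mem_stabilizer_iff]; exact ha0
  let M : Subgroup f.range := S.map fr
  have hMidx : M.index = (S ⊔ fr.ker).index := by
    rw [Subgroup.index_map, MonoidHom.range_eq_top.mpr hfr, Subgroup.index_top, mul_one]
  have hQ : IsPGroup p f.range := hPG.of_surjective fr hfr
  have hQcard : p ^ 2 ≤ Nat.card f.range := by
    rw [← hcb]
    have : Function.Surjective (fun q : f.range => (q : Equiv.Perm (orbit PP b0)) ⟨b0, mem_orbit_self b0⟩) := by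
      rintro ⟨_, h, rfl⟩
      refine ⟨fr h, ?_⟩
      apply Subtype.ext
      rfl
    exact Nat.card_le_card_of_surjective _ this
  have hMdvd : M.index ∣ p ^ 2 := by
    rw [hMidx, ← hSidx]
    exact Subgroup.index_dvd_of_le le_sup_left
  have hMne : M.index ≠ p ^ 2 := by
    intro h
    have h1 : S.relIndex (S ⊔ fr.ker) * (S ⊔ fr.ker).index = S.index := Subgroup.relIndex_mul_index le_sup_left
    rw [← hMidx, h, hSidx] at h1
    have h2 : S.relIndex (S ⊔ fr.ker) = 1 := by
      have : 0 < p ^ 2 := by positivity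
      exact Nat.eq_of_mul_eq_mul_right this (by rw [h1, one_mul])
    rw [Subgroup.relIndex_eq_one] at h2
    exact hzS (h2 (Subgroup.mem_sup_right hzker))
  have hMidx' : M.index = 1 ∨ M.index = p := by
    obtain ⟨i, hi, hi'⟩ := (Nat.dvd_prime_pow hp).mp hMdvd
    interval_cases i
    · left; simpa using hi'
    · right; simpa using hi'
    · exact absurd hi' hMne
  have hMnormal : M.Normal := by
    rcases hMidx' with h | h
    · exact Subgroup.normal_of_index_eq_one h
    · apply Subgroup.normal_of_index_eq_minFac_card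
      rw [h]
      obtain ⟨n, hn⟩ := IsPGroup.iff_card.mp hQ
      rw [hn]
      have hn0 : n ≠ 0 := by
        rintro rfl
        rw [hn] at hQcard
        simp at hQcard
        omega
      exact (hp.pow_minFac hn0).symm
  have hMbot : M ≠ ⊥ := by
    intro h
    have h1 : M.index = Nat.card f.range := by rw [h, Subgroup.index_bot]
    have : p < p ^ 2 := by nlinarith
    rcases hMidx' with h2 | h2 <;> omega
  obtain ⟨s', hs'M, hs'p, hs'c⟩ := H63.PGroupBasics.exists_central_orderOf_eq hQ M hMbot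
  obtain ⟨s, hsS, hss'⟩ := Subgroup.mem_map.mp hs'M
  have hs'1 : (s' : Equiv.Perm (orbit PP b0)) ≠ 1 := by
    intro h
    have : s' = 1 := Subtype.ext h
    rw [this, orderOf_one] at hs'p
    exact hp.one_lt.ne hs'p
  have hs'fpf : ∀ x : orbit PP b0, (s' : Equiv.Perm (orbit PP b0)) x ≠ x := by
    intro x hx
    apply hs'1
    ext y
    obtain ⟨h, hh⟩ : ∃ h : PP, h • (x : Ω) = y := by
      have : (y : Ω) ∈ orbit PP (x : Ω) := by
        rw [orbit_eq_iff.mpr x.2]; exact y.2
      exact this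
    have hy : (fr h : Equiv.Perm (orbit PP b0)) x = y := Subtype.ext (by rw [hfrapp, hh])
    have hc := congrArg (fun q : f.range => (q : Equiv.Perm (orbit PP b0)) x) (hs'c (fr h))
    simp only [Subgroup.coe_mul, Equiv.Perm.mul_apply] at hc
    rw [hx, hy] at hc
    rw [← hc]
    rfl
  let σ : Equiv.Perm Ω := Equiv.Perm.ofSubtype (p := fun x => x ∈ orbit PP b0) (s' : Equiv.Perm (orbit PP b0))
  have hσ2 : ∀ x (hx : x ∈ orbit PP b0), σ x = ((s' : Equiv.Perm (orbit PP b0)) ⟨x, hx⟩ : Ω) := by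
    intro x hx
    exact Equiv.Perm.ofSubtype_apply_of_mem _ hx
  have hσ1 : ∀ x, x ∉ orbit PP b0 → σ x = x := by
    intro x hx
    exact Equiv.Perm.ofSubtype_apply_of_not_mem _ hx
  have hσs : ∀ x, x ∈ orbit PP b0 → σ x = s • x := by
    intro x hx
    rw [hσ2 x hx, ← hss', hfrapp]
  have hmix : ∀ x, x ∉ orbit PP b0 → ∀ y, y ∈ orbit PP b0 → ∃ g : G, σ x = g • x ∧ σ y = g • y := by
    intro x hx y hy
    obtain ⟨h, hh⟩ := hcases x hx
    have hh' : h • a0 = x := hh
    refine ⟨((h * s * h⁻¹ : PP) : G), ?_, ?_⟩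
    · rw [hσ1 x hx]
      show x = (h * s * h⁻¹) • x
      rw [← hh', mul_smul, mul_smul, inv_smul_smul, mem_stabilizer_iff.mp hsS]
    · rw [hσ2 y hy]
      show _ = (h * s * h⁻¹) • y
      have e1 : fr (h * s * h⁻¹) = s' := by
        rw [map_mul, map_mul, hss', hs'c, map_inv, mul_inv_cancel_right]
      rw [← e1, hfrapp]
  obtain ⟨g, hg⟩ := hcl σ (by
    intro a b
    by_cases ha : a ∈ orbit PP b0
    · by_cases hb : b ∈ orbit PP b0
      · exact ⟨(s : G), hσs a ha, hσs b hb⟩
      · obtain ⟨g, h1, h2⟩ := hmix b hb a ha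
        exact ⟨g, h2, h1⟩
    · by_cases hb : b ∈ orbit PP b0
      · exact hmix a ha b hb
      · exact ⟨1, by rw [one_smul, hσ1 a ha], by rw [one_smul, hσ1 b hb]⟩)
  have hσmem : ∀ x, x ∈ orbit PP b0 → σ x ∈ orbit PP b0 := by
    intro x hx
    rw [hσ2 x hx]
    exact ((s' : Equiv.Perm (orbit PP b0)) ⟨x, hx⟩).2
  have hz1mem : ∀ x, x ∉ orbit PP b0 → z • x ∉ orbit PP b0 := by
    intro x hx h
    apply hx
    have : z⁻¹ • (z • x) ∈ orbit PP b0 := by
      obtain ⟨k, hk⟩ := h
      refine ⟨z⁻¹ * k, ?_⟩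
      show (z⁻¹ * k) • b0 = _
      rw [mul_smul]
      exact congrArg _ hk
    rwa [inv_smul_smul] at this
  have hder : ∀ x : Ω, ((z : G) * g) • x ≠ x := by
    intro x
    rw [mul_smul, ← hg x]
    by_cases hx : x ∈ orbit PP b0
    · have h1 : (z : G) • σ x = σ x := hΔ2 _ (hσmem x hx)
      rw [h1, hσ2 x hx]
      intro h
      exact hs'fpf ⟨x, hx⟩ (Subtype.ext h)
    · rw [hσ1 x hx]
      exact hΔ1 x (hcases x hx)
  have hgp : g ^ p = 1 := by
    apply FaithfulSMul.eq_of_smul_eq_smul (α := Ω)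
    intro x
    have hpow : ∀ n : ℕ, ∀ x : Ω, g ^ n • x = (σ ^ n) x := by
      intro n
      induction n with
      | zero => intro x; simp
      | succ n ih =>
        intro x
        rw [pow_succ, mul_smul, pow_succ, Equiv.Perm.mul_apply, ih, hg]
    rw [hpow]
    have : σ ^ p = 1 := by
      show (Equiv.Perm.ofSubtype (p := fun x => x ∈ orbit PP b0) (s' : Equiv.Perm (orbit PP b0))) ^ p = 1
      rw [← map_pow]
      have : (s' : Equiv.Perm (orbit PP b0)) ^ p = 1 := by
        have h1 : s' ^ p = 1 := orderOf_dvd_iff_pow_eq_one.mp (dvd_of_eq hs'p)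
        have := congrArg Subtype.val h1
        simpa using this
      erw [this]
      simp
    rw [this]
    simp
  have hcomm : Commute (z : G) g := by
    apply FaithfulSMul.eq_of_smul_eq_smul (α := Ω)
    intro x
    rw [mul_smul, mul_smul, ← hg x, ← hg]
    by_cases hx : x ∈ orbit PP b0
    · have h1 : (z : G) • σ x = σ x := hΔ2 _ (hσmem x hx)
      have h2 : (z : G) • x = x := hΔ2 _ hx
      rw [h1, h2]
    · rw [hσ1 x hx]
      exact (hσ1 _ (hz1mem x hx)).symm
  refine ⟨(z : G) * g, ?_, hder⟩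
  have hord : orderOf ((z : G) * g) = p := by
    apply orderOf_eq_prime
    · rw [hcomm.mul_pow, hgp, mul_one]
      have : z ^ p = 1 := orderOf_dvd_iff_pow_eq_one.mp (dvd_of_eq hzp)
      rw [← Subgroup.coe_pow, this, Subgroup.coe_one]
    · intro h
      obtain ⟨x⟩ := ‹Nonempty Ω›
      apply hder x
      rw [h, one_smul]
  rw [hord]
  exact hp

end Cfsg.Agent.S3557
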