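import Cfsg.Statements.S3626
import Cfsg.Agent.Lib.H24.ReeSpec
import Cfsg.Agent.S1159

set_option autoImplicit false
open Cfsg

namespace Cfsg.Agent.S3626

/-- Let R be the small Ree group over the field with q = 3^(2m+1) ≥ 27 elements. Then there are finite groups of arbitrarily large order with exactly the same set of element orders as R × R × R. -/
theorem result {K : Type*} [Field K] [Fintype K] {m : ℕ} (hm : 1 ≤ m) (hK : Fintype.card K = 3 ^ (2 * m + 1)) (N : ℕ) :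
    ∃ (H : Type) (_ : Group H) (_ : Fintype H), N < Fintype.card H ∧
      Set.range (orderOf : H → ℕ) = Set.range (orderOf : ↥(Cfsg.Lie.twistedG2 K (3 ^ m)) × ↥(Cfsg.Lie.twistedG2 K (3 ^ m)) × ↥(Cfsg.Lie.twistedG2 K (3 ^ m)) → ℕ) := by
  haveI : Fact (Nat.Prime 3) := ⟨Nat.prime_three⟩
  let K₀ : Type := GaloisField 3 (2 * m + 1)
  haveI : Finite K₀ := inferInstanceAs (Finite (GaloisField 3 (2 * m + 1)))
  letI : Fintype K₀ := Fintype.ofFinite K₀
  have hc : Fintype.card K₀ = 3 ^ (2 * m + 1) := by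
    rw [← Nat.card_eq_fintype_card]
    exact GaloisField.card 3 (2 * m + 1) (by omega)
  have h8 : Fintype.card K₀ % 8 = 3 := by
    rw [hc, pow_succ, pow_mul, Nat.mul_mod, Nat.pow_mod]; norm_num
  haveI : Finite (H24.ReeSpec.EE K₀ (Fin (N + 1))) := Finite.of_equiv _ SemidirectProduct.equivProd.symm
  refine ⟨H24.ReeSpec.EE K₀ (Fin (N + 1)) × ↥(Cfsg.Lie.twistedG2 K₀ (3 ^ m)) × ↥(Cfsg.Lie.twistedG2 K₀ (3 ^ m)), inferInstance,
    Fintype.ofFinite _, ?_, ?_⟩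
  · let f : Fin (N + 1) → H24.ReeSpec.EE K₀ (Fin (N + 1)) × ↥(Cfsg.Lie.twistedG2 K₀ (3 ^ m)) × ↥(Cfsg.Lie.twistedG2 K₀ (3 ^ m)) :=
      fun i => (SemidirectProduct.inl (Multiplicative.ofAdd (fun j => if j = i then (1 : Matrix (Fin 2) (Fin 2) K₀) else 0)), 1, 1)
    have hf : Function.Injective f := by
      intro i j hij
      have h1 := SemidirectProduct.inl_injective (congrArg Prod.fst hij)
      have h2 := congrFun (Multiplicative.ofAdd.injective h1) i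
      simp only [if_true] at h2
      by_contra hne
      rw [if_neg hne] at h2
      exact one_ne_zero h2
    have := @Fintype.card_le_of_injective _ _ _ (Fintype.ofFinite _) f hf
    rw [Fintype.card_fin] at this
    exact this
  · have hR : ∀ {F : Type _} [Field F] [Fintype F], Fintype.card F = 3 ^ (2 * m + 1) → ∀ d : ℕ, (∃ r : ↥(Cfsg.Lie.twistedG2 F (3 ^ m)), orderOf r = d) ↔
        ((d ∣ 6 ∨ d ∣ 9 ∨ d ∣ 3 ^ (2 * m + 1) - 1 ∨ d ∣ (3 ^ (2 * m + 1) + 1) / 2) ∨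
          d ∣ 3 ^ (2 * m + 1) - 3 ^ (m + 1) + 1 ∨ d ∣ 3 ^ (2 * m + 1) + 3 ^ (m + 1) + 1) := by
      intro F _ _ hF d
      rw [Cfsg.Agent.S1159.result hm hF d]
      simp only [or_assoc]
    have hR0 : ∀ {F : Type} [Field F] [Fintype F], Fintype.card F = 3 ^ (2 * m + 1) → ∀ d : ℕ, (∃ r : ↥(Cfsg.Lie.twistedG2 F (3 ^ m)), orderOf r = d) ↔
        ((d ∣ 6 ∨ d ∣ 9 ∨ d ∣ 3 ^ (2 * m + 1) - 1 ∨ d ∣ (3 ^ (2 * m + 1) + 1) / 2) ∨
          d ∣ 3 ^ (2 * m + 1) - 3 ^ (m + 1) + 1 ∨ d ∣ 3 ^ (2 * m + 1) + 3 ^ (m + 1) + 1) := by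
      intro F _ _ hF d
      rw [Cfsg.Agent.S1159.result hm hF d]
      simp only [or_assoc]
    refine H24.ReeSpec.range_eq (Or.inl (one_dvd _)) (hR hK) (hR0 (F := K₀) hc) (fun d => ?_)
    rw [H24.ReeSpec.spectrum h8 d, hc]

end Cfsg.Agent.S3626
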