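import Cfsg.Statements.S3648
import Cfsg.Agent.Lib.H62.NseB
import Cfsg.Agent.Lib.H62.NseD

set_option autoImplicit false
open Cfsg

namespace Cfsg.Agent.S3648

/-- For a finite group X let nse(X) be the set of values of the function 'number of elements of order k' over the element orders k that occur. Let F be a finite field of odd order q > 3 and P = PGL(2, F) = GL(2, F) modulo its centre. If G is a finite group with the same order as P and nse(G) = nse(P), then G is isomorphic to P. -/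
theorem result {F : Type*} [Field F] [Fintype F] (hodd : Odd (Fintype.card F)) (h3 : 3 < Fintype.card F)
    {G : Type*} [Group G] [Finite G] (hcard : Nat.card G = Nat.card (GL (Fin 2) F ⧸ Subgroup.center (GL (Fin 2) F)))
    (hnse : {c : ℕ | 0 < c ∧ ∃ n : ℕ, c = Nat.card {g : G // orderOf g = n}} = {c : ℕ | 0 < c ∧ ∃ n : ℕ, c = Nat.card {g : (GL (Fin 2) F ⧸ Subgroup.center (GL (Fin 2) F)) // orderOf g = n}}) :
    Nonempty (G ≃* (GL (Fin 2) F ⧸ Subgroup.center (GL (Fin 2) F))) := by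
  classical
  obtain ⟨p, hpF⟩ := CharP.exists F
  have hpp : p.Prime := (CharP.char_is_prime F p)
  have : Fact p.Prime := ⟨hpp⟩
  obtain ⟨e, -, he⟩ := FiniteField.card F p
  have hpq : p ∣ Fintype.card F := by
    rw [he]; exact dvd_pow_self p e.ne_zero
  have hfin : Finite (GL (Fin 2) F ⧸ Subgroup.center (GL (Fin 2) F)) := H62.Nse.finite_pgl (F := F)
  -- the order
  have hN : Nat.card G = Fintype.card F * (Fintype.card F ^ 2 - 1) := by
    rw [hcard]
    have h1 : Nat.card (GL (Fin 2) F ⧸ Subgroup.center (GL (Fin 2) F)) = _ := H98.DicksonPGL.card_pgl_eq F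
    rw [h1, Nat.card_eq_fintype_card]
    obtain ⟨r, hr⟩ : ∃ r, Fintype.card F = r + 1 := ⟨Fintype.card F - 1, by omega⟩
    rw [hr, Nat.add_sub_cancel, show (r + 1) ^ 2 - 1 = r * (r + 2) by
      rw [show (r + 1) ^ 2 = r * (r + 2) + 1 by ring, Nat.add_sub_cancel]]
    ring
  -- the numbers in `PGL₂(q)`
  have h2 : Nat.card {g : (GL (Fin 2) F ⧸ Subgroup.center (GL (Fin 2) F)) // orderOf g = 2} = Fintype.card F ^ 2 :=
    H62.Nse.card_invol hodd
  have hp : Nat.card {g : (GL (Fin 2) F ⧸ Subgroup.center (GL (Fin 2) F)) // orderOf g = p} = Fintype.card F ^ 2 - 1 :=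
    H62.Nse.card_order_p
  have hn : ∀ n, n ≠ 1 → n ≠ p → Fintype.card F ∣
      Nat.card {g : (GL (Fin 2) F ⧸ Subgroup.center (GL (Fin 2) F)) // orderOf g = n} := fun n h1 h3 =>
    H62.Nse.dvd_order (p := p) h1 h3
  have h1 : Nat.card {g : (GL (Fin 2) F ⧸ Subgroup.center (GL (Fin 2) F)) // orderOf g = 1} = 1 := by
    rw [Nat.card_eq_one_iff_unique]
    refine ⟨⟨fun a b => Subtype.ext ?_⟩, ⟨⟨1, orderOf_one⟩⟩⟩
    rw [orderOf_eq_one_iff.mp a.2, orderOf_eq_one_iff.mp b.2]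
  -- the numbers in `G`
  have hq2 : ∃ n, Nat.card {g : G // orderOf g = n} = Fintype.card F ^ 2 := by
    have h4 : Fintype.card F ^ 2 ∈ {c : ℕ | 0 < c ∧ ∃ n : ℕ, c = Nat.card {g : G // orderOf g = n}} := by
      rw [hnse]
      exact ⟨by positivity, 2, h2.symm⟩
    obtain ⟨-, n, hn'⟩ := h4
    exact ⟨n, hn'.symm⟩
  have hval : ∀ n, Nat.card {g : G // orderOf g = n} = 0 ∨ Nat.card {g : G // orderOf g = n} = 1 ∨
      Nat.card {g : G // orderOf g = n} = Fintype.card F ^ 2 - 1 ∨ Fintype.card F ∣ Nat.card {g : G // orderOf g = n} := by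
    intro n
    rcases Nat.eq_zero_or_pos (Nat.card {g : G // orderOf g = n}) with h0 | h0
    · exact Or.inl h0
    right
    have h4 : Nat.card {g : G // orderOf g = n} ∈ {c : ℕ | 0 < c ∧ ∃ n : ℕ, c = Nat.card {g : G // orderOf g = n}} :=
      ⟨h0, n, rfl⟩
    rw [hnse] at h4
    obtain ⟨-, m, hm⟩ := h4
    rw [hm]
    by_cases hm1 : m = 1
    · left; rw [hm1, h1]
    right
    by_cases hmp : m = p
    · left; rw [hmp, hp]
    · right; exact hn m hm1 hmp
  obtain ⟨g2, gp, gord⟩ := H62.Nse.group_arith h3 hodd hpp hpq hN hq2 hval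
  have hAr : H62.Nse.Ar G p (Fintype.card F) e := ⟨hpp, he, hodd, h3, hN, g2, gp, gord⟩
  obtain ⟨K, z, hc⟩ := hAr.exists_cfg
  obtain ⟨F', hF', hFt', hcF, ⟨i⟩⟩ := hc.main
  obtain ⟨j⟩ := H62.Nse.pgl_congr hcF
  exact ⟨i.trans j⟩

end Cfsg.Agent.S3648
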