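import Cfsg.Statements.S3680
import Cfsg.Agent.Lib.H15.TwoMin

set_option autoImplicit false
open Cfsg

namespace Cfsg.Agent.S3680

/-- The socle of a finite primitive permutation group. Let a finite group G act faithfully and primitively on a set Ω, and let N be the subgroup generated by the minimal normal subgroups of G. Then either N is an elementary abelian p-group for some prime p and acts regularly on Ω (transitively with trivial point stabilizers), or N is isomorphic to a direct product of m ≥ 1 copies of a non-abelian simple group. -/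
theorem result {G Ω : Type*} [Group G] [Finite G] [MulAction G Ω] [FaithfulSMul G Ω] [Finite Ω]
    (hprim : MulAction.IsPreprimitive G Ω) (N : Subgroup G)
    (hN : N = sSup {V : Subgroup G | V.Normal ∧ V ≠ ⊥ ∧ ∀ M : Subgroup G, M.Normal → M ≤ V → M = ⊥ ∨ M = V}) :
    (∃ p : ℕ, p.Prime ∧ IsMulCommutative N ∧ (∀ x : N, x ^ p = 1) ∧
      MulAction.IsPretransitive N Ω ∧ ∀ ω : Ω, MulAction.stabilizer N ω = ⊥) ∨
    (∃ (T : Type) (_ : Group T) (m : ℕ), 1 ≤ m ∧ IsSimpleGroup T ∧ ¬ IsMulCommutative T ∧ Nonempty (N ≃* (Fin m → T))) := by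
  have hG : MulAction.IsPreprimitive G Ω := hprim
  by_cases hΩ : Nonempty Ω ∧ Nontrivial G
  · obtain ⟨h1, h2⟩ := hΩ
    exact H15.TwoMin.socle (G := G) (Ω := Ω) N hN
  · have hsub : Subsingleton G := by
      by_contra hns
      have hnt : Nontrivial G := not_subsingleton_iff_nontrivial.1 hns
      have hne : ¬ Nonempty Ω := fun h => hΩ ⟨h, hnt⟩
      have hemp : IsEmpty Ω := not_nonempty_iff.1 hne
      apply hns
      exact ⟨fun a b => FaithfulSMul.eq_of_smul_eq_smul (α := Ω) (fun x => (hemp.false x).elim)⟩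
    have hΩs : Subsingleton Ω := by
      refine ⟨fun x y => ?_⟩
      obtain ⟨g, hg⟩ := MulAction.exists_smul_eq G x y
      rw [← hg, Subsingleton.elim g 1, one_smul]
    left
    refine ⟨2, Nat.prime_two, ⟨⟨fun a b => Subsingleton.elim _ _⟩⟩, fun x => Subsingleton.elim _ _, ⟨fun x y => ⟨1, Subsingleton.elim _ _⟩⟩, ?_⟩
    intro ω
    exact Subsingleton.elim _ _

end Cfsg.Agent.S3680
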