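import Cfsg.Statements.S3699
import Cfsg.Agent.Lib.H18.PGraph
import Cfsg.Agent.Lib.H18.PGSz
import Cfsg.Agent.Lib.H18.CITM10a
import Cfsg.Agent.Lib.H24.SzIso

set_option autoImplicit false
open Cfsg

namespace Cfsg.Agent.S3699

/-- Let `q = 2^(2m+1) ≥ 8` and `S = Sz(q)` the Suzuki group. If a finite group `G` has the same prime graph as `S` (same prime divisors of the order; for distinct primes `r, s` an element of order `rs` in one iff in the other), then `G/O₂(G)` is isomorphic to `S`. The known proof uses the classification of finite simple groups. -/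
theorem result {F : Type*} [Field F] [Fintype F] (m : ℕ) (hm : 1 ≤ m)
    (hF : Fintype.card F = 2 ^ (2 * m + 1)) {G : Type*} [Group G] [Finite G]
    (h : ((∀ r : ℕ, r.Prime → (r ∣ Nat.card ↥(Cfsg.Lie.Sz F (2 ^ (m + 1))) ↔ r ∣ Nat.card G)) ∧
      (∀ r s : ℕ, r.Prime → s.Prime → r ≠ s → ((∃ x : ↥(Cfsg.Lie.Sz F (2 ^ (m + 1))), orderOf x = r * s) ↔ (∃ y : G, orderOf y = r * s))))) :
    Nonempty (G ⧸ Cfsg.pCore 2 G ≃* ↥(Cfsg.Lie.Sz F (2 ^ (m + 1)))) := by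
  classical
  obtain ⟨hπ, hg⟩ := h
  have e₀ := H24.SzIso.equiv hF hm
  obtain ⟨hfin, -⟩ := H18.PGSz.ker_data hm hF
  haveI : Finite (Cfsg.Lie.Sz F (2 ^ (m + 1))) := Finite.of_equiv _ e₀.toEquiv
  have hcS : Nat.card ↥(Cfsg.Lie.Sz F (2 ^ (m + 1))) =
      (2 ^ (2 * m + 1)) ^ 2 * ((2 ^ (2 * m + 1)) ^ 2 + 1) * (2 ^ (2 * m + 1) - 1) := by
    rw [← Nat.card_congr e₀.toEquiv]; exact H8.SuzGroup.card_Sz hm hF
  have hQe : Even (2 ^ (2 * m + 1)) := Even.pow_of_ne_zero (by decide) (by omega)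
  have hQ1 : 1 ≤ 2 ^ (2 * m + 1) := Nat.one_le_two_pow
  have hQ8 : 8 ≤ 2 ^ (2 * m + 1) := by
    calc 8 = 2 ^ 3 := by norm_num
      _ ≤ 2 ^ (2 * m + 1) := Nat.pow_le_pow_right (by norm_num) (by omega)
  have hadj : ∀ r s : ℕ, r.Prime → s.Prime → r ≠ s → (∃ y : G, orderOf y = r * s) →
      (r ∣ 2 ^ (2 * m + 1) - 1 ∧ s ∣ 2 ^ (2 * m + 1) - 1) ∨
      (r ∣ (2 ^ (2 * m + 1)) ^ 2 + 1 ∧ s ∣ (2 ^ (2 * m + 1)) ^ 2 + 1) := by
    intro r s hr hs hrs hy
    obtain ⟨x, hx⟩ := (hg r s hr hs hrs).2 hy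
    have h1 := H18.PGSz.orders hm hF (e₀.symm x)
    rw [MulEquiv.orderOf_eq, hx] at h1
    rcases h1 with ⟨k, hk⟩ | h1 | h1
    · exfalso
      have h2 : r = 2 := (Nat.prime_dvd_prime_iff_eq hr Nat.prime_two).1
        (hr.dvd_of_dvd_pow (hk ▸ dvd_mul_right r s))
      have h3 : s = 2 := (Nat.prime_dvd_prime_iff_eq hs Nat.prime_two).1
        (hs.dvd_of_dvd_pow (hk ▸ dvd_mul_left s r))
      exact hrs (h2.trans h3.symm)
    · exact Or.inl ⟨(dvd_mul_right r s).trans h1, (dvd_mul_left s r).trans h1⟩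
    · exact Or.inr ⟨(dvd_mul_right r s).trans h1, (dvd_mul_left s r).trans h1⟩
  have h2no : ∀ s : ℕ, s.Prime → s ≠ 2 → ¬ ∃ y : G, orderOf y = 2 * s := by
    intro s hs hs2 hy
    rcases hadj 2 s Nat.prime_two hs (Ne.symm hs2) hy with ⟨h1, -⟩ | ⟨h1, -⟩
    · obtain ⟨k, hk⟩ := hQe; omega
    · have h3 : Even ((2 ^ (2 * m + 1)) ^ 2) := Even.pow_of_ne_zero hQe (by norm_num)
      obtain ⟨k, hk⟩ := h3; omega
  have hS : Lead.CIT.Sep G := H18.PGraph.sep_of_graph h2no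
  -- non-solvable
  have hns : ¬ Group.IsSolvable G := by
    intro hsol
    obtain ⟨r, hr, hrd⟩ := Nat.exists_prime_and_dvd (n := 2 ^ (2 * m + 1) - 1) (by omega)
    obtain ⟨s, hs, hsd⟩ := Nat.exists_prime_and_dvd (n := (2 ^ (2 * m + 1)) ^ 2 + 1)
      (by have h0 : 0 < (2 ^ (2 * m + 1)) ^ 2 := by positivity
          omega)
    have hr2 : r ≠ 2 := by rintro rfl; obtain ⟨k, hk⟩ := hQe; omega
    have hs2 : s ≠ 2 := by
      rintro rfl
      have h3 : Even ((2 ^ (2 * m + 1)) ^ 2) := Even.pow_of_ne_zero hQe (by norm_num)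
      obtain ⟨k, hk⟩ := h3; omega
    have hrs : r ≠ s := by
      rintro rfl; exact H18.PGNum.coprime_sz hQe hQ1 hr hrd hsd
    have d2 : 2 ∣ Nat.card G := (hπ 2 Nat.prime_two).1 (by
      rw [hcS]
      exact ((dvd_pow (dvd_pow_self 2 (by omega)) (by norm_num)).mul_right _).mul_right _)
    have dr : r ∣ Nat.card G := (hπ r hr).1 (by rw [hcS]; exact hrd.mul_left _)
    have ds : s ∣ Nat.card G := (hπ s hs).1 (by rw [hcS]; exact (hsd.mul_left _).mul_right _)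
    rcases H63.SolvablePrimes.lucido hsol Nat.prime_two hr hs (Ne.symm hr2) (Ne.symm hs2) hrs d2 dr ds with h | h | h
    · exact h2no r hr hr2 h
    · exact h2no s hs hs2 h
    · rcases hadj r s hr hs hrs h with ⟨-, h1⟩ | ⟨h1, -⟩
      · exact H18.PGNum.coprime_sz hQe hQ1 hs h1 hsd
      · exact H18.PGNum.coprime_sz hQe hQ1 hr hrd h1
  have h3N : ¬ 3 ∣ Nat.card (G ⧸ Cfsg.pCore 2 G) := by
    rw [H18.PGraph.dvd_card_quot Nat.prime_three (by norm_num), ← hπ 3 Nat.prime_three, hcS]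
    exact fun h => H18.PGNum.three_sz h
  have h3psl : ∀ (K : Type) [Field K] [Fintype K], 3 ∣ Nat.card (Matrix.ProjectiveSpecialLinearGroup (Fin 2) K) := by
    intro K _ _
    rw [H18.PGraph.dvd_psl2 Nat.prime_three (by norm_num)]
    exact H18.PGNum.three_psl _
  rcases H18.SepCases.quot_cases hS hns with ⟨K, i1, i2, n, hn, hK, ⟨e⟩⟩ | ⟨K, i1, i2, m', hm', hK, ⟨e⟩⟩ |
    ⟨K, i1, i2, k, h7, hp, hk, ⟨e⟩⟩ | ⟨K, i1, i2, L, h9, hLn, hL, ⟨e⟩⟩ | ⟨K, i1, i2, h4, ⟨e⟩⟩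
  · exact absurd (by rw [Nat.card_congr e.toEquiv]; exact h3psl K) h3N
  · have hcN : Nat.card (G ⧸ Cfsg.pCore 2 G) =
        (2 ^ (2 * m' + 1)) ^ 2 * ((2 ^ (2 * m' + 1)) ^ 2 + 1) * (2 ^ (2 * m' + 1) - 1) := by
      rw [Nat.card_congr e.toEquiv]; exact H8.SuzGroup.card_Sz hm' hK
    have hmm : m = m' := by
      have h1 : 2 * m + 1 ∣ 2 * m' + 1 := by
        obtain ⟨r, hr, hro⟩ := H18.PGNum.exists_z (n := 4 * (2 * m + 1)) (by omega) (by omega)
        have hr2 := H18.PGNum.ne_two hro (by omega)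
        have h2 : r ∣ Nat.card (G ⧸ Cfsg.pCore 2 G) := by
          rw [H18.PGraph.dvd_card_quot hr hr2, ← hπ r hr, hcS]
          exact ((H18.PGNum.z_dvd_sz (by omega) hr hro).mul_left _).mul_right _
        rw [hcN] at h2
        exact H18.PGNum.z_sz (by omega) (by omega) hr hro h2
      have h1' : 2 * m' + 1 ∣ 2 * m + 1 := by
        obtain ⟨r, hr, hro⟩ := H18.PGNum.exists_z (n := 4 * (2 * m' + 1)) (by omega) (by omega)
        have hr2 := H18.PGNum.ne_two hro (by omega)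
        have h2 : r ∣ Nat.card ↥(Cfsg.Lie.Sz F (2 ^ (m + 1))) := by
          rw [hπ r hr, ← H18.PGraph.dvd_card_quot hr hr2, hcN]
          exact ((H18.PGNum.z_dvd_sz (by omega) hr hro).mul_left _).mul_right _
        rw [hcS] at h2
        exact H18.PGNum.z_sz (by omega) (by omega) hr hro h2
      have := Nat.dvd_antisymm h1 h1'
      omega
    subst hmm
    obtain ⟨e'⟩ := H18.PGSz.sz_congr hm hK hF
    exact ⟨(e.trans e').trans e₀⟩
  · exact absurd (by rw [Nat.card_congr e.toEquiv]; exact h3psl K) h3N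
  · exfalso
    apply h3N
    refine (?_ : 3 ∣ Nat.card L).trans (Subgroup.card_subgroup_dvd_card L)
    rw [Nat.card_congr e.toEquiv]; exact h3psl K
  · exfalso
    apply h3N
    rw [Nat.card_congr e.toEquiv, H18.CITM10.card_psl3 h4]
    norm_num

end Cfsg.Agent.S3699
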