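import Cfsg.Statements.S3700
import Cfsg.Agent.Lib.H18.PGraph
import Cfsg.Agent.Lib.H18.PGNum2
import Cfsg.Agent.Lib.H18.CITM10a
import Cfsg.Agent.Lib.H8.SuzGroup
import Cfsg.Agent.Lib.H46.PSL2Orders
import Cfsg.Agent.Lib.H21.PSLTransport

set_option autoImplicit false
open Cfsg

namespace Cfsg.Agent.S3700

/-- Let `F` be a finite field with `2^m` elements, `m ≥ 4`. If a finite group `G` has the same prime graph as `PSL(2, F)` (same prime divisors of the order; for distinct primes `r, s` an element of order `rs` in one iff in the other), then `G/O₂(G)` is isomorphic to `PSL(2, F)`. The known proof uses the classification of finite simple groups. -/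
theorem result {F : Type*} [Field F] [Fintype F] (m : ℕ) (hm : 4 ≤ m)
    (hF : Fintype.card F = 2 ^ m) {G : Type*} [Group G] [Finite G]
    (h : ((∀ r : ℕ, r.Prime → (r ∣ Nat.card (Matrix.ProjectiveSpecialLinearGroup (Fin 2) F) ↔ r ∣ Nat.card G)) ∧
      (∀ r s : ℕ, r.Prime → s.Prime → r ≠ s → ((∃ x : (Matrix.ProjectiveSpecialLinearGroup (Fin 2) F), orderOf x = r * s) ↔ (∃ y : G, orderOf y = r * s))))) :
    Nonempty (G ⧸ Cfsg.pCore 2 G ≃* Matrix.ProjectiveSpecialLinearGroup (Fin 2) F) := by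
  classical
  obtain ⟨hπ, hg⟩ := h
  haveI : Fact (Nat.Prime 2) := ⟨Nat.prime_two⟩
  haveI hfin : Finite (Matrix.ProjectiveSpecialLinearGroup (Fin 2) F) := inferInstanceAs (Finite (_ ⧸ _))
  haveI hchar : CharP F 2 := charP_of_card_eq_prime_pow hF
  have hQe : Even (2 ^ m) := Even.pow_of_ne_zero (by decide) (by omega)
  have hQ1 : 1 ≤ 2 ^ m := Nat.one_le_two_pow
  have hQ16 : 16 ≤ 2 ^ m := by
    calc 16 = 2 ^ 4 := by norm_num
      _ ≤ 2 ^ m := Nat.pow_le_pow_right (by norm_num) (by omega)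
  have hcop : Nat.gcd 2 (2 ^ m - 1) = 1 := by
    exact Nat.coprime_two_left.2 (Nat.Even.sub_odd hQ1 hQe odd_one)
  have hcS : Nat.card (Matrix.ProjectiveSpecialLinearGroup (Fin 2) F) = (2 ^ m + 1) * (2 ^ m * (2 ^ m - 1)) := by
    have := H18.PGraph.card_psl2 F
    rw [hF, hcop, one_mul] at this
    exact this
  have hadj : ∀ r s : ℕ, r.Prime → s.Prime → r ≠ s → (∃ y : G, orderOf y = r * s) →
      (r ∣ 2 ^ m - 1 ∧ s ∣ 2 ^ m - 1) ∨ (r ∣ 2 ^ m + 1 ∧ s ∣ 2 ^ m + 1) := by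
    intro r s hr hs hrs hy
    obtain ⟨x, hx⟩ := (hg r s hr hs hrs).2 hy
    have h1 := H46.PSL2Orders.order_trichotomy (F := F) 2 x
    rw [Nat.card_eq_fintype_card, hF, hcop, Nat.div_one, Nat.div_one, hx] at h1
    rcases h1 with h1 | h1 | h1
    · exfalso
      have h2 : r = 2 := (Nat.prime_dvd_prime_iff_eq hr Nat.prime_two).1 ((dvd_mul_right r s).trans h1)
      have h3 : s = 2 := (Nat.prime_dvd_prime_iff_eq hs Nat.prime_two).1 ((dvd_mul_left s r).trans h1)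
      exact hrs (h2.trans h3.symm)
    · exact Or.inl ⟨(dvd_mul_right r s).trans h1, (dvd_mul_left s r).trans h1⟩
    · exact Or.inr ⟨(dvd_mul_right r s).trans h1, (dvd_mul_left s r).trans h1⟩
  have h2no : ∀ s : ℕ, s.Prime → s ≠ 2 → ¬ ∃ y : G, orderOf y = 2 * s := by
    intro s hs hs2 hy
    rcases hadj 2 s Nat.prime_two hs (Ne.symm hs2) hy with ⟨h1, -⟩ | ⟨h1, -⟩
    · obtain ⟨k, hk⟩ := hQe; omega
    · obtain ⟨k, hk⟩ := hQe; omega
  have hS : Lead.CIT.Sep G := H18.PGraph.sep_of_graph h2no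
  have hns : ¬ Group.IsSolvable G := by
    intro hsol
    obtain ⟨r, hr, hrd⟩ := Nat.exists_prime_and_dvd (n := 2 ^ m - 1) (by omega)
    obtain ⟨s, hs, hsd⟩ := Nat.exists_prime_and_dvd (n := 2 ^ m + 1) (by omega)
    have hr2 : r ≠ 2 := by rintro rfl; obtain ⟨k, hk⟩ := hQe; omega
    have hs2 : s ≠ 2 := by rintro rfl; obtain ⟨k, hk⟩ := hQe; omega
    have hrs : r ≠ s := by
      rintro rfl; exact H18.PGNum.coprime_psl hQe hQ1 hr hrd hsd
    have d2 : 2 ∣ Nat.card G := (hπ 2 Nat.prime_two).1 (by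
      rw [hcS]
      exact ((dvd_pow_self 2 (by omega)).mul_right _).mul_left _)
    have dr : r ∣ Nat.card G := (hπ r hr).1 (by rw [hcS]; exact (hrd.mul_left _).mul_left _)
    have ds : s ∣ Nat.card G := (hπ s hs).1 (by rw [hcS]; exact hsd.mul_right _)
    rcases H63.SolvablePrimes.lucido hsol Nat.prime_two hr hs (Ne.symm hr2) (Ne.symm hs2) hrs d2 dr ds with h | h | h
    · exact h2no r hr hr2 h
    · exact h2no s hs hs2 h
    · rcases hadj r s hr hs hrs h with ⟨-, h1⟩ | ⟨h1, -⟩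
      · exact H18.PGNum.coprime_psl hQe hQ1 hs h1 hsd
      · exact H18.PGNum.coprime_psl hQe hQ1 hr hrd h1
  -- odd primes dividing `|N|`
  have hN : ∀ r : ℕ, r.Prime → r ≠ 2 → (r ∣ Nat.card (G ⧸ Cfsg.pCore 2 G) ↔ r ∣ 2 ^ (2 * m) - 1) := by
    intro r hr hr2
    rw [H18.PGraph.dvd_card_quot hr hr2, ← hπ r hr, hcS, H18.PGNum.psl_dvd hr hr2]
  obtain ⟨z, hz, hzo⟩ := H18.PGNum.exists_z (n := 2 * m) (by omega) (by omega)
  have hz2 := H18.PGNum.ne_two hzo (by omega)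
  have hzlt := H18.PGNum.lt_of_ord hz hzo (by omega)
  have hzN : z ∣ Nat.card (G ⧸ Cfsg.pCore 2 G) := (hN z hz hz2).2 ((H18.PGNum.dvd_iff hzo).2 dvd_rfl)
  rcases H18.SepCases.quot_cases hS hns with ⟨K, i1, i2, n, hn, hK, ⟨e⟩⟩ | ⟨K, i1, i2, m', hm', hK, ⟨e⟩⟩ |
    ⟨K, i1, i2, k, h7, hp, hk, ⟨e⟩⟩ | ⟨K, i1, i2, L, h9, hLn, hL, ⟨e⟩⟩ | ⟨K, i1, i2, h4, ⟨e⟩⟩
  · have hNK : ∀ r : ℕ, r.Prime → r ≠ 2 → (r ∣ Nat.card (G ⧸ Cfsg.pCore 2 G) ↔ r ∣ 2 ^ (2 * n) - 1) := by
      intro r hr hr2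
      rw [Nat.card_congr e.toEquiv, H18.PGraph.dvd_psl2 hr hr2, hK, H18.PGNum.psl_dvd hr hr2]
    have hmn : m ∣ n := by
      have h1 := (hNK z hz hz2).1 hzN
      have h2 := (H18.PGNum.dvd_iff hzo).1 h1
      exact Nat.dvd_of_mul_dvd_mul_left (by norm_num) h2
    have hnm : n ∣ m := by
      have h5 := Nat.le_of_dvd (by omega) hmn
      obtain ⟨w, hw, hwo⟩ := H18.PGNum.exists_z (n := 2 * n) (by omega) (by omega)
      have hw2 := H18.PGNum.ne_two hwo (by omega)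
      have h1 := (hN w hw hw2).1 ((hNK w hw hw2).2 ((H18.PGNum.dvd_iff hwo).2 dvd_rfl))
      have h2 := (H18.PGNum.dvd_iff hwo).1 h1
      exact Nat.dvd_of_mul_dvd_mul_left (by norm_num) h2
    have hEq := Nat.dvd_antisymm hmn hnm
    subst hEq
    obtain ⟨e'⟩ := H21.PSLTransport.psl_congr_card (K := K) (L := F) (by rw [hK, hF]) (Fin 2)
    exact ⟨e.trans e'⟩
  · exfalso
    have h3 : 3 ∣ Nat.card (G ⧸ Cfsg.pCore 2 G) := by
      rw [hN 3 Nat.prime_three (by norm_num)]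
      have : 2 ^ 2 - 1 ∣ 2 ^ (2 * m) - 1 := Nat.pow_sub_one_dvd_pow_sub_one 2 (dvd_mul_right 2 m)
      exact this
    rw [Nat.card_congr e.toEquiv, H8.SuzGroup.card_Sz hm' hK] at h3
    exact H18.PGNum.three_sz h3
  · exfalso
    have hNK : ∀ r : ℕ, r.Prime → r ≠ 2 → (r ∣ Nat.card (G ⧸ Cfsg.pCore 2 G) ↔
        r ∣ (Fintype.card K + 1) * (Fintype.card K * (Fintype.card K - 1))) := by
      intro r hr hr2
      rw [Nat.card_congr e.toEquiv, H18.PGraph.dvd_psl2 hr hr2]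
    generalize Fintype.card K = p at h7 hp hk hNK
    exact H18.PGNum.mersenne_fermat hm h7 hp hk hz hzo
      (fun r hr hr2 => (hN r hr hr2).symm.trans (hNK r hr hr2))
  · exfalso
    have h1 : z ∣ Nat.card L * L.index := by rw [Subgroup.card_mul_index]; exact hzN
    rcases hz.dvd_mul.1 h1 with h1 | h1
    · rw [Nat.card_congr e.toEquiv, H18.PGraph.dvd_psl2 hz hz2, h9] at h1
      have h2 : z ∣ 2 ^ 4 * (3 ^ 2 * 5) := by
        have : (9 + 1) * (9 * (9 - 1)) = 2 ^ 4 * (3 ^ 2 * 5) := by norm_num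
        rw [← this]; exact h1
      rcases hz.dvd_mul.1 h2 with h3 | h3
      · have := Nat.le_of_dvd (by norm_num) (hz.dvd_of_dvd_pow h3)
        omega
      rcases hz.dvd_mul.1 h3 with h3 | h3
      · have := Nat.le_of_dvd (by norm_num) (hz.dvd_of_dvd_pow h3)
        omega
      · have := Nat.le_of_dvd (by norm_num) h3
        omega
    · rcases hL with rfl | hL
      · rw [Subgroup.index_top] at h1
        exact hz.one_lt.ne' (Nat.dvd_one.1 h1)
      · rw [hL] at h1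
        have := Nat.le_of_dvd (by norm_num) h1
        omega
  · exfalso
    rw [Nat.card_congr e.toEquiv, H18.CITM10.card_psl3 h4] at hzN
    have h2 : z ∣ 2 ^ 6 * (3 ^ 2 * (5 * 7)) := by
      have : 20160 = 2 ^ 6 * (3 ^ 2 * (5 * 7)) := by norm_num
      rw [← this]; exact hzN
    rcases hz.dvd_mul.1 h2 with h3 | h3
    · have := Nat.le_of_dvd (by norm_num) (hz.dvd_of_dvd_pow h3)
      omega
    rcases hz.dvd_mul.1 h3 with h3 | h3
    · have := Nat.le_of_dvd (by norm_num) (hz.dvd_of_dvd_pow h3)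
      omega
    rcases hz.dvd_mul.1 h3 with h3 | h3
    · have := Nat.le_of_dvd (by norm_num) h3
      omega
    · have := Nat.le_of_dvd (by norm_num) h3
      omega

end Cfsg.Agent.S3700
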