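import Cfsg.Statements.S3711
import Cfsg.Agent.Lib.H60.PhTwoI

set_option autoImplicit false
open Cfsg

namespace Cfsg.Agent.S3711

open Cfsg H60.Ph H60.Ph.Two

/-- Recognition of unitary groups over the field with 4 elements from a weak Phan system. Let F be a field with 4 elements and n ≥ 4. Let G be a group with subgroups U_0, …, U_{n−1}, each isomorphic to SU(2, 4), and, for consecutive indices, subgroups V_{i,i+1} in which U_i and U_{i+1} form a standard pair (via an isomorphism from SU(3, 4) or PSU(3, 4) carrying the block-diagonal subgroups, or their images, onto U_i and U_{i+1}); suppose U_i and U_j commute elementwise whenever the indices differ by at least 2, that G is generated by the U_i and the V_{i,i+1}, that for each i the subgroup generated by V_{i,i+1} and V_{i+1,i+2} is a homomorphic image of SU(4, 4), that U_i and V_{j,j+1} commute elementwise whenever i ≤ j − 2 or i ≥ j + 3, and that V_{i,i+1} and V_{k,k+1} commute elementwise whenever k ≥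 i + 3. Then G is a homomorphic image of SU(n+1, 4). (G is not assumed finite.) -/
theorem result {G : Type*} [Group G] (n : ℕ) (hn : 4 ≤ n)
    (F : Type*) [Field F] [Fintype F] (hF : Fintype.card F = 4)
    (U : Fin n → Subgroup G) (e : ∀ i, ↥(Cfsg.SU 2 F 2) ≃* ↥(U i))
    (V : Fin n → Fin n → Subgroup G)
    (h1 : ∀ i j : Fin n, (i : ℕ) + 2 ≤ j → ∀ x ∈ U i, ∀ y ∈ U j, x * y = y * x)
    (h2 : ∀ i j : Fin n, (i : ℕ) + 1 = j → Cfsg.IsStandardUnitaryPair (V i j) (U i) (U j) F 2)
    (hgen : (⨆ i, U i) ⊔ (⨆ (i : Fin n) (j : Fin n) (_ : (i : ℕ) + 1 = j), V i j) = ⊤)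
    (h4 : ∀ i j k : Fin n, (i : ℕ) + 1 = j → (j : ℕ) + 1 = k →
      ∃ g : ↥(Cfsg.SU 4 F 2) →* ↥(V i j ⊔ V j k), Function.Surjective g)
    (h5 : ∀ i j k : Fin n, (j : ℕ) + 1 = k → ((i : ℕ) + 2 ≤ j ∨ (k : ℕ) + 2 ≤ i) →
      ∀ x ∈ U i, ∀ y ∈ V j k, x * y = y * x)
    (h6 : ∀ i j k l : Fin n, (i : ℕ) + 1 = j → (k : ℕ) + 1 = l → (j : ℕ) + 2 ≤ k →
      ∀ x ∈ V i j, ∀ y ∈ V k l, x * y = y * x) :
    ∃ f : ↥(Cfsg.SU (n + 1) F 2) →* G, Function.Surjective f := by
  classical
  have hF' : Fintype.card F = 2 ^ 2 := by rw [hF]; norm_num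
  obtain ⟨k, rfl⟩ : ∃ k, n = k + 3 := ⟨n - 3, by omega⟩
  have hex : ∀ i : Fin (k + 1), ∃ γ : SU 4 F 2 →* G,
      (γ.comp (emb hF' (hd (by omega : 2 ≤ 4)))).range = U i.castSucc.castSucc ∧
      (γ.comp (emb hF' md)).range = U i.succ.castSucc ∧ (γ.comp (emb hF' tt)).range = U i.succ.succ ∧
      (γ.comp (emb hF' (hd (by omega : 3 ≤ 4)))).range = V i.castSucc.castSucc i.castSucc.succ ∧
      (γ.comp (emb hF' (tl 3))).range = V i.succ.castSucc i.succ.succ ∧ Function.Injective γ := by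
    intro i
    obtain ⟨g, hg⟩ := h4 i.castSucc.castSucc i.succ.castSucc i.succ.succ (by simp) (by simp)
    exact exists_standard2 hF' (h2 i.castSucc.castSucc i.succ.castSucc (by simp)) (h2 i.succ.castSucc i.succ.succ (by simp))
      (h1 i.castSucc.castSucc i.succ.succ (by simp)) g hg
  choose γ γ1 γ2 γ3 γ4 γ5 γ6 using hex
  have H : PhanData2 hF' k U (fun j : Fin (k + 2) => V j.castSucc j.succ) γ :=
    { b0 := γ1
      b1 := γ2
      b2 := γ3
      v0 := γ4
      v1 := γ5
      inj := γ6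
      hc := h1
      h5 := fun i j hij => h5 i j.castSucc j.succ (by simp) (Or.inl (by simpa using hij))
      h5' := fun i j hij => h5 i j.castSucc j.succ (by simp) (Or.inr (by simp; omega))
      h6 := fun i j hij => h6 i.castSucc i.succ j.castSucc j.succ (by simp) (by simp) (by simp; omega) }
  obtain ⟨f, -, -, -, fU, fV, -⟩ := exists_glued2 hF' k U _ γ H
  refine ⟨f, ?_⟩
  rw [← MonoidHom.range_eq_top, eq_top_iff, ← hgen, sup_le_iff]
  refine ⟨iSup_le fU, iSup_le fun i => iSup_le fun j => iSup_le fun hij => ?_⟩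
  have hi : (i : ℕ) < k + 2 := by have := j.2; omega
  have hV := fV ⟨i, hi⟩
  have e1 : (⟨i, hi⟩ : Fin (k + 2)).castSucc = i := rfl
  have e2 : (⟨i, hi⟩ : Fin (k + 2)).succ = j := by
    apply Fin.ext
    simpa using hij
  rw [e1, e2] at hV
  exact hV

end Cfsg.Agent.S3711
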