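import Cfsg.Statements.S3753
import Cfsg.Agent.Lib.H65.AbPStab

set_option autoImplicit false
open Cfsg

namespace Cfsg.Agent.S3753

open H65.MaxLocal in
/-- Two distinct subgroups M₁, M₂ of G form a primitive pair when, for {i, j} = {1, 2}, every non-trivial normal subgroup A of M_i contained in M₁ ∩ M₂ satisfies N_{M_j}(A) = M₁ ∩ M₂; the pair has characteristic p when moreover C_{M_i}(O_p(M_i)) ≤ O_p(M_i) for both i and O_p(M₁)O_p(M₂) ≤ M₁ ∩ M₂. If the finite group G has a primitive pair (M₁, M₂) of characteristic p for some prime p, then M₁ or M₂ has non-abelian Sylow 2-subgroups. In particular no group of odd order has a primitive pair of characteristic p. -/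
theorem result {G : Type*} [Group G] [Finite G] {p : ℕ} [Fact p.Prime] (M₁ M₂ : Subgroup G) (hne : M₁ ≠ M₂) (hP : ∀ A : Subgroup G, A ≠ ⊥ → A ≤ M₁ ⊓ M₂ → (M₁ ≤ Subgroup.normalizer (A : Set G) → M₂ ⊓ Subgroup.normalizer (A : Set G) = M₁ ⊓ M₂) ∧ (M₂ ≤ Subgroup.normalizer (A : Set G) → M₁ ⊓ Subgroup.normalizer (A : Set G) = M₁ ⊓ M₂)) (hc₁ : Subgroup.centralizer (Cfsg.pCore p ↥M₁ : Set ↥M₁) ≤ Cfsg.pCore p ↥M₁) (hc₂ : Subgroup.centralizer (Cfsg.pCore p ↥M₂ : Set ↥M₂) ≤ Cfsg.pCore p ↥M₂) (hO : (Cfsg.pCore p ↥M₁).map M₁.subtype ⊔ (Cfsg.pCore p ↥M₂).map M₂.subtype ≤ M₁ ⊓ M₂) : (∃ S : Sylow 2 ↥M₁, ¬ IsMulCommutative (S : Subgroup ↥M₁)) ∨ (∃ S : Sylow 2 ↥M₂, ¬ IsMulCommutative (S : Subgroup ↥M₂)) := by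
  by_contra hcon
  push Not at hcon
  obtain ⟨hS1, hS2⟩ := hcon
  have hch : ∀ M : Subgroup G, Subgroup.centralizer (Cfsg.pCore p ↥M : Set ↥M) ≤ Cfsg.pCore p ↥M →
      M ⊓ Subgroup.centralizer (opc p M : Set G) ≤ opc p M := by
    intro M hc x hx
    obtain ⟨hxM, hxc⟩ := Subgroup.mem_inf.mp hx
    have h1 : (⟨x, hxM⟩ : M) ∈ Subgroup.centralizer (pCore p M : Set M) := by
      rw [Subgroup.mem_centralizer_iff]
      intro y hy
      have := Subgroup.mem_centralizer_iff.mp hxc (y : G) ⟨y, hy, rfl⟩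
      exact Subtype.ext this
    exact ⟨_, hc h1, rfl⟩
  have hO1 : opc p M₁ ≤ M₁ ⊓ M₂ := le_sup_left.trans hO
  have hO2 : opc p M₂ ≤ M₁ ⊓ M₂ := le_sup_right.trans hO
  by_cases hp : p = 2
  · subst hp
    have key : ∀ M : Subgroup G, (∀ S : Sylow 2 M, IsMulCommutative (S : Subgroup M)) →
        M ⊓ Subgroup.centralizer (opc 2 M : Set G) ≤ opc 2 M → ∀ Q : Subgroup G, Q ≤ M → IsPGroup 2 Q → Q ≤ opc 2 M := by
      intro M hS hc Q hQM hQ
      obtain ⟨S, hQS⟩ := ((H28.RelSyl.isPGroup_subgroupOf hQM).mpr hQ).exists_le_sylow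
      intro x hx
      apply hc
      refine Subgroup.mem_inf.mpr ⟨hQM hx, ?_⟩
      rw [Subgroup.mem_centralizer_iff]
      rintro _ ⟨y, hy, rfl⟩
      have h1 : y ∈ (S : Subgroup M) := H1.Cores.pCore_le_sylow S hy
      have h2 : (⟨x, hQM hx⟩ : M) ∈ (S : Subgroup M) := hQS hx
      have h3 := (hS S).is_comm.comm ⟨y, h1⟩ ⟨_, h2⟩
      exact congrArg (fun z : (S : Subgroup M) => ((z : M) : G)) h3
    have e1 := key M₁ hS1 (hch M₁ hc₁) (opc 2 M₂) (hO2.trans inf_le_left) isPGroup_opc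
    have e2 := key M₂ hS2 (hch M₂ hc₂) (opc 2 M₁) (hO1.trans inf_le_right) isPGroup_opc
    have e : opc 2 M₁ = opc 2 M₂ := le_antisymm e2 e1
    have hb : ∀ M : Subgroup G, M ⊓ Subgroup.centralizer (opc 2 M : Set G) ≤ opc 2 M → opc 2 M = ⊥ → M = ⊥ := by
      intro M h1 h2
      rw [h2] at h1
      refine le_bot_iff.mp (le_trans (le_inf le_rfl ?_) h1)
      rw [Subgroup.le_centralizer_iff]
      exact bot_le
    by_cases h : opc 2 M₁ = ⊥
    · exact hne ((hb M₁ (hch M₁ hc₁) h).trans (hb M₂ (hch M₂ hc₂) (e ▸ h)).symm)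
    · apply hne
      refine H65.Bender.eq_of_common hP h hO1 le_normalizer_opc ?_
      rw [e]; exact le_normalizer_opc
  · have hinv : ∀ M : Subgroup G, (∀ S : Sylow 2 M, IsMulCommutative (S : Subgroup M)) →
        ¬ Involves (Matrix.SpecialLinearGroup (Fin 2) (ZMod p)) M := by
      intro M hS hi
      obtain ⟨S⟩ : Nonempty (Sylow 2 M) := inferInstance
      exact H3.QuadGen2.not_comm_of_involves hp hi S (hS S)
    exact H65.AbPStab.main hp hne hP (hinv M₁ hS1) (hinv M₂ hS2) (hch M₁ hc₁) (hch M₂ hc₂) hO1 hO2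

end Cfsg.Agent.S3753
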