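import Cfsg.Statements.S3788
import Cfsg.Agent.Lib.H52.CycNorm2

set_option autoImplicit false
open Cfsg

namespace Cfsg.Agent.S3788

/-- Let G be a finite p-soluble group, P a Sylow p-subgroup of G and A a cyclic normal subgroup of P. If p is odd, or if no section of G is isomorphic to the symmetric group of degree 4, then A ≤ O_{p',p}(G). -/
theorem result {G : Type*} [Group G] [Finite G] {p : ℕ} [Fact p.Prime] (hG : Cfsg.IsPSolvable p G) (P : Sylow p G) (A : Subgroup G) (hAP : A ≤ (P : Subgroup G)) (hAn : (P : Subgroup G) ≤ Subgroup.normalizer (A : Set G)) (hA : IsCyclic A) (h : p ≠ 2 ∨ ¬ Cfsg.Involves (Equiv.Perm (Fin 4)) G) : A ≤ Cfsg.pPrimePCore p G := by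
  obtain ⟨⟨a, haA⟩, hgen⟩ := hA.exists_generator
  have hAz : ∀ b ∈ A, b ∈ Subgroup.zpowers a := by
    intro b hb
    obtain ⟨k, hk⟩ := Subgroup.mem_zpowers_iff.1 (hgen ⟨b, hb⟩)
    exact ⟨k, congrArg Subtype.val hk⟩
  have hYn : (pPrimeCore p G).Normal := H1.Cores.pPrimeCore_normal p
  set Y := pPrimeCore p G with hY
  set π := QuotientGroup.mk' Y with hπ
  have hπs : Function.Surjective π := QuotientGroup.mk'_surjective Y
  have hmem : π a ∈ pCore p (G ⧸ Y) := by
    apply H52.CycNorm2.mem_pCore (H37.PSolv.quotient hG Y) (H1.Cores.pPrimeCore_quotient_pPrimeCore p)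
    · obtain ⟨k, hk⟩ := P.2 ⟨a, hAP haA⟩
      refine ⟨k, ?_⟩
      have h1 : a ^ p ^ k = 1 := congrArg Subtype.val hk
      rw [← map_pow, h1, map_one]
    · intro h hh
      have h1 : h ∈ (P.mapSurjective hπs : Subgroup (G ⧸ Y)) := H1.Cores.pCore_le_sylow _ hh
      obtain ⟨g, hg, rfl⟩ := h1
      have h2 : a * g * a⁻¹ * g⁻¹ ∈ A := by
        have h3 : g * a⁻¹ * g⁻¹ ∈ A := (Subgroup.mem_normalizer_iff.1 (hAn hg) _).1 (inv_mem haA)
        have h4 : a * g * a⁻¹ * g⁻¹ = a * (g * a⁻¹ * g⁻¹) := by group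
        rw [h4]; exact mul_mem haA h3
      obtain ⟨k, hk⟩ := hAz _ h2
      refine ⟨k, ?_⟩
      have hk' : a ^ k = a * g * a⁻¹ * g⁻¹ := hk
      show (π a) ^ k = _
      rw [← map_zpow, hk', map_mul, map_mul, map_mul, map_inv, map_inv]
    · exact h.imp_right fun h1 h2 => h1 (H51.Involves.involves_of_hom π hπs h2)
  intro b hb
  obtain ⟨k, hk⟩ := hAz b hb
  show π b ∈ pCore p (G ⧸ Y)
  have hk' : a ^ k = b := hk
  rw [← hk', map_zpow]
  exact zpow_mem hmem k

end Cfsg.Agent.S3788
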