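import Cfsg.Statements.S3806
import Cfsg.Agent.Lib.H57.Mc6
import Cfsg.Agent.Lib.H14.MaxClass

set_option autoImplicit false
open Cfsg

namespace Cfsg.Agent.S3806

open H57.Mc H67.HallPetrescu
open scoped commutatorElement

theorem section_rank {G : Type*} [Group G] [Finite G] {p k : ℕ} {A B : Subgroup G} [B.Normal] (hBA : B ≤ A)
    (hc : ∀ x ∈ A, ∀ y ∈ A, ⁅x, y⁆ ∈ B) (he : ∀ x ∈ A, x ^ p ∈ B) (hcard : p ^ (k + 1) * Nat.card B ≤ Nat.card A)
    (hsr : Cfsg.SectionalPRankLE p k G) (hp : p.Prime := by exact Fact.out) : False := by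
  have h1 := hsr A (B.subgroupOf A) ⊤ ?_ ?_
  · rw [Subgroup.card_top, ← Subgroup.index_eq_card] at h1
    have h2 := Subgroup.card_mul_index (B.subgroupOf A)
    rw [Nat.card_congr (Subgroup.subgroupOfEquivOfLe hBA).toEquiv] at h2
    have h3 : Nat.card B * p ^ (k + 1) ≤ Nat.card B * p ^ k := by
      calc Nat.card B * p ^ (k + 1) = p ^ (k + 1) * Nat.card B := mul_comm _ _
        _ ≤ Nat.card A := hcard
        _ = Nat.card B * (B.subgroupOf A).index := h2.symm
        _ ≤ Nat.card B * p ^ k := Nat.mul_le_mul_left _ h1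
    have h4 := Nat.le_of_mul_le_mul_left h3 Nat.card_pos
    exact absurd h4 (not_le.2 (Nat.pow_lt_pow_right hp.one_lt (Nat.lt_succ_self k)))
  · refine ⟨⟨fun a b => Subtype.ext ?_⟩⟩
    obtain ⟨x, hx⟩ := QuotientGroup.mk_surjective a.1
    obtain ⟨y, hy⟩ := QuotientGroup.mk_surjective b.1
    show a.1 * b.1 = b.1 * a.1
    rw [← hx, ← hy, ← QuotientGroup.mk_mul, ← QuotientGroup.mk_mul]
    refine QuotientGroup.eq.2 ?_
    have : ((x * y)⁻¹ * (y * x) : A) ∈ B.subgroupOf A := by
      rw [Subgroup.mem_subgroupOf]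
      have h5 := hc _ (inv_mem y.2) _ (inv_mem x.2)
      have h6 : (((x * y)⁻¹ * (y * x) : A) : G) = ⁅(y : G)⁻¹, (x : G)⁻¹⁆ := by
        rw [commutatorElement_def]
        simp only [Subgroup.coe_mul, Subgroup.coe_inv]
        group
      rw [h6]; exact h5
    exact this
  · intro a _
    obtain ⟨x, hx⟩ := QuotientGroup.mk_surjective a
    rw [← hx, ← QuotientGroup.mk_pow]
    refine (QuotientGroup.eq_one_iff _).2 ?_
    have : (x ^ p : A) ∈ B.subgroupOf A := by
      rw [Subgroup.mem_subgroupOf]; exact he _ x.2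
    exact this

/-- Let p be a prime and S a finite p-group of order pⁿ (n ≥ 2) of maximal nilpotency class n − 1 whose sectional p-rank is exactly k (every section has p-rank at most k, and some section has p-rank k). If p ≥ k + 2 then the order of S is at most p^(2k). -/
theorem result {S : Type*} [Group S] [Finite S] (p : ℕ) [Fact p.Prime] (hS : IsPGroup p S) [Group.IsNilpotent S]
    (n : ℕ) (hn : 2 ≤ n) (hcard : Nat.card S = p ^ n) (hmax : Group.nilpotencyClass S = n - 1)
    (k : ℕ) (hk : 1 ≤ k) (hsr : Cfsg.SectionalPRankLE p k S ∧ ¬ Cfsg.SectionalPRankLE p (k - 1) S)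
    (hpk : k + 2 ≤ p) : Nat.card S ≤ p ^ (2 * k) := by
  by_contra hlt
  rw [not_le, hcard] at hlt
  have hnk : 2 * k < n := (Nat.pow_lt_pow_iff_right (Fact.out : p.Prime).one_lt).1 hlt
  have h := mc_of_class hn hcard hmax
  rcases Nat.lt_or_ge k 2 with hk2 | hk2
  · have hk1 : k = 1 := by omega
    subst hk1
    refine section_rank (p := p) (k := 1) (A := (⊤ : Subgroup S)) (B := lcsF S 2) le_top
      (fun x _ y _ => comm_memK (i := 1) (j := 1) (Subgroup.mem_top x) (Subgroup.mem_top y)) ?_ ?_ hsr.1
    · intro x _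
      by_contra hx
      have hK : commutator S = lcsF S 2 := (K_succ (G := S) (le_refl 1)).symm ▸ rfl
      have hc : IsCyclic (S ⧸ commutator S) := by
        have hc2 : Nat.card (S ⧸ commutator S) = p ^ 2 := by
          rw [← Subgroup.index_eq_card, hK]; exact h.index_K2 hn
        refine isCyclic_of_orderOf_eq_card (QuotientGroup.mk x : S ⧸ commutator S) ?_
        rw [hc2]
        refine orderOf_eq_prime_pow ?_ ?_
        · rw [pow_one, ← QuotientGroup.mk_pow]
          intro h1
          have h3 := (QuotientGroup.eq_one_iff _).1 h1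
          rw [hK] at h3
          exact hx h3
        · rw [← hc2]; exact pow_card_eq_one'
      have h1 := H14.MaxClass.commutator_eq_bot_of_isCyclic_quotient hS hc
      rw [hK] at h1
      have h2 := h.cardK 2 le_rfl hn
      rw [h1, Subgroup.card_bot] at h2
      exact absurd h2.symm (Nat.one_lt_pow (by omega) (Fact.out : p.Prime).one_lt).ne'
    · rw [Subgroup.card_top, hcard, h.cardK 2 le_rfl hn, ← pow_add]
      exact Nat.pow_le_pow_right (Fact.out : p.Prime).pos (by omega)
  · obtain ⟨s, hs⟩ := h.exists_unif (by omega) (by omega)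
    obtain ⟨y₀, hy₀, hy₀'⟩ := h.exists_mem (i := k) hk2 (by omega)
    have hA : lcsF S k ≤ CM (lcsF S (2 * k + 1)) y₀ := by
      refine h.le_of hk2 (by omega) (fun x hx => ?_) hy₀ hy₀' ?_
      · have := comm_memK hx hy₀
        rw [mem_CM]
        rwa [show k + 1 + k = 2 * k + 1 by omega] at this
      · rw [mem_CM, commutatorElement_self]; exact Subgroup.one_mem _
    refine section_rank (p := p) (k := k) (A := lcsF S k) (B := lcsF S (2 * k + 1)) (K_anti (by omega)) ?_ ?_ ?_ hsr.1
    · intro x hx y hy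
      have hB : lcsF S k ≤ CM (lcsF S (2 * k + 1)) y := by
        refine h.le_of hk2 (by omega) (fun z hz => ?_) hy₀ hy₀' ?_
        · have := comm_memK hz hy
          rw [mem_CM]
          rwa [show k + 1 + k = 2 * k + 1 by omega] at this
        · exact comm_symm (hA hy)
      exact hB hx
    · intro x hx
      exact K_anti (by omega) (h.pow (by omega) hs k hk2 x hx).1
    · rw [h.cardK k hk2 (by omega), h.cardK (2 * k + 1) (by omega) (by omega), ← pow_add]
      exact Nat.pow_le_pow_right (Fact.out : p.Prime).pos (by omega)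

end Cfsg.Agent.S3806
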