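import Cfsg.Statements.S3807
import Cfsg.Agent.Lib.H14.MaxClass
import Cfsg.Agent.Lib.H66.PIndex

set_option autoImplicit false
open Cfsg
open scoped commutatorElement

namespace Cfsg.Agent.S3807

open Subgroup in
theorem isMulCommutative_of_index {S : Type*} [Group S] [Finite S] (p : ℕ) [hp : Fact p.Prime]
    (B : Subgroup S) (hZB : center S ≤ B) (hB : Nat.card (B.map (QuotientGroup.mk' (center S))) = p) :
    IsMulCommutative ↥B := by
  have hcyc : IsCyclic (B.map (QuotientGroup.mk' (center S))) := isCyclic_of_prime_card hB
  refine ⟨⟨?_⟩⟩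
  refine commutative_of_cyclic_center_quotient ((QuotientGroup.mk' (center S)).subgroupMap B) ?_
  intro x hx
  rw [MonoidHom.mem_ker] at hx
  have h1 : QuotientGroup.mk' (center S) (x : S) = 1 := congrArg Subtype.val hx
  have h2 : (x : S) ∈ center S := (QuotientGroup.eq_one_iff _).1 h1
  rw [Subgroup.mem_center_iff] at h2 ⊢
  intro y
  exact Subtype.ext (h2 y)

open Subgroup in
/-- Let S be a non-abelian finite p-group with an abelian subgroup A of index p. Then [S : Z(S)] = p·#[S,S], and either [S,S] has order p, S/Z(S) is elementary abelian of order p², and S has exactly p + 1 abelian subgroups of index p; or [S,S] has order at least p² and A is the only abelian subgroup of index p in S. -/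
theorem result {S : Type*} [Group S] [Finite S] (p : ℕ) [Fact p.Prime] (hS : IsPGroup p S) (hna : ¬ IsMulCommutative S)
    (A : Subgroup S) (hA : IsMulCommutative ↥A) (hAi : A.index = p) :
    (Subgroup.center S).index = p * Nat.card (commutator S) ∧
      ((Nat.card (commutator S) = p ∧ Cfsg.IsElementaryAbelian p (⊤ : Subgroup (S ⧸ Subgroup.center S)) ∧
          Nat.card (S ⧸ Subgroup.center S) = p ^ 2 ∧
          Nat.card {B : Subgroup S // IsMulCommutative ↥B ∧ B.index = p} = p + 1) ∨
        (p ^ 2 ≤ Nat.card (commutator S) ∧ ∀ B : Subgroup S, IsMulCommutative ↥B → B.index = p → B = A)) := by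
  have hp : p.Prime := Fact.out
  have hidx := H66.PIndex.index_center_eq hS hna A hA hAi
  refine ⟨hidx, ?_⟩
  have hZ : ∀ B : Subgroup S, IsMulCommutative ↥B → B.index = p → center S ≤ B :=
    fun B hB hBi => H66.PIndex.center_le_abelian hna B hB hBi
  obtain ⟨k, hk⟩ := IsPGroup.iff_card.1 (hS.to_subgroup (commutator S))
  have hk0 : k ≠ 0 := by
    rintro rfl
    rw [pow_zero, Subgroup.card_eq_one] at hk
    apply hna
    exact ⟨⟨fun a b => by
      have h1 : ⁅a, b⁆ ∈ commutator S :=
        Subgroup.commutator_mem_commutator (Subgroup.mem_top a) (Subgroup.mem_top b)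
      rw [hk, Subgroup.mem_bot, commutatorElement_eq_one_iff_mul_comm] at h1
      exact h1⟩⟩
  by_cases hk1 : k = 1
  · left
    rw [hk1, pow_one] at hk
    have hq : Nat.card (S ⧸ center S) = p ^ 2 := by
      rw [← Subgroup.index_eq_card, hidx, hk, sq]
    -- exponent p
    have hncyc : ¬ IsCyclic (S ⧸ center S) := by
      intro h
      apply hna
      refine ⟨⟨commutative_of_cyclic_center_quotient (QuotientGroup.mk' (center S)) ?_⟩⟩
      rw [QuotientGroup.ker_mk']
    have hexp : ∀ x : S ⧸ center S, x ^ p = 1 := by
      intro x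
      have h1 : orderOf x ∣ p ^ 2 := by rw [← hq]; exact orderOf_dvd_natCard x
      obtain ⟨j, hj, hxj⟩ := (Nat.dvd_prime_pow hp).1 h1
      have hj2 : j ≠ 2 := by
        rintro rfl
        apply hncyc
        exact isCyclic_of_orderOf_eq_card x (by rw [hxj, hq])
      rw [← orderOf_dvd_iff_pow_eq_one, hxj]
      exact (pow_dvd_pow p (by omega : j ≤ 1)).trans (by rw [pow_one])
    refine ⟨hk, ⟨?_, fun a _ => hexp a⟩, hq, ?_⟩
    · have hcomm := IsPGroup.commutative_of_card_eq_prime_sq (p := p) hq
      exact ⟨⟨fun a b => Subtype.ext (hcomm _ _)⟩⟩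
    · rw [← H14.MaxClass.card_subgroups_of_order_p hq hexp]
      refine Nat.card_congr
        { toFun := fun B => ⟨B.1.map (QuotientGroup.mk' (center S)), ?_⟩
          invFun := fun H => ⟨H.1.comap (QuotientGroup.mk' (center S)), ?_, ?_⟩
          left_inv := ?_
          right_inv := ?_ }
      · have h1 : (B.1.map (QuotientGroup.mk' (center S))).index = p := by
          rw [Subgroup.index_map_eq _ (QuotientGroup.mk'_surjective _)]
          · exact B.2.2
          · rw [QuotientGroup.ker_mk']; exact hZ B.1 B.2.1 B.2.2
        have h2 := (B.1.map (QuotientGroup.mk' (center S))).card_mul_index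
        rw [h1, hq, sq] at h2
        exact Nat.eq_of_mul_eq_mul_right hp.pos h2
      · apply isMulCommutative_of_index p
        · exact QuotientGroup.le_comap_mk' _ _
        · rw [Subgroup.map_comap_eq_self_of_surjective (QuotientGroup.mk'_surjective _)]
          exact H.2
      · rw [Subgroup.index_comap_of_surjective _ (QuotientGroup.mk'_surjective _)]
        have h2 := H.1.card_mul_index
        rw [H.2, hq, sq] at h2
        exact Nat.eq_of_mul_eq_mul_left hp.pos h2
      · intro B
        apply Subtype.ext
        change (B.1.map (QuotientGroup.mk' (center S))).comap (QuotientGroup.mk' (center S)) = B.1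
        rw [Subgroup.comap_map_eq, QuotientGroup.ker_mk', sup_eq_left.2 (hZ B.1 B.2.1 B.2.2)]
      · intro H
        apply Subtype.ext
        exact Subgroup.map_comap_eq_self_of_surjective (QuotientGroup.mk'_surjective _) _
  · right
    have hk2 : p ^ 2 ≤ Nat.card (commutator S) := by
      rw [hk]; exact Nat.pow_le_pow_right hp.pos (by omega)
    refine ⟨hk2, fun B hB hBi => ?_⟩
    by_contra hne
    have hAn : A.Normal := H3.PBasic.normal_of_index hS hAi
    -- A ⊓ B is central
    have hsup : A ⊔ B = ⊤ := by
      have h1 : (A ⊔ B).index ∣ p := by rw [← hAi]; exact Subgroup.index_dvd_of_le le_sup_left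
      rcases (Nat.dvd_prime hp).1 h1 with h2 | h2
      · exact Subgroup.index_eq_one.1 h2
      · exfalso
        apply hne
        have h3 : A = A ⊔ B := by
          apply Subgroup.eq_of_le_of_card_ge le_sup_left
          have h4 := A.card_mul_index
          have h5 := (A ⊔ B).card_mul_index
          rw [hAi] at h4; rw [h2, ← h4] at h5
          exact (Nat.eq_of_mul_eq_mul_right hp.pos h5).le
        have h6 : B = A ⊔ B := by
          apply Subgroup.eq_of_le_of_card_ge le_sup_right
          have h4 := B.card_mul_index
          have h5 := (A ⊔ B).card_mul_index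
          rw [hBi] at h4; rw [h2, ← h4] at h5
          exact (Nat.eq_of_mul_eq_mul_right hp.pos h5).le
        rw [h6, ← h3]
    have hcen : A ⊓ B ≤ center S := by
      intro z hz
      obtain ⟨hzA, hzB⟩ := Subgroup.mem_inf.1 hz
      have h1 : A ⊔ B ≤ centralizer ({z} : Set S) := by
        refine sup_le ?_ ?_
        · intro a ha
          rw [Subgroup.mem_centralizer_singleton_iff]
          exact congrArg Subtype.val (hA.is_comm.comm (⟨a, ha⟩ : A) ⟨z, hzA⟩)
        · intro a ha
          rw [Subgroup.mem_centralizer_singleton_iff]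
          exact congrArg Subtype.val (hB.is_comm.comm (⟨a, ha⟩ : B) ⟨z, hzB⟩)
      rw [hsup] at h1
      rw [Subgroup.mem_center_iff]
      intro g
      exact Subgroup.mem_centralizer_singleton_iff.1 (h1 (Subgroup.mem_top g))
    have h2 : (A ⊓ B).index ≤ p * p := by
      have := Subgroup.index_inf_le (H := A) (K := B)
      rwa [hAi, hBi] at this
    have h3 : (center S).index ≤ (A ⊓ B).index :=
      Nat.le_of_dvd (Nat.pos_of_ne_zero Subgroup.index_ne_zero_of_finite)
        (Subgroup.index_dvd_of_le hcen)
    rw [hidx, hk] at h3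
    have h4 : p * p ^ k ≤ p * p := h3.trans h2
    have h5 : p ^ k ≤ p ^ 1 := by
      rw [pow_one]
      exact Nat.le_of_mul_le_mul_left h4 hp.pos
    have h6 := (Nat.pow_le_pow_iff_right hp.one_lt).1 h5
    omega

end Cfsg.Agent.S3807
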