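import Cfsg.Statements.S3808
import Cfsg.Agent.Lib.H66.PIndex

set_option autoImplicit false
open Cfsg

namespace Cfsg.Agent.S3808

theorem result {S : Type*} [Group S] [Finite S] (p : ℕ) [Fact p.Prime] (hS : IsPGroup p S) (Q : Subgroup S) (hQ : Cfsg.IsExtraspecial p ↥Q) (hQi : Q.index = p) :
    Subgroup.center S = (Subgroup.center ↥Q).map Q.subtype ∨
      (Q ⊔ Subgroup.center S = ⊤ ∧ Nat.card (Subgroup.center S) = p ^ 2) := by
  have hQn : Q.Normal := H3.PBasic.normal_of_index hS hQi
  have hle := H66.PIndex.center_map_le_center hS Q hQ.2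
  by_cases h : Subgroup.center S ≤ Q
  · left
    apply le_antisymm _ hle
    intro z hz
    rw [H66.PIndex.mem_center_map]
    exact ⟨h hz, fun q _ => Subgroup.mem_center_iff.1 hz q⟩
  · right
    have htop : Q ⊔ Subgroup.center S = ⊤ := by
      apply (H3.PBasic.isCoatom_of_index Q hQi).2
      refine lt_of_le_of_ne le_sup_left ?_
      intro h1
      exact h (by rw [h1]; exact le_sup_right)
    refine ⟨htop, ?_⟩
    have h1 := H3.PBasic.card_sup_mul_card_inf (Subgroup.center S) Q
    have h2 : Subgroup.center S ⊓ Q = (Subgroup.center ↥Q).map Q.subtype := by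
      ext z
      rw [H66.PIndex.mem_center_map, Subgroup.mem_inf]
      constructor
      · rintro ⟨hz, hzQ⟩
        exact ⟨hzQ, fun q _ => Subgroup.mem_center_iff.1 hz q⟩
      · rintro ⟨hz, h3⟩
        exact ⟨hle (H66.PIndex.mem_center_map.2 ⟨hz, h3⟩), hz⟩
    have h3 : Nat.card ↥((Subgroup.center ↥Q).map Q.subtype) = p := by
      rw [← hQ.2]
      exact (Nat.card_congr ((Subgroup.center Q).equivMapOfInjective _ Q.subtype_injective).toEquiv).symm
    rw [sup_comm, htop, Subgroup.card_top, h2, h3, ← Subgroup.card_mul_index Q, hQi] at h1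
    have hQpos : 0 < Nat.card Q := Nat.card_pos
    apply Nat.eq_of_mul_eq_mul_right hQpos
    rw [← h1]; ring

end Cfsg.Agent.S3808
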