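import Cfsg.Statements.S3809
import Cfsg.Agent.Lib.H66.PIndex

set_option autoImplicit false
open Cfsg

namespace Cfsg.Agent.S3809

theorem result {S : Type*} [Group S] [Finite S] (p : ℕ) [Fact p.Prime] (hS : IsPGroup p S) (Q : Subgroup S) (hQ : Cfsg.IsExtraspecial p ↥Q) (hQi : Q.index = p) :
    (∃ n : ℕ, 1 ≤ n ∧ Nat.card S = p ^ (2 + 2 * n)) ∧ derivedSeries S 3 = ⊥ ∧ ∀ x : S, x ^ (p ^ 3) = 1 := by
  have hQn : Q.Normal := H3.PBasic.normal_of_index hS hQi
  refine ⟨?_, ?_, ?_⟩
  · obtain ⟨n, hn, hc⟩ := H3.Extraspecial.card_eq_of_isExtraspecial hQ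
    refine ⟨n, hn, ?_⟩
    rw [← Subgroup.card_mul_index Q, hQi, hc]; ring
  · have h1 : derivedSeries S 1 ≤ Q := by
      rw [derivedSeries_one]
      exact H3.PBasic.commutator_le_of_index hQi
    have h2 : derivedSeries S 2 ≤ (Subgroup.center ↥Q).map Q.subtype := by
      rw [derivedSeries_succ]
      refine (Subgroup.commutator_mono h1 h1).trans ?_
      have h3 : ⁅Q, Q⁆ = (commutator Q).map Q.subtype := (Subgroup.map_subtype_commutator Q).symm
      rw [h3, hQ.1.2.2]
    rw [derivedSeries_succ, eq_bot_iff]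
    refine (Subgroup.commutator_mono h2 h2).trans ?_
    rw [Subgroup.commutator_le]
    intro a ha b hb
    rw [Subgroup.mem_bot, commutatorElement_eq_one_iff_mul_comm]
    rw [H66.PIndex.mem_center_map] at ha hb
    exact hb.2 a ha.1
  · intro x
    have h1 : x ^ p ∈ Q := H3.PBasic.pow_mem_of_index hQi x
    have h2 := H3.Extraspecial.pow_mem_center_of_special hQ.1 (⟨x ^ p, h1⟩ : Q)
    have h3 := H3.Extraspecial.center_pow_eq_one_of_special hQ.1 h2
    have h4 := congrArg Subtype.val h3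
    simp only [SubmonoidClass.coe_pow, OneMemClass.coe_one] at h4
    rw [← pow_mul, ← pow_mul] at h4
    have : p ^ 3 = p * (p * p) := by ring
    rw [this]
    exact h4

end Cfsg.Agent.S3809
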