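import Cfsg.Statements.S3810
import Cfsg.Agent.Lib.H66.PIndex

set_option autoImplicit false
open Cfsg

namespace Cfsg.Agent.S3810

open scoped commutatorElement

theorem not_comm_of_extraspecial {Q : Type*} [Group Q] [Finite Q] {p : ℕ} [hp : Fact p.Prime]
    (hQ : Cfsg.IsExtraspecial p Q) : ¬ IsMulCommutative Q := by
  intro h
  have h1 : commutator Q = ⊥ := (commutator_eq_bot_iff _).2 h
  have h2 := hQ.2
  rw [← hQ.1.2.2, h1, Subgroup.card_bot] at h2
  exact hp.out.one_lt.ne h2

theorem result {S : Type*} [Group S] [Finite S] (p : ℕ) [Fact p.Prime] (hS : IsPGroup p S) (Q : Subgroup S) (hQ : Cfsg.IsExtraspecial p ↥Q) (hQi : Q.index = p) :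
    (∃ A : Subgroup S, IsMulCommutative ↥A ∧ A.index = p) ↔ Nat.card S = p ^ 4 := by
  have hp : p.Prime := Fact.out
  have hQn : Q.Normal := H3.PBasic.normal_of_index hS hQi
  have hQna := not_comm_of_extraspecial hQ
  have hQp : IsPGroup p Q := hQ.1.1
  constructor
  · rintro ⟨A, hA, hAi⟩
    have hAn : A.Normal := H3.PBasic.normal_of_index hS hAi
    have hQA : ¬ Q ≤ A := by
      intro h
      apply hQna
      refine ⟨⟨fun a b => ?_⟩⟩
      have := congrArg Subtype.val (hA.is_comm.comm (⟨a, h a.2⟩ : A) ⟨b, h b.2⟩)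
      ext
      simpa using this
    have htop : A ⊔ Q = ⊤ := by
      apply (H3.PBasic.isCoatom_of_index A hAi).2
      refine lt_of_le_of_ne le_sup_left ?_
      intro h1
      exact hQA (by rw [h1]; exact le_sup_right)
    have hidx : (A.subgroupOf Q).index = p := by
      have h1 : A.relIndex (A ⊔ Q) = A.relIndex Q := Subgroup.relIndex_sup_left Q A
      rw [htop, Subgroup.relIndex_top_right, hAi] at h1
      exact h1.symm
    have hab : IsMulCommutative (A.subgroupOf Q) := by
      refine ⟨⟨fun a b => ?_⟩⟩
      have := congrArg Subtype.val (hA.is_comm.comm (⟨_, a.2⟩ : A) ⟨_, b.2⟩)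
      ext
      simpa using this
    have h2 := H66.PIndex.index_center_eq hQp hQna (A.subgroupOf Q) hab hidx
    rw [hQ.1.2.2, hQ.2] at h2
    have h3 := Subgroup.card_mul_index (Subgroup.center Q)
    rw [hQ.2, h2] at h3
    rw [← Subgroup.card_mul_index Q, hQi, ← h3]; ring
  · intro hcard
    set Z0 := (Subgroup.center ↥Q).map Q.subtype with hZ0
    have hZ0n : Z0.Normal := ConjAct.normal_of_characteristic_of_normal
    have hZ0c : Z0 ≤ Subgroup.center S := H66.PIndex.center_map_le_center hS Q hQ.2
    have hZ0card : Nat.card Z0 = p := by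
      rw [← hQ.2]
      exact (Nat.card_congr ((Subgroup.center Q).equivMapOfInjective _ Q.subtype_injective).toEquiv).symm
    have hQcard : Nat.card Q = p ^ 3 := by
      have h1 := Subgroup.card_mul_index Q
      rw [hQi, hcard] at h1
      exact Nat.eq_of_mul_eq_mul_right hp.pos (by rw [h1]; ring)
    have hlt : Z0 < Q := by
      refine lt_of_le_of_ne (Subgroup.map_subtype_le _) ?_
      intro h
      have h1 : Nat.card Z0 = Nat.card Q := by rw [h]
      rw [hZ0card, hQcard] at h1
      have h2 : p ^ 1 < p ^ 3 := Nat.pow_lt_pow_right hp.one_lt (by norm_num)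
      rw [pow_one] at h2
      omega
    obtain ⟨K, hKn, hZK, hKQ, hKc, hKcomm⟩ := H3.PBasic.exists_normal_between hS Z0 Q hlt
    rw [hZ0card] at hKc
    -- K not central
    obtain ⟨k, hkK, hkZ⟩ : ∃ k ∈ K, k ∉ Z0 := by
      by_contra h
      push Not at h
      have h1 : Nat.card K ≤ Nat.card Z0 := Subgroup.card_le_of_le h
      rw [hKc, hZ0card] at h1
      have := hp.one_lt
      nlinarith
    have hcz : ∀ g, ⁅k, g⁆ ∈ Z0 := fun g => hKcomm (Subgroup.commutator_mem_commutator hkK (Subgroup.mem_top g))
    let f : S →* Z0 :=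
      { toFun := fun g => ⟨⁅k, g⁆, hcz g⟩
        map_one' := by ext; simp
        map_mul' := by
          intro a b
          ext
          simp only [Subgroup.coe_mul]
          have h1 : a * ⁅k, b⁆ = ⁅k, b⁆ * a := Subgroup.mem_center_iff.1 (hZ0c (hcz b)) a
          rw [commutatorElement_mul_right_eq_mul_conj, mul_assoc, mul_assoc, ← mul_assoc a, h1, mul_assoc ⁅k, b⁆, mul_inv_cancel, mul_one] }
    have hf : ∀ g, ((f g : Z0) : S) = ⁅k, g⁆ := fun g => rfl
    have hker : ∀ g, g ∈ f.ker ↔ k * g = g * k := by
      intro g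
      rw [MonoidHom.mem_ker, ← commutatorElement_eq_one_iff_mul_comm, ← hf]
      constructor
      · intro h; rw [h]; rfl
      · intro h; ext; exact h
    have hKsup : K = Z0 ⊔ Subgroup.zpowers k := by
      symm
      apply Subgroup.eq_of_le_of_card_ge (sup_le hZK (by rw [Subgroup.zpowers_le]; exact hkK))
      have h1 : Z0 < Z0 ⊔ Subgroup.zpowers k := by
        refine lt_of_le_of_ne le_sup_left ?_
        intro h
        exact hkZ (by rw [h]; exact (le_sup_right : Subgroup.zpowers k ≤ _) (Subgroup.mem_zpowers k))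
      have h2 : Nat.card Z0 ∣ Nat.card ↥(Z0 ⊔ Subgroup.zpowers k) := Subgroup.card_dvd_of_le h1.le
      obtain ⟨c, hc⟩ := h2
      have h3 : c ∣ p ^ 4 := by
        rw [← hcard]
        exact (Dvd.intro_left _ hc.symm).trans (Subgroup.card_subgroup_dvd_card _)
      obtain ⟨t, _, ht⟩ := (Nat.dvd_prime_pow hp).1 h3
      have ht0 : t ≠ 0 := by
        rintro rfl
        rw [pow_zero] at ht
        rw [ht, mul_one] at hc
        exact h1.ne (Subgroup.eq_of_le_of_card_ge h1.le hc.le)
      rw [hc, hKc, hZ0card, ht]
      exact Nat.mul_le_mul_left _ (Nat.le_self_pow ht0 p)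
    have hKker : ∀ g ∈ f.ker, ∀ x ∈ K, x * g = g * x := by
      intro g hg
      have h1 : K ≤ Subgroup.centralizer ({g} : Set S) := by
        rw [hKsup]
        apply sup_le
        · exact hZ0c.trans (Subgroup.center_le_centralizer _)
        · rw [Subgroup.zpowers_le, Subgroup.mem_centralizer_iff]
          rintro _ rfl
          exact ((hker _).1 hg).symm
      intro x hx
      exact (Subgroup.mem_centralizer_iff.1 (h1 hx) g rfl).symm
    have hindex : f.ker.index = p := by
      rw [Subgroup.index_ker]
      have h1 : Nat.card f.range ∣ p := by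
        rw [← hZ0card]; exact Subgroup.card_subgroup_dvd_card f.range
      rcases (Nat.dvd_prime hp).1 h1 with h2 | h2
      · exfalso
        have h3 : f.range = ⊥ := Subgroup.card_eq_one.1 h2
        apply hkZ
        rw [hZ0, H66.PIndex.mem_center_map]
        refine ⟨hKQ hkK, fun q _ => ?_⟩
        have h4 : q ∈ f.ker := by
          rw [MonoidHom.mem_ker]
          have : f q ∈ f.range := ⟨q, rfl⟩
          rw [h3, Subgroup.mem_bot] at this
          exact this
        exact ((hker q).1 h4).symm
      · exact h2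
    have hKle : K ≤ f.ker := by
      intro x hx
      rw [hker]
      have hKk : K ≤ Subgroup.centralizer ({k} : Set S) := by
        rw [hKsup]
        apply sup_le
        · exact hZ0c.trans (Subgroup.center_le_centralizer _)
        · rw [Subgroup.zpowers_le, Subgroup.mem_centralizer_iff]
          rintro _ rfl; rfl
      exact Subgroup.mem_centralizer_iff.1 (hKk hx) k rfl
    refine ⟨f.ker, ?_, hindex⟩
    by_contra hna
    have hkerp : IsPGroup p f.ker := hS.to_subgroup _
    have hKidx : (K.subgroupOf f.ker).index = p := by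
      have h1 : Nat.card K * K.relIndex f.ker = Nat.card f.ker := H3.PBasic.card_mul_relIndex hKle
      have h2 : Nat.card f.ker * p = p ^ 4 := by
        have h20 := Subgroup.card_mul_index f.ker
        rwa [hindex, hcard] at h20
      have h3 : Nat.card f.ker = p ^ 3 := Nat.eq_of_mul_eq_mul_right hp.pos (by rw [h2]; ring)
      rw [h3, hKc] at h1
      have h4 : 0 < p * p := Nat.mul_pos hp.pos hp.pos
      exact Nat.eq_of_mul_eq_mul_left h4 (by rw [Subgroup.relIndex] at h1; rw [h1]; ring)
    have hKcen : K.subgroupOf f.ker ≤ Subgroup.center f.ker := by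
      intro x hx
      rw [Subgroup.mem_center_iff]
      intro g
      ext
      exact (hKker g g.2 x hx).symm
    have hKab : IsMulCommutative (K.subgroupOf f.ker) := by
      refine ⟨⟨fun a b => ?_⟩⟩
      ext
      have := hKker (b : f.ker) (b : f.ker).2 (a : f.ker) a.2
      simpa using this
    have h5 := H66.PIndex.index_center_eq hkerp hna (K.subgroupOf f.ker) hKab hKidx
    have h6 : (Subgroup.center f.ker).index ∣ p := by
      rw [← hKidx]; exact Subgroup.index_dvd_of_le hKcen
    have h7 := Nat.le_of_dvd hp.pos h6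
    rw [h5] at h7
    have h8 : Nat.card (commutator f.ker) = 1 := by
      have h9 : 0 < Nat.card (commutator f.ker) := Nat.card_pos
      have h10 : p * Nat.card (commutator f.ker) ≤ p * 1 := by rw [mul_one]; exact h7
      have := Nat.le_of_mul_le_mul_left h10 hp.pos
      omega
    exact hna ((commutator_eq_bot_iff _).1 (Subgroup.card_eq_one.1 h8))

end Cfsg.Agent.S3810
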