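import Cfsg.Statements.S3811
import Cfsg.Agent.Lib.H12.Soft4

set_option autoImplicit false
open Cfsg

namespace Cfsg.Agent.S3811

/-- Let P be a finite p-group and E an abelian subgroup of P that contains its centralizer, has index p in its normalizer, and has index at least p² in P. Then the subgroups of P containing E are totally ordered by inclusion, each proper one has index p in its normalizer (so they form the normalizer tower of E, with all steps of index p), and the i-th member of the tower above E has nilpotency class i + 1 whenever it is a proper subgroup of P. -/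
theorem result {P : Type*} [Group P] [Finite P] (p : ℕ) [Fact p.Prime] (hP : IsPGroup p P)
    (E : Subgroup P) (hEab : IsMulCommutative ↥E) (hC : Subgroup.centralizer (E : Set P) ≤ E)
    (hN : (E.subgroupOf (Subgroup.normalizer (E : Set P))).index = p) (hidx : p ^ 2 ≤ E.index) :
    (∀ K L : Subgroup P, E ≤ K → E ≤ L → K ≤ L ∨ L ≤ K) ∧
      (∀ K : Subgroup P, E ≤ K → K ≠ ⊤ → (K.subgroupOf (Subgroup.normalizer (K : Set P))).index = p) ∧
      ∀ (i : ℕ) (K : Subgroup P) [Group.IsNilpotent ↥K], E ≤ K → K ≠ ⊤ → K.index * p ^ i = E.index →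
        Group.nilpotencyClass ↥K = i + 1 := by
  have hpp : p.Prime := Fact.out
  have hE : E.relIndex (Subgroup.normalizer (E : Set P)) = p := hN
  have hpE : p ^ 2 ∣ E.index := by
    obtain ⟨j, hj⟩ := H12.Soft.exists_pow_relIndex (p := p) (A := E) (B := ⊤) (hP.to_subgroup ⊤)
    rw [Subgroup.relIndex_top_right] at hj
    rw [hj] at hidx ⊢
    exact pow_dvd_pow p ((Nat.pow_le_pow_iff_right hpp.one_lt).1 hidx)
  have hs : H12.Soft.Soft p (⊤ : Subgroup P) E := by
    refine ⟨hP.to_subgroup ⊤, le_top, ?_, ?_, ?_, ?_⟩
    · intro a ha b hb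
      exact congrArg Subtype.val (hEab.is_comm.comm (⟨a, ha⟩ : E) ⟨b, hb⟩)
    · intro x _ hx
      exact hC (Subgroup.mem_centralizer_iff.2 fun e he => (hx e he).symm)
    · rw [top_inf_eq]; exact hE
    · rw [Subgroup.relIndex_top_right]; exact hpE
  refine ⟨fun K L hK hL => H12.Soft.total hs K L hK hL le_top le_top, fun K hK hne => ?_,
    fun i K _ hK hne hi => ?_⟩
  · have h1 := (H12.Soft.steps _ ⊤ le_rfl hs K hK le_top hne).1
    rw [top_inf_eq] at h1
    exact h1
  · apply (H12.Soft.steps _ ⊤ le_rfl hs K hK le_top hne).2 i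
    have h1 := Subgroup.relIndex_mul_index hK
    rw [← hi, mul_comm] at h1
    exact Nat.eq_of_mul_eq_mul_left (Nat.pos_of_ne_zero Subgroup.index_ne_zero_of_finite) h1

end Cfsg.Agent.S3811
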