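import Cfsg.Statements.S3824
import Cfsg.Agent.Lib.H4.Burnside

set_option autoImplicit false
open Cfsg

namespace Cfsg.Agent.S3824

universe u

theorem aux (n : ℕ) : ∀ (G : Type u) [Group G] [Finite G], Nat.card G = n →
    ∀ A : Subgroup G, IsMulCommutative A → (∃ k : ℕ, A.index = 2 ^ k) → Group.IsSolvable G := by
  induction n using Nat.strong_induction_on with
  | _ n ih =>
    intro G _ _ hcard A hA hidx
    classical
    obtain ⟨k, hk⟩ := hidx
    -- reduction: if there is a proper nontrivial normal subgroup we are done
    have hred : ∀ N : Subgroup G, N.Normal → N ≠ ⊥ → N ≠ ⊤ → Group.IsSolvable G := by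
      intro N hN hN1 hNt
      have hNcard : Nat.card N < n := by
        rw [← hcard]
        refine lt_of_le_of_ne (Nat.card_le_card_of_injective _ N.subtype_injective) ?_
        intro h
        exact hNt (Subgroup.eq_top_of_card_eq N h)
      have hQcard : Nat.card (G ⧸ N) < n := by
        have h1 : Nat.card G = Nat.card (G ⧸ N) * Nat.card N :=
          Subgroup.card_eq_card_quotient_mul_card_subgroup N
        rw [← hcard, h1]
        have h2 : 1 < Nat.card N := by
          have : Nat.card N ≠ 1 := fun h => hN1 ((Subgroup.card_eq_one).1 h)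
          have h3 : 0 < Nat.card N := Nat.card_pos
          omega
        exact (Nat.lt_mul_iff_one_lt_right Nat.card_pos).2 h2
      have hNs : Group.IsSolvable N := by
        refine ih _ hNcard N rfl (A.subgroupOf N) ?_ ?_
        · refine ⟨⟨fun a b => ?_⟩⟩
          have := hA.is_comm.comm (⟨_, a.2⟩ : A) ⟨_, b.2⟩
          ext
          simpa using congrArg Subtype.val this
        · have h1 : (A.subgroupOf N).index = A.relIndex N := rfl
          have h2 : A.relIndex N ∣ 2 ^ k := by
            have h3 : A.relIndex N = A.relIndex (A ⊔ N) := by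
              rw [sup_comm]
              -- card computation
              have e1 : Nat.card ↥(A ⊓ N) * A.relIndex N = Nat.card N := by
                have := Subgroup.relIndex_mul_relIndex (⊥ : Subgroup G) (A ⊓ N) N bot_le inf_le_right
                rw [Subgroup.relIndex_bot_left, Subgroup.relIndex_bot_left, Subgroup.inf_relIndex_right] at this
                exact this
              have e2 : Nat.card A * A.relIndex (N ⊔ A) = Nat.card ↥(N ⊔ A) := by
                have := Subgroup.relIndex_mul_relIndex (⊥ : Subgroup G) A (N ⊔ A) bot_le le_sup_right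
                rwa [Subgroup.relIndex_bot_left, Subgroup.relIndex_bot_left] at this
              have e3 : Nat.card N * N.relIndex A = Nat.card ↥(N ⊔ A) := by
                have := Subgroup.relIndex_mul_relIndex (⊥ : Subgroup G) N (N ⊔ A) bot_le le_sup_left
                rwa [Subgroup.relIndex_bot_left, Subgroup.relIndex_bot_left, Subgroup.relIndex_sup_left] at this
              have e4 : Nat.card ↥(A ⊓ N) * N.relIndex A = Nat.card A := by
                have := Subgroup.relIndex_mul_relIndex (⊥ : Subgroup G) (A ⊓ N) A bot_le inf_le_left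
                rw [Subgroup.relIndex_bot_left, Subgroup.relIndex_bot_left, Subgroup.inf_relIndex_left] at this
                exact this
              have hpos : 0 < Nat.card ↥(A ⊓ N) * N.relIndex A := by rw [e4]; exact Nat.card_pos
              apply Nat.eq_of_mul_eq_mul_left hpos
              calc Nat.card ↥(A ⊓ N) * N.relIndex A * A.relIndex N
                  = (Nat.card ↥(A ⊓ N) * A.relIndex N) * N.relIndex A := by ring
                _ = Nat.card ↥(N ⊔ A) := by rw [e1, e3]
                _ = Nat.card A * A.relIndex (N ⊔ A) := e2.symm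
                _ = _ := by rw [e4]
            rw [h3, ← hk]
            exact Subgroup.relIndex_dvd_index_of_le le_sup_left
          obtain ⟨j, _, hj⟩ := (Nat.dvd_prime_pow Nat.prime_two).1 h2
          exact ⟨j, by rw [h1, hj]⟩
      have hQs : Group.IsSolvable (G ⧸ N) := by
        refine ih _ hQcard (G ⧸ N) rfl (A.map (QuotientGroup.mk' N)) ?_ ?_
        · refine ⟨⟨?_⟩⟩
          rintro ⟨_, a, ha, rfl⟩ ⟨_, b, hb, rfl⟩
          have := hA.is_comm.comm (⟨a, ha⟩ : A) ⟨b, hb⟩
          have h3 : a * b = b * a := congrArg Subtype.val this
          ext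
          change (QuotientGroup.mk' N) a * (QuotientGroup.mk' N) b = (QuotientGroup.mk' N) b * (QuotientGroup.mk' N) a
          rw [← map_mul, h3, map_mul]
        · have h2 : (A.map (QuotientGroup.mk' N)).index ∣ 2 ^ k := by
            rw [← hk]
            exact Subgroup.index_map_dvd A (QuotientGroup.mk'_surjective N)
          obtain ⟨j, _, hj⟩ := (Nat.dvd_prime_pow Nat.prime_two).1 h2
          exact ⟨j, hj⟩
      exact (Group.isSolvable_iff_subgroup_quotient N).2 ⟨hNs, hQs⟩
    by_cases hsub : Subsingleton G
    · infer_instance
    have hnt : Nontrivial G := not_subsingleton_iff_nontrivial.1 hsub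
    by_cases hsimple : IsSimpleGroup G
    · by_cases hA1 : A = ⊥
      · rw [hA1, Subgroup.index_bot] at hk
        have h2 : IsPGroup 2 G := IsPGroup.of_card hk
        haveI : Fact (Nat.Prime 2) := ⟨Nat.prime_two⟩
        have := h2.isNilpotent
        infer_instance
      · obtain ⟨⟨a, ha⟩, ha1⟩ := (Subgroup.ne_bot_iff_exists_ne_one).1 hA1
        have ha1' : a ≠ 1 := fun h => ha1 (Subtype.ext h)
        have hle : A ≤ Subgroup.centralizer ({a} : Set G) := by
          intro b hb
          rw [Subgroup.mem_centralizer_iff]
          rintro _ rfl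
          have := hA.is_comm.comm (⟨_, ha⟩ : A) ⟨b, hb⟩
          exact congrArg Subtype.val this
        have h2 : (Subgroup.centralizer ({a} : Set G)).index ∣ 2 ^ k := by
          rw [← hk]; exact Subgroup.index_dvd_of_le hle
        obtain ⟨j, _, hj⟩ := (Nat.dvd_prime_pow Nat.prime_two).1 h2
        have hprime := H4.Burnside.prime_card_of_class 2 j Nat.prime_two a ha1' hj
        haveI : Fact (Nat.card G).Prime := ⟨hprime⟩
        have hcyc : IsCyclic G := isCyclic_of_prime_card (p := Nat.card G) rfl
        exact Group.isSolvable_of_comm (fun x y => (IsCyclic.commGroup (α := G)).mul_comm x y)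
    · -- not simple
      have : ∃ N : Subgroup G, N.Normal ∧ N ≠ ⊥ ∧ N ≠ ⊤ := by
        by_contra hne
        push Not at hne
        apply hsimple
        exact ⟨fun H hH => by
          by_cases h : H = ⊥
          · exact Or.inl h
          · exact Or.inr (hne H hH h)⟩
      obtain ⟨N, hN, hN1, hNt⟩ := this
      exact hred N hN hN1 hNt

theorem result {G : Type*} [Group G] [Finite G]
    (A : Subgroup G) (hA : IsMulCommutative A) (hidx : ∃ k : ℕ, A.index = 2 ^ k) : Group.IsSolvable G :=
  aux _ G rfl A hA hidx

end Cfsg.Agent.S3824
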