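import Cfsg.Statements.S3835
import Mathlib
import Cfsg.Agent.Lib.H51.Qd
import Cfsg.Agent.Lib.H6.SLGen
import Cfsg.Agent.S3074

set_option autoImplicit false
open Cfsg

namespace Cfsg.Agent.S3835

open Subgroup

/-- a `p`-group acts on fewer than `p ^ 2` points through an abelian quotient. -/
theorem smul_comm_of_card_lt {p : ℕ} [hp : Fact p.Prime] {Q : Type*} [Group Q] [Finite Q] (hQ : IsPGroup p Q)
    {α : Type*} [Finite α] [MulAction Q α] (hα : Nat.card α < p ^ 2) (a b : Q) (x : α) :
    (a * b) • x = (b * a) • x := by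
  have h1 : (MulAction.stabilizer Q x).index ≤ Nat.card α := by
    rw [MulAction.index_stabilizer]
    exact Set.ncard_le_card _
  obtain ⟨k, hk⟩ := IsPGroup.iff_card.1 hQ
  have h2 : (MulAction.stabilizer Q x).index ∣ p ^ k := hk ▸ index_dvd_card _
  obtain ⟨j, -, hj⟩ := (Nat.dvd_prime_pow hp.out).1 h2
  have hj2 : j < 2 := by
    by_contra h
    have : p ^ 2 ≤ p ^ j := Nat.pow_le_pow_right hp.out.pos (by omega)
    omega
  interval_cases j
  · rw [pow_zero, index_eq_one] at hj
    have h3 : ∀ g : Q, g • x = x := by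
      intro g
      have : g ∈ MulAction.stabilizer Q x := by rw [hj]; trivial
      exact this
    rw [h3, h3]
  · rw [pow_one] at hj
    have hk0 : k ≠ 0 := by
      rintro rfl
      rw [pow_zero, hj] at h2
      exact hp.out.one_lt.ne' (Nat.dvd_one.1 h2)
    have h3 : (MulAction.stabilizer Q x).Normal := by
      apply normal_of_index_eq_minFac_card
      rw [hj, hk, Nat.Prime.pow_minFac hp.out hk0]
    have h4 : Nat.card (Q ⧸ MulAction.stabilizer Q x) = p := hj
    have h5 : IsCyclic (Q ⧸ MulAction.stabilizer Q x) := isCyclic_of_prime_card h4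
    have h6 : (QuotientGroup.mk' (MulAction.stabilizer Q x) (a * b)) = QuotientGroup.mk' (MulAction.stabilizer Q x) (b * a) := by
      rw [map_mul, map_mul]
      exact mul_comm' _ _
    rw [QuotientGroup.mk'_eq_mk'] at h6
    obtain ⟨z, hz, hzz⟩ := h6
    rw [← hzz, mul_smul (a * b) z x, show z • x = x from hz]

theorem perm_comm {p : ℕ} [hp : Fact p.Prime] {n : ℕ} (hn : n < p ^ 2) (Q : Subgroup (Equiv.Perm (Fin n)))
    (hQ : IsPGroup p Q) (a b : Equiv.Perm (Fin n)) (ha : a ∈ Q) (hb : b ∈ Q) : a * b = b * a := by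
  ext x : 1
  exact smul_comm_of_card_lt hQ (α := Fin n) (by simpa using hn) ⟨a, ha⟩ ⟨b, hb⟩ x

open H51.Qd Matrix

section act
variable {F : Type*} [Field F]

/-- the affine action -/
def act (M : qdOver F) (v : F × F) : F × F :=
  ((M : SpecialLinearGroup (Fin 3) F).1 0 0 * v.1 + (M : SpecialLinearGroup (Fin 3) F).1 0 1 * v.2 + (M : SpecialLinearGroup (Fin 3) F).1 0 2,
   (M : SpecialLinearGroup (Fin 3) F).1 1 0 * v.1 + (M : SpecialLinearGroup (Fin 3) F).1 1 1 * v.2 + (M : SpecialLinearGroup (Fin 3) F).1 1 2)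

theorem act_mk (A : SpecialLinearGroup (Fin 2) F) (a b x y : F) :
    act (mk A a b) (x, y) = (A.1 0 0 * x + A.1 0 1 * y + a, A.1 1 0 * x + A.1 1 1 * y + b) := rfl

theorem act_one (v : F × F) : act (1 : qdOver F) v = v := by
  obtain ⟨x, y⟩ := v
  rw [← mk_one, act_mk]
  simp

theorem act_mul (M N : qdOver F) (v : F × F) : act (M * N) v = act M (act N v) := by
  obtain ⟨x, y⟩ := v
  obtain ⟨A, a, b, rfl⟩ := exists_mk M
  obtain ⟨B, c, d, rfl⟩ := exists_mk N
  rw [mk_mul, act_mk, act_mk, act_mk]
  have h : ∀ i j, (A * B).1 i j = A.1 i 0 * B.1 0 j + A.1 i 1 * B.1 1 j := by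
    intro i j
    change (A.1 * B.1) i j = _
    rw [Matrix.mul_apply, Fin.sum_univ_two]
  rw [h, h, h, h]
  ext <;> simp only <;> ring

def ρ₀ : qdOver F →* Equiv.Perm (F × F) where
  toFun M :=
    { toFun := act M
      invFun := act M⁻¹
      left_inv := fun v => by rw [← act_mul, inv_mul_cancel, act_one]
      right_inv := fun v => by rw [← act_mul, mul_inv_cancel, act_one] }
  map_one' := by
    ext v : 1
    exact act_one v
  map_mul' M N := by
    ext v : 1
    exact act_mul M N v

theorem ρ₀_injective : Function.Injective (ρ₀ (F := F)) := by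
  rw [injective_iff_map_eq_one]
  intro M hM
  obtain ⟨A, a, b, rfl⟩ := exists_mk M
  have h : ∀ v : F × F, act (mk A a b) v = v := fun v => congrArg (fun e : Equiv.Perm (F × F) => e v) hM
  have h0 := h (0, 0)
  have h1 := h (1, 0)
  have h2 := h (0, 1)
  rw [act_mk] at h0 h1 h2
  simp only [mul_zero, mul_one, zero_add, add_zero, Prod.mk.injEq] at h0 h1 h2
  obtain ⟨ha, hb⟩ := h0
  rw [ha, hb, add_zero, add_zero] at h1 h2
  rw [← mk_one, mk_inj]
  refine ⟨?_, ha, hb⟩
  apply Subtype.ext
  ext i j
  fin_cases i <;> fin_cases j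
  · simpa using h1.1
  · simpa using h2.1
  · simpa using h1.2
  · simpa using h2.2

end act

theorem hom_trivial {p : ℕ} [hp : Fact p.Prime] (hp2 : p ≠ 2) (φ : qdOver (ZMod p) →* ℤˣ) (M : qdOver (ZMod p)) : φ M = 1 := by
  have hodd : Odd p := hp.out.odd_of_ne_two hp2
  have key : ∀ M : qdOver (ZMod p), M ^ p = 1 → φ M = 1 := by
    intro M hM
    have h1 : (φ M) ^ p = 1 := by rw [← map_pow, hM, map_one]
    rcases Int.units_eq_one_or (φ M) with h | h
    · exact h
    · rw [h, hodd.neg_one_pow] at h1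
      exact absurd h1 (by decide)
  have hsl : (φ.comp emb).ker = ⊤ := by
    apply H6.SLGen.eq_top_of_transvection_mem
    intro i j hij c
    rw [MonoidHom.mem_ker, MonoidHom.comp_apply]
    apply key
    rw [← map_pow]
    have : (Matrix.SpecialLinearGroup.transvection hij c) ^ p = 1 := by
      have h1 : ∀ m : ℕ, (Matrix.SpecialLinearGroup.transvection hij c) ^ m = Matrix.SpecialLinearGroup.transvection hij (m * c) := by
        intro m
        induction m with
        | zero => rw [pow_zero, Nat.cast_zero, zero_mul, Matrix.SpecialLinearGroup.transvection_coeff_zero]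
        | succ m ih =>
          rw [pow_succ, ih]
          apply Subtype.ext
          change Matrix.transvection i j (m * c) * Matrix.transvection i j c = Matrix.transvection i j (((m + 1 : ℕ) : ZMod p) * c)
          rw [Matrix.transvection_mul_transvection_same _ _ hij]
          congr 1
          push_cast; ring
      rw [h1]
      simp
    rw [this, map_one]
  obtain ⟨A, a, b, rfl⟩ := exists_mk M
  rw [← tr_mul_emb, map_mul]
  have h1 : φ (tr a b) = 1 := by
    apply key
    rw [tr_pow]
    simp [tr_zero]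
  have h2 : φ (emb A) = 1 := by
    have : A ∈ (φ.comp emb).ker := by rw [hsl]; trivial
    exact this
  rw [h1, h2, mul_one]


/-- Let p be an odd prime and n a natural number. The alternating group of degree n has a subgroup isomorphic to Qd(p) (the natural semidirect product of an elementary abelian group of order p² by SL₂(p)) if and only if n ≥ p²; and if n < p² then Qd(p) is not even involved in it. -/
theorem result {p : ℕ} [Fact p.Prime] (hp : p ≠ 2) (n : ℕ) : ((∃ H : Subgroup (alternatingGroup (Fin n)), Nonempty (↥H ≃* ↥(Cfsg.qd p))) ↔ p ^ 2 ≤ n) ∧ (n < p ^ 2 → ¬ Cfsg.Involves ↥(Cfsg.qd p) ↥(alternatingGroup (Fin n))) := by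
  have hpF : Fact p.Prime := inferInstance
  have part2 : n < p ^ 2 → ¬ Cfsg.Involves ↥(Cfsg.qd p) ↥(alternatingGroup (Fin n)) := by
    rintro hn ⟨K, R, hR, ⟨e⟩⟩
    obtain ⟨P⟩ : Nonempty (Sylow p K) := inferInstance
    have hf : Function.Surjective (e.toMonoidHom.comp (QuotientGroup.mk' (R.subgroupOf K))) :=
      e.surjective.comp (QuotientGroup.mk'_surjective _)
    obtain ⟨hex, hcard, -⟩ := Cfsg.Agent.S3074.result p hp (P.mapSurjective hf)
    have hcenter := hex.2
    have hcomm : ∀ x y : (P.mapSurjective hf), x * y = y * x := by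
      rintro ⟨x, hx⟩ ⟨y, hy⟩
      change x ∈ ((P.mapSurjective hf : Sylow p (Cfsg.qd p)) : Subgroup (Cfsg.qd p)) at hx
      change y ∈ ((P.mapSurjective hf : Sylow p (Cfsg.qd p)) : Subgroup (Cfsg.qd p)) at hy
      have hx' := hx
      have hy' := hy
      rw [Sylow.coe_mapSurjective] at hx' hy'
      obtain ⟨a, ha, hax⟩ := hx'
      obtain ⟨b, hb, hby⟩ := hy'
      apply Subtype.ext
      change x * y = y * x
      rw [← hax, ← hby]
      change (e.toMonoidHom.comp (QuotientGroup.mk' (R.subgroupOf K))) a * (e.toMonoidHom.comp (QuotientGroup.mk' (R.subgroupOf K))) b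
        = (e.toMonoidHom.comp (QuotientGroup.mk' (R.subgroupOf K))) b * (e.toMonoidHom.comp (QuotientGroup.mk' (R.subgroupOf K))) a
      rw [← map_mul, ← map_mul]
      congr 1
      have hQ : IsPGroup p (((P : Subgroup K).map K.subtype).map (alternatingGroup (Fin n)).subtype) := (P.2.map _).map _
      have h1 := perm_comm hn _ hQ ((a : alternatingGroup (Fin n)) : Equiv.Perm (Fin n)) ((b : alternatingGroup (Fin n)) : Equiv.Perm (Fin n))
        ⟨_, ⟨a, ha, rfl⟩, rfl⟩ ⟨_, ⟨b, hb, rfl⟩, rfl⟩
      apply Subtype.ext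
      apply Subtype.ext
      exact h1
    have htop : center (P.mapSurjective hf) = ⊤ := by
      rw [eq_top_iff]
      intro x _
      rw [mem_center_iff]
      intro y
      exact hcomm y x
    have h3 : Nat.card (P.mapSurjective hf) = Nat.card (center (P.mapSurjective hf)) := by
      rw [htop, card_top]
    have h4 : p ^ 3 = p := hcard.symm.trans (h3.trans hcenter)
    have h5 : p ^ 1 < p ^ 3 := Nat.pow_lt_pow_right hpF.out.one_lt (by norm_num)
    rw [pow_one] at h5
    omega
  refine ⟨⟨?_, ?_⟩, part2⟩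
  · rintro ⟨H, ⟨e⟩⟩
    by_contra hn
    push Not at hn
    apply part2 hn
    have hn' : ((⊥ : Subgroup (alternatingGroup (Fin n))).subgroupOf H).Normal := inferInstance
    refine ⟨H, ⊥, hn', ⟨?_⟩⟩
    have hb : (⊥ : Subgroup (alternatingGroup (Fin n))).subgroupOf H = ⊥ := by
      rw [bot_subgroupOf]
    exact ((QuotientGroup.quotientMulEquivOfEq hb).trans QuotientGroup.quotientBot).trans e
  · intro hn
    have hcard : Nat.card (ZMod p × ZMod p) ≤ Nat.card (Fin n) := by
      rw [Nat.card_prod, Nat.card_zmod, Nat.card_fin]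
      rw [pow_two] at hn
      exact hn
    obtain ⟨ι⟩ : Nonempty (ZMod p × ZMod p ↪ Fin n) := by
      rw [Nat.card_eq_fintype_card, Nat.card_eq_fintype_card] at hcard
      exact Function.Embedding.nonempty_of_card_le hcard
    let ρ : qdOver (ZMod p) →* Equiv.Perm (Fin n) := (Equiv.Perm.viaEmbeddingHom ι).comp ρ₀
    have hρ : Function.Injective ρ := (Equiv.Perm.viaEmbeddingHom_injective ι).comp ρ₀_injective
    let ρ' : qdOver (ZMod p) →* alternatingGroup (Fin n) := ρ.codRestrict _ (fun M => by
      rw [Equiv.Perm.mem_alternatingGroup]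
      exact hom_trivial hp (Equiv.Perm.sign.comp ρ) M)
    have hρ' : Function.Injective ρ' := by
      intro x y hxy
      exact hρ (congrArg Subtype.val hxy)
    exact ⟨ρ'.range, ⟨(MonoidHom.ofInjective hρ').symm⟩⟩

end Cfsg.Agent.S3835
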