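import Cfsg.Statements.S3868
import Mathlib
import Cfsg.Agent.Lib.H67.MinClosed

set_option autoImplicit false
open Cfsg

namespace Cfsg.Agent.S3868

open Subgroup
open H67.MinClosed

/-- Structure of the non-simple minimal non-p-closed groups. Call a finite group p-closed when its Sylow p-subgroups are normal, and minimal non-p-closed when it is not p-closed but every proper subgroup and every proper quotient is. If such a group G is not simple, then there is a prime q ≠ p such that G has order p · q^e, where e is the multiplicative order of q modulo p, and G has a normal subgroup A of order q^e that is elementary abelian and is a minimal normal subgroup of G (so G is the semidirect product of A by a group of order p acting irreducibly). -/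
theorem result {G : Type*} [Group G] [Finite G] {p : ℕ} [Fact p.Prime]
    (hnc : ¬ Cfsg.IsPClosed p G) (hsub : ∀ H : Subgroup G, H ≠ ⊤ → Cfsg.IsPClosed p ↥H)
    (hquo : ∀ (N : Subgroup G) [N.Normal], N ≠ ⊥ → Cfsg.IsPClosed p (G ⧸ N)) (hns : ¬ IsSimpleGroup G) :
    ∃ q : ℕ, q.Prime ∧ q ≠ p ∧ Nat.card G = p * q ^ orderOf (q : ZMod p) ∧
      ∃ A : Subgroup G, A.Normal ∧ Nat.card ↥A = q ^ orderOf (q : ZMod p) ∧ Cfsg.IsElementaryAbelian q A ∧
        ∀ B : Subgroup G, B.Normal → B ≤ A → B = ⊥ ∨ B = A := by
  have hP : Fact p.Prime := inferInstance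
  obtain ⟨P, hPn⟩ : ∃ P : Sylow p G, ¬ (P : Subgroup G).Normal := by
    by_contra hcon
    push Not at hcon
    exact hnc hcon
  -- no nontrivial normal p-subgroup
  have hcore : ∀ R : Subgroup G, R.Normal → IsPGroup p R → R = ⊥ := by
    intro R hR hRp
    by_contra hRb
    have h1 := hquo R hRb (P.mapSurjective (QuotientGroup.mk'_surjective R))
    rw [Sylow.coe_mapSurjective] at h1
    have h2 := h1.comap (QuotientGroup.mk' R)
    rw [comap_map_eq, QuotientGroup.ker_mk'] at h2
    have h3 : R ≤ P := by
      obtain ⟨Q, hQ⟩ := hRp.exists_le_sylow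
      obtain ⟨g, hg⟩ := MulAction.exists_smul_eq G Q P
      rw [← hg, Sylow.coe_subgroup_smul]
      intro x hx
      rw [mem_pointwise_smul_iff_inv_smul_mem]
      apply hQ
      have := hR.conj_mem x hx g⁻¹
      simpa using this
    rw [sup_eq_left.2 h3] at h2
    exact hPn h2
  -- proper nontrivial normal subgroups
  have hnt : Nontrivial G := by
    by_contra h
    rw [not_nontrivial_iff_subsingleton] at h
    exact hPn ((Subsingleton.elim (⊤ : Subgroup G) P) ▸ inferInstance)
  obtain ⟨N₀, hN₀, hN₀b, hN₀t⟩ : ∃ N : Subgroup G, N.Normal ∧ N ≠ ⊥ ∧ N ≠ ⊤ := by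
    by_contra hcon
    push Not at hcon
    apply hns
    exact ⟨fun H hH => by
      by_cases h : H = ⊥
      · exact Or.inl h
      · exact Or.inr (hcon H hH h)⟩
  obtain ⟨N, hNN₀, hN, hNb, hNmin⟩ := H73.SolvSmall.exists_minimal_normal hN₀ hN₀b
  have hNt : N ≠ ⊤ := fun h => hN₀t (top_le_iff.1 (h ▸ hNN₀))
  have hpr : ∀ M : Subgroup G, M.Normal → M ≠ ⊤ → ¬ p ∣ Nat.card M := fun M hM hMt =>
    not_dvd_of_closed hcore M hM (hsub M hMt)
  -- N P = G
  have htop : N ⊔ (P : Subgroup G) = ⊤ := by
    by_contra hK
    have h1 := hquo N hNb (P.mapSurjective (QuotientGroup.mk'_surjective N))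
    rw [Sylow.coe_mapSurjective] at h1
    have h2 := h1.comap (QuotientGroup.mk' N)
    rw [comap_map_eq, QuotientGroup.ker_mk', sup_comm] at h2
    have h3 := hpr _ h2 hK
    apply h3
    have h4 : p ∣ Nat.card (P : Subgroup G) := by
      apply P.dvd_card_of_dvd_card
      by_contra h5
      exact hnc (isPClosed_of_not_dvd h5)
    exact h4.trans (card_dvd_of_le le_sup_right)
  obtain ⟨q, hq, hqp, hNq⟩ := exists_prime_of_core N (hpr N hN hNt) P htop hPn (by
    intro q hq hqp Q hQN hQ hPQ hne
    exact le_sup_right.trans (le_normalizer_of_closed P _ le_sup_left (hsub _ hne)))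
  have hidx := index_eq_of N hNt (isPGroup_quotient_of_sup N P P.2 htop) (fun M hM _ hMt => hpr M hM hMt)
  have hna : ¬ IsMulCommutative G := by
    intro h
    apply hPn
    refine ⟨fun n hn g => ?_⟩
    rw [h.is_comm.comm g n, mul_inv_cancel_right]
    exact hn
  exact finish hq hqp hna N hNb hNq hidx hNmin

end Cfsg.Agent.S3868
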