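import Cfsg.Statements.S3869
import Mathlib
import Cfsg.Agent.Lib.H67.MinClosed

set_option autoImplicit false
open Cfsg

namespace Cfsg.Agent.S3869

open Subgroup
open H67.MinClosed

/-- Let p and q be distinct primes and G a finite non-abelian group with a normal elementary abelian q-subgroup A that is a minimal normal subgroup of G and has index p. Then A has order q^e with e the multiplicative order of q modulo p, and G is minimal non-p-closed: its Sylow p-subgroups are not normal, while in every proper subgroup and in every proper quotient of G the Sylow p-subgroups are normal. -/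
theorem result {G : Type*} [Group G] [Finite G] {p q : ℕ} [Fact p.Prime] (hq : q.Prime) (hpq : q ≠ p)
    (hna : ¬ IsMulCommutative G) (A : Subgroup G) [A.Normal] (hA : Cfsg.IsElementaryAbelian q A) (hidx : A.index = p)
    (hmin : ∀ B : Subgroup G, B.Normal → B ≤ A → B = ⊥ ∨ B = A) :
    Nat.card ↥A = q ^ orderOf (q : ZMod p) ∧ ¬ Cfsg.IsPClosed p G ∧ (∀ H : Subgroup G, H ≠ ⊤ → Cfsg.IsPClosed p ↥H) ∧
      ∀ (N : Subgroup G) [N.Normal], N ≠ ⊥ → Cfsg.IsPClosed p (G ⧸ N) := by
  have hp : Fact p.Prime := inferInstance
  have hqF : Fact q.Prime := ⟨hq⟩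
  have hAn : A.Normal := inferInstance
  have hcard := card_of_min hq hpq hna A hA hidx hmin
  have hA' : IsPGroup q A := IsPGroup.of_card hcard
  have hpA : ¬ p ∣ Nat.card A := by
    rw [hcard]
    intro h
    exact hpq ((Nat.prime_dvd_prime_iff_eq hp.out hq).1 (hp.out.dvd_of_dvd_pow h)).symm
  have hcG : Nat.card G = Nat.card A * p := by rw [← hidx, A.card_mul_index]
  have hAcomm : ∀ a ∈ A, ∀ b ∈ A, a * b = b * a := by
    intro a ha b hb
    have := hA.1.is_comm.comm (⟨a, ha⟩ : A) ⟨b, hb⟩
    exact congrArg Subtype.val this
  -- a normal subgroup `K ≠ ⊥` with `K ⊓ A = ⊥` is impossible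
  have key : ∀ K : Subgroup G, K.Normal → K ≠ ⊥ → A ≤ K := by
    intro K hK hKb
    rcases hmin (K ⊓ A) inferInstance inf_le_right with h | h
    · exfalso
      apply hna
      obtain ⟨⟨g, hg⟩, hg1⟩ := ne_bot_iff_exists_ne_one.1 hKb
      have hgA : g ∉ A := by
        intro hgA
        have : g ∈ K ⊓ A := ⟨hg, hgA⟩
        rw [h, mem_bot] at this
        exact hg1 (Subtype.ext this)
      have hga : ∀ a ∈ A, g * a = a * g := fun a ha =>
        commute_of_normal_of_disjoint K A hK hAn (disjoint_iff.2 h) g a hg ha
      have htop := sup_zpowers_eq_top A hidx hgA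
      have hgen : ∀ x : G, ∃ a ∈ A, ∃ k : ℤ, x = a * g ^ k := by
        intro x
        have hx : x ∈ A ⊔ zpowers g := by rw [htop]; trivial
        rw [mem_sup_of_normal_left] at hx
        obtain ⟨a, ha, z, ⟨k, rfl⟩, h⟩ := hx
        exact ⟨a, ha, k, h.symm⟩
      refine ⟨⟨?_⟩⟩
      intro x y
      obtain ⟨a, ha, k, rfl⟩ := hgen x
      obtain ⟨b, hb, l, rfl⟩ := hgen y
      have h1 : Commute g a := hga a ha
      have h2 : Commute g b := hga b hb
      have h3 : Commute a b := hAcomm a ha b hb
      have h4 : Commute (g ^ k) b := h2.zpow_left k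
      have h5 : Commute (g ^ l) a := h1.zpow_left l
      have h6 : Commute (g ^ k) (g ^ l) := (Commute.refl g).zpow_zpow k l
      exact (Commute.mul_left (h3.mul_right h5.symm) (h4.mul_right h6))
    · exact inf_eq_right.1 h
  refine ⟨hcard, ?_, ?_, ?_⟩
  · intro hcl
    obtain ⟨P⟩ : Nonempty (Sylow p G) := inferInstance
    have hPd : p ∣ Nat.card (P : Subgroup G) := by
      apply P.dvd_card_of_dvd_card
      rw [hcG]
      exact dvd_mul_left _ _
    have hPb : (P : Subgroup G) ≠ ⊥ := by
      intro h
      rw [h, card_bot] at hPd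
      exact hp.out.one_lt.ne' (Nat.dvd_one.1 hPd)
    have h1 := key P (hcl P) hPb
    have h2 : Nat.card A ∣ Nat.card (P : Subgroup G) := card_dvd_of_le h1
    obtain ⟨k, hk⟩ := IsPGroup.iff_card.1 P.2
    have hAb : Nat.card A ≠ 1 := by
      rw [hcard]
      intro h
      have he : orderOf (q : ZMod p) ≠ 0 := by
        have hqu : IsUnit (q : ZMod p) := by
          rw [ZMod.isUnit_iff_coprime]
          exact (Nat.coprime_primes hq hp.out).2 hpq
        exact (orderOf_pos_iff.2 (isOfFinOrder_iff_isUnit.2 hqu)).ne'
      exact (Nat.one_lt_pow he hq.one_lt).ne' h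
    obtain ⟨r, hr, hrA⟩ := Nat.exists_prime_and_dvd hAb
    have h3 : r ∣ p ^ k := hk ▸ hrA.trans h2
    have h4 := (Nat.prime_dvd_prime_iff_eq hr hp.out).1 (hr.dvd_of_dvd_pow h3)
    exact hpA (h4 ▸ hrA)
  · intro H hH
    by_cases hHA : H ≤ A
    · apply isPClosed_of_not_dvd
      intro h
      exact hpA (h.trans (card_dvd_of_le hHA))
    · obtain ⟨g, hgH, hgA⟩ := Set.not_subset.1 hHA
      have htop := sup_zpowers_eq_top A hidx hgA
      have htop' : A ⊔ H = ⊤ := by
        rw [eq_top_iff, ← htop]
        exact sup_le_sup_left (zpowers_le.2 hgH) A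
      have hn : (A ⊓ H).Normal := by
        rw [← normalizer_eq_top_iff, eq_top_iff, ← htop']
        apply sup_le
        · intro a ha
          rw [mem_normalizer_iff]
          intro x
          constructor
          · intro hx
            rw [hAcomm a ha x hx.1, mul_inv_cancel_right]
            exact hx
          · intro hx
            have h1 : x ∈ A := by
              have := hAn.conj_mem _ hx.1 a⁻¹
              simpa [mul_assoc] using this
            rw [hAcomm a ha x h1, mul_inv_cancel_right] at hx
            exact hx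
        · intro a ha
          rw [mem_normalizer_iff]
          intro x
          constructor
          · intro hx
            exact ⟨hAn.conj_mem _ hx.1 a, H.mul_mem (H.mul_mem ha hx.2) (H.inv_mem ha)⟩
          · intro hx
            have h1 : x ∈ A := by
              have := hAn.conj_mem _ hx.1 a⁻¹
              simpa [mul_assoc] using this
            refine ⟨h1, ?_⟩
            have := H.mul_mem (H.mul_mem (H.inv_mem ha) hx.2) ha
            simpa [mul_assoc] using this
      rcases hmin _ hn inf_le_left with h | h
      · apply isPClosed_of_isPGroup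
        have h1 : Nat.card H = p := by
          have h2 := H.relIndex_sup_right A
          rw [sup_comm, htop', relIndex_top_right, hidx] at h2
          have h3 : A.relIndex H = (A ⊓ H).relIndex H := (inf_relIndex_right A H).symm
          rw [h3, h, relIndex_bot_left] at h2
          exact h2.symm
        exact IsPGroup.of_card (n := 1) (by rw [h1, pow_one])
      · exfalso
        apply hH
        have h1 : A ≤ H := inf_eq_left.1 h
        rw [sup_eq_right.2 h1] at htop'
        exact htop'
  · intro N hN hNb
    apply isPClosed_of_isPGroup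
    have h1 := key N hN hNb
    have h2 : N.index ∣ p := hidx ▸ index_dvd_of_le h1
    rcases (Nat.dvd_prime hp.out).1 h2 with h | h
    · exact IsPGroup.of_card (n := 0) (by rw [pow_zero]; exact h)
    · exact IsPGroup.of_card (n := 1) (by rw [pow_one]; exact h)

end Cfsg.Agent.S3869
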