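import Cfsg.Statements.S3870
import Mathlib

set_option autoImplicit false
open Cfsg

namespace Cfsg.Agent.S3870

/-- Let G be a finite simple group whose Sylow p-subgroups are not normal but such that every proper subgroup of G has a normal Sylow p-subgroup. Then any two distinct Sylow p-subgroups of G intersect trivially, and for every Sylow p-subgroup P the normalizer of every non-identity subgroup of P lies in the normalizer of P. -/
theorem result {G : Type*} [Group G] [Finite G] [IsSimpleGroup G] {p : ℕ} [Fact p.Prime]
    (hnc : ¬ Cfsg.IsPClosed p G) (hsub : ∀ H : Subgroup G, H ≠ ⊤ → Cfsg.IsPClosed p ↥H) :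
    (∀ P Q : Sylow p G, P ≠ Q → (P : Subgroup G) ⊓ (Q : Subgroup G) = ⊥) ∧
      ∀ (P : Sylow p G) (R : Subgroup G), R ≤ P → R ≠ ⊥ →
        Subgroup.normalizer (R : Set G) ≤ Subgroup.normalizer ((P : Subgroup G) : Set G) := by
  classical
  have hp := (Fact.out : p.Prime)
  -- G is not a p-group-ish: no Sylow is normal
  have hnorm : ∀ P : Sylow p G, ¬ (P : Subgroup G).Normal := by
    intro P hP
    apply hnc
    intro Q
    obtain ⟨g, rfl⟩ := MulAction.exists_smul_eq G P Q
    rw [Sylow.smul_eq_of_normal (h := hP)]
    exact hP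
  -- key: normalizer of a nontrivial p-subgroup R lies in a subgroup with normal Sylow
  have hproper : ∀ R : Subgroup G, R ≠ ⊥ → IsPGroup p R → Subgroup.normalizer (R : Set G) ≠ ⊤ := by
    intro R hR hRp htop
    have hRn : R.Normal := Subgroup.normalizer_eq_top_iff.1 htop
    rcases hRn.eq_bot_or_eq_top with h | h
    · exact hR h
    · obtain ⟨P⟩ := (Sylow.nonempty : Nonempty (Sylow p G))
      apply hnorm P
      have : (P : Subgroup G) = ⊤ := by
        apply le_antisymm le_top
        have h2 : IsPGroup p (⊤ : Subgroup G) := h ▸ hRp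
        rw [← P.is_maximal' h2 le_top]
      rw [this]; infer_instance
  have hTI : ∀ P Q : Sylow p G, P ≠ Q → (P : Subgroup G) ⊓ (Q : Subgroup G) = ⊥ := by
    by_contra hcon
    push Not at hcon
    -- choose a pair with maximal intersection
    obtain ⟨P₀, Q₀, hne₀, hD₀⟩ := hcon
    let S : Set (Sylow p G × Sylow p G) := {x | x.1 ≠ x.2 ∧ (x.1 : Subgroup G) ⊓ (x.2 : Subgroup G) ≠ ⊥}
    have hSne : S.Nonempty := ⟨(P₀, Q₀), hne₀, hD₀⟩
    obtain ⟨⟨P, Q⟩, ⟨hne, hD⟩, hmax⟩ := Set.exists_max_image S
      (fun x => Nat.card ((x.1 : Subgroup G) ⊓ (x.2 : Subgroup G) : Subgroup G)) (Set.toFinite S) hSne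
    simp only at hne hD hmax
    set D := (P : Subgroup G) ⊓ (Q : Subgroup G) with hDdef
    have hDp : IsPGroup p D := P.isPGroup'.to_le inf_le_left
    set N := Subgroup.normalizer (D : Set G) with hN
    have hNtop : N ≠ ⊤ := hproper D hD hDp
    have hclosed := hsub N hNtop
    -- the unique Sylow p-subgroup of N
    obtain ⟨R⟩ := (Sylow.nonempty : Nonempty (Sylow p N))
    have hRn : (R : Subgroup N).Normal := hclosed R
    -- any p-subgroup of N is in R
    have hle : ∀ X : Subgroup G, X ≤ N → IsPGroup p X → X ≤ (R : Subgroup N).map N.subtype := by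
      intro X hXN hXp
      have h1 : IsPGroup p (X.subgroupOf N) := hXp.comap_of_injective N.subtype N.subtype_injective
      obtain ⟨R', hR'⟩ := h1.exists_le_sylow
      have : R' = R := by
        obtain ⟨n, hn⟩ := MulAction.exists_smul_eq N R R'
        rw [← hn, Sylow.smul_eq_of_normal]
      rw [this] at hR'
      calc X = (X.subgroupOf N).map N.subtype := by
              rw [Subgroup.subgroupOf_map_subtype, inf_eq_left.2 hXN]
        _ ≤ _ := Subgroup.map_mono hR'
    have hRp : IsPGroup p ((R : Subgroup N).map N.subtype) := R.isPGroup'.map _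
    obtain ⟨T, hT⟩ := hRp.exists_le_sylow
    -- for a Sylow subgroup P containing D, P ≠ T leads to D < P ⊓ T
    have step : ∀ P' : Sylow p G, D ≤ P' → D ≠ P' → P' = T := by
      intro P' hDP' hDne
      by_contra hPT
      have hlt : D < (P' : Subgroup G) := lt_of_le_of_ne hDP' hDne
      -- D < N_{P'}(D)
      have hnil : Group.IsNilpotent (P' : Subgroup G) := P'.isPGroup'.isNilpotent
      have hnc' : NormalizerCondition (P' : Subgroup G) := Group.normalizerCondition_of_isNilpotent
      have h3 : D.subgroupOf (P' : Subgroup G) < ⊤ := by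
        rw [lt_top_iff_ne_top]
        intro h4
        rw [Subgroup.subgroupOf_eq_top] at h4
        exact absurd (le_antisymm hDP' h4) hDne
      have h4 := hnc' _ h3
      obtain ⟨x, hx1, hx2⟩ := SetLike.exists_of_lt h4
      have hxN : (x : G) ∈ N := by
        rw [hN, Subgroup.mem_normalizer_iff]
        intro y
        rw [Subgroup.mem_normalizer_iff] at hx1
        constructor
        · intro hy
          have := (hx1 ⟨y, hDP' hy⟩).1 (by rw [Subgroup.mem_subgroupOf]; exact hy)
          rw [Subgroup.mem_subgroupOf] at this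
          exact this
        · intro hy
          have hyP : y ∈ (P' : Subgroup G) := by
            have h5 := hDP' hy
            have : y = (x : G)⁻¹ * ((x : G) * y * (x : G)⁻¹) * (x : G) := by group
            rw [this]
            exact mul_mem (mul_mem (inv_mem x.2) h5) x.2
          have := (hx1 ⟨y, hyP⟩).2 (by rw [Subgroup.mem_subgroupOf]; exact hy)
          rw [Subgroup.mem_subgroupOf] at this
          exact this
      -- X = P' ⊓ N is a p-subgroup of N containing D and x
      have hX : (P' : Subgroup G) ⊓ N ≤ T :=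
        (hle _ inf_le_right (P'.isPGroup'.to_le inf_le_left)).trans hT
      have hXD : D < (P' : Subgroup G) ⊓ T := by
        refine lt_of_le_of_ne (le_inf hDP' ?_) ?_
        · exact (le_inf hDP' Subgroup.le_normalizer).trans hX
        · intro h5
          apply hx2
          rw [Subgroup.mem_subgroupOf, h5]
          exact ⟨x.2, hX ⟨x.2, hxN⟩⟩
      have h6 := hmax (P', T) ⟨hPT, fun h => by
        have : D ≤ ⊥ := by rw [← h]; exact hXD.le
        exact hD (le_bot_iff.1 this)⟩
      simp only at h6
      exact hXD.ne (Subgroup.eq_of_le_of_card_ge hXD.le h6)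
    have hDP : D ≠ P := by
      intro h
      have : (P : Subgroup G) ≤ Q := by rw [← h]; exact inf_le_right
      apply hne
      apply Sylow.ext
      exact (P.is_maximal' Q.isPGroup' this).symm
    have hDQ : D ≠ Q := by
      intro h
      have : (Q : Subgroup G) ≤ P := by rw [← h]; exact inf_le_left
      apply hne
      apply Sylow.ext
      exact (Q.is_maximal' P.isPGroup' this)
    exact hne ((step P inf_le_left hDP).trans (step Q inf_le_right hDQ).symm)
  refine ⟨hTI, ?_⟩
  intro P R hRP hR g hg
  by_contra hgP
  have hne : g • P ≠ P := by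
    intro h
    exact hgP (Sylow.smul_eq_iff_mem_normalizer.1 h)
  have h1 := hTI _ _ hne
  apply hR
  rw [eq_bot_iff, ← h1]
  refine le_inf ?_ hRP
  intro r hr
  rw [Sylow.coe_subgroup_smul, Subgroup.mem_pointwise_smul_iff_inv_smul_mem]
  apply hRP
  have := (Subgroup.mem_normalizer_iff.1 (inv_mem hg) r).1 hr
  simpa [MulAut.smul_def] using this

end Cfsg.Agent.S3870
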