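import Cfsg.Statements.S3872
import Mathlib
import Cfsg.Agent.Lib.H67.HallPetrescu
import Cfsg.Agent.Lib.H14.MaxClass
import Cfsg.Agent.Lib.H1.Cyc

set_option autoImplicit false
open Cfsg

namespace Cfsg.Agent.S3872

open Subgroup


/-- Say that a finite group is p-exponent closed when its elements of order dividing p form a subgroup. Let G be a finite p-group that is not p-exponent closed, but all of whose proper subgroups and proper quotients are. Then G is generated by two elements, has nilpotency class at least p, has exponent p², has cyclic center, and has order at least p^(p+1). -/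
theorem result {G : Type*} [Group G] [Finite G] {p : ℕ} [Fact p.Prime] (hG : IsPGroup p G)
    (hnc : ¬ (∃ H : Subgroup G, (H : Set G) = {g : G | g ^ p = 1})) (hsub : ∀ K : Subgroup G, K ≠ ⊤ → (∃ H : Subgroup ↥K, (H : Set ↥K) = {g : ↥K | g ^ p = 1}))
    (hquo : ∀ (N : Subgroup G) [N.Normal], N ≠ ⊥ → (∃ H : Subgroup (G ⧸ N), (H : Set (G ⧸ N)) = {g : (G ⧸ N) | g ^ p = 1})) :
    (∃ x y : G, Subgroup.closure ({x, y} : Set G) = ⊤) ∧ (⊤ : Subgroup G).lowerCentralSeries (p - 1) ≠ ⊥ ∧
      Monoid.exponent G = p ^ 2 ∧ IsCyclic ↥(Subgroup.center G) ∧ p ^ (p + 1) ≤ Nat.card G := by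
  have hp : p.Prime := Fact.out
  -- two elements of order dividing `p` with a bad product
  obtain ⟨x, y, hx, hy, hxy⟩ : ∃ x y : G, x ^ p = 1 ∧ y ^ p = 1 ∧ (x * y) ^ p ≠ 1 := by
    by_contra hcon
    push Not at hcon
    apply hnc
    exact ⟨{ carrier := {g | g ^ p = 1}
             mul_mem' := fun {a b} ha hb => hcon a b ha hb
             one_mem' := one_pow p
             inv_mem' := fun {a} ha => by
               have h1 : a ^ p = 1 := ha
               change a⁻¹ ^ p = 1
               rw [inv_pow, h1, inv_one] }, rfl⟩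
  have hgen : closure ({x, y} : Set G) = ⊤ := by
    by_contra hT
    obtain ⟨H, hH⟩ := hsub _ hT
    have hxm := H14.Regular.mem_closure_pair_left x y
    have hym := H14.Regular.mem_closure_pair_right x y
    have h1 : (⟨x, hxm⟩ : closure ({x, y} : Set G)) ∈ H := by
      change (⟨x, hxm⟩ : closure ({x, y} : Set G)) ∈ (H : Set _)
      rw [hH]
      exact Subtype.ext hx
    have h2 : (⟨y, hym⟩ : closure ({x, y} : Set G)) ∈ H := by
      change (⟨y, hym⟩ : closure ({x, y} : Set G)) ∈ (H : Set _)
      rw [hH]
      exact Subtype.ext hy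
    have h3 := mul_mem h1 h2
    have h4 : (⟨x, hxm⟩ * ⟨y, hym⟩ : closure ({x, y} : Set G)) ∈
        (H : Set (closure ({x, y} : Set G))) := h3
    rw [hH] at h4
    have h3 := h4
    exact hxy (congrArg Subtype.val h3)
  have hexp : ∀ (N : Subgroup G) [N.Normal], N ≠ ⊥ → ∀ g : G, g ^ p ∈ N := by
    intro N hN hNb g
    obtain ⟨H, hH⟩ := hquo N hNb
    have h1 : H.comap (QuotientGroup.mk' N) = ⊤ := by
      rw [eq_top_iff, ← hgen, closure_le]
      rintro g hg
      have hg1 : g ^ p = 1 := by
        rcases hg with rfl | hg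
        · exact hx
        · rw [Set.mem_singleton_iff] at hg
          rw [hg]; exact hy
      change (QuotientGroup.mk' N g) ∈ (H : Set (G ⧸ N))
      rw [hH]
      change (QuotientGroup.mk' N g) ^ p = 1
      rw [← map_pow, hg1, map_one]
    have h2 : g ∈ H.comap (QuotientGroup.mk' N) := by rw [h1]; trivial
    have h3 : (QuotientGroup.mk' N g) ∈ (H : Set (G ⧸ N)) := h2
    rw [hH] at h3
    have h4 : (QuotientGroup.mk' N g) ^ p = 1 := h3
    rw [← map_pow] at h4
    exact (QuotientGroup.eq_one_iff _).1 h4
  -- class at least `p`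
  have hcl : (⊤ : Subgroup G).lowerCentralSeries (p - 1) ≠ ⊥ := by
    intro hb
    have hR := H67.HallPetrescu.regW_of_lcs hp hb
    apply hxy
    have h1 := H14.Regular.pow_eq_one_of_eq hG hR (a := x⁻¹) (b := y)
      (by rw [inv_pow, hx, hy, inv_one])
    rwa [inv_inv] at h1
  have hnt : Nontrivial G := by
    by_contra h
    rw [not_nontrivial_iff_subsingleton] at h
    exact hxy (Subsingleton.elim _ _)
  have hZ : Nontrivial (center G) := hG.center_nontrivial
  refine ⟨⟨x, y, hgen⟩, hcl, ?_, ?_, ?_⟩
  · -- exponent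
    obtain ⟨z, hz⟩ := exists_prime_orderOf_dvd_card' (G := center G) p (by
      obtain ⟨n, hn⟩ := IsPGroup.iff_card.1 (hG.to_subgroup (center G))
      rw [hn]
      apply dvd_pow_self
      rintro rfl
      rw [pow_zero] at hn
      have := Finite.one_lt_card (α := center G)
      omega)
    have hzn : (zpowers (z : G)).Normal := by
      constructor
      intro n hn g
      obtain ⟨k, rfl⟩ := mem_zpowers_iff.1 hn
      have hc : g * (z : G) ^ k = (z : G) ^ k * g := (mem_center_iff.1 (zpow_mem z.2 k) g)
      rw [hc, mul_inv_cancel_right]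
      exact hn
    have hz1 : orderOf (z : G) = p := by rw [← hz, orderOf_coe]
    have hzb : zpowers (z : G) ≠ ⊥ := by
      intro h
      rw [zpowers_eq_bot] at h
      rw [h, orderOf_one] at hz1
      exact hp.one_lt.ne hz1
    have hd : Monoid.exponent G ∣ p ^ 2 := by
      apply Monoid.exponent_dvd_of_forall_pow_eq_one
      intro g
      have h1 := hexp _ hzb g
      obtain ⟨k, hk⟩ := mem_zpowers_iff.1 h1
      rw [pow_two, pow_mul, ← hk, ← zpow_natCast, ← zpow_mul, mul_comm, zpow_mul, zpow_natCast,
        ← hz1, pow_orderOf_eq_one, one_zpow]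
    obtain ⟨k, hk1, hk2⟩ := (Nat.dvd_prime_pow hp).1 hd
    rw [hk2]
    congr 1
    by_contra hk3
    apply hxy
    have : Monoid.exponent G ∣ p := by
      rw [hk2]
      exact (pow_dvd_pow p (by omega : k ≤ 1)).trans (pow_one p).dvd
    exact (Monoid.exponent_dvd_iff_forall_pow_eq_one.1 this) _
  · -- center cyclic
    by_contra hcyc
    obtain ⟨q, a, b, hq, ha, hb, hab⟩ := H1.Cyc.exists_of_not_isCyclic (G := center G)
      (fun a b => Subtype.ext (mem_center_iff.1 b.2 a)) hcyc
    -- `z = (xy)^p` is in both
    have hN : ∀ c : center G, (zpowers (c : G)).Normal := by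
      intro c
      constructor
      intro n hn g
      obtain ⟨k, rfl⟩ := mem_zpowers_iff.1 hn
      have hc : g * (c : G) ^ k = (c : G) ^ k * g := (mem_center_iff.1 (zpow_mem c.2 k) g)
      rw [hc, mul_inv_cancel_right]
      exact hn
    have hne : ∀ c : center G, orderOf c = q → zpowers (c : G) ≠ ⊥ := by
      intro c hc h
      rw [zpowers_eq_bot] at h
      rw [← orderOf_coe, h, orderOf_one] at hc
      exact hq.one_lt.ne hc
    have h1 := @hexp (zpowers (a : G)) (hN a) (hne a ha) (x * y)
    have h2 := @hexp (zpowers (b : G)) (hN b) (hne b hb) (x * y)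
    -- zpowers a ⊓ zpowers b is trivial
    apply hab
    have hca : Nat.card (zpowers (a : G)) = q := by rw [Nat.card_zpowers, orderOf_coe, ha]
    have hcb : Nat.card (zpowers (b : G)) = q := by rw [Nat.card_zpowers, orderOf_coe, hb]
    have hI : ∀ c : center G, Nat.card (zpowers (c : G)) = q → (x * y) ^ p ∈ zpowers (c : G) →
        zpowers ((x * y) ^ p) = zpowers (c : G) := by
      intro c hc hm
      have hle : zpowers ((x * y) ^ p) ≤ zpowers (c : G) := by
        rw [zpowers_le]; exact hm
      apply Subgroup.eq_of_le_of_card_ge hle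
      rw [hc]
      have hdv := Subgroup.card_dvd_of_le hle
      rw [hc] at hdv
      rcases (Nat.dvd_prime hq).1 hdv with h | h
      · exfalso
        rw [Nat.card_zpowers, orderOf_eq_one_iff] at h
        exact hxy h
      · exact h.ge
    have hE : zpowers (b : G) = zpowers (a : G) := (hI b hcb h2).symm.trans (hI a hca h1)
    have hbm : (b : G) ∈ zpowers (a : G) := hE ▸ mem_zpowers (b : G)
    obtain ⟨k, hk⟩ := mem_zpowers_iff.1 hbm
    exact mem_zpowers_iff.2 ⟨k, Subtype.ext (by simpa using hk)⟩
  · -- order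
    rcases Nat.lt_or_ge 2 p with h2 | h2
    · have h3 := (H14.MaxClass.lcs_index_dvd hG (i := p - 1) (by omega)).resolve_left hcl
      have h4 : Nat.card ((⊤ : Subgroup G).lowerCentralSeries (p - 1) : Subgroup G) *
          ((⊤ : Subgroup G).lowerCentralSeries (p - 1)).index = Nat.card G :=
        Subgroup.card_mul_index _
      rw [show p - 1 + 1 = p by omega] at h3
      obtain ⟨n, hn⟩ := IsPGroup.iff_card.1
        (hG.to_subgroup ((⊤ : Subgroup G).lowerCentralSeries (p - 1)))
      have hn0 : n ≠ 0 := by
        rintro rfl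
        rw [pow_zero] at hn
        exact hcl (Subgroup.card_eq_one.1 hn)
      rw [← h4, hn, pow_succ, mul_comm]
      apply Nat.mul_le_mul
      · exact Nat.le_self_pow hn0 p
      · exact Nat.le_of_dvd (Nat.pos_of_ne_zero (Subgroup.index_ne_zero_of_finite)) h3
    · have hp2 : p = 2 := le_antisymm h2 hp.two_le
      subst hp2
      have h3 := (H14.MaxClass.lcs_index_dvd hG (i := 1) le_rfl).resolve_left hcl
      have h4 : Nat.card ((⊤ : Subgroup G).lowerCentralSeries 1 : Subgroup G) *
          ((⊤ : Subgroup G).lowerCentralSeries 1).index = Nat.card G :=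
        Subgroup.card_mul_index _
      obtain ⟨n, hn⟩ := IsPGroup.iff_card.1
        (hG.to_subgroup ((⊤ : Subgroup G).lowerCentralSeries 1))
      have hn0 : n ≠ 0 := by
        rintro rfl
        rw [pow_zero] at hn
        exact hcl (Subgroup.card_eq_one.1 hn)
      rw [← h4, hn, pow_succ, mul_comm]
      apply Nat.mul_le_mul
      · exact Nat.le_self_pow hn0 2
      · exact Nat.le_of_dvd (Nat.pos_of_ne_zero (Subgroup.index_ne_zero_of_finite)) h3

end Cfsg.Agent.S3872
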