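import Cfsg.Statements.S3873
import Mathlib
import Cfsg.Agent.Lib.H67.MinClosed

set_option autoImplicit false
open Cfsg

namespace Cfsg.Agent.S3873

open Subgroup
open H67.MinClosed

/-- Say that a finite group is p-exponent closed when its elements of order dividing p form a subgroup. Let G be a finite group that is not p-exponent closed, but all of whose proper subgroups and proper quotients are, and suppose G is neither simple nor a p-group. Then there is a prime q ≠ p such that G has order p · q^e, where e is the multiplicative order of q modulo p, and G has a normal elementary abelian subgroup of order q^e that is a minimal normal subgroup of G. -/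
theorem result {G : Type*} [Group G] [Finite G] {p : ℕ} [Fact p.Prime]
    (hnc : ¬ (∃ H : Subgroup G, (H : Set G) = {g : G | g ^ p = 1})) (hsub : ∀ K : Subgroup G, K ≠ ⊤ → (∃ H : Subgroup ↥K, (H : Set ↥K) = {g : ↥K | g ^ p = 1}))
    (hquo : ∀ (N : Subgroup G) [N.Normal], N ≠ ⊥ → (∃ H : Subgroup (G ⧸ N), (H : Set (G ⧸ N)) = {g : (G ⧸ N) | g ^ p = 1}))
    (hns : ¬ IsSimpleGroup G) (hnp : ¬ IsPGroup p G) :
    ∃ q : ℕ, q.Prime ∧ q ≠ p ∧ Nat.card G = p * q ^ orderOf (q : ZMod p) ∧
      ∃ A : Subgroup G, A.Normal ∧ Nat.card ↥A = q ^ orderOf (q : ZMod p) ∧ Cfsg.IsElementaryAbelian q A ∧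
        ∀ B : Subgroup G, B.Normal → B ≤ A → B = ⊥ ∨ B = A := by
  have hp : Fact p.Prime := inferInstance
  -- G is generated by its elements of order dividing p
  have hgen : closure {g : G | g ^ p = 1} = ⊤ := by
    by_contra hT
    apply hnc
    obtain ⟨H, hH⟩ := hsub _ hT
    refine ⟨closure {g : G | g ^ p = 1}, ?_⟩
    have h1 : closure {g : G | g ^ p = 1} ≤ H.map (closure {g : G | g ^ p = 1}).subtype := by
      nth_rewrite 1 [closure_le]
      intro g hg
      refine ⟨⟨g, subset_closure hg⟩, ?_, rfl⟩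
      rw [hH]
      exact Subtype.ext hg
    apply Set.Subset.antisymm
    · intro g hg
      obtain ⟨y, hy, rfl⟩ := h1 hg
      rw [hH] at hy
      exact congrArg Subtype.val hy
    · exact subset_closure
  -- every proper quotient has exponent p
  have hexp : ∀ (N : Subgroup G) [N.Normal], N ≠ ⊥ → IsPGroup p (G ⧸ N) := by
    intro N hN hNb
    obtain ⟨H, hH⟩ := hquo N hNb
    have h1 : H.comap (QuotientGroup.mk' N) = ⊤ := by
      rw [eq_top_iff, ← hgen, closure_le]
      intro g hg
      change (QuotientGroup.mk' N g) ∈ (H : Set (G ⧸ N))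
      rw [hH]
      change (QuotientGroup.mk' N g) ^ p = 1
      rw [← map_pow, hg, map_one]
    intro x
    refine ⟨1, ?_⟩
    rw [pow_one]
    obtain ⟨g, rfl⟩ := QuotientGroup.mk'_surjective N x
    have h2 : g ∈ H.comap (QuotientGroup.mk' N) := by rw [h1]; trivial
    have h3 : (QuotientGroup.mk' N g) ∈ (H : Set (G ⧸ N)) := h2
    rw [hH] at h3
    exact h3
  -- no nontrivial normal `p`-subgroup
  have hcore : ∀ R : Subgroup G, R.Normal → IsPGroup p R → R = ⊥ := by
    intro R hR hRp
    by_contra hRb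
    apply hnp
    obtain ⟨a, ha⟩ := IsPGroup.iff_card.1 (hexp R hRb)
    obtain ⟨b, hb⟩ := IsPGroup.iff_card.1 hRp
    apply IsPGroup.of_card (n := a + b)
    rw [card_eq_card_quotient_mul_card_subgroup R, ha, hb, pow_add]
  have hpr : ∀ M : Subgroup G, M.Normal → M ≠ ⊤ → ¬ p ∣ Nat.card M := by
    intro M hM hMt hd
    obtain ⟨H, hH⟩ := hsub M hMt
    obtain ⟨x, hx⟩ := exists_prime_orderOf_dvd_card' (G := M) p hd
    have hmem : ∀ g : G, g ∈ H.map M.subtype ↔ g ∈ M ∧ g ^ p = 1 := by
      intro g
      constructor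
      · rintro ⟨y, hy, rfl⟩
        refine ⟨y.2, ?_⟩
        rw [hH] at hy
        exact congrArg Subtype.val hy
      · rintro ⟨h1, h2⟩
        refine ⟨⟨g, h1⟩, ?_, rfl⟩
        rw [hH]
        exact Subtype.ext h2
    have hn : (H.map M.subtype).Normal := by
      refine ⟨fun g hg x => ?_⟩
      rw [hmem] at hg ⊢
      refine ⟨hM.conj_mem g hg.1 x, ?_⟩
      rw [conj_pow, hg.2, mul_one, mul_inv_cancel]
    have hpg : IsPGroup p (H.map M.subtype) := by
      rintro ⟨g, hg⟩
      refine ⟨1, ?_⟩
      rw [pow_one]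
      exact Subtype.ext ((hmem g).1 hg).2
    have h1 := hcore _ hn hpg
    have h2 : (x : G) ∈ H.map M.subtype := by
      rw [hmem]
      refine ⟨x.2, ?_⟩
      have := pow_orderOf_eq_one x
      rw [hx] at this
      exact congrArg Subtype.val this
    rw [h1, mem_bot] at h2
    have h3 : x = 1 := Subtype.ext h2
    rw [h3, orderOf_one] at hx
    exact hp.out.one_lt.ne hx
  have hnt : Nontrivial G := by
    by_contra h
    rw [not_nontrivial_iff_subsingleton] at h
    apply hnp
    intro g
    exact ⟨0, Subsingleton.elim _ _⟩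
  obtain ⟨N, hN, hNb, hNt⟩ : ∃ N : Subgroup G, N.Normal ∧ N ≠ ⊥ ∧ N ≠ ⊤ := by
    by_contra hcon
    push Not at hcon
    apply hns
    exact ⟨fun H hH => by
      by_cases h : H = ⊥
      · exact Or.inl h
      · exact Or.inr (hcon H hH h)⟩
  have hidx : N.index = p := index_eq_of N hNt (hexp N hNb) (fun M hM _ hMt => hpr M hM hMt)
  have hNmin : ∀ B : Subgroup G, B.Normal → B ≤ N → B = ⊥ ∨ B = N := by
    intro B hB hBN
    by_cases hBb : B = ⊥
    · exact Or.inl hBb
    right
    have hBt : B ≠ ⊤ := fun h => hNt (top_le_iff.1 (h ▸ hBN))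
    have h1 : B.index = p := index_eq_of B hBt (hexp B hBb) (fun M hM _ hMt => hpr M hM hMt)
    apply eq_of_le_of_card_ge hBN
    have h2 := B.card_mul_index
    rw [← N.card_mul_index, h1, hidx] at h2
    exact (Nat.eq_of_mul_eq_mul_right hp.out.pos h2).ge
  obtain ⟨P⟩ : Nonempty (Sylow p G) := inferInstance
  have htop : N ⊔ (P : Subgroup G) = ⊤ := by
    have h1 : (N ⊔ (P : Subgroup G)).index ∣ p :=
      (index_dvd_of_le (H := N) le_sup_left).trans (dvd_of_eq hidx)
    rcases (Nat.dvd_prime hp.out).1 h1 with h | h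
    · exact index_eq_one.1 h
    · exfalso
      apply P.not_dvd_index
      have : (N ⊔ (P : Subgroup G)).index ∣ (P : Subgroup G).index := index_dvd_of_le le_sup_right
      rwa [h] at this
  have hcop : (Nat.card (P : Subgroup G)).Coprime (Nat.card N) := by
    obtain ⟨k, hk⟩ := IsPGroup.iff_card.1 P.2
    rw [hk]
    exact Nat.Coprime.pow_left _ ((Nat.Prime.coprime_iff_not_dvd hp.out).2 (hpr N hN hNt))
  have hPN : (P : Subgroup G) ≤ normalizer (N : Set G) := by
    rw [normalizer_eq_top]; exact le_top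
  have hPc : Nat.card (P : Subgroup G) = p := by
    have h1 := H1.Coprime.relIndex_sup_of_disjoint hPN (H1.Coprime.inf_eq_bot_of_coprime_card hcop)
    rw [htop, relIndex_top_right, hidx] at h1
    exact h1.symm
  have hPe : ∀ x ∈ (P : Subgroup G), x ^ p = 1 := by
    intro x hx
    have := pow_card_eq_one' (G := (P : Subgroup G)) (x := ⟨x, hx⟩)
    rw [hPc] at this
    exact congrArg Subtype.val this
  have hPn : ¬ (P : Subgroup G).Normal := by
    intro hn
    apply hnc
    refine ⟨P, ?_⟩
    apply Set.Subset.antisymm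
    · exact hPe
    · intro g hg
      have h1 : IsPGroup p (zpowers g) := by
        rintro ⟨x, k, rfl⟩
        refine ⟨1, ?_⟩
        rw [pow_one]
        apply Subtype.ext
        change (g ^ k) ^ p = 1
        rw [← zpow_natCast, ← zpow_mul, mul_comm, zpow_mul, zpow_natCast, hg, one_zpow]
      obtain ⟨Q, hQ⟩ := h1.exists_le_sylow
      have h2 : Q = P := by
        obtain ⟨y, hy⟩ := MulAction.exists_smul_eq G P Q
        rw [← hy]
        exact Sylow.smul_eq_of_normal
      rw [← h2]
      exact hQ (mem_zpowers g)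
  obtain ⟨q, hq, hqp, hNq⟩ := exists_prime_of_core N (hpr N hN hNt) P htop hPn (by
    intro q hq hqp Q hQN hQ hPQ hne
    obtain ⟨K, hK⟩ : ∃ K, K = (P : Subgroup G) ⊔ Q := ⟨_, rfl⟩
    rw [← hK] at hne
    obtain ⟨H, hH⟩ := hsub K hne
    have hmem : ∀ g : G, g ∈ H.map K.subtype ↔ g ∈ K ∧ g ^ p = 1 := by
      intro g
      constructor
      · rintro ⟨y, hy, rfl⟩
        refine ⟨y.2, ?_⟩
        rw [hH] at hy
        exact congrArg Subtype.val hy
      · rintro ⟨h1, h2⟩
        refine ⟨⟨g, h1⟩, ?_, rfl⟩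
        rw [hH]
        exact Subtype.ext h2
    have hpg : IsPGroup p (H.map K.subtype) := by
      rintro ⟨g, hg⟩
      refine ⟨1, ?_⟩
      rw [pow_one]
      exact Subtype.ext ((hmem g).1 hg).2
    have h1 : (P : Subgroup G) ≤ H.map K.subtype := fun x hx => (hmem x).2 ⟨by rw [hK]; exact mem_sup_left hx, hPe x hx⟩
    have h2 : H.map K.subtype = P := P.3 hpg h1
    intro x hx
    have hxK : x ∈ K := by rw [hK]; exact mem_sup_right hx
    rw [mem_normalizer_iff, ← h2]
    intro y
    rw [hmem, hmem]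
    constructor
    · rintro ⟨h3, h4⟩
      refine ⟨K.mul_mem (K.mul_mem hxK h3) (K.inv_mem hxK), ?_⟩
      rw [conj_pow, h4, mul_one, mul_inv_cancel]
    · rintro ⟨h3, h4⟩
      have h5 := K.mul_mem (K.mul_mem (K.inv_mem hxK) h3) hxK
      refine ⟨by simpa [mul_assoc] using h5, ?_⟩
      rw [conj_pow] at h4
      rwa [mul_inv_eq_one, mul_eq_left] at h4)
  have hna : ¬ IsMulCommutative G := by
    intro h
    apply hPn
    refine ⟨fun n hn g => ?_⟩
    rw [h.is_comm.comm g n, mul_inv_cancel_right]
    exact hn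
  exact finish hq hqp hna N hNb hNq hidx hNmin

end Cfsg.Agent.S3873
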