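import Cfsg.Statements.S3875
import Mathlib
import Cfsg.Agent.Lib.H67.Least2
import Cfsg.Agent.Lib.H67.NonClosed
import Cfsg.Agent.S3868

set_option autoImplicit false
open Cfsg

namespace Cfsg.Agent.S3875

theorem lower (p : ℕ) [Fact p.Prime] (hp : p ≠ 2) (m : ℕ) 
    (hleast : ∀ k : ℕ, IsPrimePow k → k % p = 1 → m ≤ k) :
    ∀ (n : ℕ) (H : Type) [Group H] [Finite H], Nat.card H = n → ¬ Cfsg.IsPClosed p H →
      min (p * m) (p * (p ^ 2 - 1) / 2) ≤ Nat.card H := by
  intro n
  induction n using Nat.strong_induction_on with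
  | _ n ih =>
    intro H _ _ hn hcl
    have hpp : p.Prime := Fact.out
    by_contra hlt
    push Not at hlt
    have hsub : ∀ K : Subgroup H, K ≠ ⊤ → Cfsg.IsPClosed p ↥K := by
      intro K hK
      by_contra hKc
      have h1 : Nat.card K < Nat.card H := by
        apply lt_of_le_of_ne (Nat.le_of_dvd Nat.card_pos K.card_subgroup_dvd_card)
        intro h
        exact hK (Subgroup.eq_top_of_card_eq K h)
      have h2 := ih (Nat.card K) (hn ▸ h1) K rfl hKc
      omega
    have hquo : ∀ (N : Subgroup H) [N.Normal], N ≠ ⊥ → Cfsg.IsPClosed p (H ⧸ N) := by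
      intro N _ hN
      by_contra hNc
      have h0 := Subgroup.card_eq_card_quotient_mul_card_subgroup N
      have h1 : 1 < Nat.card N := by
        have h3 : Nat.card N ≠ 1 := fun h => hN ((Subgroup.card_eq_one).1 h)
        have h4 : 0 < Nat.card N := Nat.card_pos
        omega
      have h5 : 0 < Nat.card (H ⧸ N) := Nat.card_pos
      have h6 : Nat.card (H ⧸ N) < Nat.card H := by
        rw [h0]
        exact (Nat.lt_mul_iff_one_lt_right h5).2 h1
      have h2 := ih (Nat.card (H ⧸ N)) (hn ▸ h6) (H ⧸ N) rfl hNc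
      omega
    by_cases hs : IsSimpleGroup H
    · have h1 := H67.Least.simple_case (p := p) (G := H) hcl
      have h2 := min_le_right (p * m) (p * (p ^ 2 - 1) / 2)
      omega
    · obtain ⟨q, hq, hqp, hcard, _⟩ := Cfsg.Agent.S3868.result (p := p) hcl hsub hquo hs
      have hq0 : (q : ZMod p) ≠ 0 := by
        rw [ne_eq, ZMod.natCast_eq_zero_iff]
        intro h
        exact hqp ((Nat.prime_dvd_prime_iff_eq hpp hq).1 h).symm
      have hord : 0 < orderOf (q : ZMod p) := by
        rw [orderOf_pos_iff, isOfFinOrder_iff_pow_eq_one]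
        exact ⟨p - 1, Nat.sub_pos_of_lt hpp.one_lt, ZMod.pow_card_sub_one_eq_one hq0⟩
      have h1 : IsPrimePow (q ^ orderOf (q : ZMod p)) := hq.isPrimePow.pow hord.ne'
      have h2 : q ^ orderOf (q : ZMod p) % p = 1 := by
        have h3 : ((q ^ orderOf (q : ZMod p) : ℕ) : ZMod p) = ((1 : ℕ) : ZMod p) := by
          push_cast
          exact pow_orderOf_eq_one _
        have h4 := (ZMod.natCast_eq_natCast_iff _ _ _).1 h3
        rw [Nat.ModEq, Nat.mod_eq_of_lt hpp.one_lt] at h4
        exact h4
      have h3 := hleast _ h1 h2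
      have h4 : p * m ≤ Nat.card H := by
        rw [hcard]
        exact Nat.mul_le_mul_left _ h3
      have h5 := min_le_left (p * m) (p * (p ^ 2 - 1) / 2)
      omega


/-- Let p be an odd prime and let m be the least prime power congruent to 1 modulo p. Then the least order of a finite group whose Sylow p-subgroups are not normal is the smaller of p · m and p(p² − 1)/2: every finite group whose Sylow p-subgroups are not normal has at least that order, and some group of exactly that order has non-normal Sylow p-subgroups. -/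
theorem result (p : ℕ) [Fact p.Prime] (hp : p ≠ 2) (m : ℕ) (hm : IsPrimePow m) (hm1 : m % p = 1)
    (hleast : ∀ k : ℕ, IsPrimePow k → k % p = 1 → m ≤ k) :
    (∀ (H : Type) [Group H] [Finite H], ¬ Cfsg.IsPClosed p H → min (p * m) (p * (p ^ 2 - 1) / 2) ≤ Nat.card H) ∧
      ∃ (H : Type) (_ : Group H) (_ : Finite H), Nat.card H = min (p * m) (p * (p ^ 2 - 1) / 2) ∧ ¬ Cfsg.IsPClosed p H := by
  refine ⟨fun H _ _ hH => lower p hp m hleast (Nat.card H) H rfl hH, ?_⟩
  rcases le_total (p * m) (p * (p ^ 2 - 1) / 2) with h | h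
  · rw [min_eq_left h]
    exact H67.NonClosed.exists_affine hm hm1
  · rw [min_eq_right h]
    exact H67.NonClosed.exists_psl hp

end Cfsg.Agent.S3875
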