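import Cfsg.Statements.S3889
import Mathlib

set_option autoImplicit false
open Cfsg

namespace Cfsg.Agent.S3889

/-- A finite abelian group that is the union of a family of proper subgroups any two of which intersect trivially is elementary abelian: its exponent is a prime. -/
theorem result {G : Type*} [CommGroup G] [Finite G] (𝓑 : Set (Subgroup G)) (hprop : ∀ B ∈ 𝓑, B ≠ ⊤)
    (hcov : ∀ g : G, ∃ B ∈ 𝓑, g ∈ B) (hdisj : ∀ B ∈ 𝓑, ∀ C ∈ 𝓑, B ≠ C → B ⊓ C = ⊥) :
    (Monoid.exponent G).Prime := by
  classical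
  -- nontrivial group
  have hnt : Nontrivial G := by
    obtain ⟨B, hB, _⟩ := hcov 1
    by_contra hn
    rw [not_nontrivial_iff_subsingleton] at hn
    exact hprop B hB (Subsingleton.elim _ _)
  obtain ⟨g, hg⟩ := Monoid.exists_orderOf_eq_exponent (G := G) Monoid.ExponentExists.of_finite
  set e := Monoid.exponent G with he
  have hdiv : ∀ x : G, orderOf x ∣ e := fun x => Monoid.order_dvd_exponent x
  have he1 : e ≠ 1 := by
    intro h
    rw [he, Monoid.exp_eq_one_iff] at h
    exact not_subsingleton G h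
  obtain ⟨B, hB, hgB⟩ := hcov g
  -- every element outside B has order e
  have key : ∀ h : G, h ∉ B → orderOf h = e := by
    intro h hh
    obtain ⟨C, hC, hghC⟩ := hcov (g * h)
    have hne : B ≠ C := by
      intro hBC
      rw [← hBC] at hghC
      exact hh ((Subgroup.mul_mem_cancel_left B hgB).1 hghC)
    have h1 : (g * h) ^ orderOf h = g ^ orderOf h := by
      rw [mul_pow, pow_orderOf_eq_one, mul_one]
    have h2 : g ^ orderOf h ∈ B ⊓ C := by
      refine ⟨Subgroup.pow_mem _ hgB _, ?_⟩
      rw [← h1]; exact Subgroup.pow_mem _ hghC _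
    rw [hdisj B hB C hC hne, Subgroup.mem_bot] at h2
    have h3 : e ∣ orderOf h := by rw [← hg]; exact orderOf_dvd_of_pow_eq_one h2
    exact Nat.dvd_antisymm (hdiv h) h3
  obtain ⟨h, hh⟩ : ∃ h, h ∉ B := by
    by_contra hcon
    push Not at hcon
    exact hprop B hB ((Subgroup.eq_top_iff' B).2 hcon)
  obtain ⟨C, hC, hhC⟩ := hcov h
  have hne : B ≠ C := fun h' => hh (h' ▸ hhC)
  have hoh := key h hh
  obtain ⟨p, hp, hpe⟩ := Nat.exists_prime_and_dvd he1
  have epos : 0 < e := by rw [← hoh]; exact orderOf_pos h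
  -- h ^ p is not in B unless trivial
  by_cases hpe' : e = p
  · rw [hpe']; exact hp
  · exfalso
    have h1 : h ^ p ≠ 1 := by
      intro h1
      have : e ∣ p := by rw [← hoh]; exact orderOf_dvd_of_pow_eq_one h1
      exact hpe' (Nat.dvd_antisymm this hpe)
    have h2 : h ^ p ∉ B := by
      intro h2
      have : h ^ p ∈ B ⊓ C := ⟨h2, Subgroup.pow_mem _ hhC _⟩
      rw [hdisj B hB C hC hne, Subgroup.mem_bot] at this
      exact h1 this
    have h3 := key _ h2
    rw [orderOf_pow_of_dvd hp.ne_zero (by rw [hoh]; exact hpe), hoh] at h3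
    have := Nat.div_lt_self epos hp.one_lt
    omega

end Cfsg.Agent.S3889
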