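import Cfsg.Statements.S3890
import Mathlib
import Cfsg.Agent.Lib.H67.NilCover

set_option autoImplicit false
open Cfsg

namespace Cfsg.Agent.S3890

open Subgroup
open scoped Pointwise


/-- A cover of a group is a finite set of proper subgroups whose union is the whole group; it is minimal when no cover has fewer members, and nilpotent when all its members are nilpotent. Let G be a finite group with trivial center admitting a nilpotent minimal cover 𝓐, and let P be an abelian Sylow p-subgroup of G that is not normal. Then either P is elementary abelian of order greater than p, or P is a Sylow p-subgroup of some member A of 𝓐, the normalizer N of P is a maximal subgroup of G, N meets each of its conjugates by elements outside N in a subgroup of order prime to p, and the centralizer of P equals A. -/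
theorem result {G : Type*} [Group G] [Finite G] (hZ : Subgroup.center G = ⊥) (𝓐 : Finset (Subgroup G))
    (h𝓐 : ((∀ A ∈ 𝓐, A ≠ ⊤) ∧ (∀ g : G, ∃ A ∈ 𝓐, g ∈ A)) ∧ (∀ 𝓑 : Finset (Subgroup G), (∀ A ∈ 𝓑, A ≠ ⊤) ∧ (∀ g : G, ∃ A ∈ 𝓑, g ∈ A) → 𝓐.card ≤ 𝓑.card) ∧ (∀ A ∈ 𝓐, Group.IsNilpotent ↥A)) {p : ℕ} [Fact p.Prime] (P : Sylow p G) (hab : IsMulCommutative ↥(P : Subgroup G))
    (hnn : ¬ (P : Subgroup G).Normal) :
    (Cfsg.IsElementaryAbelian p (P : Subgroup G) ∧ p < Nat.card ↥(P : Subgroup G)) ∨
    (∃ A ∈ 𝓐, (P : Subgroup G) ≤ A ∧ ¬ p ∣ ((P : Subgroup G).subgroupOf A).index ∧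
      IsCoatom (Subgroup.normalizer ((P : Subgroup G) : Set G)) ∧
      (∀ g : G, g ∉ Subgroup.normalizer ((P : Subgroup G) : Set G) →
        ¬ p ∣ Nat.card ↥(Subgroup.normalizer ((P : Subgroup G) : Set G) ⊓
          (Subgroup.normalizer ((P : Subgroup G) : Set G)).map (MulAut.conj g).toMonoidHom)) ∧
      Subgroup.centralizer ((P : Subgroup G) : Set G) = A) := by
  by_cases hne : Cfsg.IsElementaryAbelian p (P : Subgroup G) ∧ p < Nat.card ↥(P : Subgroup G)
  · exact Or.inl hne
  right
  obtain ⟨⟨A, hA, hPA, hCA⟩, hco, -, hti⟩ := H67.NilCover.main hZ (𝓐 := 𝓐) h𝓐 P hab hnn hne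
  refine ⟨A, hA, hPA, ?_, hco, ?_, hCA⟩
  · intro hd
    apply P.not_dvd_index
    exact hd.trans ((Subgroup.relIndex_dvd_index_of_le hPA))
  · intro g hg hd
    obtain ⟨x, hx⟩ := exists_prime_orderOf_dvd_card' p hd
    have hxo : orderOf (x : G) = p ^ 1 := by rw [orderOf_coe, hx, pow_one]
    obtain ⟨hx1, hx2⟩ := Subgroup.mem_inf.1 x.2
    have hxP := H67.NilCover.mem_sylow_of_mem_normalizer P hx1 ⟨1, hxo⟩
    obtain ⟨y, hy, hyx⟩ := hx2
    have hyx' : g * y * g⁻¹ = x := hyx
    have hyo : orderOf y = p ^ 1 := by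
      rw [← hxo, ← hyx]
      exact ((MulAut.conj g).orderOf_eq y).symm
    have hyP := H67.NilCover.mem_sylow_of_mem_normalizer P hy ⟨1, hyo⟩
    have hR : (x : G) ∈ ((g • P : Sylow p G) : Subgroup G) := by
      rw [← hyx']
      exact smul_mem_pointwise_smul y (MulAut.conj g) (P : Subgroup G) hyP
    have hne2 : g • P ≠ P := fun h => hg (Sylow.smul_eq_iff_mem_normalizer.1 h)
    have h1 := hti (g • P) hne2 x hxP hR
    rw [h1, orderOf_one, pow_one] at hxo
    exact (Fact.out : p.Prime).one_lt.ne hxo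

end Cfsg.Agent.S3890
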