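import Cfsg.Statements.S3892
import Mathlib
import Cfsg.Agent.Lib.H67.NilCover
import Cfsg.Agent.Lib.H68.Cover

set_option autoImplicit false
open Cfsg

namespace Cfsg.Agent.S3892

open Subgroup Equiv Equiv.Perm
open scoped Pointwise

/-- nonexistence criterion via a Sylow subgroup of prime order -/
theorem no_cover {G : Type*} [Group G] [Finite G] (hZ : center G = ⊥) {p : ℕ} [Fact p.Prime]
    (hp2 : ¬ p ^ 2 ∣ Nat.card G) (c c' : G) (hc : orderOf c = p) (hc' : orderOf c' = p)
    (hcc : c' ∉ zpowers c) (M : Subgroup G) (hM : M ≠ ⊤) (hcM : centralizer {c} ≤ M) (hcM' : c' ∈ M) :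
    ¬ ∃ 𝓐 : Finset (Subgroup G), ((∀ A ∈ 𝓐, A ≠ ⊤) ∧ (∀ g : G, ∃ A ∈ 𝓐, g ∈ A)) ∧ (∀ 𝓑 : Finset (Subgroup G), (∀ A ∈ 𝓑, A ≠ ⊤) ∧ (∀ g : G, ∃ A ∈ 𝓑, g ∈ A) → 𝓐.card ≤ 𝓑.card) ∧ (∀ A ∈ 𝓐, Group.IsNilpotent ↥A) := by
  rintro ⟨𝓐, h𝓐⟩
  have hp : p.Prime := Fact.out
  have h1 : IsPGroup p (zpowers c) := IsPGroup.of_card (n := 1) (by rw [Nat.card_zpowers, hc, pow_one])
  obtain ⟨P, hP⟩ := h1.exists_le_sylow
  have hPc : zpowers c = (P : Subgroup G) := by
    apply Subgroup.eq_of_le_of_card_ge hP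
    obtain ⟨n, hn⟩ := IsPGroup.iff_card.1 P.isPGroup'
    have h2 : n < 2 := by
      by_contra h3
      apply hp2
      exact (pow_dvd_pow p (not_lt.1 h3)).trans (hn ▸ Subgroup.card_subgroup_dvd_card _)
    rw [Nat.card_zpowers, hc, hn]
    calc p ^ n ≤ p ^ 1 := Nat.pow_le_pow_right hp.pos (by omega)
      _ = p := pow_one p
  have hmemN : ∀ x : G, x ∈ normalizer ((P : Subgroup G) : Set G) → orderOf x = p → x ∈ zpowers c := by
    intro x hx hxo
    rw [hPc]
    exact H67.NilCover.mem_sylow_of_mem_normalizer P hx ⟨1, by rw [hxo, pow_one]⟩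
  have hnn : ¬ (P : Subgroup G).Normal := by
    intro h
    apply hcc
    apply hmemN c' _ hc'
    rw [normalizer_eq_top]
    trivial
  have hab : IsMulCommutative (P : Subgroup G) := by
    rw [← hPc]; infer_instance
  have hne : ¬ (Cfsg.IsElementaryAbelian p (P : Subgroup G) ∧ p < Nat.card ↥(P : Subgroup G)) := by
    rintro ⟨-, h2⟩
    rw [← hPc, Nat.card_zpowers, hc] at h2
    exact lt_irrefl _ h2
  obtain ⟨-, -, hmax, -⟩ := H67.NilCover.main hZ (𝓐 := 𝓐) h𝓐 P hab hnn hne
  have h3 : centralizer ((P : Subgroup G) : Set G) ≤ M := by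
    refine le_trans ?_ hcM
    apply centralizer_le
    rw [Set.singleton_subset_iff]
    exact hP (mem_zpowers c)
  exact hcc (hmemN c' (hmax M hM h3 hcM') hc')

theorem exists_cycle (n p : ℕ) (hp : p.Prime) (hp5 : 5 ≤ p) (hpn : p < n) :
    ∃ (s : Finset (Fin n)) (c c' : Perm (Fin n)), orderOf c = p ∧ orderOf c' = p ∧
      sign c = 1 ∧ sign c' = 1 ∧ c' ∉ zpowers c ∧ s ≠ Finset.univ ∧ 2 ≤ s.card ∧
      (∀ x, x ∈ s ↔ c x ≠ x) ∧ (∀ x, x ∈ s ↔ c' x ∈ s) := by
  classical
  obtain ⟨s, hs⟩ : ∃ s : Finset (Fin n), s.card = p := by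
    obtain ⟨s, -, hs⟩ := Finset.exists_subset_card_eq (s := (Finset.univ : Finset (Fin n))) (n := p)
      (by rw [Finset.card_univ, Fintype.card_fin]; exact hpn.le)
    exact ⟨s, hs⟩
  obtain ⟨c, hc1, hc2⟩ := s.exists_cycleOn
  have hsn : (s : Set (Fin n)).Nontrivial := by
    rw [← Finset.Nontrivial, ← Finset.one_lt_card_iff_nontrivial, hs]
    exact hp.one_lt
  have hmem : ∀ x, x ∈ s ↔ c x ≠ x := by
    intro x
    constructor
    · intro hx; exact hc1.apply_ne hsn hx
    · intro hx; exact hc2 (mem_support.2 hx)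
  have hcyc : c.IsCycle := by
    rw [isCycle_iff_exists_isCycleOn]
    exact ⟨s, hsn, hc1, fun x hx => (hmem x).2 hx⟩
  have hsupp : c.support = s := by
    ext x; rw [mem_support, hmem]
  have hord : orderOf c = p := by rw [hcyc.orderOf, hsupp, hs]
  have hsign : ∀ d : Perm (Fin n), orderOf d = p → sign d = 1 := by
    intro d hd
    have h1 : (sign d) ^ p = 1 := by rw [← map_pow, ← hd, pow_orderOf_eq_one, map_one]
    have hodd : Odd p := hp.odd_of_ne_two (by omega)
    rcases Int.units_eq_one_or (sign d) with h | h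
    · exact h
    · rw [h, hodd.neg_one_pow] at h1
      exact absurd h1 (by decide)
  have hfix : ∀ (k : ℤ) (x : Fin n), x ∈ s → (c ^ k) x = x → c ^ k = 1 := by
    intro k x hx hk
    ext y
    congr 1
    rw [Perm.one_apply]
    by_cases hy : c y = y
    · exact zpow_apply_eq_self_of_apply_eq_self hy k
    · obtain ⟨i, hi⟩ := hcyc.exists_zpow_eq ((hmem x).1 hx) hy
      rw [← hi, ← Perm.mul_apply, ← zpow_add, add_comm, zpow_add, Perm.mul_apply, hk]
  obtain ⟨x, hx⟩ : s.Nonempty := Finset.card_pos.1 (by rw [hs]; exact hp.pos)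
  have hne : ∀ i j : ℕ, i < j → j < p → (c ^ i) x ≠ (c ^ j) x := by
    intro i j hij hj h
    have h1 : (c ^ (j - i)) x = x := by
      have h2 : (c ^ i) ((c ^ (j - i)) x) = (c ^ i) x := by
        rw [← Perm.mul_apply, ← pow_add, show i + (j - i) = j by omega, h]
      exact (c ^ i).injective h2
    have h3 : c ^ (j - i) = 1 := by
      have := hfix ((j - i : ℕ) : ℤ) x hx (by rw [zpow_natCast]; exact h1)
      rwa [zpow_natCast] at this
    have h4 := orderOf_dvd_of_pow_eq_one h3
    rw [hord] at h4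
    exact absurd (Nat.le_of_dvd (by omega) h4) (by omega)
  have hpm : ∀ i : ℕ, (c ^ i) x ∈ s := by
    intro i
    induction i with
    | zero => simpa using hx
    | succ i ih =>
      rw [pow_succ', Perm.mul_apply, hmem]
      intro h
      exact (hmem _).1 ih (c.injective h)
  have e01 := hne 0 1 (by omega) (by omega)
  have e02 := hne 0 2 (by omega) (by omega)
  have e03 := hne 0 3 (by omega) (by omega)
  have e12 := hne 1 2 (by omega) (by omega)
  have e13 := hne 1 3 (by omega) (by omega)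
  have e23 := hne 2 3 (by omega) (by omega)
  have m1 := hpm 1
  have m2 := hpm 2
  have m3 := hpm 3
  have c0 : c x = (c ^ 1) x := by rw [pow_one]
  have c1 : c ((c ^ 1) x) = (c ^ 2) x := by rw [← Perm.mul_apply, ← pow_succ']
  rw [pow_zero, Perm.one_apply] at e01 e02 e03
  set a1 := (c ^ 1) x
  set a2 := (c ^ 2) x
  set a3 := (c ^ 3) x
  set σ : Perm (Fin n) := swap a2 a3 with hσ
  have hσi : σ⁻¹ = σ := swap_inv _ _
  have hσs : ∀ y, y ∈ s ↔ σ y ∈ s := by
    intro y
    by_cases h2 : y = a2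
    · subst h2
      rw [hσ, swap_apply_left]
      exact ⟨fun _ => m3, fun _ => m2⟩
    by_cases h3 : y = a3
    · subst h3
      rw [hσ, swap_apply_right]
      exact ⟨fun _ => m2, fun _ => m3⟩
    · rw [hσ, swap_apply_of_ne_of_ne h2 h3]
  have hcs : ∀ y, y ∈ s ↔ c y ∈ s := by
    intro y
    rw [hmem, hmem]
    constructor
    · intro h h2; exact h (c.injective h2)
    · intro h h2; exact h (by rw [h2, h2])
  have hord' : orderOf (σ * c * σ⁻¹) = p := by
    have h1 : σ * c * σ⁻¹ = MulAut.conj σ c := rfl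
    rw [h1, MulEquiv.orderOf_eq, hord]
  refine ⟨s, c, σ * c * σ⁻¹, hord, hord', hsign _ hord, hsign _ hord', ?_, ?_, ?_, hmem, ?_⟩
  · intro h
    obtain ⟨k, hk⟩ := mem_zpowers_iff.1 h
    have h1 : (c ^ k) x = c x := by
      rw [hk, hσi, Perm.mul_apply, Perm.mul_apply]
      have : σ x = x := by rw [hσ, swap_apply_of_ne_of_ne e02 e03]
      rw [this, c0, hσ, swap_apply_of_ne_of_ne e12 e13]
    have h2 : c ^ (k - 1) = 1 := by
      apply hfix _ x hx
      apply c.injective
      rw [← Perm.mul_apply, ← zpow_one_add, show 1 + (k - 1) = k by ring, h1]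
    have h4 : c ^ k = c := by
      have : c ^ k = c ^ (k - 1) * c := by rw [← zpow_add_one]; congr 1; ring
      rw [this, h2, one_mul]
    have h5 : (σ * c * σ⁻¹) a1 = a3 := by
      rw [hσi, Perm.mul_apply, Perm.mul_apply]
      have : σ a1 = a1 := by rw [hσ, swap_apply_of_ne_of_ne e12 e13]
      rw [this, c1, hσ, swap_apply_left]
    rw [← hk, h4, c1] at h5
    exact e23 h5
  · intro h
    rw [h, Finset.card_univ, Fintype.card_fin] at hs
    omega
  · rw [hs]; omega
  · intro y
    rw [Perm.mul_apply, Perm.mul_apply, hσi, ← hσs, ← hcs, ← hσs]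

theorem not_sq_dvd_factorial {n p : ℕ} (hp : p.Prime) (h : n < 2 * p) (hn : p ≤ n) : ¬ p ^ 2 ∣ n.factorial := by
  intro hd
  have h1 := (hp.pow_dvd_factorial_iff (n := n) (r := 2) (b := 2) (by
    apply Nat.log_lt_of_lt_pow (by omega)
    nlinarith [hp.two_le])).1 hd
  rw [show Finset.Ico 1 2 = {1} by decide, Finset.sum_singleton, pow_one] at h1
  have : n / p < 2 := Nat.div_lt_of_lt_mul (by omega)
  omega

theorem center_triv {G : Type*} [Group G] [Finite G] {n : ℕ} (hn : 4 ≤ n) (φ : G →* Perm (Fin n))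
    (hφ : Function.Injective φ) (hA : ∀ g : Perm (Fin n), sign g = 1 → ∃ x, φ x = g) :
    center G = ⊥ := by
  rw [eq_bot_iff]
  intro g hg
  rw [Subgroup.mem_bot]
  apply hφ
  rw [map_one]
  ext a
  by_contra hab
  rw [Perm.one_apply] at hab
  have hab' : φ g a ≠ a := fun h => hab (by rw [h])
  set b := φ g a with hb
  obtain ⟨d, hd⟩ : ∃ d : Fin n, d ∉ ({a, b} : Finset (Fin n)) := by
    by_contra hcon
    push Not at hcon
    have h1 : (Finset.univ : Finset (Fin n)) ⊆ {a, b} := fun d _ => hcon d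
    have h2 := Finset.card_le_card h1
    rw [Finset.card_univ, Fintype.card_fin] at h2
    have h3 : ({a, b} : Finset (Fin n)).card ≤ 2 := Finset.card_le_two
    omega
  obtain ⟨e, he⟩ : ∃ e : Fin n, e ∉ ({a, b, d} : Finset (Fin n)) := by
    by_contra hcon
    push Not at hcon
    have h1 : (Finset.univ : Finset (Fin n)) ⊆ {a, b, d} := fun d _ => hcon d
    have h2 := Finset.card_le_card h1
    rw [Finset.card_univ, Fintype.card_fin] at h2
    have h3 : ({a, b, d} : Finset (Fin n)).card ≤ 3 := Finset.card_le_three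
    omega
  simp only [Finset.mem_insert, Finset.mem_singleton, not_or] at hd he
  obtain ⟨y, hy⟩ := hA (swap b d * swap b e)
    (isThreeCycle_swap_mul_swap_same (Ne.symm hd.2) (Ne.symm he.2.1) (Ne.symm he.2.2)).sign
  have h1 : φ y * φ g = φ g * φ y := by
    rw [← map_mul, ← map_mul, mem_center_iff.1 hg y]
  have h2 := congrArg (fun f : Perm (Fin n) => f a) h1
  simp only [Perm.mul_apply] at h2
  rw [← hb, hy] at h2
  simp only [Perm.mul_apply] at h2
  rw [swap_apply_left, swap_apply_of_ne_of_ne he.2.1 he.2.2,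
    swap_apply_of_ne_of_ne hab'.symm (Ne.symm he.1),
    swap_apply_of_ne_of_ne hab'.symm (Ne.symm hd.1)] at h2
  rw [← hb] at h2
  exact he.2.1 h2

theorem no_cover_alt {G : Type*} [Group G] [Finite G] {n : ℕ} (hn : 6 ≤ n) (φ : G →* Perm (Fin n))
    (hφ : Function.Injective φ) (hA : ∀ g : Perm (Fin n), sign g = 1 → ∃ x, φ x = g) :
    ¬ ∃ 𝓐 : Finset (Subgroup G), ((∀ A ∈ 𝓐, A ≠ ⊤) ∧ (∀ g : G, ∃ A ∈ 𝓐, g ∈ A)) ∧ (∀ 𝓑 : Finset (Subgroup G), (∀ A ∈ 𝓑, A ≠ ⊤) ∧ (∀ g : G, ∃ A ∈ 𝓑, g ∈ A) → 𝓐.card ≤ 𝓑.card) ∧ (∀ A ∈ 𝓐, Group.IsNilpotent ↥A) := by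
  classical
  obtain ⟨p, hp, hp1, hp2⟩ := Nat.exists_prime_lt_and_le_two_mul (n / 2) (by omega)
  have := Fact.mk hp
  have hpe : p = 2 ∨ Odd p := hp.eq_two_or_odd'
  have hp5 : 5 ≤ p := by
    have h4 : 4 ≤ p := by omega
    rcases hpe with h | ⟨k, hk⟩ <;> omega
  have hpn : p < n := by
    rcases hpe with h | ⟨k, hk⟩ <;> omega
  obtain ⟨s, c, c', hc, hc', hsc, hsc', hcc, hsu, hs2, hsc1, hsc2⟩ := exists_cycle n p hp hp5 hpn
  obtain ⟨x, hx⟩ := hA c hsc
  obtain ⟨x', hx'⟩ := hA c' hsc'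
  have hox : orderOf x = p := by rw [← hc, ← hx, orderOf_injective φ hφ]
  have hox' : orderOf x' = p := by rw [← hc', ← hx', orderOf_injective φ hφ]
  have hcent : center G = ⊥ := center_triv (by omega) φ hφ hA
  let M : Subgroup G := (MulAction.stabilizer (Perm (Fin n)) (s : Set (Fin n))).comap φ
  have hMmem : ∀ g : G, g ∈ M ↔ ∀ y, y ∈ s ↔ φ g y ∈ s := by
    intro g
    rw [Subgroup.mem_comap, MulAction.mem_stabilizer_iff]
    constructor
    · intro h y
      have h1 : y ∈ (s : Set (Fin n)) ↔ (φ g) • y ∈ (φ g) • (s : Set (Fin n)) :=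
        Set.smul_mem_smul_set_iff.symm
      rw [h] at h1
      exact h1
    · intro h
      ext y
      rw [Set.mem_smul_set_iff_inv_smul_mem]
      have := h ((φ g)⁻¹ y)
      rw [← Perm.mul_apply (φ g), mul_inv_cancel, Perm.one_apply] at this
      exact this
  apply no_cover hcent (p := p) ?_ x x' hox hox' ?_ M ?_ ?_ ?_
  · intro hd
    have h1 : Nat.card G ∣ Nat.card (Perm (Fin n)) := by
      have := Subgroup.card_subgroup_dvd_card φ.range
      rwa [← Nat.card_congr (MonoidHom.ofInjective hφ).toEquiv] at this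
    rw [Nat.card_eq_fintype_card (α := Perm (Fin n)), Fintype.card_perm, Fintype.card_fin] at h1
    exact not_sq_dvd_factorial hp (by omega) hpn.le (hd.trans h1)
  · intro h
    apply hcc
    obtain ⟨k, hk⟩ := mem_zpowers_iff.1 h
    exact mem_zpowers_iff.2 ⟨k, by rw [← hx, ← hx', ← hk, map_zpow]⟩
  · intro hT
    obtain ⟨z, hz⟩ : ∃ z, z ∉ s := by
      by_contra hcon
      push Not at hcon
      exact hsu (Finset.eq_univ_of_forall hcon)
    obtain ⟨a, ha, b, hb, hab⟩ := Finset.one_lt_card.1 hs2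
    have hza : z ≠ a := fun h => hz (h ▸ ha)
    have hzb : z ≠ b := fun h => hz (h ▸ hb)
    obtain ⟨y, hy⟩ := hA (swap z a * swap z b) (isThreeCycle_swap_mul_swap_same hza hzb hab).sign
    have h1 : y ∈ M := hT ▸ mem_top y
    rw [hMmem] at h1
    have h2 := (h1 a).1 ha
    rw [hy, Perm.mul_apply, swap_apply_of_ne_of_ne hza.symm hab, swap_apply_right] at h2
    exact hz h2
  · intro g hg
    rw [hMmem]
    have h1 : g * x = x * g := mem_centralizer_singleton_iff.1 hg
    have h2 : φ g * c = c * φ g := by rw [← hx, ← map_mul, ← map_mul, h1]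
    intro y
    rw [hsc1, hsc1]
    have h3 := congrArg (fun f : Perm (Fin n) => f y) h2
    simp only [Perm.mul_apply] at h3
    rw [← h3]
    exact ⟨fun h h4 => h ((φ g).injective h4), fun h h4 => h (by rw [h4])⟩
  · rw [hMmem]
    intro y
    rw [hx']
    exact hsc2 y

theorem d4 : ∀ g : Perm (Fin 4), g * (swap 0 1 * swap 1 2) = (swap 0 1 * swap 1 2) * g → sign g = 1 := by
  decide +kernel

theorem d5 : ∀ g : Perm (Fin 5), sign g = 1 → g * (swap 0 1 * swap 1 2) = (swap 0 1 * swap 1 2) * g →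
    g 4 = 4 := by decide +kernel

theorem d5' : ∀ g : Perm (Fin 5), g * (swap 0 1 * swap 1 2 * swap 2 3 * swap 3 4) =
    (swap 0 1 * swap 1 2 * swap 2 3 * swap 3 4) * g → sign g = 1 := by decide +kernel

theorem not_mem_zpowers {G : Type*} [Group G] {c c' : G} (h : c' * c ≠ c * c') : c' ∉ zpowers c := by
  intro h1
  obtain ⟨k, rfl⟩ := mem_zpowers_iff.1 h1
  exact h ((Commute.zpow_self c k).eq)


/-- A cover of a group is a finite set of proper subgroups whose union is the whole group; it is minimal when no cover has fewer members, and nilpotent when all its members are nilpotent. The alternating groups of degree at least 5 and the symmetric groups of degree at least 4 have no nilpotent minimal cover. -/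
theorem result (n : ℕ) :
    (5 ≤ n → ¬ ∃ 𝓐 : Finset (Subgroup ↥(alternatingGroup (Fin n))), ((∀ A ∈ 𝓐, A ≠ ⊤) ∧ (∀ g : ↥(alternatingGroup (Fin n)), ∃ A ∈ 𝓐, g ∈ A)) ∧ (∀ 𝓑 : Finset (Subgroup ↥(alternatingGroup (Fin n))), (∀ A ∈ 𝓑, A ≠ ⊤) ∧ (∀ g : ↥(alternatingGroup (Fin n)), ∃ A ∈ 𝓑, g ∈ A) → 𝓐.card ≤ 𝓑.card) ∧ (∀ A ∈ 𝓐, Group.IsNilpotent ↥A)) ∧
    (4 ≤ n → ¬ ∃ 𝓐 : Finset (Subgroup (Equiv.Perm (Fin n))), ((∀ A ∈ 𝓐, A ≠ ⊤) ∧ (∀ g : (Equiv.Perm (Fin n)), ∃ A ∈ 𝓐, g ∈ A)) ∧ (∀ 𝓑 : Finset (Subgroup (Equiv.Perm (Fin n))), (∀ A ∈ 𝓑, A ≠ ⊤) ∧ (∀ g : (Equiv.Perm (Fin n)), ∃ A ∈ 𝓑, g ∈ A) → 𝓐.card ≤ 𝓑.card) ∧ (∀ A ∈ 𝓐, Group.IsNilpotent ↥A)) := by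
  have hid : ∀ m : ℕ, ∀ g : Perm (Fin m), sign g = 1 → ∃ x, (MonoidHom.id (Perm (Fin m))) x = g :=
    fun m g _ => ⟨g, rfl⟩
  have hidi : ∀ m : ℕ, Function.Injective (MonoidHom.id (Perm (Fin m))) := fun m x y h => h
  have hal : ∀ m : ℕ, ∀ g : Perm (Fin m), sign g = 1 → ∃ x, (alternatingGroup (Fin m)).subtype x = g :=
    fun m g h => ⟨⟨g, mem_alternatingGroup.2 h⟩, rfl⟩
  rcases Nat.lt_or_ge n 6 with hn | hn
  · constructor
    · intro h5
      have hn5 : n = 5 := by omega
      subst hn5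
      have hp3 : Fact (Nat.Prime 3) := ⟨by norm_num⟩
      have hcent := center_triv (n := 5) (by omega) (alternatingGroup (Fin 5)).subtype
        (Subgroup.subtype_injective _) (hal 5)
      refine no_cover hcent (p := 3) ?_
        (⟨swap 0 1 * swap 1 2, mem_alternatingGroup.2 (by decide)⟩ : alternatingGroup (Fin 5))
        ⟨swap 0 1 * swap 1 3, mem_alternatingGroup.2 (by decide)⟩
        ?_ ?_ ?_ ((MulAction.stabilizer (Perm (Fin 5)) (4 : Fin 5)).comap (alternatingGroup (Fin 5)).subtype)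
        ?_ ?_ ?_
      · intro hd
        have h1 : Nat.card (alternatingGroup (Fin 5)) ∣ Nat.card (Perm (Fin 5)) :=
          Subgroup.card_subgroup_dvd_card _
        rw [Nat.card_eq_fintype_card (α := Perm (Fin 5)), Fintype.card_perm, Fintype.card_fin] at h1
        exact absurd (hd.trans h1) (by decide)
      · exact orderOf_eq_prime (by decide) (by decide)
      · exact orderOf_eq_prime (by decide) (by decide)
      · exact not_mem_zpowers (by decide)
      · intro hT
        have : (⟨swap 0 1 * swap 1 4, mem_alternatingGroup.2 (by decide)⟩ : alternatingGroup (Fin 5)) ∈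
          ((MulAction.stabilizer (Perm (Fin 5)) (4 : Fin 5)).comap (alternatingGroup (Fin 5)).subtype) := by
          rw [hT]; trivial
        exact absurd this (by
          intro h
          have h2 : (swap 0 1 * swap 1 4 : Perm (Fin 5)) 4 = 4 := h
          exact absurd h2 (by decide))
      · intro g hg
        have h1 := mem_centralizer_singleton_iff.1 hg
        have h2 := congrArg Subtype.val h1
        exact d5 g (mem_alternatingGroup.1 g.2) h2
      · change (swap 0 1 * swap 1 3 : Perm (Fin 5)) 4 = 4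
        decide
    · intro h4
      have hn45 : n = 4 ∨ n = 5 := by omega
      rcases hn45 with rfl | rfl
      · have hp3 : Fact (Nat.Prime 3) := ⟨by norm_num⟩
        have hcent := center_triv (n := 4) (by omega) (MonoidHom.id (Perm (Fin 4)))
          (hidi 4) (hid 4)
        refine no_cover hcent (p := 3) ?_ (swap 0 1 * swap 1 2) (swap 0 1 * swap 1 3)
          ?_ ?_ ?_ (alternatingGroup (Fin 4)) ?_ ?_ ?_
        · rw [Nat.card_eq_fintype_card, Fintype.card_perm, Fintype.card_fin]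
          decide
        · exact orderOf_eq_prime (by decide) (by decide)
        · exact orderOf_eq_prime (by decide) (by decide)
        · exact not_mem_zpowers (by decide)
        · intro hT
          have : (swap 0 1 : Perm (Fin 4)) ∈ alternatingGroup (Fin 4) := hT ▸ mem_top _
          exact absurd (mem_alternatingGroup.1 this) (by decide)
        · intro g hg
          exact mem_alternatingGroup.2 (d4 g (mem_centralizer_singleton_iff.1 hg))
        · exact mem_alternatingGroup.2 (by decide)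
      · have hp5 : Fact (Nat.Prime 5) := ⟨by norm_num⟩
        have hcent := center_triv (n := 5) (by omega) (MonoidHom.id (Perm (Fin 5)))
          (hidi 5) (hid 5)
        refine no_cover hcent (p := 5) ?_ (swap 0 1 * swap 1 2 * swap 2 3 * swap 3 4)
          (swap 0 1 * swap 1 3 * swap 3 2 * swap 2 4)
          ?_ ?_ ?_ (alternatingGroup (Fin 5)) ?_ ?_ ?_
        · rw [Nat.card_eq_fintype_card, Fintype.card_perm, Fintype.card_fin]
          decide
        · exact orderOf_eq_prime (by decide) (by decide)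
        · exact orderOf_eq_prime (by decide) (by decide)
        · exact not_mem_zpowers (by decide)
        · intro hT
          have : (swap 0 1 : Perm (Fin 5)) ∈ alternatingGroup (Fin 5) := hT ▸ mem_top _
          exact absurd (mem_alternatingGroup.1 this) (by decide)
        · intro g hg
          exact mem_alternatingGroup.2 (d5' g (mem_centralizer_singleton_iff.1 hg))
        · exact mem_alternatingGroup.2 (by decide)
  · exact ⟨fun _ => no_cover_alt hn (alternatingGroup (Fin n)).subtype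
        (Subgroup.subtype_injective _) (hal n),
      fun _ => no_cover_alt hn (MonoidHom.id (Perm (Fin n))) (hidi n) (hid n)⟩

end Cfsg.Agent.S3892
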