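import Cfsg.Statements.S3893
import Cfsg.Agent.Lib.H68.CoverZass
import Cfsg.Agent.Lib.H8.SuzGroup
import Cfsg.Agent.Lib.H24.SzIso

set_option autoImplicit false
open Cfsg

namespace Cfsg.Agent.S3893

open H8.SuzOvoid H8.SuzField H8.SuzMat H8.SuzStab H8.SuzGroup

theorem D_pow_eq {F : Type*} [Field F] [Fintype F] {m : ℕ} (k : Fˣ) (n : ℕ) : (D m k) ^ n = D m (k ^ n) := by
  induction n with
  | zero => rw [pow_zero, pow_zero, D_one]
  | succ n ih => rw [pow_succ, ih, D_mul, pow_succ]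

theorem odd_order {F : Type*} [Field F] [Fintype F] {m : ℕ} (hm : 1 ≤ m) (hF : Fintype.card F = 2 ^ (2 * m + 1))
    (g : Cfsg.Sz F m) (i j : suzukiOvoid F m) (hij : i ≠ j) (hi : g • i = i) (hj : g • j = j) :
    Odd (orderOf g) := by
  classical
  obtain ⟨h, hh, h1, h2⟩ := exists_two hF i.2 j.2 (fun h => hij (Subtype.ext h))
  have hi' : (g : SL F) • (i : Projectivization F (Fin 4 → F)) = i := congrArg Subtype.val hi
  have hj' : (g : SL F) • (j : Projectivization F (Fin 4 → F)) = j := congrArg Subtype.val hj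
  have hc : h⁻¹ * g * h ∈ Cfsg.Sz F m := (Cfsg.Sz F m).mul_mem ((Cfsg.Sz F m).mul_mem ((Cfsg.Sz F m).inv_mem hh) g.2) hh
  have e1 : (h⁻¹ * g * h) • suzukiPointInfinity F = suzukiPointInfinity F := by
    rw [mul_smul, mul_smul, h1, hi', ← h1, inv_smul_smul]
  have e2 : (h⁻¹ * g * h) • pnt m (0 : F) 0 = pnt m (0 : F) 0 := by
    rw [mul_smul, mul_smul, h2, hj', ← h2, inv_smul_smul]
  obtain ⟨k, hk⟩ := eq_D_of_fix hF hm hc e1 e2
  have hpow : (h⁻¹ * g * h) ^ (Fintype.card F - 1) = 1 := by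
    rw [hk, D_pow_eq, ← Fintype.card_units, pow_card_eq_one, D_one]
  have hpow' : g ^ (Fintype.card F - 1) = 1 := by
    apply Subtype.ext
    change (g : SL F) ^ (Fintype.card F - 1) = 1
    have h3 : (h⁻¹ * g * h) ^ (Fintype.card F - 1) = h⁻¹ * (g : SL F) ^ (Fintype.card F - 1) * h := by
      have := conj_pow (a := h⁻¹) (b := (g : SL F)) (i := Fintype.card F - 1)
      rwa [inv_inv] at this
    rw [h3] at hpow
    have h4 : h⁻¹ * (g : SL F) ^ (Fintype.card F - 1) = h⁻¹ := mul_eq_one_iff_eq_inv.1 hpow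
    simpa using h4
  have hdvd := orderOf_dvd_of_pow_eq_one hpow'
  apply Odd.of_dvd_nat _ hdvd
  rw [hF]
  have : Even (2 ^ (2 * m + 1)) := ⟨2 ^ (2 * m), by rw [pow_succ]; ring⟩
  exact Nat.Even.sub_odd (Nat.one_le_two_pow) this odd_one


/-- A cover of a group is a finite set of proper subgroups whose union is the whole group; it is minimal when no cover has fewer members, and nilpotent when all its members are nilpotent. The Suzuki groups Sz(q), q = 2^(2m+1) with m ≥ 1, have no nilpotent minimal cover. -/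
theorem result {F : Type*} [Field F] [Fintype F] (m : ℕ) (hm : 1 ≤ m) (hF : Fintype.card F = 2 ^ (2 * m + 1)) :
    ¬ ∃ 𝓐 : Finset (Subgroup ↥(Cfsg.Lie.Sz F (2 ^ (m + 1)))), ((∀ A ∈ 𝓐, A ≠ ⊤) ∧ (∀ g : ↥(Cfsg.Lie.Sz F (2 ^ (m + 1))), ∃ A ∈ 𝓐, g ∈ A)) ∧ (∀ 𝓑 : Finset (Subgroup ↥(Cfsg.Lie.Sz F (2 ^ (m + 1)))), (∀ A ∈ 𝓑, A ≠ ⊤) ∧ (∀ g : ↥(Cfsg.Lie.Sz F (2 ^ (m + 1))), ∃ A ∈ 𝓑, g ∈ A) → 𝓐.card ≤ 𝓑.card) ∧ (∀ A ∈ 𝓐, Group.IsNilpotent ↥A) := by
  classical
  let e := H24.SzIso.equiv hF hm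
  letI : MulAction ↥(Cfsg.Lie.Sz F (2 ^ (m + 1))) (suzukiOvoid F m) :=
    MulAction.compHom (suzukiOvoid F m) e.symm.toMonoidHom
  have hsm : ∀ (g : ↥(Cfsg.Lie.Sz F (2 ^ (m + 1)))) (x : suzukiOvoid F m), g • x = e.symm g • x := fun g x => rfl
  have : Finite (suzukiOvoid F m) := inferInstance
  have : Fintype (suzukiOvoid F m) := Fintype.ofFinite _
  have hcard : Fintype.card (suzukiOvoid F m) = (2 ^ (2 * m + 1)) ^ 2 + 1 := by
    rw [← Nat.card_eq_fintype_card, card_ovoid, hF]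
  have h8 : 8 ≤ 2 ^ (2 * m + 1) := by
    calc 8 = 2 ^ 3 := by norm_num
      _ ≤ 2 ^ (2 * m + 1) := Nat.pow_le_pow_right (by norm_num) (by omega)
  apply H68.CoverZass.main (G := ↥(Cfsg.Lie.Sz F (2 ^ (m + 1)))) (Ω := suzukiOvoid F m)
  · rw [hcard]
    apply Even.add_one
    apply Even.pow_of_ne_zero _ (by norm_num)
    exact ⟨2 ^ (2 * m), by rw [pow_succ]; ring⟩
  · rw [hcard]
    nlinarith
  · intro i j hij
    obtain ⟨h, hh, h1, h2⟩ := exists_two hF i.2 j.2 (fun h => hij (Subtype.ext h))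
    obtain ⟨k, hk⟩ := exists_k hm hF
    let t : Cfsg.Sz F m := ⟨h * D m k * h⁻¹, (Cfsg.Sz F m).mul_mem ((Cfsg.Sz F m).mul_mem hh (D_mem hF k))
      ((Cfsg.Sz F m).inv_mem hh)⟩
    refine ⟨e t, ?_, ?_, ?_⟩
    · intro h3
      have h4 : t = 1 := by
        rw [← e.symm_apply_apply t, h3, map_one]
      have h5 : h * D m k * h⁻¹ = 1 := congrArg Subtype.val h4
      have h6 : D m k = 1 := by
        have : h⁻¹ * (h * D m k * h⁻¹) * h = D m k := by group
        rw [← this, h5]; group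
      rw [← D_one (m := m)] at h6
      exact hk (D_inj h6)
    · rw [hsm, e.symm_apply_apply]
      apply Subtype.ext
      change (h * D m k * h⁻¹) • (i : Projectivization F (Fin 4 → F)) = i
      rw [mul_smul, mul_smul, ← h1, inv_smul_smul, D_smul_inf]
    · rw [hsm, e.symm_apply_apply]
      apply Subtype.ext
      change (h * D m k * h⁻¹) • (j : Projectivization F (Fin 4 → F)) = j
      rw [mul_smul, mul_smul, ← h2, inv_smul_smul, D_smul_pnt hF]
      simp
  · intro g i j hij hi hj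
    rw [hsm] at hi hj
    have := odd_order hm hF (e.symm g) i j hij hi hj
    rwa [MulEquiv.orderOf_eq] at this
  · intro g i j k hij hik hjk hi hj hk
    rw [hsm] at hi hj hk
    have h3 := fix_three hm hF (e.symm g).2 i.2 j.2 k.2 (fun h => hij (Subtype.ext h)) (fun h => hjk (Subtype.ext h))
      (fun h => hik (Subtype.ext h)) (congrArg Subtype.val hi) (congrArg Subtype.val hj) (congrArg Subtype.val hk)
    have h4 : e.symm g = 1 := Subtype.ext h3
    rw [← e.apply_symm_apply g, h4, map_one]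
  · intro i htop
    obtain ⟨j, hij⟩ : ∃ j : suzukiOvoid F m, j ≠ i := by
      by_contra hcon
      push Not at hcon
      have : Fintype.card (suzukiOvoid F m) ≤ 1 := Fintype.card_le_one_iff.2 fun a b => (hcon a).trans (hcon b).symm
      rw [hcard] at this
      nlinarith
    obtain ⟨h, hh, h1, _⟩ := exists_two hF i.2 j.2 (fun h => hij (Subtype.ext h).symm)
    obtain ⟨h', hh', h1', _⟩ := exists_two hF j.2 i.2 (fun h => hij (Subtype.ext h))
    let g : Cfsg.Sz F m := ⟨h' * h⁻¹, (Cfsg.Sz F m).mul_mem hh' ((Cfsg.Sz F m).inv_mem hh)⟩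
    have h3 : e g ∈ MulAction.stabilizer ↥(Cfsg.Lie.Sz F (2 ^ (m + 1))) i := htop ▸ Subgroup.mem_top _
    rw [MulAction.mem_stabilizer_iff, hsm, e.symm_apply_apply] at h3
    apply hij
    rw [← h3]
    apply Subtype.ext
    change (j : Projectivization F (Fin 4 → F)) = (h' * h⁻¹) • (i : Projectivization F (Fin 4 → F))
    rw [mul_smul, ← h1, inv_smul_smul, h1']

end Cfsg.Agent.S3893
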