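import Cfsg.Statements.S3908
import Cfsg.Agent.Lib.H68.TwoGen
import Cfsg.Agent.Lib.H24.OddPGroup
import Cfsg.Agent.Lib.H1.UniqueSub

set_option autoImplicit false
open Cfsg

namespace Cfsg.Agent.S3908

theorem no_both {G : Type*} [Group G] [Finite G] (hB : ∀ A B : Subgroup G, IsMulCommutative ↥A → IsMulCommutative ↥B → Nat.card ↥A = Nat.card ↥B → ∃ g : G, B = A.map (MulAut.conj g).toMonoidHom)
    {p : ℕ} [hp : Fact p.Prime] {x : G} (hx : orderOf x = p ^ 2) {A : Subgroup G} (hA : Nat.card A = p ^ 2)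
    (hexp : ∀ a ∈ A, a ^ p = 1) : False := by
  have hAc : IsMulCommutative A := IsPGroup.isMulCommutative_of_card_eq_prime_sq hA
  have hz : IsMulCommutative ↥(Subgroup.zpowers x) := inferInstance
  obtain ⟨g, hg⟩ := hB A (Subgroup.zpowers x) hAc hz (by rw [Nat.card_zpowers, hx, hA])
  have h1 : x ∈ Subgroup.zpowers x := Subgroup.mem_zpowers x
  rw [hg] at h1
  obtain ⟨y, hy, hyx⟩ := Subgroup.mem_map.1 h1
  have h2 : x ^ p = 1 := by
    rw [← hyx, ← map_pow, hexp y hy, map_one]
  have h3 := orderOf_dvd_of_pow_eq_one h2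
  rw [hx] at h3
  have h4 := Nat.le_of_dvd hp.out.pos h3
  have := hp.out.two_le
  nlinarith

theorem exists_order_sq {P : Type*} [Group P] [Finite P] {p : ℕ} [hp : Fact p.Prime] (hP : IsPGroup p P)
    {x : P} (hx : x ^ p ≠ 1) : ∃ y : P, orderOf y = p ^ 2 := by
  obtain ⟨k, hk⟩ := (IsPGroup.iff_orderOf.1 hP) x
  have hk2 : 2 ≤ k := by
    by_contra hlt
    push Not at hlt
    apply hx
    rw [← orderOf_dvd_iff_pow_eq_one, hk]
    calc p ^ k ∣ p ^ 1 := pow_dvd_pow p (by omega)
      _ = p := pow_one p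
  refine ⟨x ^ p ^ (k - 2), ?_⟩
  rw [orderOf_pow' x (pow_ne_zero _ hp.out.ne_zero), hk, Nat.gcd_eq_right (pow_dvd_pow p (by omega)),
    Nat.pow_div (by omega) hp.out.pos]
  congr 1; omega

theorem exists_central {P : Type*} [Group P] [Finite P] [Nontrivial P] {p : ℕ} [hp : Fact p.Prime] (hP : IsPGroup p P) :
    ∃ z : P, z ∈ Subgroup.center P ∧ orderOf z = p := by
  have hc : Nontrivial (Subgroup.center P) := hP.center_nontrivial
  obtain ⟨n, hn0, hn⟩ := (hP.to_subgroup (Subgroup.center P)).nontrivial_iff_card.1 hc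
  obtain ⟨z, hz⟩ := exists_prime_orderOf_dvd_card' (G := Subgroup.center P) p (by
    rw [hn]; exact dvd_pow_self p hn0.ne')
  exact ⟨z, z.2, by rw [Subgroup.orderOf_coe, hz]⟩

/-- two subgroups of order `p` give an elementary abelian subgroup of order `p²` -/
theorem exists_elem {P : Type*} [Group P] [Finite P] {p : ℕ} [hp : Fact p.Prime] (hP : IsPGroup p P)
    {H K : Subgroup P} (hH : Nat.card H = p) (hK : Nat.card K = p) (hHK : H ≠ K) :
    ∃ A : Subgroup P, Nat.card A = p ^ 2 ∧ ∀ a ∈ A, a ^ p = 1 := by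
  have hnt : Nontrivial P := by
    by_contra hcon
    rw [not_nontrivial_iff_subsingleton] at hcon
    exact hHK (Subsingleton.elim _ _)
  obtain ⟨z, hz, hzo⟩ := exists_central hP
  -- a subgroup of order `p` different from `⟨z⟩`
  obtain ⟨L, hL, hLz⟩ : ∃ L : Subgroup P, Nat.card L = p ∧ L ≠ Subgroup.zpowers z := by
    by_cases h : H = Subgroup.zpowers z
    · exact ⟨K, hK, fun h' => hHK (h.trans h'.symm)⟩
    · exact ⟨H, hH, h⟩
  have hLnt : Nontrivial L := by
    rw [Subgroup.nontrivial_iff_ne_bot]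
    intro h; rw [h, Subgroup.card_bot] at hL; exact hp.out.one_lt.ne hL
  obtain ⟨⟨t, htL⟩, ht1⟩ := exists_ne (1 : L)
  have ht1' : t ≠ 1 := fun h => ht1 (Subtype.ext h)
  have hto : orderOf t = p := by
    have h1 : orderOf (⟨t, htL⟩ : L) ∣ p := by rw [← hL]; exact orderOf_dvd_natCard _
    rw [Subgroup.orderOf_mk] at h1
    rcases (Nat.dvd_prime hp.out).1 h1 with h2 | h2
    · exact absurd (orderOf_eq_one_iff.1 h2) ht1'
    · exact h2
  have htz : t ∉ Subgroup.zpowers z := by
    intro h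
    apply hLz
    have h1 : L = Subgroup.zpowers t := by
      symm
      apply Subgroup.eq_of_le_of_card_ge
      · rwa [Subgroup.zpowers_le]
      · rw [Nat.card_zpowers, hto, hL]
    rw [h1]
    apply Subgroup.eq_of_le_of_card_ge
    · rwa [Subgroup.zpowers_le]
    · rw [Nat.card_zpowers, Nat.card_zpowers, hto, hzo]
  have hcm : Commute t z := (Subgroup.mem_center_iff.1 hz t)
  have htp : t ^ p = 1 := by rw [← hto]; exact pow_orderOf_eq_one t
  have hzp : z ^ p = 1 := by rw [← hzo]; exact pow_orderOf_eq_one z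
  have hz1 : z ≠ 1 := by rintro rfl; rw [orderOf_one] at hzo; exact hp.out.one_lt.ne hzo
  refine ⟨Subgroup.zpowers t ⊔ Subgroup.zpowers z, H68.TwoGen.card_sup_zpowers hp.out htp hzp hz1 htz hcm, ?_⟩
  intro a ha
  have hzn : (Subgroup.zpowers z).Normal := by
    constructor
    rintro _ ⟨k, rfl⟩ g
    have h1 : Commute g (z ^ k) := (show Commute g z from Subgroup.mem_center_iff.1 hz g).zpow_right k
    have h2 : g * z ^ k * g⁻¹ = z ^ k := by rw [h1.eq, mul_inv_cancel_right]
    simp only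
    rw [h2]
    exact ⟨k, rfl⟩
  obtain ⟨x, hx, y, hy, rfl⟩ := Subgroup.mem_sup_of_normal_right.1 ha
  obtain ⟨k, rfl⟩ := hx
  obtain ⟨l, rfl⟩ := hy
  have h1 : Commute (t ^ k) (z ^ l) := hcm.zpow_zpow k l
  simp only
  rw [h1.mul_pow, ← zpow_natCast, ← zpow_natCast, ← zpow_mul, ← zpow_mul, mul_comm k, mul_comm l, zpow_mul, zpow_mul,
    zpow_natCast, zpow_natCast, htp, hzp, one_zpow, one_zpow, one_mul]

theorem no_both' {G : Type*} [Group G] [Finite G] (hB : ∀ A B : Subgroup G, IsMulCommutative ↥A → IsMulCommutative ↥B → Nat.card ↥A = Nat.card ↥B → ∃ g : G, B = A.map (MulAut.conj g).toMonoidHom)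
    {p : ℕ} [hp : Fact p.Prime] (P : Sylow p G) {x : (P : Subgroup G)} (hx : x ^ p ≠ 1)
    {A : Subgroup (P : Subgroup G)} (hA : Nat.card A = p ^ 2)
    (hexp : ∀ a ∈ A, a ^ p = 1) : False := by
  obtain ⟨y, hy⟩ := exists_order_sq P.2 hx
  have hy' : orderOf (y : G) = p ^ 2 := by rw [Subgroup.orderOf_coe, hy]
  apply no_both hB hy' (A := A.map (P : Subgroup G).subtype)
  · rw [Subgroup.card_subtype, hA]
  · rintro _ ⟨a, ha, rfl⟩
    rw [← map_pow, hexp a ha, map_one]


/-- Let G be a finite group in which any two abelian subgroups of the same order are conjugate. Then a Sylow 2-subgroup of G is cyclic, elementary abelian or generalized quaternion, and for an odd prime p a Sylow p-subgroup of G is cyclic or has exponent dividing p. -/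
theorem result {G : Type*} [Group G] [Finite G] (hB : ∀ A B : Subgroup G, IsMulCommutative ↥A → IsMulCommutative ↥B → Nat.card ↥A = Nat.card ↥B → ∃ g : G, B = A.map (MulAut.conj g).toMonoidHom) :
    (∀ P : Sylow 2 G, IsCyclic ↥(P : Subgroup G) ∨ Cfsg.IsElementaryAbelian 2 (P : Subgroup G) ∨ ∃ k : ℕ, Nonempty (↥(P : Subgroup G) ≃* QuaternionGroup (2 ^ k))) ∧
    ∀ (p : ℕ) [Fact p.Prime], p ≠ 2 → ∀ P : Sylow p G, IsCyclic ↥(P : Subgroup G) ∨ ∀ x ∈ (P : Subgroup G), x ^ p = 1 := by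
  constructor
  · intro P
    by_cases hel : ∀ x : P, x ^ 2 = 1
    · right; left
      refine ⟨⟨⟨fun a b => ?_⟩⟩, fun a ha => by simpa using congrArg Subtype.val (hel ⟨a, ha⟩)⟩
      have h1 : ∀ a : P, a⁻¹ = a := fun a => inv_eq_of_mul_eq_one_left (by rw [← sq]; exact hel a)
      calc a * b = (a * b)⁻¹ := (h1 _).symm
        _ = b⁻¹ * a⁻¹ := mul_inv_rev a b
        _ = b * a := by rw [h1, h1]
    · push Not at hel
      obtain ⟨x, hx⟩ := hel
      rcases H1.UniqueSub.cyclic_or_quaternion 2 P.2 (by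
        intro H K hH hK
        by_contra hHK
        obtain ⟨A, hA, hexp⟩ := exists_elem P.2 hH hK hHK
        exact no_both' hB P hx hA hexp) with h | ⟨_, h⟩
      · exact Or.inl h
      · exact Or.inr (Or.inr h)
  · intro p hp hp2 P
    by_cases hel : ∀ x ∈ (P : Subgroup G), x ^ p = 1
    · exact Or.inr hel
    · left
      push Not at hel
      obtain ⟨x, hxP, hx⟩ := hel
      by_contra hnc
      obtain ⟨A, _, hA, hexp⟩ := H24.OddPGroup.exists_normal_elementary_sq hp2 P.2 hnc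
      exact no_both' hB P (x := ⟨x, hxP⟩) (fun h => hx (by simpa using congrArg Subtype.val h)) hA hexp

end Cfsg.Agent.S3908
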