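import Cfsg.Statements.S3919
import Cfsg.Agent.S3908
import Cfsg.Agent.Lib.H3.SelfCent
import Cfsg.Agent.Lib.H3.MaxClassP
import Cfsg.Agent.Lib.H76.MaxClass

set_option autoImplicit false
open Cfsg

namespace Cfsg.Agent.S3919

/-- cyclic subgroup of index 2 all of whose outside elements centralize only elements of order ≤ 2 -/
def Good (G : Type*) [Group G] : Prop :=
  ∃ a : G, (Subgroup.zpowers a).index = 2 ∧ ∀ t : G, t ∉ Subgroup.zpowers a → ∀ x ∈ Subgroup.zpowers a,
    t * x = x * t → x ^ 2 = 1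

theorem Good.of_equiv {G H : Type*} [Group G] [Group H] (e : G ≃* H) (h : Good H) : Good G := by
  obtain ⟨a, ha, hC⟩ := h
  have hmap : (Subgroup.zpowers a).comap e.toMonoidHom = Subgroup.zpowers (e.symm a) := by
    ext x
    rw [Subgroup.mem_comap, Subgroup.mem_zpowers_iff, Subgroup.mem_zpowers_iff]
    constructor
    · rintro ⟨k, hk⟩
      exact ⟨k, by rw [← map_zpow, hk]; exact e.symm_apply_apply x⟩
    · rintro ⟨k, hk⟩
      exact ⟨k, by rw [← hk]; simp⟩
  refine ⟨e.symm a, ?_, ?_⟩
  · rw [← hmap, Subgroup.index_comap_of_surjective _ e.surjective, ha]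
  · intro t ht x hx htx
    rw [← hmap, Subgroup.mem_comap] at ht hx
    have := hC (e t) ht (e x) hx (by rw [← map_mul, ← map_mul, htx])
    rw [← map_pow] at this
    exact e.injective (this.trans (map_one e).symm)

theorem good_dihedral (n : ℕ) (hn : n ≠ 0) : Good (DihedralGroup n) := by
  have : NeZero n := ⟨hn⟩
  have hmem : ∀ x : DihedralGroup n, x ∈ Subgroup.zpowers (DihedralGroup.r (1 : ZMod n)) ↔ ∃ i, x = DihedralGroup.r i := by
    intro x
    constructor
    · rintro ⟨k, rfl⟩
      exact ⟨(k : ZMod n), by simp⟩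
    · rintro ⟨i, rfl⟩
      exact ⟨(i.val : ℤ), by simp⟩
  refine ⟨DihedralGroup.r 1, ?_, ?_⟩
  · have h1 := Subgroup.card_mul_index (Subgroup.zpowers (DihedralGroup.r (1 : ZMod n)))
    rw [Nat.card_zpowers, DihedralGroup.orderOf_r_one, DihedralGroup.nat_card] at h1
    have h2 : n * (Subgroup.zpowers (DihedralGroup.r (1 : ZMod n))).index = n * 2 := by rw [h1]; ring
    exact Nat.eq_of_mul_eq_mul_left (Nat.pos_of_ne_zero hn) h2
  · intro t ht x hx htx
    obtain ⟨i, rfl⟩ := (hmem x).1 hx
    rcases t with j | j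
    · exact absurd ((hmem _).2 ⟨j, rfl⟩) ht
    · simp only [DihedralGroup.sr_mul_r, DihedralGroup.r_mul_sr, DihedralGroup.sr.injEq] at htx
      rw [sq, DihedralGroup.r_mul_r, DihedralGroup.one_def, DihedralGroup.r.injEq]
      linear_combination htx

theorem good_quaternion (n : ℕ) (hn : n ≠ 0) : Good (QuaternionGroup n) := by
  have : NeZero n := ⟨hn⟩
  have : NeZero (2 * n) := ⟨by omega⟩
  have hmem : ∀ x : QuaternionGroup n, x ∈ Subgroup.zpowers (QuaternionGroup.a (1 : ZMod (2 * n))) ↔
      ∃ i, x = QuaternionGroup.a i := by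
    intro x
    constructor
    · intro hx
      obtain ⟨k, hk⟩ := mem_powers_iff_mem_zpowers.2 hx
      exact ⟨(k : ZMod (2 * n)), by rw [← QuaternionGroup.a_one_pow]; exact hk.symm⟩
    · rintro ⟨i, rfl⟩
      refine ⟨(i.val : ℤ), ?_⟩
      simp only [zpow_natCast, QuaternionGroup.a_one_pow, ZMod.natCast_zmod_val]
  refine ⟨QuaternionGroup.a 1, ?_, ?_⟩
  · have h1 := Subgroup.card_mul_index (Subgroup.zpowers (QuaternionGroup.a (1 : ZMod (2 * n))))
    rw [Nat.card_zpowers, QuaternionGroup.orderOf_a_one, Nat.card_eq_fintype_card, QuaternionGroup.card] at h1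
    have h2 : (2 * n) * (Subgroup.zpowers (QuaternionGroup.a (1 : ZMod (2 * n)))).index = (2 * n) * 2 := by rw [h1]; ring
    exact Nat.eq_of_mul_eq_mul_left (by omega) h2
  · intro t ht x hx htx
    obtain ⟨i, rfl⟩ := (hmem x).1 hx
    rcases t with j | j
    · exact absurd ((hmem _).2 ⟨j, rfl⟩) ht
    · simp only [QuaternionGroup.xa_mul_a, QuaternionGroup.a_mul_xa, QuaternionGroup.xa.injEq] at htx
      rw [sq, QuaternionGroup.a_mul_a, QuaternionGroup.one_def, QuaternionGroup.a.injEq]
      linear_combination htx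

theorem good_semi {G : Type*} [Group G] [Finite G] {k : ℕ} {a b : G} (ha : orderOf a = 2 ^ (k + 3))
    (hb : b * a * b⁻¹ = a ^ (2 ^ (k + 2) - 1)) (hba : b ∉ Subgroup.zpowers a)
    (hidx : (Subgroup.zpowers a).index = 2) : Good G := by
  refine ⟨a, hidx, ?_⟩
  intro t ht x hx htx
  obtain ⟨i, rfl⟩ := hx
  simp only at htx ⊢
  -- `t = a^j b`
  have h1 : t * b⁻¹ ∈ Subgroup.zpowers a := by
    rw [Subgroup.mul_mem_iff_of_index_two hidx]
    simp [ht, hba]
  obtain ⟨j, hj⟩ := h1
  have ht' : t = a ^ j * b := by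
    have : t = t * b⁻¹ * b := by group
    rw [this, ← hj]
  have hcm : b * a ^ i = a ^ i * b := by
    rw [ht'] at htx
    have h2 : a ^ j * (b * a ^ i) = a ^ j * (a ^ i * b) := by
      calc a ^ j * (b * a ^ i) = a ^ j * b * a ^ i := by group
        _ = a ^ i * (a ^ j * b) := htx
        _ = a ^ j * (a ^ i * b) := by
          rw [← mul_assoc, ← zpow_add, add_comm, zpow_add, mul_assoc]
    exact mul_left_cancel h2
  have h3 : a ^ (((2 : ℤ) ^ (k + 2) - 1) * i) = a ^ i := by
    have h4 : b * a ^ i * b⁻¹ = a ^ (((2 : ℤ) ^ (k + 2) - 1) * i) := by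
      rw [← conj_zpow, hb, ← zpow_natCast, ← zpow_mul]
      congr 2
      push_cast [Nat.one_le_two_pow]
      rfl
    rw [← h4, hcm, mul_inv_cancel_right]
  have h5 : ((2 : ℤ) ^ (k + 3)) ∣ i * (2 ^ (k + 2) - 2) := by
    have h6 : a ^ (i * (2 ^ (k + 2) - 2)) = 1 := by
      rw [show i * ((2 : ℤ) ^ (k + 2) - 2) = ((2 : ℤ) ^ (k + 2) - 1) * i - i by ring, zpow_sub, h3, mul_inv_cancel]
    have h7 := orderOf_dvd_iff_zpow_eq_one.2 h6
    rw [ha] at h7
    exact_mod_cast h7
  have h8 : ((2 : ℤ) ^ (k + 3)) ∣ i * 2 := by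
    have h9 : IsCoprime ((2 : ℤ) ^ (k + 3)) (2 ^ (k + 1) - 1) := by
      apply IsCoprime.pow_left
      refine ⟨2 ^ k, -1, ?_⟩
      ring
    apply h9.dvd_of_dvd_mul_right
    rw [show i * 2 * ((2 : ℤ) ^ (k + 1) - 1) = i * (2 ^ (k + 2) - 2) by ring]
    exact h5
  rw [← zpow_natCast, ← zpow_mul]
  apply orderOf_dvd_iff_zpow_eq_one.1
  rw [ha]
  exact_mod_cast h8

theorem Good.selfcent {G : Type*} [Group G] [Finite G] (h2 : IsPGroup 2 G) (h : Good G) (H : Subgroup G)
    (hH : ¬ IsCyclic H) : Subgroup.centralizer (H : Set G) ≤ H := by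
  obtain ⟨a, hidx, hC⟩ := h
  obtain ⟨t, htH, hta⟩ : ∃ t ∈ H, t ∉ Subgroup.zpowers a := by
    by_contra hcon
    push Not at hcon
    apply hH
    exact isCyclic_of_injective (Subgroup.inclusion hcon) (Subgroup.inclusion_injective hcon)
  -- an element of order two in `H ∩ ⟨a⟩`
  obtain ⟨z, hzH, hza, hz2⟩ : ∃ z ∈ H, z ∈ Subgroup.zpowers a ∧ orderOf z = 2 := by
    have hne : H ⊓ Subgroup.zpowers a ≠ ⊥ := by
      intro hbot
      apply hH
      have h1 : (Subgroup.zpowers a).relIndex H ∣ 2 := by
        have hN : (Subgroup.zpowers a).Normal := Subgroup.normal_of_index_eq_two hidx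
        rw [← hidx]; exact Subgroup.relIndex_dvd_index_of_normal _ _
      have h3 : Nat.card H = (Subgroup.zpowers a).relIndex H := by
        rw [← Subgroup.inf_relIndex_right, inf_comm, hbot, Subgroup.relIndex_bot_left]
      rw [← h3] at h1
      rcases (Nat.dvd_prime Nat.prime_two).1 h1 with h4 | h4
      · have := (Nat.card_eq_one_iff_unique.1 h4).1
        exact isCyclic_of_subsingleton
      · exact isCyclic_of_prime_card h4
    have hnt : Nontrivial ↥(H ⊓ Subgroup.zpowers a) := (Subgroup.nontrivial_iff_ne_bot _).2 hne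
    obtain ⟨n, hn0, hn⟩ := (h2.to_subgroup (H ⊓ Subgroup.zpowers a)).nontrivial_iff_card.1 hnt
    obtain ⟨z, hz⟩ := exists_prime_orderOf_dvd_card' (G := ↥(H ⊓ Subgroup.zpowers a)) 2 (by
      rw [hn]; exact dvd_pow_self 2 hn0.ne')
    exact ⟨z, z.2.1, z.2.2, by rw [Subgroup.orderOf_coe, hz]⟩
  have hsq : ∀ x ∈ Subgroup.zpowers a, x ^ 2 = 1 → x ∈ H := by
    intro x hx hx2
    by_cases hx1 : x = 1
    · rw [hx1]; exact H.one_mem
    by_contra hxH
    apply H68.TwoGen.not_isCyclic_subgroup (H := Subgroup.zpowers a) Nat.prime_two hx hza hx2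
      (by rw [← hz2]; exact pow_orderOf_eq_one z) (by rintro rfl; rw [orderOf_one] at hz2; omega) _ inferInstance
    intro h3
    exact hxH ((Subgroup.zpowers_le.2 hzH) h3)
  intro c hc
  rw [Subgroup.mem_centralizer_iff] at hc
  by_cases hca : c ∈ Subgroup.zpowers a
  · exact hsq c hca (hC t hta c hca (hc t htH))
  · have h1 : t⁻¹ * c ∈ Subgroup.zpowers a := by
      rw [Subgroup.mul_mem_iff_of_index_two hidx]
      simp [hta, hca]
    have h3 : t⁻¹ * c ∈ H := by
      apply hsq _ h1
      apply hC t hta _ h1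
      rw [mul_inv_cancel_left, mul_assoc, ← hc t htH, inv_mul_cancel_left]
    have := H.mul_mem htH h3
    simpa using this

theorem cent_quaternion (k : ℕ) : ∃ A : Subgroup (QuaternionGroup (2 ^ k)), Nat.card A = 2 ^ 2 ∧
    Subgroup.centralizer (A : Set (QuaternionGroup (2 ^ k))) = A := by
  have hne : NeZero (2 ^ k) := ⟨by positivity⟩
  set m := 2 ^ k with hm
  have h2 : ∀ i : ZMod (2 * m), i + i = 0 → i = 0 ∨ i = m := by
    intro i hi
    have h1 : ((i.val + i.val : ℕ) : ZMod (2 * m)) = 0 := by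
      push_cast
      rw [ZMod.natCast_zmod_val]; exact hi
    rw [ZMod.natCast_eq_zero_iff, ← two_mul] at h1
    have h3 : m ∣ i.val := Nat.dvd_of_mul_dvd_mul_left (by norm_num) h1
    obtain ⟨c, hc⟩ := h3
    have h4 := ZMod.val_lt i
    rw [hc] at h4
    have h5 : c < 2 := by
      by_contra h
      push Not at h
      have : m * 2 ≤ m * c := Nat.mul_le_mul_left m h
      omega
    interval_cases c
    · left
      rw [mul_zero] at hc
      exact (ZMod.val_eq_zero i).1 hc
    · right
      rw [mul_one] at hc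
      rw [← ZMod.natCast_zmod_val i, hc]
  have horder : orderOf (QuaternionGroup.xa (0 : ZMod (2 * m))) = 4 := QuaternionGroup.orderOf_xa 0
  refine ⟨Subgroup.zpowers (QuaternionGroup.xa 0), ?_, ?_⟩
  · rw [Nat.card_zpowers, horder]; norm_num
  · apply le_antisymm
    · intro x hx
      rw [Subgroup.mem_centralizer_iff] at hx
      have h3 := hx _ (Subgroup.mem_zpowers _)
      have hsqm : (QuaternionGroup.xa (0 : ZMod (2 * m))) ^ 2 = QuaternionGroup.a (m : ZMod (2 * m)) := by
        rw [sq, QuaternionGroup.xa_mul_xa]; simp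
      have ham : QuaternionGroup.a (m : ZMod (2 * m)) ∈ Subgroup.zpowers (QuaternionGroup.xa (0 : ZMod (2 * m))) := by
        rw [← hsqm]; exact Subgroup.pow_mem _ (Subgroup.mem_zpowers _) 2
      have hmm : (m : ZMod (2 * m)) + m = 0 := by
        rw [← two_mul]
        have := ZMod.natCast_self (2 * m)
        push_cast at this
        exact this
      rcases x with i | i
      · simp only [QuaternionGroup.xa_mul_a, QuaternionGroup.a_mul_xa, QuaternionGroup.xa.injEq] at h3
        rcases h2 i (by linear_combination h3) with h4 | h4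
        · rw [h4, ← QuaternionGroup.one_def]; exact one_mem _
        · rw [h4]; exact ham
      · simp only [QuaternionGroup.xa_mul_xa, QuaternionGroup.a.injEq] at h3
        rcases h2 i (by linear_combination h3) with h4 | h4
        · rw [h4]; exact Subgroup.mem_zpowers _
        · rw [h4]
          have h5 := Subgroup.mul_mem _ (Subgroup.mem_zpowers (QuaternionGroup.xa (0 : ZMod (2 * m)))) ham
          rw [QuaternionGroup.xa_mul_a, zero_add] at h5
          exact h5
    · rw [Subgroup.zpowers_le, Subgroup.mem_centralizer_iff]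
      rintro _ ⟨k, rfl⟩
      exact ((Commute.refl _).zpow_left k).eq


/-- Say that a group has self-centralizing non-cyclic subgroups when every non-cyclic subgroup H satisfies C_G(H) ≤ H. A finite non-abelian 2-group G of order 2^n has self-centralizing non-cyclic subgroups if and only if G has nilpotency class n − 1 (that is, G is dihedral, semidihedral or generalized quaternion). -/
theorem result {G : Type*} [Group G] [Finite G] (hna : ¬ IsMulCommutative G) (n : ℕ) (hG : Nat.card G = 2 ^ n) :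
    (∀ H : Subgroup G, ¬ IsCyclic ↥H → Subgroup.centralizer (H : Set G) ≤ H) ↔ (⊤ : Subgroup G).lowerCentralSeries (n - 2) ≠ ⊥ := by
  have h2p : Fact (Nat.Prime 2) := ⟨Nat.prime_two⟩
  have hP : IsPGroup 2 G := IsPGroup.of_card hG
  have hnil : Group.IsNilpotent G := hP.isNilpotent
  have hn3 : 3 ≤ n := by
    by_contra hlt
    push Not at hlt
    apply hna
    interval_cases n
    · rw [pow_zero] at hG
      have := (Nat.card_eq_one_iff_unique.1 hG).1
      exact ⟨⟨fun a b => Subsingleton.elim _ _⟩⟩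
    · rw [pow_one] at hG
      have := isCyclic_of_prime_card hG
      exact IsCyclic.isMulCommutative
    · exact IsPGroup.isMulCommutative_of_card_eq_prime_sq hG
  have hcl : (⊤ : Subgroup G).lowerCentralSeries (n - 2) ≠ ⊥ ↔ Group.nilpotencyClass G = n - 1 := by
    rw [Ne, Subgroup.lowerCentralSeries_eq_bot_iff_nilpotencyClass_le]
    have := H3.MaxClassP.nilpotencyClass_le (p := 2) (by omega) hG
    omega
  rw [hcl]
  constructor
  · intro hX
    -- a self-centralizing subgroup of order 4
    by_cases hu : ∀ H K : Subgroup G, Nat.card H = 2 → Nat.card K = 2 → H = K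
    · rcases H1.UniqueSub.cyclic_or_quaternion 2 hP hu with h | ⟨_, k, ⟨e⟩⟩
      · exact absurd IsCyclic.isMulCommutative hna
      · obtain ⟨A, hA, hC⟩ := cent_quaternion k
        have h1 := H3.SelfCent.nilpotencyClass_eq (p := 2) n (QuaternionGroup (2 ^ k))
          (by rw [← Nat.card_congr e.toEquiv, hG]) A hA hC
        rw [← h1]
        have hnil' : Group.IsNilpotent (QuaternionGroup (2 ^ k)) := (Group.isNilpotent_congr e).1 hnil
        exact le_antisymm (Group.nilpotencyClass_le_of_surjective e.symm.toMonoidHom e.symm.surjective)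
          (Group.nilpotencyClass_le_of_surjective e.toMonoidHom e.surjective)
    · push Not at hu
      obtain ⟨H, K, hH, hK, hHK⟩ := hu
      obtain ⟨A, hA, hexp⟩ := Cfsg.Agent.S3908.exists_elem hP hH hK hHK
      have hAc : IsMulCommutative A := IsPGroup.isMulCommutative_of_card_eq_prime_sq hA
      have hnc : ¬ IsCyclic A := by
        intro hcyc
        obtain ⟨g, hg⟩ := hcyc.exists_generator
        have h1 : orderOf g = 2 ^ 2 := by rw [orderOf_eq_card_of_forall_mem_zpowers hg, hA]
        have h3 : g ^ 2 = 1 := Subtype.ext (by simpa using hexp g g.2)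
        have h4 := orderOf_dvd_of_pow_eq_one h3
        rw [h1] at h4
        exact absurd (Nat.le_of_dvd (by norm_num) h4) (by norm_num)
      apply H3.SelfCent.nilpotencyClass_eq (p := 2) n G hG A hA
      apply le_antisymm (hX A hnc)
      intro x hx
      rw [Subgroup.mem_centralizer_iff]
      intro y hy
      exact congrArg Subtype.val (hAc.is_comm.comm ⟨y, hy⟩ ⟨x, hx⟩)
  · intro hc H hH
    have hidx := H3.MaxClassP.index_commutator_eq (p := 2) (by omega) hG hc
    have hgood : Good G := by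
      rcases H76.MaxClass.trichotomy hP hidx (by
        rw [hG]
        have h3 : 2 ^ 3 ≤ 2 ^ n := Nat.pow_le_pow_right (by norm_num) hn3
        omega) with ⟨k, ⟨e⟩⟩ | ⟨k, _, a, b, ha, _, hb, hba, hidx'⟩ | ⟨k, ⟨e⟩⟩
      · exact Good.of_equiv e (good_dihedral _ (by positivity))
      · exact good_semi ha hb hba hidx'
      · exact Good.of_equiv e (good_quaternion _ (by positivity))
    exact hgood.selfcent hP H hH

end Cfsg.Agent.S3919
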