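import Cfsg.Statements.S3922
import Mathlib
import Cfsg.Agent.Lib.H70.ItoB
import Cfsg.Agent.Lib.H70.ItoC

set_option autoImplicit false
open Cfsg

namespace Cfsg.Agent.S3922

open Subgroup H70.RegT

/-- A finite group whose conjugacy classes have exactly three distinct sizes (1 and two further values) is solvable. -/
theorem result {G : Type*} [Group G] [Finite G] (n₁ n₂ : ℕ) (h12 : n₂ < n₁) (h2 : 1 < n₂)
    (h : ∀ x : G, (Subgroup.centralizer ({x} : Set G)).index = 1 ∨ (Subgroup.centralizer ({x} : Set G)).index = n₂ ∨
      (Subgroup.centralizer ({x} : Set G)).index = n₁)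
    (h₁ : ∃ x : G, (Subgroup.centralizer ({x} : Set G)).index = n₁) (h₂ : ∃ x : G, (Subgroup.centralizer ({x} : Set G)).index = n₂) :
    Group.IsSolvable G := by
  obtain ⟨x₁, hx₁⟩ := h₁
  obtain ⟨x₂, hx₂⟩ := h₂
  set a := Nat.card (centralizer ({x₂} : Set G)) with ha
  set b := Nat.card (centralizer ({x₁} : Set G)) with hb
  have e1 : ∀ x : G, Nat.card (centralizer ({x} : Set G)) * (centralizer ({x} : Set G)).index = Nat.card G :=
    fun x => Subgroup.card_mul_index _
  have ha2 : a * n₂ = Nat.card G := by rw [← e1 x₂, hx₂]
  have hb2 : b * n₁ = Nat.card G := by rw [← e1 x₁, hx₁]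
  have hGpos : 0 < Nat.card G := Nat.card_pos
  have hbpos : 0 < b := by rw [hb]; exact Nat.card_pos
  have hba : b < a := by
    by_contra hcon
    push Not at hcon
    have h3 : a * n₂ ≤ b * n₂ := Nat.mul_le_mul_right _ hcon
    have h4 : b * n₂ < b * n₁ := Nat.mul_lt_mul_of_pos_left h12 hbpos
    omega
  have hab : ∀ x : G, x ∉ center G → Nat.card (centralizer ({x} : Set G)) = a ∨
      Nat.card (centralizer ({x} : Set G)) = b := by
    intro x hx
    rcases h x with h3 | h3 | h3
    · exfalso
      apply hx
      rw [Subgroup.index_eq_one] at h3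
      apply mem_center_of_forall
      intro g
      have : g ∈ centralizer ({x} : Set G) := by rw [h3]; exact mem_top g
      exact Commute.symm (mem_centralizer_singleton_iff.mp this)
    · left
      have h4 := e1 x
      rw [h3, ← ha2] at h4
      exact Nat.eq_of_mul_eq_mul_right (by omega) h4
    · right
      have h4 := e1 x
      rw [h3, ← hb2] at h4
      exact Nat.eq_of_mul_eq_mul_right (by omega) h4
  by_cases hF : ∀ x y : G, x ∉ center G → y ∉ center G → centralizer ({x} : Set G) ≤ centralizer ({y} : Set G) →
      centralizer ({x} : Set G) = centralizer ({y} : Set G)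
  · exact caseA (fun M _ _ hM S h1 h2 h3 h4 => partition_solvable hM S h1 h2 h3 h4) hab hF
  · push Not at hF
    obtain ⟨y, x, hy, hx, hle, hne⟩ := hF
    have hlt : Nat.card (centralizer ({y} : Set G)) < Nat.card (centralizer ({x} : Set G)) := by
      by_contra hcon
      push Not at hcon
      exact hne (Subgroup.eq_of_le_of_card_ge hle hcon)
    have hxa : Nat.card (centralizer ({x} : Set G)) = a := by
      rcases hab x hx with h3 | h3
      · exact h3
      · rcases hab y hy with h4 | h4 <;> omega
    have hyb : Nat.card (centralizer ({y} : Set G)) = b := by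
      rcases hab y hy with h4 | h4
      · omega
      · exact h4
    exact caseB hba hab hx hxa hyb hle

end Cfsg.Agent.S3922
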