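import Cfsg.Statements.S4017
import Cfsg.Agent.Lib.H70.MixI

set_option autoImplicit false
open Cfsg

namespace Cfsg.Agent.S4017

/-- Let G be a finite group and let p and q be distinct primes dividing the order of G, with p odd. Suppose that p divides the order of every proper subgroup of G that is neither a q-group nor of order prime to q. Let q^a be the q-part of the order of G. If p > q^a − 1, or if p = q^a − 1 and the Sylow p-subgroups of G are abelian, then p and q are the only primes dividing the order of G. -/
theorem result {G : Type*} [Group G] [Finite G]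
    {p q : ℕ} (hp : p.Prime) (hq : q.Prime) (hpq : p ≠ q) (hp2 : p ≠ 2)
    (hpG : p ∣ Nat.card G) (hqG : q ∣ Nat.card G)
    (hmix : ∀ H : Subgroup G, H ≠ ⊤ → ¬ IsPGroup q H → q ∣ Nat.card H → p ∣ Nat.card H)
    (hlarge : q ^ (Nat.card G).factorization q - 1 < p ∨
      (p = q ^ (Nat.card G).factorization q - 1 ∧ ∀ P : Sylow p G, IsMulCommutative P)) :
    ∀ r : ℕ, r.Prime → r ∣ Nat.card G → r = p ∨ r = q := by
  have hm : H70.MixG.Mix p q G := hmix
  rcases hlarge with hl | ⟨hl, hab⟩
  · exact hm.caseA hp hq hpq hpG hqG hl
  · have hq2 : q = 2 := by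
      have hodd : Odd p := hp.odd_of_ne_two hp2
      have hpos : 0 < q ^ (Nat.card G).factorization q := pow_pos hq.pos _
      have h1 : q ^ (Nat.card G).factorization q = p + 1 := by omega
      have h2 : Even (q ^ (Nat.card G).factorization q) := by
        rw [h1]; exact hodd.add_one
      rw [Nat.even_pow] at h2
      exact (hq.even_iff).mp h2.1
    subst hq2
    exact H70.MixG.main hp hp2 (Nat.card G) G le_rfl hpG hqG hm (Or.inr ⟨hl, hab⟩)

end Cfsg.Agent.S4017
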