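import Cfsg.Statements.S4021
import Cfsg.Agent.Lib.H68.ConjEqH
import Cfsg.Agent.Lib.H18.Bender
import Cfsg.Agent.S1136
import Cfsg.Agent.S2117
import Cfsg.Agent.S4020

set_option autoImplicit false
open Cfsg

namespace Cfsg.Agent.S4021

theorem aux {X : Type*} [Group X] [Finite X] (h : H68.ConjEq.CE X) (hO : Cfsg.oddCore X = ⊥) :
    (IsCyclic X ∧ IsPGroup 2 X) ∨
    Nonempty (X ≃* Cfsg.affineGroup (GaloisField 2 3)) ∨
    Nonempty (X ≃* Cfsg.semiaffineGroup (GaloisField 2 3)) ∨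
    Nonempty (X ≃* Cfsg.semiaffineGroup (GaloisField 2 5)) ∨
    Nonempty (X ≃* Matrix.ProjectiveSpecialLinearGroup (Fin 2) (GaloisField 2 3)) ∨
    Nonempty (X ≃* MulAut (Matrix.ProjectiveSpecialLinearGroup (Fin 2) (GaloisField 2 5))) ∨
    Nonempty (X ≃* alternatingGroup (Fin 4)) ∨
    Nonempty (X ≃* alternatingGroup (Fin 5)) ∨
    Nonempty (X ≃* Matrix.SpecialLinearGroup (Fin 2) (ZMod 3)) ∨
    Nonempty (X ≃* Matrix.SpecialLinearGroup (Fin 2) (ZMod 5)) := by
  haveI : Fact (Nat.Prime 2) := ⟨Nat.prime_two⟩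
  obtain ⟨P⟩ : Nonempty (Sylow 2 X) := inferInstance
  have main1 : H16.BSSimple.RankOneThm := fun G Ω _ _ _ _ a t Q hS h2 => Cfsg.Agent.S1136.result hS h2
  rcases Cfsg.Agent.S4020.result (G := X) (fun p _ H K _ _ hc => h H K hc) P with hc | he | hq
  · exact Or.inl (H68.ConjEq.cyclic_case hO P hc)
  · have hel : ∀ x ∈ (P : Subgroup X), x * x = 1 := by
      intro x hx
      have := he.2 x hx
      rwa [pow_two] at this
    obtain ⟨n, hn⟩ := IsPGroup.iff_card.1 P.2
    rcases Nat.lt_or_ge n 2 with h2 | h2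
    · left
      apply H68.ConjEq.cyclic_case hO P
      have h3 : n = 0 ∨ n = 1 := by omega
      rcases h3 with rfl | rfl
      · have : Subsingleton (P : Subgroup X) := by
          apply (Nat.card_eq_one_iff_unique.1 _).1
          rw [hn, pow_zero]
        infer_instance
      · exact isCyclic_of_prime_card (p := 2) (by rw [hn, pow_one])
    · rcases H68.ConjEq.elab_case H18.Bender.bender main1 h hO hel hn h2 with
        ⟨-, h⟩ | ⟨-, h⟩ | ⟨-, h⟩ | ⟨-, h⟩ | ⟨-, h⟩ | ⟨-, h⟩ | ⟨-, h⟩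
      · exact Or.inr (Or.inr (Or.inr (Or.inr (Or.inr (Or.inr (Or.inl h))))))
      · exact Or.inr (Or.inl h)
      · exact Or.inr (Or.inr (Or.inl h))
      · exact Or.inr (Or.inr (Or.inr (Or.inl h)))
      · exact Or.inr (Or.inr (Or.inr (Or.inr (Or.inr (Or.inr (Or.inr (Or.inl h)))))))
      · exact Or.inr (Or.inr (Or.inr (Or.inr (Or.inl h))))
      · exact Or.inr (Or.inr (Or.inr (Or.inr (Or.inr (Or.inl h)))))
  · have hM : Cfsg.HasCyclicSchurMultiplier H68.ConjEq.E5 1 :=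
      Cfsg.Agent.S2117.result (by rw [ZMod.card]; norm_num) (by rw [ZMod.card]; norm_num)
    rcases H68.ConjEq.q8_case H18.Bender.bender main1 hM h hO hq with h | h
    · exact Or.inr (Or.inr (Or.inr (Or.inr (Or.inr (Or.inr (Or.inr (Or.inr (Or.inl h))))))))
    · exact Or.inr (Or.inr (Or.inr (Or.inr (Or.inr (Or.inr (Or.inr (Or.inr (Or.inr h))))))))

/-- Let G be a finite group in which any two subgroups of the same order are conjugate. Then G/O(G), O(G) the largest normal subgroup of odd order, is one of: a cyclic 2-group; the one-dimensional affine group over the field with 8 elements; the one-dimensional semi-affine group over the field with 8 or with 32 elements; PSL₂(8); the full automorphism group of PSL₂(32); the alternating group of degree 4 or 5; SL₂(3); or SL₂(5). -/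
theorem result {G : Type*} [Group G] [Finite G]
    (hC : ∀ H K : Subgroup G, Nat.card H = Nat.card K → ∃ g : G, K = H.map (MulAut.conj g).toMonoidHom) :
    (IsCyclic (G ⧸ Cfsg.oddCore G) ∧ IsPGroup 2 (G ⧸ Cfsg.oddCore G)) ∨
    Nonempty (G ⧸ Cfsg.oddCore G ≃* Cfsg.affineGroup (GaloisField 2 3)) ∨
    Nonempty (G ⧸ Cfsg.oddCore G ≃* Cfsg.semiaffineGroup (GaloisField 2 3)) ∨
    Nonempty (G ⧸ Cfsg.oddCore G ≃* Cfsg.semiaffineGroup (GaloisField 2 5)) ∨
    Nonempty (G ⧸ Cfsg.oddCore G ≃* Matrix.ProjectiveSpecialLinearGroup (Fin 2) (GaloisField 2 3)) ∨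
    Nonempty (G ⧸ Cfsg.oddCore G ≃* MulAut (Matrix.ProjectiveSpecialLinearGroup (Fin 2) (GaloisField 2 5))) ∨
    Nonempty (G ⧸ Cfsg.oddCore G ≃* alternatingGroup (Fin 4)) ∨
    Nonempty (G ⧸ Cfsg.oddCore G ≃* alternatingGroup (Fin 5)) ∨
    Nonempty (G ⧸ Cfsg.oddCore G ≃* Matrix.SpecialLinearGroup (Fin 2) (ZMod 3)) ∨
    Nonempty (G ⧸ Cfsg.oddCore G ≃* Matrix.SpecialLinearGroup (Fin 2) (ZMod 5)) := by
  exact aux (H68.ConjEq.CE.quot hC (Cfsg.oddCore G)) (H1.Cores.pPrimeCore_quotient_pPrimeCore 2)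

end Cfsg.Agent.S4021
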