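import Cfsg.Statements.S4044
import Cfsg.Agent.Lib.H31.HNh
import Cfsg.Agent.Lib.H28.GW4Final
import Cfsg.Agent.Lib.H18.Bender
import Cfsg.Agent.S0205
import Cfsg.Agent.S0217

set_option autoImplicit false
open Cfsg

namespace Cfsg.Agent.S4044

/-- For an integer m ≥ 2 the following are equivalent: (a) every finite group whose order n is divisible by m with gcd(m, n/m) = 1 has a subgroup of order m; (b) m is a prime power, or m ≡ 2 (mod 4), or m ∈ {12, 24, 60}. -/
theorem result (m : ℕ) (hm : 2 ≤ m) :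
    (∀ (G : Type) [Group G] [Finite G], m ∣ Nat.card G → m.Coprime (Nat.card G / m) →
        ∃ H : Subgroup G, Nat.card H = m) ↔
    (IsPrimePow m ∨ m % 4 = 2 ∨ m = 12 ∨ m = 24 ∨ m = 60) := by
  refine H31.HN.hall_numbers (fun G _ _ h => Cfsg.Agent.S0205.result h) ?_ H18.Bender.bender ?_ m hm
  · intro G _ _ A h1 h2 h3 θ h4 h5 h6 h7 h8
    haveI : Fact (Nat.Prime 2) := ⟨Nat.prime_two⟩
    exact (Cfsg.Agent.S0217.result A h1 h2 h3 θ h4 h5 h6 h7 h8).1
  · intro X _ _ hX hS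
    obtain ⟨F, i1, i2, hF, h3, e⟩ := H28.GW4Final.gw4 X hX hS
    exact ⟨F, i1, i2, by rw [Nat.odd_iff]; omega, h3, e⟩

end Cfsg.Agent.S4044
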