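import Cfsg.Statements.S4073
import Cfsg.Agent.Lib.H2.CI.SN8

set_option autoImplicit false
open Cfsg

namespace Cfsg.Agent.S4073

/-- Let G be a finite non-abelian simple group. Every non-abelian subgroup of G is self-normalizing if and only if G is isomorphic to PSL₂(2ⁿ) for some n ≥ 2 with 2ⁿ − 1 prime (this includes the alternating group of degree 5 as PSL₂(4)). -/
theorem result {G : Type*} [Group G] [Finite G] [IsSimpleGroup G]
    (hna : ¬ IsMulCommutative G) :
    (∀ H : Subgroup G, ¬ IsMulCommutative H → Subgroup.normalizer (H : Set G) = H) ↔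
      ∃ n : ℕ, 2 ≤ n ∧ (2 ^ n - 1).Prime ∧ Nonempty (G ≃* Matrix.ProjectiveSpecialLinearGroup (Fin 2) (GaloisField 2 n)) := by
  classical
  have key : (∀ H : Subgroup G, ¬ IsMulCommutative H → Subgroup.normalizer (H : Set G) = H) ↔ H2.CI.SN G := by
    constructor
    · rintro h H ⟨a, ha, b, hb, hab⟩ g hg
      have h1 := h H (fun h2 => hab (congrArg Subtype.val (h2.is_comm.comm ⟨a, ha⟩ ⟨b, hb⟩)))
      rw [h1] at hg; exact hg
    · intro h H hH
      apply le_antisymm _ Subgroup.le_normalizer
      intro g hg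
      apply h H _ g hg
      by_contra hcon
      push Not at hcon
      exact hH ⟨⟨fun a b => Subtype.ext (hcon a a.2 b b.2)⟩⟩
  rw [key]
  constructor
  · intro h
    exact H2.CI.sn_forward hna h
  · rintro ⟨n, hn, hp, ⟨e⟩⟩
    have := Fintype.ofFinite (GaloisField 2 n)
    have hcard : Fintype.card (GaloisField 2 n) = 2 ^ n := by
      rw [← Nat.card_eq_fintype_card, GaloisField.card 2 n (by omega)]
    have h1 := H2.CI.SF.sn (H2.CI.sf_sl2 (F := GaloisField 2 n)) (by rw [hcard]; exact hp)
    exact h1.congr (e.trans (H2.CI.slEquivPsl _).symm)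

end Cfsg.Agent.S4073
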