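import Cfsg.Statements.S4113

set_option autoImplicit false
open Cfsg

namespace Cfsg.Agent.S4113

/-- Let G be a finite group, M ≤ N non-trivial proper normal subgroups, and H a subgroup with HM = G and H ∩ M = 1. Then every element of G outside N acts fixed-point-freely on M (C_G(x) ≤ N for every x ∈ M, x ≠ 1) if and only if H ∩ gHg⁻¹ ≤ H ∩ N for every g outside H, with H proper and non-trivial and H ∩ N proper in H. -/
theorem result {G : Type*} [Group G] [Finite G] (N M : Subgroup G) [N.Normal] [M.Normal] (hMN : M ≤ N) (hM1 : M ≠ ⊥) (hN2 : N ≠ ⊤)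
    (H : Subgroup G) (hHM : H ⊔ M = ⊤) (hHM' : H ⊓ M = ⊥) :
    (∀ x ∈ M, x ≠ 1 → Subgroup.centralizer ({x} : Set G) ≤ N) ↔
      (H ≠ ⊥ ∧ H ≠ ⊤ ∧ H ⊓ N < H ∧ ∀ g : G, g ∉ H → H ⊓ H.map (MulAut.conj g).toMonoidHom ≤ N) := by
  have hprod : ∀ g : G, ∃ h ∈ H, ∃ m ∈ M, h * m = g := by
    intro g
    have : g ∈ H ⊔ M := by rw [hHM]; trivial
    exact Subgroup.mem_sup_of_normal_right.mp this
  have htriv : ∀ x : G, x ∈ H → x ∈ M → x = 1 := by
    intro x h1 h2
    have : x ∈ H ⊓ M := ⟨h1, h2⟩
    rw [hHM'] at this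
    exact Subgroup.mem_bot.mp this
  constructor
  · intro hc
    refine ⟨?_, ?_, ?_, ?_⟩
    · rintro rfl
      apply hN2
      rw [bot_sup_eq] at hHM
      rw [eq_top_iff, ← hHM]; exact hMN
    · rintro rfl
      apply hM1
      rw [top_inf_eq] at hHM'
      exact hHM'
    · refine lt_of_le_of_ne inf_le_left ?_
      intro h
      have hHN : H ≤ N := by rw [← h]; exact inf_le_right
      apply hN2
      rw [eq_top_iff, ← hHM]
      exact sup_le hHN hMN
    · intro g hg y hy
      obtain ⟨hyH, hyg⟩ := hy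
      obtain ⟨z, hz, hzy⟩ := hyg
      simp only [MulEquiv.coe_toMonoidHom, MulAut.conj_apply] at hzy
      obtain ⟨h, hh, m, hm, rfl⟩ := hprod g
      have hm1 : m ≠ 1 := by
        rintro rfl
        apply hg; simpa using hh
      -- y' = h⁻¹ y h ∈ H and = m z m⁻¹
      have hy' : h⁻¹ * y * h = m * z * m⁻¹ := by
        change h * m * z * (h * m)⁻¹ = y at hzy
        rw [← hzy]; group
      have hy'H : h⁻¹ * y * h ∈ H := H.mul_mem (H.mul_mem (H.inv_mem hh) hyH) hh
      have hcomm : z⁻¹ * (m * z * m⁻¹) = 1 := by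
        apply htriv
        · exact H.mul_mem (H.inv_mem hz) (hy' ▸ hy'H)
        · have : z⁻¹ * (m * z * m⁻¹) = (z⁻¹ * m * z) * m⁻¹ := by group
          rw [this]
          refine M.mul_mem ?_ (M.inv_mem hm)
          have := (inferInstance : M.Normal).conj_mem m hm z⁻¹
          simpa using this
      have hmz : m * z * m⁻¹ = z := by
        have := eq_inv_of_mul_eq_one_right hcomm
        simpa using this
      have hzc : z ∈ Subgroup.centralizer ({m} : Set G) := by
        rw [Subgroup.mem_centralizer_singleton_iff]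
        have := mul_inv_eq_iff_eq_mul.mp hmz
        exact this.symm
      have hzN : z ∈ N := hc m hm hm1 hzc
      have : y = h * z * h⁻¹ := by
        rw [hmz] at hy'
        rw [← hy']; group
      rw [this]
      exact (inferInstance : N.Normal).conj_mem z hzN h
  · rintro ⟨-, -, -, hg⟩ x hx hx1 c hc
    by_contra hcN
    obtain ⟨h, hh, m, hm, rfl⟩ := hprod c
    have hhN : h ∉ N := by
      intro hN
      exact hcN (N.mul_mem hN (hMN hm))
    -- C_M(h) = 1
    have hcent : ∀ k ∈ M, k * h = h * k → k = 1 := by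
      intro k hk hkh
      by_contra hk1
      have hkH : k ∉ H := fun hkH => hk1 (htriv k hkH hk)
      apply hhN
      apply hg k hkH
      refine ⟨hh, ⟨h, hh, ?_⟩⟩
      simp only [MulEquiv.coe_toMonoidHom, MulAut.conj_apply]
      rw [hkh]; group
    -- surjectivity
    let f : M → M := fun k => ⟨h⁻¹ * (k : G) * h * (k : G)⁻¹, by
      refine M.mul_mem ?_ (M.inv_mem k.2)
      have := (inferInstance : M.Normal).conj_mem k k.2 h⁻¹
      simpa using this⟩
    have hinj : Function.Injective f := by
      intro a b hab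
      have hab' : h⁻¹ * (a : G) * h * (a : G)⁻¹ = h⁻¹ * (b : G) * h * (b : G)⁻¹ := congrArg Subtype.val hab
      have : (b : G)⁻¹ * a = 1 := by
        apply hcent
        · exact M.mul_mem (M.inv_mem b.2) a.2
        · have h1 : (a : G) * h * (a : G)⁻¹ = b * h * (b : G)⁻¹ := by
            have := congrArg (fun t => h * t) hab'
            simpa [mul_assoc] using this
          calc (b : G)⁻¹ * a * h = (b : G)⁻¹ * (a * h * (a : G)⁻¹) * a := by group
            _ = (b : G)⁻¹ * (b * h * (b : G)⁻¹) * a := by rw [h1]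
            _ = h * ((b : G)⁻¹ * a) := by group
      have h2 := inv_mul_eq_one.mp this
      exact Subtype.ext h2.symm
    have hsurj : Function.Surjective f := Finite.surjective_of_injective hinj
    obtain ⟨k, hk⟩ := hsurj ⟨m, hm⟩
    have hk' : h⁻¹ * (k : G) * h * (k : G)⁻¹ = m := congrArg Subtype.val hk
    -- h * m = k h k⁻¹
    have hkm : h * m = k * h * (k : G)⁻¹ := by rw [← hk']; group
    rw [Subgroup.mem_centralizer_singleton_iff] at hc
    rw [hkm] at hc
    apply hx1
    have : (k : G)⁻¹ * x * k = 1 := by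
      apply hcent
      · have := (inferInstance : M.Normal).conj_mem x hx (k : G)⁻¹
        simpa using this
      · calc (k : G)⁻¹ * x * k * h = (k : G)⁻¹ * (x * (k * h * (k : G)⁻¹)) * k := by group
          _ = (k : G)⁻¹ * ((k * h * (k : G)⁻¹) * x) * k := by rw [← hc]
          _ = h * ((k : G)⁻¹ * x * k) := by group
    have h3 : x = k * ((k : G)⁻¹ * x * k) * (k : G)⁻¹ := by group
    rw [h3, this]; group

end Cfsg.Agent.S4113
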