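import Cfsg.Statements.S4234
import Cfsg.Agent.Lib.H98.PSL13
import Cfsg.Agent.Lib.H58.SL2Prod

set_option autoImplicit false
open Cfsg

namespace Cfsg.Agent.S4234

open Subgroup

/-- lifting the property along a surjection -/
theorem lift {G L : Type*} [Group G] [Group L] (π : G →* L) (hπ : Function.Surjective π)
    (hn : ∀ (H : Subgroup G) (g : G), π g ∈ normalizer ((H.map π : Subgroup L) : Set L) → g ∈ normalizer (H : Set G))
    (hL : ∀ P : Subgroup L, ¬ P.Normal → IsCoatom (normalizer (P : Set L))) (H : Subgroup G) (hH : ¬ H.Normal) :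
    IsCoatom (normalizer (H : Set G)) := by
  have h1 : normalizer (H : Set G) = (normalizer ((H.map π : Subgroup L) : Set L)).comap π := by
    apply le_antisymm
    · intro g hg
      rw [mem_comap]
      have h2 := Subgroup.le_normalizer_map (H := H) π
      exact h2 ⟨g, hg, rfl⟩
    · intro g hg
      exact hn H g hg
  have h2 : ¬ (H.map π).Normal := by
    intro h3
    apply hH
    rw [← Subgroup.normalizer_eq_top_iff, h1, Subgroup.normalizer_eq_top_iff.mpr h3, Subgroup.comap_top]
  rw [h1]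
  exact Subgroup.isCoatom_comap_of_surjective hπ (hL _ h2)

/-- it is enough to have conjugates inside -/
theorem mem_norm_of {G : Type*} [Group G] (H : Subgroup G) (Q : G → Prop) (hQ : ∀ g, Q g → Q g⁻¹)
    (h : ∀ g, Q g → ∀ x ∈ H, g * x * g⁻¹ ∈ H) (g : G) (hg : Q g) : g ∈ normalizer (H : Set G) := by
  rw [mem_normalizer_iff]
  intro x
  constructor
  · exact h g hg x
  · intro hx
    have h6 := h g⁻¹ (hQ g hg) _ hx
    have e : g⁻¹ * (g * x * g⁻¹) * g⁻¹⁻¹ = x := by group
    rwa [e] at h6

/-- coprime direct factor -/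
theorem prod_cond {K S : Type*} [Group K] [CommGroup S] [Finite K] [Finite S] (hKS : (Nat.card K).Coprime (Nat.card S))
    (H : Subgroup (K × S)) (g : K × S) (hg : MonoidHom.fst K S g ∈ normalizer ((H.map (MonoidHom.fst K S) : Subgroup K) : Set K)) :
    g ∈ normalizer (H : Set (K × S)) := by
  obtain ⟨m, hm1, hm2⟩ := Nat.chineseRemainder hKS 1 0
  have hk : ∀ k : K, k ^ m = k := by
    intro k
    have h1 : orderOf k ∣ Nat.card K := orderOf_dvd_natCard k
    have h2 : m ≡ 1 [MOD orderOf k] := hm1.of_dvd h1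
    calc k ^ m = k ^ 1 := pow_eq_pow_iff_modEq.mpr h2
      _ = k := pow_one k
  have hs : ∀ s : S, s ^ m = 1 := by
    intro s
    have h1 : orderOf s ∣ Nat.card S := orderOf_dvd_natCard s
    have h2 : m ≡ 0 [MOD orderOf s] := hm2.of_dvd h1
    calc s ^ m = s ^ 0 := pow_eq_pow_iff_modEq.mpr h2
      _ = 1 := pow_zero s
  have hk1 : ∀ k : K, ∀ s : S, (k, s) ∈ H → (k, (1 : S)) ∈ H := by
    intro k s h
    have h1 := H.pow_mem h m
    rwa [Prod.pow_mk, hk, hs] at h1
  have hs1 : ∀ k : K, ∀ s : S, (k, s) ∈ H → ((1 : K), s) ∈ H := by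
    intro k s h
    have h1 := H.mul_mem (H.inv_mem (hk1 k s h)) h
    rwa [Prod.inv_mk, Prod.mk_mul_mk, inv_mul_cancel, inv_one, one_mul] at h1
  refine mem_norm_of H (fun g => MonoidHom.fst K S g ∈ normalizer ((H.map (MonoidHom.fst K S) : Subgroup K) : Set K)) ?_ ?_ g hg
  · intro g hg
    show MonoidHom.fst K S g⁻¹ ∈ _
    rw [map_inv]
    exact inv_mem hg
  · rintro ⟨a, b⟩ hg ⟨k, s⟩ hx
    have h1 : a * k * a⁻¹ ∈ H.map (MonoidHom.fst K S) := (mem_normalizer_iff.mp hg k).mp ⟨(k, s), hx, rfl⟩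
    obtain ⟨⟨k', s'⟩, h2, h3⟩ := h1
    have h4 : k' = a * k * a⁻¹ := h3
    subst h4
    have h5 := H.mul_mem (hk1 _ _ h2) (hs1 _ _ hx)
    have h6 : ((a, b) : K × S) * (k, s) * (a, b)⁻¹ = (a * k * a⁻¹, (1 : S)) * ((1 : K), s) := by
      rw [Prod.inv_mk, Prod.mk_mul_mk, Prod.mk_mul_mk, Prod.mk_mul_mk, mul_one, one_mul, mul_comm b s, mul_inv_cancel_right]
    rw [h6]
    exact h5

open Matrix in
/-- the centre of `SL(2,13)` -/
theorem sl_cond (H : Subgroup (Matrix.SpecialLinearGroup (Fin 2) (ZMod 13))) (g : Matrix.SpecialLinearGroup (Fin 2) (ZMod 13))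
    (hg : (QuotientGroup.mk' (Subgroup.center (Matrix.SpecialLinearGroup (Fin 2) (ZMod 13)))) g ∈
      normalizer ((H.map (QuotientGroup.mk' (Subgroup.center (Matrix.SpecialLinearGroup (Fin 2) (ZMod 13)))) : Subgroup _) :
        Set (Matrix.ProjectiveSpecialLinearGroup (Fin 2) (ZMod 13)))) :
    g ∈ normalizer (H : Set (Matrix.SpecialLinearGroup (Fin 2) (ZMod 13))) := by
  haveI : Fact (Nat.Prime 13) := ⟨by norm_num⟩
  haveI : Fact (Nat.Prime 2) := ⟨by norm_num⟩
  have hcen : ∀ z ∈ Subgroup.center (Matrix.SpecialLinearGroup (Fin 2) (ZMod 13)), z = 1 ∨ z = -1 := by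
    intro z hz
    rw [Matrix.SpecialLinearGroup.mem_center_iff] at hz
    obtain ⟨r, hr, hz⟩ := hz
    rw [Fintype.card_fin] at hr
    have hr2 : r = 1 ∨ r = -1 := mul_self_eq_one_iff.mp (by rw [← pow_two]; exact hr)
    rcases hr2 with rfl | rfl
    · left; apply Subtype.ext; rw [← hz]; simp
    · right; apply Subtype.ext; rw [← hz]
      ext i j
      by_cases hij : i = j
      · subst hij; simp
      · simp [hij]
  have hinv : ∀ x : Matrix.SpecialLinearGroup (Fin 2) (ZMod 13), x * x = 1 → x = 1 ∨ x = -1 := by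
    intro x hx
    have h2 : (2 : ZMod 13) ≠ 0 := by
      intro h
      have h3 := (ZMod.natCast_eq_zero_iff 2 13).mp (by exact_mod_cast h)
      omega
    exact H58.SL2Prod.eq_one_or_neg_one_of_sq h2 hx
  by_cases hm : (-1 : Matrix.SpecialLinearGroup (Fin 2) (ZMod 13)) ∈ H
  · have hle : (QuotientGroup.mk' (Subgroup.center (Matrix.SpecialLinearGroup (Fin 2) (ZMod 13)))).ker ≤ H := by
      rw [QuotientGroup.ker_mk']
      intro z hz
      rcases hcen z hz with rfl | rfl
      · exact H.one_mem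
      · exact hm
    have h1 : ∀ x, (QuotientGroup.mk' (Subgroup.center (Matrix.SpecialLinearGroup (Fin 2) (ZMod 13)))) x ∈
        H.map (QuotientGroup.mk' (Subgroup.center (Matrix.SpecialLinearGroup (Fin 2) (ZMod 13)))) ↔ x ∈ H := by
      intro x
      rw [← Subgroup.mem_comap, Subgroup.comap_map_eq_self hle]
    rw [mem_normalizer_iff]
    intro x
    have h2 := mem_normalizer_iff.mp hg ((QuotientGroup.mk' (Subgroup.center (Matrix.SpecialLinearGroup (Fin 2) (ZMod 13)))) x)
    rw [← map_mul, ← map_inv, ← map_mul] at h2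
    exact (h1 x).symm.trans (h2.trans (h1 _))
  · have hodd : Odd (Nat.card H) := by
      rw [← Nat.not_even_iff_odd]
      intro he
      obtain ⟨t, ht⟩ := exists_prime_orderOf_dvd_card' (G := H) 2 he.two_dvd
      have ht2 : orderOf (t : Matrix.SpecialLinearGroup (Fin 2) (ZMod 13)) = 2 := by rw [Subgroup.orderOf_coe]; exact ht
      rcases hinv (t : Matrix.SpecialLinearGroup (Fin 2) (ZMod 13)) (by
        have h4 := pow_orderOf_eq_one (t : Matrix.SpecialLinearGroup (Fin 2) (ZMod 13))
        rwa [ht2, pow_two] at h4) with h3 | h3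
      · rw [h3, orderOf_one] at ht2; omega
      · exact hm (by rw [← h3]; exact t.2)
    obtain ⟨n, hn⟩ := hodd
    have hpow : ∀ x ∈ H, x ^ (2 * n + 1) = 1 := by
      intro x hx
      rw [← hn]
      exact orderOf_dvd_iff_pow_eq_one.mp (Subgroup.orderOf_dvd_natCard H hx)
    refine mem_norm_of H (fun g => (QuotientGroup.mk' (Subgroup.center (Matrix.SpecialLinearGroup (Fin 2) (ZMod 13)))) g ∈
      normalizer ((H.map (QuotientGroup.mk' (Subgroup.center (Matrix.SpecialLinearGroup (Fin 2) (ZMod 13)))) : Subgroup _) :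
        Set (Matrix.ProjectiveSpecialLinearGroup (Fin 2) (ZMod 13)))) ?_ ?_ g hg
    · intro g hg
      show (QuotientGroup.mk' (Subgroup.center (Matrix.SpecialLinearGroup (Fin 2) (ZMod 13)))) g⁻¹ ∈ _
      rw [map_inv]
      exact inv_mem hg
    · intro g hg x hx
      have h2 := (mem_normalizer_iff.mp hg ((QuotientGroup.mk' (Subgroup.center (Matrix.SpecialLinearGroup (Fin 2) (ZMod 13)))) x)).mp ⟨x, hx, rfl⟩
      rw [← map_mul, ← map_inv, ← map_mul] at h2
      obtain ⟨y, hy, hyx⟩ := h2
      have h3 := QuotientGroup.eq.mp hyx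
      have h4 : g * x * g⁻¹ = y * (y⁻¹ * (g * x * g⁻¹)) := by group
      rcases hcen _ h3 with h5 | h5
      · rw [h5, mul_one] at h4
        rw [h4]; exact hy
      · exfalso
        rw [h5] at h4
        have h6 : (g * x * g⁻¹) ^ (2 * n + 1) = 1 := by
          rw [conj_pow, hpow x hx, mul_one, mul_inv_cancel]
        have h7 : Commute y (-1 : Matrix.SpecialLinearGroup (Fin 2) (ZMod 13)) := by
          show y * (-1) = (-1) * y
          rw [mul_neg, neg_mul, mul_one, one_mul]
        rw [h4, h7.mul_pow, hpow y hy, one_mul, pow_succ, pow_mul, neg_one_sq, one_pow, one_mul] at h6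
        exact hm (by rw [h6]; exact H.one_mem)

/-- Let K be isomorphic to PSL(2, 13) or to SL(2, 13) and let S be a finite abelian group of order coprime to the order of K. Then in the direct product K × S every subgroup that is not normal has a normalizer that is a maximal subgroup. -/
theorem result {K S : Type*} [Group K] [CommGroup S] [Finite K] [Finite S]
    (hK : Nonempty (K ≃* Matrix.ProjectiveSpecialLinearGroup (Fin 2) (ZMod 13)) ∨
      Nonempty (K ≃* Matrix.SpecialLinearGroup (Fin 2) (ZMod 13)))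
    (hKS : (Nat.card K).Coprime (Nat.card S)) (H : Subgroup (K × S)) (hH : ¬ H.Normal) :
    IsCoatom (Subgroup.normalizer (H : Set (K × S))) := by
  have key : ∀ P : Subgroup K, ¬ P.Normal → IsCoatom (normalizer (P : Set K)) := by
    rcases hK with ⟨⟨e⟩⟩ | ⟨⟨e⟩⟩
    · apply lift e.toMonoidHom e.surjective ?_ H98.PSL13.psl13
      intro P g hg
      rw [mem_normalizer_iff]
      intro x
      have h2 := mem_normalizer_iff.mp hg (e x)
      have h1 : ∀ x, e x ∈ P.map e.toMonoidHom ↔ x ∈ P := fun x => Subgroup.mem_map_equiv.trans (by rw [e.symm_apply_apply])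
      have h3 : e.toMonoidHom g * e x * (e.toMonoidHom g)⁻¹ = e (g * x * g⁻¹) := by
        rw [map_mul, map_mul, map_inv]; rfl
      rw [h3] at h2
      exact (h1 x).symm.trans (h2.trans (h1 _))
    · have key2 : ∀ P : Subgroup (Matrix.SpecialLinearGroup (Fin 2) (ZMod 13)), ¬ P.Normal →
          IsCoatom (normalizer (P : Set (Matrix.SpecialLinearGroup (Fin 2) (ZMod 13)))) :=
        lift _ (QuotientGroup.mk'_surjective (Subgroup.center (Matrix.SpecialLinearGroup (Fin 2) (ZMod 13)))) sl_cond H98.PSL13.psl13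
      apply lift e.toMonoidHom e.surjective ?_ key2
      intro P g hg
      rw [mem_normalizer_iff]
      intro x
      have h2 := mem_normalizer_iff.mp hg (e x)
      have h1 : ∀ x, e x ∈ P.map e.toMonoidHom ↔ x ∈ P := fun x => Subgroup.mem_map_equiv.trans (by rw [e.symm_apply_apply])
      have h3 : e.toMonoidHom g * e x * (e.toMonoidHom g)⁻¹ = e (g * x * g⁻¹) := by
        rw [map_mul, map_mul, map_inv]; rfl
      rw [h3] at h2
      exact (h1 x).symm.trans (h2.trans (h1 _))
  exact lift (MonoidHom.fst K S) Prod.fst_surjective (prod_cond hKS) key H hH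

end Cfsg.Agent.S4234
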