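import Cfsg.Statements.S4240
import Cfsg.Agent.Lib.H55.ActSemi
import Cfsg.Agent.Lib.H55.CopInv

set_option autoImplicit false
open Cfsg

namespace Cfsg.Agent.S4240

/-- Let a finite group A act by automorphisms on a finite group G of order coprime to that of A. Suppose every maximal A-invariant proper subgroup of G is nilpotent while G is not. Then G is solvable, the order of G has the form p^a·q^b for two distinct primes p and q, and G has a normal A-invariant Sylow subgroup for some prime dividing its order. -/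
theorem result {A G : Type*} [Group A] [Group G] [Finite A] [Finite G] [MulDistribMulAction A G]
    (hcop : (Nat.card A).Coprime (Nat.card G))
    (hmax : ∀ H : Subgroup G, H ≠ ⊤ → (∀ a : A, ∀ x ∈ H, a • x ∈ H) →
      (∀ K : Subgroup G, H < K → (∀ a : A, ∀ x ∈ K, a • x ∈ K) → K = ⊤) → Group.IsNilpotent H)
    (hG : ¬ Group.IsNilpotent G) :
    Group.IsSolvable G ∧
      (∃ p q a b : ℕ, p.Prime ∧ q.Prime ∧ p ≠ q ∧ Nat.card G = p ^ a * q ^ b) ∧
      ∃ (p : ℕ) (P : Sylow p G), p.Prime ∧ p ∣ Nat.card G ∧ (P : Subgroup G).Normal ∧ (∀ a : A, ∀ x ∈ (P : Subgroup G), a • x ∈ (P : Subgroup G)) := by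
  classical
  have hnilX : ∀ X : Subgroup G, X ≠ ⊤ → (∀ a : A, ∀ x ∈ X, a • x ∈ X) → Group.IsNilpotent X := by
    intro X hX hXA
    obtain ⟨M, ⟨hXM, hM1, hM2⟩, hMmax⟩ := (Set.toFinite {M : Subgroup G | X ≤ M ∧ M ≠ ⊤ ∧
      ∀ a : A, ∀ x ∈ M, a • x ∈ M}).exists_maximal ⟨X, le_rfl, hX, hXA⟩
    have hMn : Group.IsNilpotent M := by
      refine hmax M hM1 hM2 ?_
      intro K hMK hKA
      by_contra hK
      exact hMK.not_ge (hMmax ⟨hXM.trans hMK.le, hK, hKA⟩ hMK.le)
    have h1 : Group.IsNilpotent (X.subgroupOf M) := inferInstance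
    exact Group.nilpotent_of_mulEquiv (Subgroup.subgroupOfEquivOfLe hXM)
  obtain ⟨hs, r, q, a, b, hr, hq, hrq, hcard, R, hRn, hR1, hRS⟩ :=
    H55.CopInv.struct (H55.ActSemi.kk A G) (H55.ActSemi.aa A G) (H55.ActSemi.sup_eq_top A G)
      (by rw [H55.ActSemi.card_aa, H55.ActSemi.card_kk]; exact hcop)
      (by
        intro X hXK hXne hXA
        rw [← H55.ActSemi.map_comap_eq hXK] at hXA ⊢
        rw [H55.ActSemi.le_normalizer_iff] at hXA
        have h1 := hnilX (X.comap SemidirectProduct.inl) (by
          intro h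
          apply hXne
          rw [← H55.ActSemi.map_comap_eq hXK, h, H55.ActSemi.map_top]) hXA
        exact Group.nilpotent_of_mulEquiv ((X.comap SemidirectProduct.inl).equivMapOfInjective _
          SemidirectProduct.inl_injective))
      (by
        intro h
        exact hG (Group.nilpotent_of_mulEquiv (H55.ActSemi.equivK A G).symm))
  rw [H55.ActSemi.card_kk] at hcard
  refine ⟨?_, ⟨r, q, a, b, hr, hq, hrq, hcard⟩, ?_⟩
  · exact Group.isSolvable_of_isSolvable_injective (f := (H55.ActSemi.equivK A G).toMonoidHom)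
      (H55.ActSemi.equivK A G).injective
  · have := Fact.mk hr
    have hRm := H55.ActSemi.map_comap_eq hRS.1
    set R0 := R.comap (SemidirectProduct.inl : G →* H55.ActSemi.SD A G) with hR0
    have hRc : Nat.card R0 = Nat.card R := by
      rw [← hRm, Subgroup.card_map_of_injective SemidirectProduct.inl_injective]
    have hRc2 : Nat.card R0 = r ^ (Nat.card G).factorization r := by
      rw [hRc, hRS.2, H55.ActSemi.card_kk]
    rw [← hRm, H55.ActSemi.normal_iff] at hRn
    refine ⟨r, Sylow.ofCard R0 hRc2, hr, ?_, ?_, ?_⟩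
    · have h1 : Nat.card R0 ≠ 1 := by
        rw [hRc]
        exact fun h => hR1 (Subgroup.card_eq_one.mp h)
      have h2 : (Nat.card G).factorization r ≠ 0 := by
        intro h
        rw [h, pow_zero] at hRc2
        exact h1 hRc2
      exact Nat.dvd_of_factorization_pos h2
    · exact hRn.1
    · exact hRn.2

end Cfsg.Agent.S4240
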