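import Cfsg.Statements.S4273
import Cfsg.Agent.Lib.H59.J1h
import Cfsg.Agent.Lib.H28.GW8Final
import Cfsg.Agent.S1644
-- import your own Cfsg.Agent.* helpers here

set_option autoImplicit false
open Cfsg

namespace Cfsg.Agent.S4273

open H59.J1 H54.E8 in
theorem iso_j1 {G : Type*} [Group G] [Finite G] [IsSimpleGroup G] (h : Nat.card G = 175560) : Cfsg.Spor.IsoJ1 G := by
  have f2 : Fact (Nat.Prime 2) := ⟨Nat.prime_two⟩
  obtain ⟨S⟩ : Nonempty (Sylow 2 G) := inferInstance
  rcases syl h S with F | hD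
  · by_cases h7 : (ZZ S).relIndex (NN S) = 7
    · exact (case7 h F h7).elim
    have h8 : Nat.card (S : Subgroup G) = 8 := F.h8
    obtain ⟨t, ht, ht1⟩ : ∃ t ∈ (S : Subgroup G), t ≠ 1 := by
      by_contra hcon
      push Not at hcon
      have : (S : Subgroup G) = ⊥ := by
        rw [Subgroup.eq_bot_iff_forall]; exact hcon
      rw [this, Subgroup.card_bot] at h8
      omega
    obtain ⟨e⟩ := case21 h F h7 ht ht1
    exact Cfsg.Agent.S1644.result S ⟨⟨fun a b => Subtype.ext (F.comm a a.2 b b.2)⟩⟩ h8 t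
      (orderOf_eq_prime (by rw [pow_two]; exact F.h2 t ht) ht1) e
  · exact (noKnown h (H28.GW8.gw G inferInstance hD)).elim


/-- Uniqueness of the simple group of order 175560: any two finite simple groups of order 175560 are isomorphic. -/
theorem result {G : Type*} {H : Type*} [Group G] [Finite G] [IsSimpleGroup G] [Group H] [Finite H] [IsSimpleGroup H] (hG : Nat.card G = 175560) (hH : Nat.card H = 175560) : Nonempty (G ≃* H) := by
  obtain ⟨e⟩ := iso_j1 hG
  obtain ⟨f⟩ := iso_j1 hH
  exact ⟨e.trans f.symm⟩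

end Cfsg.Agent.S4273
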