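import Cfsg.Statements.S4347
import Cfsg.Agent.Lib.H75.Basic

set_option autoImplicit false
open Cfsg

namespace Cfsg.Agent.S4347

theorem result {G : Type*} [Group G] [Finite G]
    (p : ℕ) [Fact p.Prime] :
    (¬ ∃ Q : Sylow p G, ∀ x : G, (∃ k : ℕ, orderOf x = p ^ k) → ∃ P : Sylow p G, P ≠ Q ∧ x ∈ P) ↔
      ∃ x : G, (∃ k : ℕ, orderOf x = p ^ k) ∧ ∃! P : Sylow p G, x ∈ P := by
  constructor
  · intro h
    push Not at h
    obtain ⟨Q⟩ : Nonempty (Sylow p G) := inferInstance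
    obtain ⟨x, hx, hxP⟩ := h Q
    have hpx : IsPGroup p (Subgroup.zpowers x) := by
      obtain ⟨k, hk⟩ := hx
      exact IsPGroup.of_card (n := k) (by rw [Nat.card_zpowers, hk])
    obtain ⟨R, hR⟩ := hpx.exists_le_sylow
    have hxR : x ∈ R := hR (Subgroup.mem_zpowers x)
    have hRQ : R = Q := by
      by_contra hne
      exact hxP R hne hxR
    refine ⟨x, hx, Q, hRQ ▸ hxR, ?_⟩
    intro P hP
    by_contra hne
    exact hxP P hne hP
  · rintro ⟨x, hx, P, hxP, huniq⟩ ⟨Q, hQ⟩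
    obtain ⟨g, hg⟩ := MulAction.exists_smul_eq G P Q
    obtain ⟨R, hRne, hxR⟩ := hQ (g * x * g⁻¹) (by
      obtain ⟨k, hk⟩ := hx
      refine ⟨k, ?_⟩
      rw [← hk]
      exact orderOf_injective (MulAut.conj g).toMonoidHom (MulAut.conj g).injective x)
    apply hRne
    have h1 : x ∈ (g⁻¹ • R : Sylow p G) := by
      show x ∈ ((g⁻¹ • R : Sylow p G) : Subgroup G)
      rw [Sylow.coe_subgroup_smul]
      have := (H75.Basic.mem_conj_smul' (R : Subgroup G) g⁻¹ x).2 (by rw [inv_inv]; exact hxR)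
      exact this
    have h2 := huniq _ h1
    rw [← hg, ← h2, smul_inv_smul]

end Cfsg.Agent.S4347
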