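import Cfsg.Statements.S4348
import Cfsg.Agent.Lib.H75.Basic

set_option autoImplicit false
open Cfsg

namespace Cfsg.Agent.S4348

theorem result {G : Type*} [Group G] [Finite G]
    (p : ℕ) [Fact p.Prime] (P : Sylow p G)
    [hn : ((Cfsg.pCore p G).subgroupOf (P : Subgroup G)).Normal]
    (hc : IsCyclic ((P : Subgroup G) ⧸ (Cfsg.pCore p G).subgroupOf (P : Subgroup G))) :
    ∃ x : G, (∃ k : ℕ, orderOf x = p ^ k) ∧ ∃! Q : Sylow p G, x ∈ Q := by
  have hcore : ∀ Q : Sylow p G, Cfsg.pCore p G ≤ Q := by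
    intro Q
    apply sSup_le
    rintro N ⟨hN, hNp⟩
    exact hNp.le_sylow_of_normal Q
  obtain ⟨q, hq⟩ := hc.exists_generator
  obtain ⟨x, rfl⟩ := QuotientGroup.mk_surjective q
  refine ⟨(x : G), ?_, P, x.2, ?_⟩
  · obtain ⟨k, hk⟩ := (IsPGroup.iff_orderOf.1 P.isPGroup') x
    exact ⟨k, by rw [Subgroup.orderOf_coe]; exact hk⟩
  · intro Q hQ
    have hPQ : (P : Subgroup G) ≤ Q := by
      intro y hy
      obtain ⟨k, hk⟩ := hq (QuotientGroup.mk ⟨y, hy⟩)
      have hk' : (QuotientGroup.mk (x ^ k) : (P : Subgroup G) ⧸ (Cfsg.pCore p G).subgroupOf (P : Subgroup G)) =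
        QuotientGroup.mk ⟨y, hy⟩ := hk
      have h1 := QuotientGroup.eq.1 hk'
      rw [Subgroup.mem_subgroupOf] at h1
      have h2 := hcore Q h1
      have h3 : ((x ^ k : (P : Subgroup G)) : G) ∈ (Q : Subgroup G) := by
        push_cast
        exact Subgroup.zpow_mem _ hQ k
      have h4 := Subgroup.mul_mem _ h3 h2
      simpa using h4
    exact Sylow.ext (P.3 Q.2 hPQ)

end Cfsg.Agent.S4348
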