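import Cfsg.Statements.S4419
import Mathlib
import Cfsg.Agent.Lib.H76.TwoGen
import Cfsg.Agent.Lib.H2.NPC
import Cfsg.Agent.Lib.H1.Cores

set_option autoImplicit false
open Cfsg

namespace Cfsg.Agent.S4419

open Subgroup

/-- Let p be a prime and G a finite group whose Sylow p-subgroups are metacyclic (a cyclic normal subgroup with cyclic quotient). Then G has a normal p-complement if and only if the order of G/O_{p′,p}(G) is coprime to p² − 1. -/
theorem result {G : Type*} [Group G] [Finite G] (p : ℕ) [Fact p.Prime] (S : Sylow p G) (hS : Cfsg.IsMetacyclic ↥(S : Subgroup G)) : Cfsg.HasNormalPComplement p G ↔ Nat.Coprime (Nat.card (G ⧸ Cfsg.pPrimePCore p G)) (p ^ 2 - 1) := by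
  have hp : p.Prime := Fact.out
  set N := pPrimeCore p G with hN
  have hNcop : (Nat.card N).Coprime p := H1.Cores.coprime_card_pPrimeCore p
  have hNnd : ¬ p ∣ Nat.card N := (Nat.Prime.coprime_iff_not_dvd hp).mp hNcop.symm
  constructor
  · rintro ⟨P, M, hM, hMP⟩
    have hMle : M ≤ N := by
      apply H1.Cores.le_pPrimeCore hM
      rw [← hMP.index_eq_card]
      exact ((Nat.Prime.coprime_iff_not_dvd hp).mpr P.not_dvd_index).symm
    have hQp : IsPGroup p (G ⧸ N) := by
      obtain ⟨k, hk⟩ := IsPGroup.iff_card.mp P.2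
      have h1 : N.index ∣ p ^ k := by
        rw [← hk, ← hMP.symm.index_eq_card]
        exact index_dvd_of_le hMle
      obtain ⟨j, _, hj⟩ := (Nat.dvd_prime_pow hp).mp h1
      exact IsPGroup.of_card (n := j) (by rw [← index_eq_card, hj])
    have htop : pPrimePCore p G = ⊤ := by
      have h1 : pCore p (G ⧸ N) = ⊤ := by
        rw [eq_top_iff]
        exact H1.Cores.le_pCore inferInstance (hQp.to_subgroup ⊤)
      rw [pPrimePCore]
      show (pCore p (G ⧸ N)).comap _ = ⊤
      rw [h1, comap_top]
    rw [← index_eq_card, htop, index_top]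
    exact Nat.coprime_one_left _
  · intro hcop
    apply H2.NPC.of_quotient N hNnd
    -- order of the quotient
    have hcard : (Nat.card (G ⧸ N)).Coprime (p ^ 2 - 1) := by
      have h1 : Nat.card (G ⧸ pPrimePCore p G) = (pCore p (G ⧸ N)).index := by
        rw [← index_eq_card, pPrimePCore]
        exact index_comap_of_surjective _ (QuotientGroup.mk'_surjective _)
      rw [h1] at hcop
      rw [← (pCore p (G ⧸ N)).card_mul_index]
      apply Nat.Coprime.mul_left _ hcop
      obtain ⟨j, hj⟩ := IsPGroup.iff_card.mp (H1.Cores.isPGroup_pCore (G := G ⧸ N) p)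
      rw [hj]
      apply Nat.Coprime.pow_left
      rw [Nat.Prime.coprime_iff_not_dvd hp]
      intro hd
      have h2 : p ∣ p ^ 2 := dvd_pow_self p (by norm_num)
      have h3 : p ∣ 1 := by
        have : 1 = p ^ 2 - (p ^ 2 - 1) := by
          have := Nat.one_le_pow 2 p hp.pos
          omega
        rw [this]
        exact Nat.dvd_sub h2 hd
      exact hp.one_lt.ne' (Nat.dvd_one.mp h3)
    apply H76.TwoGen.hasNPC _ hcard
    intro D hD
    obtain ⟨Q, hQ⟩ := hD.exists_le_sylow
    set S' : Sylow p (G ⧸ N) := S.mapSurjective (QuotientGroup.mk'_surjective N) with hS'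
    have hS'm : IsMetacyclic (S' : Subgroup (G ⧸ N)) := by
      have e : (S' : Subgroup (G ⧸ N)) = (S : Subgroup G).map (QuotientGroup.mk' N) := rfl
      rw [e]
      exact H76.TwoGen.metacyclic_of_surjective ((QuotientGroup.mk' N).subgroupMap (S : Subgroup G))
        ((QuotientGroup.mk' N).subgroupMap_surjective (S : Subgroup G)) hS
    have hQm : IsMetacyclic (Q : Subgroup (G ⧸ N)) :=
      H76.TwoGen.metacyclic_of_surjective (Sylow.equiv S' Q).toMonoidHom (Sylow.equiv S' Q).surjective hS'm
    have hDm : IsMetacyclic D := H76.TwoGen.metacyclic_of_injective (inclusion hQ) (inclusion_injective hQ) hQm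
    obtain ⟨a, b, hab⟩ := H76.TwoGen.metacyclic_closure hDm
    exact H76.TwoGen.index_frattini_dvd hD hab

end Cfsg.Agent.S4419
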