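import Cfsg.Statements.S4501
import Cfsg.Agent.Lib.H59.FourPQ4
import Cfsg.Agent.S0904
import Cfsg.Agent.S3331
-- import your own Cfsg.Agent.* helpers here

set_option autoImplicit false
open Cfsg

namespace Cfsg.Agent.S4501

universe u

theorem not_solvable {G : Type u} [Group G] [IsSimpleGroup G] (hna : ∃ x y : G, x * y ≠ y * x)
    (h : Group.IsSolvable G) : False := by
  obtain ⟨x, y, hxy⟩ := hna
  exact hxy (IsSimpleGroup.comm_iff_isSolvable.2 h x y)

theorem three_dvd_card {G : Type u} [Group G] [Finite G] [IsSimpleGroup G]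
    (hna : ∃ x y : G, x * y ≠ y * x) {g₀ : ℕ}
    (hg₀ : Odd g₀) (hG : Nat.card G = 4 * g₀) : 3 ∣ Nat.card G := by
  classical
  have : Fact (Nat.Prime 2) := ⟨Nat.prime_two⟩
  have hg₀1 : 1 ≤ g₀ := hg₀.pos
  have hnc : ¬ ∃ N : Subgroup G, N.Normal ∧ Nat.card N = g₀ := by
    rintro ⟨N, hN, hc⟩
    rcases hN.eq_bot_or_eq_top with h | h
    · rw [h, Subgroup.card_bot] at hc
      have h4 : Nat.card G = 4 := by rw [hG, ← hc]
      have hp : IsPGroup 2 G := IsPGroup.of_card (n := 2) (by rw [h4]; norm_num)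
      have hnil : Group.IsNilpotent G := hp.isNilpotent
      exact not_solvable hna inferInstance
    · rw [h, Subgroup.card_top, hG] at hc
      omega
  obtain ⟨P⟩ : Nonempty (Sylow 2 G) := inferInstance
  have hPcard : Nat.card (P : Subgroup G) = 4 := by
    rw [P.card_eq_multiplicity, hG, show (4 : ℕ) = 2 ^ 2 by norm_num,
      Nat.factorization_mul (by norm_num) (by omega), Finsupp.add_apply,
      Nat.factorization_eq_zero_of_not_dvd (n := g₀) (by
        rw [← even_iff_two_dvd, Nat.not_even_iff_odd]; exact hg₀),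
      Nat.Prime.factorization_pow Nat.prime_two, Finsupp.single_eq_same, add_zero]
  obtain ⟨J', hJ'⟩ := exists_prime_orderOf_dvd_card' (G := (P : Subgroup G)) 2 (by rw [hPcard]; norm_num)
  obtain ⟨J, hJP⟩ := J'
  have hJ2 : orderOf J = 2 := by rwa [Subgroup.orderOf_mk] at hJ'
  obtain ⟨hk, hone, v, hyp⟩ := H20.OrdForm.setup hg₀ hG hnc P hJP hJ2
  exact H59.FourPQ.three_dvd hG hnc hyp hk

theorem part_four {G : Type u} [Group G] [Finite G] [IsSimpleGroup G]
    (hna : ∃ x y : G, x * y ≠ y * x) (p q a b : ℕ) (hp : p.Prime) (hq : q.Prime) (hpq : p ≠ q)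
    (ha : a ≤ 2) (hG : Nat.card G = 4 * p ^ a * q ^ b) : Nonempty (G ≃* alternatingGroup (Fin 5)) := by
  by_cases hp2 : p = 2
  · exfalso
    apply not_solvable hna
    exact H4.Burnside.isSolvable_of_card_eq 2 q Nat.prime_two hq _ G hG
      ⟨a + 2, b, by rw [hp2]; ring⟩
  by_cases hq2 : q = 2
  · exfalso
    apply not_solvable hna
    exact H4.Burnside.isSolvable_of_card_eq p 2 hp Nat.prime_two _ G hG
      ⟨a, b + 2, by rw [hq2]; ring⟩
  have hodd : Odd (p ^ a * q ^ b) := (hp.odd_of_ne_two hp2).pow.mul (hq.odd_of_ne_two hq2).pow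
  have h3 := three_dvd_card hna hodd (by rw [hG]; ring)
  have h3' : p = 3 ∨ q = 3 := by
    rw [hG, mul_assoc] at h3
    rcases (Nat.prime_three.dvd_mul).1 h3 with h | h
    · norm_num at h
    · rcases (Nat.prime_three.dvd_mul).1 h with h | h
      · left
        exact ((Nat.prime_dvd_prime_iff_eq Nat.prime_three hp).1 (Nat.prime_three.dvd_of_dvd_pow h)).symm
      · right
        exact ((Nat.prime_dvd_prime_iff_eq Nat.prime_three hq).1 (Nat.prime_three.dvd_of_dvd_pow h)).symm
  rcases h3' with h | h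
  · subst h
    exact H59.FourPQ.main hna (i := a) (j := b) hq hq2 (Ne.symm hpq) (Or.inl ha) (by rw [hG]; ring)
  · subst h
    exact H59.FourPQ.main hna (i := b) (j := a) hp hp2 hpq (Or.inr ha) (by rw [hG]; ring)

theorem part_three {G : Type u} [Group G] [Finite G] [IsSimpleGroup G]
    (hna : ∃ x y : G, x * y ≠ y * x) (p q a b : ℕ) (hp : p.Prime) (hq : q.Prime) (hpq : p ≠ q)
    (hG : Nat.card G = 3 * p ^ a * q ^ b) : Nonempty (G ≃* alternatingGroup (Fin 5)) ∨
      Nonempty (G ≃* Matrix.ProjectiveSpecialLinearGroup (Fin 2) (ZMod 7)) := by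
  have hfact : Fact (Nat.Prime 3) := ⟨Nat.prime_three⟩
  by_cases hp2 : p = 3
  · exfalso
    apply not_solvable hna
    exact H4.Burnside.isSolvable_of_card_eq 3 q Nat.prime_three hq _ G hG
      ⟨a + 1, b, by rw [hp2]; ring⟩
  by_cases hq2 : q = 3
  · exfalso
    apply not_solvable hna
    exact H4.Burnside.isSolvable_of_card_eq p 3 hp Nat.prime_three _ G hG
      ⟨a, b + 1, by rw [hq2]; ring⟩
  obtain ⟨P⟩ : Nonempty (Sylow 3 G) := inferInstance
  have hC := Cfsg.Agent.S0904.result p q 3 a b hp hq hpq hp2 hq2 (by rw [hG]; ring) P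
  have hPcard : Nat.card (P : Subgroup G) = 3 := by
    have hnp : ¬ 3 ∣ p ^ a * q ^ b := by
      intro h
      rcases (Nat.prime_three.dvd_mul).1 h with h | h
      · exact hp2 ((Nat.prime_dvd_prime_iff_eq Nat.prime_three hp).1 (Nat.prime_three.dvd_of_dvd_pow h)).symm
      · exact hq2 ((Nat.prime_dvd_prime_iff_eq Nat.prime_three hq).1 (Nat.prime_three.dvd_of_dvd_pow h)).symm
    have hpos : p ^ a * q ^ b ≠ 0 := by
      intro h; rw [h] at hnp; exact hnp (dvd_zero 3)
    have h1 : Nat.card G = 3 ^ 1 * (p ^ a * q ^ b) := by rw [hG]; ring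
    rw [P.card_eq_multiplicity, h1,
      Nat.factorization_mul (by norm_num) hpos, Finsupp.add_apply,
      Nat.factorization_eq_zero_of_not_dvd (n := p ^ a * q ^ b) hnp,
      Nat.Prime.factorization_pow Nat.prime_three, Finsupp.single_eq_same, add_zero]
    norm_num
  rcases Cfsg.Agent.S3331.result (P : Subgroup G) hPcard hC with
    ⟨N, hN, hnil, hcop, hquot⟩ | ⟨N, hN, hab, -, ⟨e⟩⟩ | h
  · exfalso
    apply not_solvable hna
    have hsolN : Group.IsSolvable N := inferInstance
    have hsolQ : Group.IsSolvable (G ⧸ N) := by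
      rcases hquot with h | ⟨⟨e⟩⟩
      · have hpg : IsPGroup 3 (G ⧸ N) := IsPGroup.of_card (n := 1) (by rw [h]; norm_num)
        have : Group.IsNilpotent (G ⧸ N) := hpg.isNilpotent
        infer_instance
      · have h6 : Nat.card (G ⧸ N) = 6 := by
          rw [Nat.card_congr e.toEquiv, Nat.card_perm, Nat.card_eq_fintype_card, Fintype.card_fin]; rfl
        exact H4.Burnside.isSolvable_of_card_eq 2 3 Nat.prime_two Nat.prime_three _ (G ⧸ N) h6
          ⟨1, 1, by norm_num⟩
    exact Group.isSolvable_of_ker_le_range N.subtype (QuotientGroup.mk' N) (by simp)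
  · left
    rcases hN.eq_bot_or_eq_top with h | h
    · subst h
      exact ⟨(QuotientGroup.quotientBot.symm.trans e)⟩
    · exfalso
      subst h
      have h1 : Nat.card (G ⧸ (⊤ : Subgroup G)) = 1 := by
        rw [← Subgroup.index_eq_card, Subgroup.index_top]
      have h2 : Nat.card (alternatingGroup (Fin 5)) = 60 := by
        have h3 := nat_card_alternatingGroup (α := Fin 5)
        rw [h3, Nat.card_eq_fintype_card, Fintype.card_fin]
        decide
      rw [Nat.card_congr e.toEquiv, h2] at h1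
      omega
  · right; exact h


/-- Let G be a non-abelian finite simple group and p, q distinct primes. If the order of G is 4·p^a·q^b with a ≤ 2, then G is isomorphic to the alternating group of degree 5. If the order of G is 3·p^a·q^b with a ≤ 2, then G is isomorphic to the alternating group of degree 5 or to PSL(2,7). -/
theorem result {G : Type*} [Group G] [Finite G] [IsSimpleGroup G] (hna : ∃ x y : G, x * y ≠ y * x) (p q a b : ℕ) (hp : p.Prime) (hq : q.Prime) (hpq : p ≠ q) (ha : a ≤ 2) : (Nat.card G = 4 * p ^ a * q ^ b → Nonempty (G ≃* alternatingGroup (Fin 5))) ∧ (Nat.card G = 3 * p ^ a * q ^ b → Nonempty (G ≃* alternatingGroup (Fin 5)) ∨ Nonempty (G ≃* Matrix.ProjectiveSpecialLinearGroup (Fin 2) (ZMod 7))) := by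
  exact ⟨fun h => part_four hna p q a b hp hq hpq ha h, fun h => part_three hna p q a b hp hq hpq h⟩

end Cfsg.Agent.S4501
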