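import Cfsg.Statements.S4573
import Cfsg.Agent.Lib.H79.Dade

set_option autoImplicit false
universe u
open Cfsg

namespace Cfsg.Agent.S4573

open H18.CharBasic H18.CharOrtho H18.CharInd

/-- the Kaloujnine-Krasner embedding -/
noncomputable def kk {G : Type u} [Group G] (N : Subgroup G) [N.Normal] {A : Type u} [Group A] (f : N →* A) :
    G →* RegularWreathProduct A (G ⧸ N) where
  toFun g := ⟨fun x => f ⟨x.out⁻¹ * g * ((g : G ⧸ N)⁻¹ * x).out, by
    rw [← QuotientGroup.eq_one_iff, QuotientGroup.mk_mul, QuotientGroup.mk_mul,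
      QuotientGroup.mk_inv, QuotientGroup.out_eq', QuotientGroup.out_eq']
    group⟩, g⟩
  map_one' := by
    apply RegularWreathProduct.ext
    · funext x
      show f _ = 1
      rw [← map_one f]
      congr 1
      apply Subtype.ext
      simp
    · rfl
  map_mul' a b := by
    apply RegularWreathProduct.ext
    · funext x
      show f _ = f _ * f _
      rw [← map_mul]
      congr 1
      apply Subtype.ext
      show x.out⁻¹ * (a * b) * (((a * b : G) : G ⧸ N)⁻¹ * x).out =
        (x.out⁻¹ * a * ((a : G ⧸ N)⁻¹ * x).out) *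
          (((a : G ⧸ N)⁻¹ * x).out⁻¹ * b * ((b : G ⧸ N)⁻¹ * ((a : G ⧸ N)⁻¹ * x)).out)
      have : (((a * b : G) : G ⧸ N)⁻¹ * x) = (b : G ⧸ N)⁻¹ * ((a : G ⧸ N)⁻¹ * x) := by
        rw [QuotientGroup.mk_mul]; group
      rw [this]
      group
    · rfl

theorem kk_injective {G : Type u} [Group G] (N : Subgroup G) [N.Normal] {A : Type u} [Group A]
    {f : N →* A} (hf : Function.Injective f) : Function.Injective (kk N f) := by
  rw [injective_iff_map_eq_one]
  intro g hg
  have h1 : (g : G ⧸ N) = 1 := congrArg RegularWreathProduct.right hg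
  have h2 := congrFun (congrArg RegularWreathProduct.left hg) 1
  have h3 : f ⟨(1 : G ⧸ N).out⁻¹ * g * ((g : G ⧸ N)⁻¹ * 1).out, by
    rw [← QuotientGroup.eq_one_iff, QuotientGroup.mk_mul, QuotientGroup.mk_mul,
      QuotientGroup.mk_inv, QuotientGroup.out_eq', QuotientGroup.out_eq']
    group⟩ = 1 := h2
  rw [← map_one f] at h3
  have h4 := congrArg Subtype.val (hf h3)
  simp only [h1, inv_one, one_mul] at h4
  have h5 : (1 : G ⧸ N).out⁻¹ * g * (1 : G ⧸ N).out = 1 := h4
  have h6 : g = (1 : G ⧸ N).out * 1 * (1 : G ⧸ N).out⁻¹ := by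
    rw [← h5]; group
  rw [h6]; group

theorem main (n : ℕ) : ∀ {G : Type u} [Group G] [Finite G], Group.IsSolvable G → Nat.card G = n →
    ∃ (M : Type u) (_ : Group M) (_ : Fintype M), (∀ χ : M → ℂ, Cfsg.IsIrrCharacter M χ →
      H4.Monomial.IsMon χ) ∧ ∃ f : G →* M, Function.Injective f := by
  induction n using Nat.strong_induction_on with
  | _ n ih =>
  intro G _ _ hs hn
  by_cases hG : Nontrivial G
  · obtain ⟨N, hN, hidx⟩ := H12.NilpHall.exists_normal_prime_index hs
    haveI : Group.IsSolvable G := hs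
    have hlt : Nat.card N < n := by
      rw [← hn, ← N.card_mul_index]
      have h1 : 0 < Nat.card N := Nat.card_pos
      have h2 := hidx.two_le
      nlinarith
    obtain ⟨M₁, i1, i2, hM₁, f₁, hf₁⟩ := ih _ hlt (G := N) inferInstance rfl
    refine ⟨RegularWreathProduct M₁ (G ⧸ N), inferInstance, Fintype.ofFinite _, ?_,
      kk N f₁, kk_injective N hf₁⟩
    letI : Fintype (RegularWreathProduct M₁ (G ⧸ N)) := Fintype.ofFinite _
    exact H79.Dade.wreath_isM (A := M₁) (Q := G ⧸ N) hidx hM₁
  · rw [not_nontrivial_iff_subsingleton] at hG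
    refine ⟨G, inferInstance, Fintype.ofFinite _, ?_, MonoidHom.id G, fun a b h => h⟩
    letI : Fintype G := Fintype.ofFinite _
    intro χ hχ
    exact H4.Monomial.isMon_linear hχ (H18.CharQuot.degree_one_of_comm
      (fun a b => Subsingleton.elim _ _) hχ)

/-- Every finite solvable group is isomorphic to a subgroup of a finite M-group, a group each of whose irreducible characters is induced from a homomorphism of some subgroup into ℂˣ. -/
theorem result {G : Type u} [Group G] [Finite G] (hsolv : Group.IsSolvable G) : ∃ (M : Type u) (_ : Group M) (_ : Fintype M), (∀ χ : M → ℂ, Cfsg.IsIrrCharacter M χ → (∃ (H : Subgroup M) (lam : ↥H →* ℂˣ), χ = Cfsg.indFun H (fun h => (lam h : ℂ)))) ∧ ∃ f : G →* M, Function.Injective f := by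
  exact main (Nat.card G) hsolv rfl

end Cfsg.Agent.S4573
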