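import Cfsg.Statements.S4776
import Cfsg.Agent.Lib.H82.Rel4

set_option autoImplicit false
open Cfsg

namespace Cfsg.Agent.S4776

open H82.Rel

/-- Let N be a normal subgroup of the finite group G that is not perfect and is contained in the derived subgroup of G. Consider the common-divisor graph on the relative degree set cd(G|N) (the degrees of the irreducible complex characters of G whose kernel does not contain N; two distinct degrees adjacent when they have a common divisor greater than one). Then this graph has at most two connected components; and if a, b ∈ cd(G|N) lie in different components, then one of a, b is coprime to the index m of the derived subgroup of N in N while the other is divisible by every prime divisor of m. -/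
theorem result {G : Type*} [Group G] [Finite G] (N : Subgroup G) [N.Normal] (hN : ⁅N, N⁆ < N) (hNG : N ≤ commutator G) : Nat.card (Cfsg.commonDivisorGraph.induce (Cfsg.relCharDegrees N)).ConnectedComponent ≤ 2 ∧ ∀ (a b : ℕ) (ha : a ∈ Cfsg.relCharDegrees N) (hb : b ∈ Cfsg.relCharDegrees N), ¬ (Cfsg.commonDivisorGraph.induce (Cfsg.relCharDegrees N)).Reachable ⟨a, ha⟩ ⟨b, hb⟩ → (Nat.Coprime a (⁅N, N⁆.relIndex N) ∧ ∀ r : ℕ, r.Prime → r ∣ ⁅N, N⁆.relIndex N → r ∣ b) ∨ (Nat.Coprime b (⁅N, N⁆.relIndex N) ∧ ∀ r : ℕ, r.Prime → r ∣ ⁅N, N⁆.relIndex N → r ∣ a) := by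
  have hm := card_lin_ne_one hN
  refine ⟨?_, ?_⟩
  · apply card_components_le
    rintro ⟨a, ha⟩ ⟨b, hb⟩ ⟨c, hc⟩
    rcases three hNG hm ha hb hc with h | h | h
    · exact Or.inl h.2.2
    · exact Or.inr (Or.inl h.2.2)
    · exact Or.inr (Or.inr h.2.2)
  · intro a b ha hb h
    rw [relIndex_eq]
    exact not_conn_cases hNG hm ha hb (fun h1 => h h1.2.2)

end Cfsg.Agent.S4776
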