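import Cfsg.Statements.S4779
import Cfsg.Agent.Lib.H82.Rel6

set_option autoImplicit false
open Cfsg

namespace Cfsg.Agent.S4779
open H82.Rel

/-- Let N be a solvable normal subgroup of the finite group G contained in the derived subgroup of G, and consider the common-divisor graph on the relative degree set cd(G|N) (degrees of irreducible complex characters of G whose kernel does not contain N, two distinct degrees adjacent when not coprime). If this graph has two vertices that are not joined by any path, then there is a vertex a₀ such that any two distinct vertices in the component of a₀ are adjacent, and any two distinct vertices outside that component are adjacent or have a common neighbour (one component is complete, the other has diameter at most 2). -/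
theorem result {G : Type*} [Group G] [Finite G] (N : Subgroup G) [N.Normal] [Group.IsSolvable N] (hNG : N ≤ commutator G) (hdisc : ¬ (Cfsg.commonDivisorGraph.induce (Cfsg.relCharDegrees N)).Preconnected) : ∃ a₀ : ↥(Cfsg.relCharDegrees N), (∀ b c : ↥(Cfsg.relCharDegrees N), (Cfsg.commonDivisorGraph.induce (Cfsg.relCharDegrees N)).Reachable a₀ b → (Cfsg.commonDivisorGraph.induce (Cfsg.relCharDegrees N)).Reachable a₀ c → b ≠ c → (Cfsg.commonDivisorGraph.induce (Cfsg.relCharDegrees N)).Adj b c) ∧ (∀ b c : ↥(Cfsg.relCharDegrees N), ¬ (Cfsg.commonDivisorGraph.induce (Cfsg.relCharDegrees N)).Reachable a₀ b → ¬ (Cfsg.commonDivisorGraph.induce (Cfsg.relCharDegrees N)).Reachable a₀ c → b ≠ c → (Cfsg.commonDivisorGraph.induce (Cfsg.relCharDegrees N)).Adj b c ∨ ∃ d : ↥(Cfsg.relCharDegrees N), (Cfsg.commonDivisorGraph.induce (Cfsg.relCharDegrees N)).Adj b d ∧ (Cfsg.commonDivisorGraph.induce (Cfsg.relCharDegrees N)).Adj d c) := by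
  classical
  rw [SimpleGraph.Preconnected] at hdisc
  push Not at hdisc
  obtain ⟨⟨a, ha⟩, ⟨b, hb⟩, hab⟩ := hdisc
  have hnc : ¬ Conn (Cfsg.relCharDegrees N) a b := fun h => hab h.2.2
  have hNI : ∀ f : Lin N, (∀ g : G, g • f = f) → f = 1 := by
    intro f hf
    by_contra hf1
    exact hnc (conn_of_invariant hNG hf hf1 ha hb)
  have hNbot : N ≠ ⊥ := by
    rintro rfl
    obtain ⟨χ, ⟨x, hx, hne⟩, _⟩ := ha
    rw [Subgroup.mem_bot] at hx
    exact hne (by rw [hx])
  have hm : Nat.card (Lin N) ≠ 1 := by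
    haveI : Nontrivial N := (Subgroup.nontrivial_iff_ne_bot _).2 hNbot
    intro h1
    rw [Lin.card, Subgroup.index_eq_one] at h1
    exact (Group.IsSolvable.commutator_lt_top_of_nontrivial N).ne h1
  obtain ⟨p, hp, hpm⟩ := Nat.exists_prime_and_dvd hm
  -- the two members
  obtain ⟨a₀, c₀, ha₀, hc₀, hnc₀, hc₀m, ha₀m⟩ : ∃ a₀ c₀ : ℕ, a₀ ∈ Cfsg.relCharDegrees N ∧
      c₀ ∈ Cfsg.relCharDegrees N ∧ ¬ Conn (Cfsg.relCharDegrees N) a₀ c₀ ∧
      c₀.Coprime (Nat.card (Lin N)) ∧ ∀ r : ℕ, r.Prime → r ∣ Nat.card (Lin N) → r ∣ a₀ := by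
    rcases not_conn_cases hNG hm ha hb hnc with ⟨h1, h2⟩ | ⟨h1, h2⟩
    · exact ⟨b, a, hb, ha, fun h => hnc h.symm, h1, h2⟩
    · exact ⟨a, b, ha, hb, hnc, h1, h2⟩
  have hin : ∀ x ∈ Cfsg.relCharDegrees N, Conn (Cfsg.relCharDegrees N) a₀ x →
      ∀ r : ℕ, r.Prime → r ∣ Nat.card (Lin N) → r ∣ x := by
    intro x hx hxc
    rcases not_conn_cases hNG hm hc₀ hx (fun h => hnc₀ (hxc.trans h.symm)) with ⟨h1, h2⟩ | ⟨h1, h2⟩
    · exact h2
    · exact absurd (Nat.eq_one_of_dvd_coprimes hc₀m (h2 p hp hpm) hpm) hp.one_lt.ne'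
  have hout : ∀ x ∈ Cfsg.relCharDegrees N, ¬ Conn (Cfsg.relCharDegrees N) a₀ x →
      x.Coprime (Nat.card (Lin N)) := by
    intro x hx hxc
    rcases not_conn_cases hNG hm ha₀ hx hxc with ⟨h1, h2⟩ | ⟨h1, h2⟩
    · exact absurd (Nat.eq_one_of_dvd_coprimes h1 (ha₀m p hp hpm) hpm) hp.one_lt.ne'
    · exact h1
  refine ⟨⟨a₀, ha₀⟩, ?_, ?_⟩
  · rintro ⟨b, hb⟩ ⟨c, hc⟩ h1 h2 hne
    have h3 := hin b hb ⟨ha₀, hb, h1⟩ p hp hpm
    have h4 := hin c hc ⟨ha₀, hc, h2⟩ p hp hpm
    exact adj_of hb hc (rel_ne_zero hb) (fun h => hne (Subtype.ext h))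
      (fun h => hp.one_lt.ne' (Nat.eq_one_of_dvd_coprimes h h3 h4))
  · rintro ⟨b, hb⟩ ⟨c, hc⟩ h1 h2 hne
    have hnb : ¬ Conn (Cfsg.relCharDegrees N) a₀ b := fun h => h1 h.2.2
    have hnc' : ¬ Conn (Cfsg.relCharDegrees N) a₀ c := fun h => h2 h.2.2
    have hsep : ∀ x ∈ Cfsg.relCharDegrees N, ¬ Conn (Cfsg.relCharDegrees N) a₀ x →
        ∀ y ∈ Cfsg.relCharDegrees N, ¬ y.Coprime (Nat.card (Lin N)) → y.Coprime x := by
      intro x hx hxn y hy hym
      by_contra hcon
      have h5 : Conn (Cfsg.relCharDegrees N) y x := conn_of hy hx (rel_ne_zero hy) hcon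
      by_cases h6 : Conn (Cfsg.relCharDegrees N) a₀ y
      · exact hxn (h6.trans h5)
      · exact hym (hout y hy h6)
    have hnear := near_of_coprime hNI hNG hb hc (hout b hb hnb) (hout c hc hnc')
      (hsep b hb hnb) (hsep c hc hnc')
    have hne' : b ≠ c := fun h => hne (Subtype.ext h)
    rcases hnear with h3 | ⟨x, hx, h3, h4⟩
    · exact Or.inl (adj_of hb hc (rel_ne_zero hb) hne' h3)
    · by_cases hxb : x = b
      · subst hxb
        exact Or.inl (adj_of hb hc (rel_ne_zero hb) hne' h4)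
      · by_cases hxc : x = c
        · subst hxc
          exact Or.inl (adj_of hb hc (rel_ne_zero hb) hne' h3)
        · exact Or.inr ⟨⟨x, hx⟩, adj_of hb hx (rel_ne_zero hb) (fun h => hxb h.symm) h3,
            adj_of hx hc (rel_ne_zero hx) hxc h4⟩

end Cfsg.Agent.S4779
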