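import Cfsg.Statements.S4997
import Cfsg.Agent.Lib.H85.VanP3

set_option autoImplicit false
open Cfsg

namespace Cfsg.Agent.S4997

/-- Let p be an odd prime and G a finite solvable group with exactly one conjugacy class consisting of vanishing elements (elements at which some irreducible complex character is zero) of order divisible by p. Let P be a Sylow p-subgroup of G. Then the order of P is at most p times the order of the largest normal p-subgroup of G. -/
theorem result {G : Type*} [Group G] [Finite G] (hsolv : Group.IsSolvable G) (p : ℕ) [Fact p.Prime] (hp : p ≠ 2) (h1 : Set.ncard {C : ConjClasses G | (∀ g ∈ C.carrier, ∃ χ : Cfsg.IrrCharacter G, (χ : G → ℂ) g = 0) ∧ ∃ g ∈ C.carrier, p ∣ orderOf g} = 1) (P : Sylow p G) : Nat.card ↥(P : Subgroup G) ≤ p * Nat.card ↥(Cfsg.pCore p G) := by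
  have hV : ∀ g h : G, H85.VanP.Van g → p ∣ orderOf g → H85.VanP.Van h → p ∣ orderOf h →
      IsConj g h := by
    intro g h hg hpg hh hph
    obtain ⟨C, hC⟩ := Set.ncard_eq_one.1 h1
    have key : ∀ x : G, H85.VanP.Van x → p ∣ orderOf x → ConjClasses.mk x = C := by
      intro x hx hpx
      have h2 : ConjClasses.mk x ∈ {C : ConjClasses G |
          (∀ g ∈ C.carrier, ∃ χ : Cfsg.IrrCharacter G, (χ : G → ℂ) g = 0) ∧
          ∃ g ∈ C.carrier, p ∣ orderOf g} := by
        refine ⟨fun y hy => ?_, x, ConjClasses.mem_carrier_mk, hpx⟩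
        have h3 : IsConj x y := (ConjClasses.mk_eq_mk_iff_isConj.1 (ConjClasses.mem_carrier_iff_mk_eq.1 hy)).symm
        exact H85.VanP.van_conj h3 hx
      rw [hC] at h2
      exact h2
    exact ConjClasses.mk_eq_mk_iff_isConj.1 ((key g hg hpg).trans (key h hh hph).symm)
  have h2 := H85.VanP.thmB p _ G rfl hsolv hV
  have hle : Cfsg.pCore p G ≤ (P : Subgroup G) := H1.Cores.pCore_le_sylow P
  have hrel := Subgroup.relIndex_mul_index hle
  have hcard := Subgroup.card_mul_index ((Cfsg.pCore p G).subgroupOf (P : Subgroup G))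
  rw [Nat.card_congr (Subgroup.subgroupOfEquivOfLe hle).toEquiv] at hcard
  -- relIndex is a power of p
  have hpow : ∃ k, (Cfsg.pCore p G).relIndex (P : Subgroup G) = p ^ k := by
    obtain ⟨n, hn⟩ := IsPGroup.iff_card.1 P.isPGroup'
    have h3 : (Cfsg.pCore p G).relIndex (P : Subgroup G) ∣ p ^ n := by
      rw [← hn]; exact Dvd.intro_left _ hcard
    obtain ⟨k, _, hk⟩ := (Nat.dvd_prime_pow (Fact.out : p.Prime)).1 h3
    exact ⟨k, hk⟩
  obtain ⟨k, hk⟩ := hpow
  have hk1 : k ≤ 1 := by
    by_contra hlt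
    apply h2
    rw [← hrel, hk]
    exact (pow_dvd_pow p (by omega)).mul_right _
  have h4 : Nat.card (P : Subgroup G) = Nat.card (Cfsg.pCore p G) * p ^ k := by
    rw [← hcard, ← hk]; rfl
  rw [h4, mul_comm]
  apply Nat.mul_le_mul_right
  calc p ^ k ≤ p ^ 1 := Nat.pow_le_pow_right (Fact.out : p.Prime).pos hk1
    _ = p := pow_one p

end Cfsg.Agent.S4997
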