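import Cfsg.Statements.S5186
import Cfsg.Agent.Lib.H57.Small6

set_option autoImplicit false
universe u
open Cfsg

namespace Cfsg.Agent.S5186

/-- Let F be a saturated fusion system over a finite p-group S and H an essential subgroup of order p³. Then H is elementary abelian, or p is odd and H is extraspecial of exponent p, or p = 2 and H is the quaternion group of order 8. -/
theorem result {Ω : Type u} [Group Ω] {S : Subgroup Ω} [Finite S] (p : ℕ) [Fact p.Prime] (hS : IsPGroup p S)
    (F : Cfsg.FusionSystem S) (hF : F.IsSaturated p) (H : Subgroup Ω) (hH : F.IsEssential p H) (hcard : Nat.card H = p ^ 3) :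
    Cfsg.IsElementaryAbelian p H ∨ (Odd p ∧ Cfsg.IsExtraspecial p ↥H ∧ ∀ x ∈ H, x ^ p = 1) ∨
      (p = 2 ∧ Nonempty (↥H ≃* QuaternionGroup 2)) := by
  have hp' : p.Prime := Fact.out
  have hfP : Finite H := H86.FusSat.finite_of_le hH.1.1
  by_cases hcomm : ∀ a b : H, a * b = b * a
  · left
    have h1 : Nat.card (H57.Ess.tor hcomm p) ∣ p ^ 3 := hcard ▸ Subgroup.card_subgroup_dvd_card _
    obtain ⟨k, hk, hk'⟩ := (Nat.dvd_prime_pow hp').1 h1
    rcases (show k ≤ 2 ∨ k = 3 by omega) with h2 | rfl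
    · exfalso
      obtain ⟨b, -, h3, -, -⟩ := H57.Small.abelian_rank_two hS hF hH hcomm
        (hk' ▸ Nat.pow_le_pow_right hp'.pos h2)
      rw [hcard] at h3
      have := Nat.pow_right_injective hp'.two_le h3
      omega
    · have h4 : H57.Ess.tor hcomm p = ⊤ := Subgroup.eq_top_of_card_eq _ (by rw [hk', hcard])
      refine ⟨⟨⟨hcomm⟩⟩, fun a ha => ?_⟩
      have h5 : (⟨a, ha⟩ : H) ∈ H57.Ess.tor hcomm p := by rw [h4]; exact Subgroup.mem_top _
      exact congrArg Subtype.val (H57.Ess.mem_tor.1 h5)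
  · right
    rcases H57.Small.card_cube hcomm hcard (H57.Small.not_reach hS hF hH) with ⟨h1, h2, h3⟩ | h1
    · left
      exact ⟨h1, h2, fun x hx => congrArg Subtype.val (h3 ⟨x, hx⟩)⟩
    · right; exact h1

end Cfsg.Agent.S5186
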