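import Cfsg.Statements.S5187
import Cfsg.Agent.Lib.H57.Small3

set_option autoImplicit false
universe u
open Cfsg

namespace Cfsg.Agent.S5187

/-- Let F be a saturated fusion system over a finite p-group S and H an abelian essential subgroup that can be generated by two elements (its Frattini quotient has order at most p²). Then H is elementary abelian of order p², or p ≤ 3 and H is homocyclic of rank two, that is isomorphic to C_{pᵏ} × C_{pᵏ} for some k. -/
theorem result {Ω : Type u} [Group Ω] {S : Subgroup Ω} [Finite S] (p : ℕ) [Fact p.Prime] (hS : IsPGroup p S)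
    (F : Cfsg.FusionSystem S) (hF : F.IsSaturated p) (H : Subgroup Ω) (hH : F.IsEssential p H) (hab : IsMulCommutative ↥H) (hrk : (frattini ↥H).index ≤ p ^ 2) :
    (Cfsg.IsElementaryAbelian p H ∧ Nat.card H = p ^ 2) ∨
      (p ≤ 3 ∧ ∃ k : ℕ, Nonempty (↥H ≃* Multiplicative (ZMod (p ^ k) × ZMod (p ^ k)))) := by
  have hcomm : ∀ a b : H, a * b = b * a := hab.is_comm.comm
  have hfP : Finite H := H86.FusSat.finite_of_le hH.1.1
  have hrk' : Nat.card (H57.Ess.tor hcomm p) ≤ p ^ 2 := by
    refine le_trans ?_ hrk
    have h1 : frattini H ≤ H57.Small.pw hcomm p := by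
      refine H1.Frat.frattini_le_of_elementary (p := p) ?_ (fun x => ⟨x, rfl⟩)
      rw [commutator_def, Subgroup.commutator_le]
      intro a _ b _
      have : a * b * a⁻¹ * b⁻¹ = 1 := by rw [hcomm a b]; group
      show a * b * a⁻¹ * b⁻¹ ∈ _
      rw [this]; exact one_mem _
    have h2 : (H57.Small.pw hcomm p).index ≤ (frattini H).index :=
      Nat.le_of_dvd (Nat.pos_of_ne_zero Subgroup.index_ne_zero_of_finite) (Subgroup.index_dvd_of_le h1)
    have h3 : Nat.card (H57.Ess.tor hcomm p) * Nat.card (H57.Small.pw hcomm p) = Nat.card H := by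
      have h2 := Subgroup.card_mul_index (H57.Small.pwHom hcomm p).ker
      rw [Subgroup.index_ker] at h2
      exact h2
    have h4 := Subgroup.card_mul_index (H57.Small.pw hcomm p)
    rw [← h3, mul_comm] at h4
    have h5 := Nat.eq_of_mul_eq_mul_right Nat.card_pos h4
    omega
  obtain ⟨b, h1, h2, h3, h4⟩ := H57.Small.abelian_rank_two hS hF hH hcomm hrk'
  by_cases hb : b = 0
  · left
    subst hb
    refine ⟨⟨hab, fun a ha => ?_⟩, by rw [h2]⟩
    have := h3 ⟨a, ha⟩
    rw [zero_add, pow_one] at this
    exact congrArg Subtype.val this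
  · right
    exact ⟨h4 hb, b + 1, h1⟩

end Cfsg.Agent.S5187
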