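import Cfsg.Statements.S5188
import Cfsg.Agent.Lib.H57.Small8

set_option autoImplicit false
universe u
open Cfsg

namespace Cfsg.Agent.S5188

/-- Let F be a saturated fusion system over a finite p-group S and H an essential subgroup of order p⁴. Then H is isomorphic to one of: C_p⁴ or C_{p²} × C_p × C_p (any p); C_{p²} × C_{p²} with p ∈ {2, 3}; p^{1+2}_+ × C_p with p odd (the direct product of an extraspecial group of order p³ and exponent p with a group of order p); Q₈ × C₂ (p = 2); or the non-abelian group of order p⁴ of exponent p² whose centre is cyclic of order p² (the central product of an extraspecial group of order p³ with a cyclic group of order p²; for p = 2 this is D₈ ∘ C₄). -/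
theorem result {Ω : Type u} [Group Ω] {S : Subgroup Ω} [Finite S] (p : ℕ) [Fact p.Prime] (hS : IsPGroup p S)
    (F : Cfsg.FusionSystem S) (hF : F.IsSaturated p) (H : Subgroup Ω) (hH : F.IsEssential p H) (hcard : Nat.card H = p ^ 4) :
    Cfsg.IsElementaryAbelian p H ∨
      Nonempty (↥H ≃* Multiplicative (ZMod (p ^ 2) × ZMod p × ZMod p)) ∨
      ((p = 2 ∨ p = 3) ∧ Nonempty (↥H ≃* Multiplicative (ZMod (p ^ 2) × ZMod (p ^ 2)))) ∨
      (Odd p ∧ ∃ (E : Type) (_ : Group E) (_ : Finite E), Cfsg.IsExtraspecial p E ∧ Nat.card E = p ^ 3 ∧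
        (∀ x : E, x ^ p = 1) ∧ Nonempty (↥H ≃* E × Multiplicative (ZMod p))) ∨
      (p = 2 ∧ Nonempty (↥H ≃* QuaternionGroup 2 × Multiplicative (ZMod 2))) ∨
      (¬ IsMulCommutative ↥H ∧ (∀ x ∈ H, x ^ (p ^ 2) = 1) ∧ IsCyclic ↥(Subgroup.center ↥H) ∧
        Nat.card (Subgroup.center ↥H) = p ^ 2) := by
  have hp' : p.Prime := Fact.out
  have hfP : Finite H := H86.FusSat.finite_of_le hH.1.1
  by_cases hcomm : ∀ a b : H, a * b = b * a
  · have h1 : Nat.card (H57.Ess.tor hcomm p) ∣ p ^ 4 := hcard ▸ Subgroup.card_subgroup_dvd_card _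
    obtain ⟨k, hk, hk'⟩ := (Nat.dvd_prime_pow hp').1 h1
    rcases (show k ≤ 2 ∨ k = 3 ∨ k = 4 by omega) with h2 | rfl | rfl
    · right; right; left
      obtain ⟨b, h2, h3, -, h4⟩ := H57.Small.abelian_rank_two hS hF hH hcomm
        (hk' ▸ Nat.pow_le_pow_right hp'.pos h2)
      rw [hcard] at h3
      have h5 := Nat.pow_right_injective hp'.two_le h3
      have h6 : b = 1 := by
        have h6 : 4 = 2 * (b + 1) := h5
        omega
      subst h6
      have h7 := h4 (by norm_num)
      have h8 : p = 2 ∨ p = 3 := by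
        have := hp'.two_le; omega
      exact ⟨h8, h2⟩
    · right; left
      exact H57.Small.rank_three hcomm hcard hk'
    · left
      have h4 : H57.Ess.tor hcomm p = ⊤ := Subgroup.eq_top_of_card_eq _ (by rw [hk', hcard])
      refine ⟨⟨⟨hcomm⟩⟩, fun a ha => ?_⟩
      have h5 : (⟨a, ha⟩ : H) ∈ H57.Ess.tor hcomm p := by rw [h4]; exact Subgroup.mem_top _
      exact congrArg Subtype.val (H57.Ess.mem_tor.1 h5)
  · right; right; right
    rcases H57.Small.card_four hcomm hcard (H57.Small.not_reach hS hF hH) with ⟨h1, E, h2, h3, h4, ⟨e⟩⟩ | h1 | ⟨h1, h2, h3⟩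
    · left
      refine ⟨h1, Shrink.{0} E, inferInstance, Finite.of_equiv E (equivShrink.{0} E), ?_, ?_, ?_, ?_⟩
      · exact H56.Heis.isExtraspecial_congr (Shrink.mulEquiv.{0} (α := E)).symm h2
      · rw [← h3]; exact Nat.card_congr (equivShrink.{0} E).symm
      · intro x
        apply (Shrink.mulEquiv.{0} (α := E)).injective
        rw [map_pow, h4, map_one]
      · exact ⟨e.trans (MulEquiv.prodCongr (Shrink.mulEquiv.{0} (α := E)).symm (MulEquiv.refl _))⟩
    · right; left; exact h1
    · right; right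
      exact ⟨fun h => hcomm h.is_comm.comm, fun x hx => congrArg Subtype.val (h1 ⟨x, hx⟩), h2, h3⟩

end Cfsg.Agent.S5188
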