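import Cfsg.Statements.S5264
import Cfsg.Agent.Lib.H88.P5K

set_option autoImplicit false
open Cfsg

namespace Cfsg.Agent.S5264

/-- Let p be an odd prime other than 7, S a finite p-group of order p^5, and F a saturated fusion system over S with no nontrivial normal subgroup and with hyperfocal subgroup equal to S (so F is its own p-residual subsystem). Then S has an abelian subgroup of index p. -/
theorem result {Ω : Type*} [Group Ω] {S : Subgroup Ω} [Finite S] (p : ℕ) [Fact p.Prime] (hS : IsPGroup p ↥S) (F : Cfsg.FusionSystem S) (hF : F.IsSaturated p) (hp : p ≠ 2) (hp7 : p ≠ 7) (hcard : Nat.card S = p ^ 5) (hcore : F.core = ⊥) (hhyp : F.hyperfocalSubgroup p = S) : ∃ A : Subgroup Ω, A ≤ S ∧ IsMulCommutative ↥A ∧ (A.subgroupOf S).index = p := by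
  classical
  by_contra hcon
  have hNA : ∀ A : Subgroup Ω, A ≤ S → (∀ x ∈ A, ∀ y ∈ A, x * y = y * x) → Nat.card A ≠ p ^ 4 := by
    intro A hA hab hc
    apply hcon
    refine ⟨A, hA, ⟨⟨fun a b => Subtype.ext (hab a a.2 b b.2)⟩⟩, ?_⟩
    exact H88.P5.index_of_card hA hc hcard
  have hSne : S ≠ ⊥ := by
    rintro rfl
    rw [Subgroup.card_bot] at hcard
    exact (Nat.one_lt_pow (by norm_num) (Fact.out : p.Prime).one_lt).ne hcard
  obtain ⟨E, hE, α, hα, x, hx, hαx⟩ := H88.P5.exists_mover hS hF hcore hSne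
  rcases H88.P5.mover_cases hS hF hcard hNA hE hx hαx with h | ⟨h, hcomm, hel⟩
  · exact H88.P5.caseB_false hS hF hp hp7 hcard hNA hhyp hE h
  · exact H88.P5.caseA_false hS hF hp hcard hNA hhyp hE h hcomm hel

end Cfsg.Agent.S5264
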