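import Cfsg.Statements.S5289
import Cfsg.Agent.Lib.H89.Rk2L
import Cfsg.Agent.Lib.H89.Normal

set_option autoImplicit false
open Cfsg

namespace Cfsg.Agent.S5289

/-- Let p ≥ 5 be a prime and S a finite p-group of p-rank two (it has an elementary abelian subgroup of order p² and none of order p³) which is not the extraspecial group of order p³ and exponent p. Then S is resistant: for every saturated fusion system F over S, S is normal in F, that is, every map of F extends to an F-automorphism of S. -/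
theorem result {Ω : Type*} [Group Ω] {S : Subgroup Ω} [Finite S] (p : ℕ) [Fact p.Prime] (hS : IsPGroup p S)
    (F : Cfsg.FusionSystem S) (hF : F.IsSaturated p)
    (hp : 5 ≤ p)
    (hrank2 : ∃ E : Subgroup Ω, E ≤ S ∧ Cfsg.IsElementaryAbelian p E ∧ Nat.card E = p ^ 2)
    (hrank3 : ∀ E : Subgroup Ω, E ≤ S → Cfsg.IsElementaryAbelian p E → Nat.card E ≤ p ^ 2)
    (hnotE : ¬ (Nat.card S = p ^ 3 ∧ Monoid.exponent ↥S = p)) : F.IsNormal S := by
  have hnotE' : ¬ (Nat.card S = p ^ 3 ∧ ∀ x ∈ S, x ^ p = 1) := by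
    rintro ⟨h1, h2⟩
    refine hnotE ⟨h1, ?_⟩
    have h3 : Monoid.exponent S ∣ p :=
      Monoid.exponent_dvd_of_forall_pow_eq_one fun x => Subtype.ext (h2 x x.2)
    rcases (Nat.dvd_prime (Fact.out : p.Prime)).1 h3 with h4 | h4
    · exfalso
      rw [Monoid.exp_eq_one_iff] at h4
      have h5 : Nat.card S = 1 := Nat.card_unique
      rw [h5] at h1
      have h6 : 1 < p ^ 3 := Nat.one_lt_pow (by norm_num) (Fact.out : p.Prime).one_lt
      omega
    · exact h4
  refine H89.Normal.isNormal_of_essential hS hF fun P hP => ?_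
  by_cases hPS : P = S
  · subst hPS
    exact ⟨le_rfl, fun α _ x _ => (α x).2⟩
  · exfalso
    rcases hP with hP | hP
    · exact hPS hP
    · exact H89.Rk2A.CRN.false hS hF hp ⟨hP.2.1, hP.1, H86.FusAlperin.radical_of_essential hS hP, hPS⟩ hrank3 hnotE'

end Cfsg.Agent.S5289
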