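import Cfsg.Statements.S5522
import Mathlib
import Cfsg.Agent.Lib.H93.GolayDual

set_option autoImplicit false
open Cfsg

namespace Cfsg.Agent.S5522


theorem card_mod {α : Type*} [Fintype α] [DecidableEq α] {g : Equiv.Perm α} {p : ℕ} (hp : p.Prime)
    (hg : g ^ p = 1) (T : Finset α) (hT : ∀ x ∈ T, g x ∈ T) :
    (T.filter fun x => g x = x).card ≡ T.card [MOD p] := by
  have : Fact p.Prime := ⟨hp⟩
  have hinj : Set.InjOn g (T : Set α) := g.injective.injOn
  have hT' : ∀ x, g x ∈ T ↔ x ∈ T := by
    intro x
    constructor
    · intro hx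
      have h1 : T.image g = T := by
        apply Finset.eq_of_subset_of_card_le
        · intro y hy
          obtain ⟨z, hz, rfl⟩ := Finset.mem_image.mp hy
          exact hT z hz
        · rw [Finset.card_image_of_injective _ g.injective]
      rw [← h1] at hx
      obtain ⟨z, hz, hzx⟩ := Finset.mem_image.mp hx
      rwa [← g.injective hzx]
    · exact hT x
  let σ : Equiv.Perm {x // x ∈ T} := g.subtypePerm (fun x => hT' x)
  have hσ : σ ^ p ^ 1 = 1 := by
    rw [pow_one]
    have : σ ^ p = (g ^ p).subtypePerm (fun x => by rw [hg]; rfl) := Equiv.Perm.subtypePerm_pow _ _ _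
    rw [this]
    ext x
    simp [hg]
  have h2 := Equiv.Perm.card_compl_support_modEq (p := p) (n := 1) (σ := σ) hσ
  rw [Fintype.card_coe] at h2
  have h3 : (T.filter fun x => g x = x).card = σ.supportᶜ.card := by
    rw [← Finset.card_map (Function.Embedding.subtype (fun x => x ∈ T)) (s := σ.supportᶜ)]
    congr 1
    ext x
    simp only [Finset.mem_filter, Finset.mem_map, Finset.mem_compl, Equiv.Perm.mem_support, not_not,
      Function.Embedding.subtype_apply]
    constructor
    · rintro ⟨h4, h5⟩
      exact ⟨⟨x, h4⟩, Subtype.ext h5, rfl⟩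
    · rintro ⟨y, h4, rfl⟩
      exact ⟨y.2, congrArg Subtype.val h4⟩
  rw [h3]
  exact h2

/-- The Mathieu group M₁₁, realised as the stabiliser of one point of the dodecad of squares inside the stabiliser M₁₂ of that dodecad in M₂₄, acts on the twelve coordinate positions outside the dodecad of squares (its 3-transitive action of degree 12); in this action every element of prime order fixes a point, i.e. the action is elusive. -/
theorem result (g : Equiv.Perm Cfsg.GolayPt) (hg : g ∈ Cfsg.Spor.M11) (hord : (orderOf g).Prime) :
    ∃ x : Cfsg.GolayPt, x ∉ Cfsg.Spor.squareDodecad ∧ g x = x := by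
  classical
  obtain ⟨⟨hgM, hgD⟩, hg0⟩ := hg
  set D := Cfsg.Spor.squareDodecad with hDdef
  have hD : D ∈ Cfsg.dodecads := H93.GolayDual.squareDodecad_mem
  have hDGS : D ∈ H8.GolayBasic.GS := hD.1
  have hDcard : D.card = 12 := hD.2
  have hDim : D.image g = D := hgD
  have hgD1 : ∀ x ∈ D, g x ∈ D := by
    intro x hx
    rw [← hDim]
    exact Finset.mem_image_of_mem _ hx
  have hgD2 : ∀ x, g x ∈ D → x ∈ D := by
    intro x hx
    rw [← hDim] at hx
    obtain ⟨z, hz, hzx⟩ := Finset.mem_image.mp hx
    rwa [← g.injective hzx]
  have h00 : g (some 0) = some 0 := hg0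
  have h0D : (some 0 : Cfsg.GolayPt) ∈ D := by
    rw [hDdef, H93.GolayDual.squareDodecad_eq, H8.GolayCount.mem_support_wd]
    decide +kernel
  set p := orderOf g with hp
  have hgp : g ^ p = 1 := pow_orderOf_eq_one g
  by_contra hcon
  push Not at hcon
  set F : Finset Cfsg.GolayPt := Finset.univ.filter fun x => g x = x with hF
  have hFD : F ⊆ D := by
    intro x hx
    by_contra hxD
    exact hcon x hxD (Finset.mem_filter.mp hx).2
  have h0F : (some 0 : Cfsg.GolayPt) ∈ F := Finset.mem_filter.mpr ⟨Finset.mem_univ _, h00⟩
  have hFpos : 0 < F.card := Finset.card_pos.mpr ⟨_, h0F⟩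
  have hFle : F.card ≤ 12 := hDcard ▸ Finset.card_le_card hFD
  have hcard24 : Fintype.card Cfsg.GolayPt = 24 := H8.GolayCode.card_pt
  -- the prime divides 12
  have h12 : p ∣ 12 := by
    have h1 := card_mod hord hgp Dᶜ (by
      intro x hx
      rw [Finset.mem_compl] at hx ⊢
      exact fun h => hx (hgD2 x h))
    have h2 : (Dᶜ.filter fun x => g x = x) = ∅ := by
      apply Finset.filter_eq_empty_iff.mpr
      intro x hx
      exact hcon x (Finset.mem_compl.mp hx)
    rw [h2, Finset.card_empty, Finset.card_compl, hDcard, hcard24] at h1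
    exact (Nat.modEq_zero_iff_dvd.mp h1.symm)
  have h23 : p = 2 ∨ p = 3 := by
    have h1 : p ∣ 2 * 2 * 3 := h12
    rcases (Nat.Prime.dvd_mul hord).mp h1 with h | h
    · left
      rcases (Nat.Prime.dvd_mul hord).mp h with h | h <;>
        exact (Nat.prime_dvd_prime_iff_eq hord Nat.prime_two).mp h
    · right
      exact (Nat.prime_dvd_prime_iff_eq hord Nat.prime_three).mp h
  rcases h23 with hp2 | hp3
  · -- involutions
    have hgg : ∀ x, g (g x) = x := by
      intro x
      rw [hp2] at hgp
      have := congrArg (fun f : Equiv.Perm Cfsg.GolayPt => f x) hgp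
      simpa [pow_two] using this
    have hFGS : F ∈ H8.GolayBasic.GS := H93.GolayDual.fixed_mem_GS hgM hgg
    have hw := H8.GolayBasic.weight_cases hFGS
    have hs := H8.GolayBasic.weight_cases (H8.GolayBasic.symmDiff_mem hFGS hDGS)
    have hc := H8.GolayBasic.card_symmDiff F D
    have hin : F ∩ D = F := Finset.inter_eq_left.mpr hFD
    rw [hin, hDcard] at hc
    have hF12 : F.card = 12 := by omega
    have hFeq : F = D := Finset.eq_of_subset_of_card_le hFD (by rw [hF12, hDcard])
    have hg1 : g = 1 := by
      apply H93.GolayDual.fix_squareDodecad hgM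
      intro x hx
      have : x ∈ F := by rw [hFeq]; exact hx
      exact (Finset.mem_filter.mp this).2
    rw [hg1, orderOf_one] at hp
    omega
  · -- elements of order three
    rw [hp3] at hgp
    have hggg : ∀ x, g (g (g x)) = x := by
      intro x
      have := congrArg (fun f : Equiv.Perm Cfsg.GolayPt => f x) hgp
      simpa [pow_succ] using this
    have hF3 : F.card ≡ 24 [MOD 3] := by
      have := card_mod Nat.prime_three hgp Finset.univ (fun x _ => Finset.mem_univ _)
      rw [Finset.card_univ, hcard24] at this
      exact this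
    have hFmod : F.card % 3 = 0 := by
      have : F.card % 3 = 24 % 3 := hF3
      omega
    -- stable octads
    have hoct : ∀ O ∈ Cfsg.octads, O.image g = O → (O ∩ F).card % 3 = 2 := by
      intro O hO hst
      have h1 := card_mod Nat.prime_three hgp O (by
        intro x hx
        rw [← hst]
        exact Finset.mem_image_of_mem _ hx)
      have h2 : (O.filter fun x => g x = x) = O ∩ F := by
        ext x
        simp [hF]
      rw [h2, hO.2] at h1
      have : (O ∩ F).card % 3 = 8 % 3 := h1
      omega
    by_cases h5 : 5 ≤ F.card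
    · obtain ⟨u, huF, hu5⟩ := Finset.exists_subset_card_eq h5
      obtain ⟨O, ⟨hO, huO⟩, _⟩ := H8.GolayBasic.octads_steiner.2 u hu5
      have hst := H8.M24Chain.fixes_octad hgM hO (u := u) (by omega) huO
        (fun x hx => (Finset.mem_filter.mp (huF hx)).2)
      have h1 : 5 ≤ (O ∩ D).card := by
        rw [← hu5]
        exact Finset.card_le_card (Finset.subset_inter huO (huF.trans hFD))
      have h2 : (O ∩ D).card ≤ 8 := by
        rw [← hO.2]
        exact Finset.card_le_card Finset.inter_subset_left
      have h3 := H8.GolayBasic.inter_even hO.1 hDGS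
      have h4 := H8.GolayBasic.card_symmDiff O D
      have h6 := H8.GolayBasic.weight_cases (H8.GolayBasic.symmDiff_mem hO.1 hDGS)
      rw [hO.2, hDcard] at h4
      have h7 : (O ∩ D).card = 6 := by
        rw [Nat.even_iff] at h3
        omega
      have h8 : (O \ D).card = 2 := by
        have := Finset.card_sdiff_add_card_inter O D
        rw [hO.2, h7] at this
        omega
      have h9 := card_mod Nat.prime_three hgp (O \ D) (by
        intro x hx
        rw [Finset.mem_sdiff] at hx ⊢
        refine ⟨?_, fun h => hx.2 (hgD2 x h)⟩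
        rw [← hst]
        exact Finset.mem_image_of_mem _ hx.1)
      have h10 : ((O \ D).filter fun x => g x = x) = ∅ := by
        apply Finset.filter_eq_empty_iff.mpr
        intro x hx
        exact hcon x (Finset.mem_sdiff.mp hx).2
      rw [h10, h8, Finset.card_empty] at h9
      have : 0 % 3 = 2 % 3 := h9
      omega
    · have hF3' : F.card = 3 := by omega
      obtain ⟨f1, f2, f3, h12', h13', h23', hFe⟩ := Finset.card_eq_three.mp hF3'
      have hf1 : g f1 = f1 := by
        have : f1 ∈ F := by rw [hFe]; simp
        exact (Finset.mem_filter.mp this).2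
      have hf2 : g f2 = f2 := by
        have : f2 ∈ F := by rw [hFe]; simp
        exact (Finset.mem_filter.mp this).2
      have hf1F : f1 ∈ F := by rw [hFe]; simp
      have hf2F : f2 ∈ F := by rw [hFe]; simp
      let OO : Finset (Finset Cfsg.GolayPt) := Finset.univ.filter fun O =>
        O ∈ Cfsg.octads ∧ O.image g = O ∧ f1 ∈ O ∧ f2 ∈ O
      have hOO : ∀ O, O ∈ OO ↔ (O ∈ Cfsg.octads ∧ O.image g = O ∧ f1 ∈ O ∧ f2 ∈ O) := by
        intro O; simp [OO]
      have hmoved : ∀ a ∈ Fᶜ, g a ≠ a := by
        intro a ha h
        rw [Finset.mem_compl] at ha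
        exact ha (Finset.mem_filter.mpr ⟨Finset.mem_univ _, h⟩)
      have hucard : ∀ a ∈ Fᶜ, ({f1, f2, a, g a, g (g a)} : Finset Cfsg.GolayPt).card = 5 := by
        intro a ha
        have ha' := hmoved a ha
        rw [Finset.mem_compl] at ha
        have e1 : f1 ≠ a := fun h => ha (h ▸ hf1F)
        have e2 : f2 ≠ a := fun h => ha (h ▸ hf2F)
        have e3 : f1 ≠ g a := fun h => e1 (g.injective (by rw [hf1, ← h]))
        have e4 : f2 ≠ g a := fun h => e2 (g.injective (by rw [hf2, ← h]))
        have e5 : f1 ≠ g (g a) := fun h => e3 (g.injective (by rw [hf1, ← h]))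
        have e6 : f2 ≠ g (g a) := fun h => e4 (g.injective (by rw [hf2, ← h]))
        have e7 : a ≠ g a := fun h => ha' h.symm
        have e8 : g a ≠ g (g a) := fun h => e7 (g.injective h)
        have e9 : a ≠ g (g a) := fun h => by
          have := congrArg g h
          rw [hggg] at this
          exact ha' this
        rw [Finset.card_insert_of_notMem, Finset.card_insert_of_notMem, Finset.card_insert_of_notMem,
          Finset.card_insert_of_notMem, Finset.card_singleton]
        · simpa using e8
        · simp only [Finset.mem_insert, Finset.mem_singleton, not_or]; exact ⟨e7, e9⟩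
        · simp only [Finset.mem_insert, Finset.mem_singleton, not_or]; exact ⟨e2, e4, e6⟩
        · simp only [Finset.mem_insert, Finset.mem_singleton, not_or]; exact ⟨h12', e1, e3, e5⟩
      have hcount := Finset.sum_card_inter (s := Fᶜ) (B := OO) (n := 1) (by
        intro a ha
        rw [Finset.card_eq_one]
        obtain ⟨O, ⟨hO, huO⟩, _⟩ := H8.GolayBasic.octads_steiner.2 _ (hucard a ha)
        have hmem : ∀ y ∈ ({f1, f2, a, g a, g (g a)} : Finset Cfsg.GolayPt), y ∈ O := fun y hy => huO hy
        refine ⟨O, ?_⟩
        ext O'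
        simp only [Finset.mem_filter, Finset.mem_singleton, hOO]
        constructor
        · rintro ⟨⟨hO', hst, hf1', hf2'⟩, haO'⟩
          have hgO' : ∀ y ∈ O', g y ∈ O' := by
            intro y hy; rw [← hst]; exact Finset.mem_image_of_mem _ hy
          apply H8.GolayBasic.octad_unique hO' hO (u := {f1, f2, a, g a, g (g a)})
            (by rw [hucard a ha]) _ huO
          intro y hy
          simp only [Finset.mem_insert, Finset.mem_singleton] at hy
          rcases hy with rfl | rfl | rfl | rfl | rfl
          · exact hf1'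
          · exact hf2'
          · exact haO'
          · exact hgO' _ haO'
          · exact hgO' _ (hgO' _ haO')
        · rintro rfl
          refine ⟨⟨hO, ?_, hmem _ (by simp), hmem _ (by simp)⟩, hmem _ (by simp)⟩
          apply H8.GolayBasic.octad_unique (H8.M24Chain.image_octad hgM hO) hO
            (u := {f1, f2, a, g a, g (g a)}) (by rw [hucard a ha]) _ huO
          intro y hy
          simp only [Finset.mem_insert, Finset.mem_singleton] at hy
          rw [Finset.mem_image]
          rcases hy with rfl | rfl | rfl | rfl | rfl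
          · exact ⟨_, hmem _ (by simp), hf1⟩
          · exact ⟨_, hmem _ (by simp), hf2⟩
          · exact ⟨g (g y), hmem _ (by simp), hggg y⟩
          · exact ⟨a, hmem _ (by simp), rfl⟩
          · exact ⟨g a, hmem _ (by simp), rfl⟩)
      have hsum : ∑ t ∈ OO, (Fᶜ ∩ t).card = ∑ t ∈ OO, 6 := by
        apply Finset.sum_congr rfl
        intro O hO
        rw [hOO] at hO
        have h1 := hoct O hO.1 hO.2.1
        have h2 : (O ∩ F).card ≤ 3 := hF3' ▸ Finset.card_le_card Finset.inter_subset_right
        have h3 : Fᶜ ∩ O = O \ F := by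
          ext x
          simp only [Finset.mem_inter, Finset.mem_compl, Finset.mem_sdiff]
          exact and_comm
        have h4 := Finset.card_sdiff_add_card_inter O F
        have h5 : O.card = 8 := hO.1.2
        rw [h3]
        clear_value F
        omega
      rw [hsum, Finset.sum_const, smul_eq_mul, Finset.card_compl, hF3', hcard24] at hcount
      omega

end Cfsg.Agent.S5522
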