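import Cfsg.Statements.S5735
import Cfsg.Agent.Lib.H61.BinU3f
import Cfsg.Agent.S5736
import Cfsg.Agent.S5737
import Cfsg.Agent.Lib.H64.SLTwoEven
import Cfsg.Agent.Lib.H83.BdC3
import Cfsg.Agent.Lib.H18.Bender
import Cfsg.Agent.S1136

set_option autoImplicit false
open Cfsg

namespace Cfsg.Agent.S5735

open H61.BinAct H61.BinFix H61.BinU3

theorem comap_symm_comap {G G' : Type*} [Group G] [Group G'] (e : G ≃* G') (H : Subgroup G) :
    (H.comap e.symm.toMonoidHom).comap e.toMonoidHom = H := by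
  ext x
  rw [Subgroup.mem_comap, Subgroup.mem_comap]
  show e.symm (e x) ∈ H ↔ _
  rw [e.symm_apply_apply]

/-- Sylow subgroups along an isomorphism -/
theorem exists_sylow {G G' : Type*} [Group G] [Group G'] (e : G ≃* G') (P : Sylow 2 G') :
    ∃ Q : Sylow 2 G, (Q : Subgroup G) = (P : Subgroup G').comap e.toMonoidHom := by
  refine ⟨P.comapOfInjective e.toMonoidHom e.injective ?_, Sylow.coe_comapOfInjective _ _ _ _⟩
  rw [MonoidHom.range_eq_top.2 e.surjective]
  exact le_top

theorem ne_top_symm {G G' : Type*} [Group G] [Group G'] (e : G ≃* G') {H : Subgroup G} (hH : H ≠ ⊤) :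
    H.comap e.symm.toMonoidHom ≠ ⊤ := by
  intro h
  apply hH
  rw [← comap_symm_comap e H, h, Subgroup.comap_top]

theorem bot_symm {G G' : Type*} [Group G] [Group G'] (e : G ≃* G') {H : Subgroup G}
    (h : H.comap e.symm.toMonoidHom = ⊥) : H = ⊥ := by
  rw [← comap_symm_comap e H, h]
  rw [eq_bot_iff]
  intro x hx
  rw [Subgroup.mem_comap, Subgroup.mem_bot] at hx
  rw [Subgroup.mem_bot]
  exact e.injective (by rw [map_one]; exact hx)

theorem bin_symm {G G' : Type*} [Group G] [Group G'] (e : G ≃* G') {H : Subgroup G} :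
    Bin (H.comap e.symm.toMonoidHom) ↔ Bin H := bin_comap e.symm.toMonoidHom e.symm.surjective H

theorem bot_not_even {G : Type*} [Group G] {H : Subgroup G} (h : H = ⊥) (hev : Even (Nat.card H)) : False := by
  rw [h, Subgroup.card_bot] at hev
  exact absurd hev (by decide)

/-- the linear case -/
theorem l2_iff {G : Type*} [Group G] [Finite G] {F : Type} [Field F] [Fintype F] {n : ℕ} (hn : 2 ≤ n)
    (hF : Fintype.card F = 2 ^ n) (e : G ≃* Matrix.ProjectiveSpecialLinearGroup (Fin 2) F) {H : Subgroup G} (hH : H ≠ ⊤)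
    (hev : Even (Nat.card H)) : Bin H ↔ ∃ P : Sylow 2 G, H = P := by
  have h4 : 4 ≤ 2 ^ n := by
    calc 4 = 2 ^ 2 := by norm_num
      _ ≤ 2 ^ n := Nat.pow_le_pow_right (by norm_num) hn
  have h5 : Fintype.card F ≠ 5 := by
    rw [hF]
    intro h
    have : 2 ∣ 5 := h ▸ dvd_pow_self 2 (by omega)
    omega
  have key := Cfsg.Agent.S5736.result (by omega) h5 (H.comap e.symm.toMonoidHom) (ne_top_symm e hH)
  rw [bin_iff, bin_symm] at key
  rw [key]
  constructor
  · rintro (h | ⟨-, P, hP⟩ | ⟨-, h3⟩)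
    · exact (bot_not_even (bot_symm e h) hev).elim
    · obtain ⟨Q, hQ⟩ := exists_sylow e P
      refine ⟨Q, ?_⟩
      rw [hQ, ← hP, comap_symm_comap]
    · exfalso
      have h1 : Nat.card (H.comap e.symm.toMonoidHom) = Nat.card H := by
        apply Nat.card_congr
        exact ⟨fun x => ⟨e.symm x, x.2⟩, fun x => ⟨e x, by
          rw [Subgroup.mem_comap]
          show e.symm (e x) ∈ H
          rw [e.symm_apply_apply]; exact x.2⟩, fun x => Subtype.ext (e.apply_symm_apply _),
          fun x => Subtype.ext (e.symm_apply_apply _)⟩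
      rw [h1] at h3
      rw [h3] at hev
      exact absurd hev (by decide)
  · rintro ⟨P, hP⟩
    right; left
    obtain ⟨Q, hQ⟩ := exists_sylow e.symm P
    refine ⟨⟨n, hF⟩, Q, ?_⟩
    rw [hQ, hP]

/-- the Suzuki case -/
theorem sz_iff {G : Type*} [Group G] [Finite G] (hG : Cfsg.Lie.IsoSuzuki G) {H : Subgroup G} (hH : H ≠ ⊤)
    (hev : Even (Nat.card H)) :
    Bin H ↔ ∃ P : Sylow 2 G, H = (Subgroup.center (P : Subgroup G)).map (P : Subgroup G).subtype := by
  obtain ⟨F, _, _, m, hm, hF, ⟨e⟩⟩ := hG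
  have key := Cfsg.Agent.S5737.result m hm hF (H.comap e.symm.toMonoidHom) (ne_top_symm e hH)
  rw [bin_iff, bin_symm] at key
  rw [key]
  constructor
  · rintro (h | ⟨P, hP⟩)
    · exact (bot_not_even (bot_symm e h) hev).elim
    · obtain ⟨Q, hQ⟩ := exists_sylow e P
      refine ⟨Q, ?_⟩
      rw [hQ, ← Cfsg.Agent.S5737.comap_center, ← hP, comap_symm_comap]
  · rintro ⟨P, hP⟩
    right
    obtain ⟨Q, hQ⟩ := exists_sylow e.symm P
    refine ⟨Q, ?_⟩
    rw [hQ, ← Cfsg.Agent.S5737.comap_center, hP]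

/-- Let G be a finite simple group with exactly one conjugacy class of involutions, and let H be a proper subgroup of even order. Then the action of G on the cosets of H is binary if and only if one of the following holds: G ≅ SL₂(2^a) with a ≥ 2 and H is a Sylow 2-subgroup; G is a Suzuki group Sz(2^(2a+1)) with a ≥ 1 and H is the centre of a Sylow 2-subgroup; G ≅ PSU₃(2^a) with a ≥ 2 and H is the centre of a Sylow 2-subgroup. Here an action is binary (relational complexity 2) when, for every n ≥ 2 and all n-tuples I, J of points, if for every pair of positions some group element carries the corresponding pair of entries of I to those of J, then a single group element carries I to J. -/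
theorem result {G : Type*} [Group G] [Finite G] [IsSimpleGroup G] (hinv : ∃ s : G, orderOf s = 2)
    (hone : ∀ s t : G, orderOf s = 2 → orderOf t = 2 → IsConj s t)
    (H : Subgroup G) (hH : H ≠ ⊤) (heven : Even (Nat.card H)) :
    (∀ (n : ℕ) (I J : Fin n → G ⧸ H), 2 ≤ n →
        (∀ i j : Fin n, i ≠ j → ∃ g : G, g • I i = J i ∧ g • I j = J j) → ∃ g : G, ∀ i, g • I i = J i) ↔
      (((∃ (F : Type) (_ : Field F) (_ : Fintype F) (a : ℕ), 2 ≤ a ∧ Fintype.card F = 2 ^ a ∧ Nonempty (G ≃* Matrix.SpecialLinearGroup (Fin 2) F)) ∧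
          ∃ P : Sylow 2 G, H = P) ∨
        (Cfsg.Lie.IsoSuzuki G ∧ ∃ P : Sylow 2 G, H = (Subgroup.center (P : Subgroup G)).map (P : Subgroup G).subtype) ∨
        ((∃ (F : Type) (_ : Field F) (_ : Fintype F) (a : ℕ), 2 ≤ a ∧ Fintype.card F = (2 ^ a) ^ 2 ∧ Nonempty (G ≃* Cfsg.PSU 3 F (2 ^ a))) ∧
          ∃ P : Sylow 2 G, H = (Subgroup.center (P : Subgroup G)).map (P : Subgroup G).subtype)) := by
  rw [bin_iff]
  have hp : Fact (Nat.Prime 2) := ⟨Nat.prime_two⟩
  have hchar : ∀ (F : Type) (_ : Field F) (_ : Fintype F) (a : ℕ), Fintype.card F = 2 ^ a → CharP F 2 := by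
    intro F _ _ a hc
    apply CharTwo.of_one_ne_zero_of_two_eq_zero one_ne_zero
    have h1 : ((Fintype.card F : ℕ) : F) = 0 := Nat.cast_card_eq_zero F
    rw [hc] at h1
    push_cast at h1
    exact pow_eq_zero_iff (by
      rintro rfl
      rw [pow_zero] at hc
      have := Fintype.one_lt_card (α := F)
      omega) |>.1 h1
  constructor
  · intro hb
    obtain ⟨N, hN⟩ := se hone hb hH heven
    have hC := H83.BdC.concl_of_se H18.Bender.bender
      (fun G Ω _ _ _ _ a t Q hS h2 => Cfsg.Agent.S1136.result hS h2) hN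
    rcases hC with ⟨F, i1, i2, ⟨n, hn, hc⟩, ⟨e⟩⟩ | h | ⟨F, i1, i2, n, hn, hc, ⟨e⟩⟩
    · left
      have hch := hchar F i1 i2 n hc
      exact ⟨⟨F, i1, i2, n, hn, hc, ⟨e.trans (H64.SLTwoEven.pslEquiv F).symm⟩⟩, (l2_iff hn hc e hH heven).1 hb⟩
    · right; left
      exact ⟨h, (sz_iff h hH heven).1 hb⟩
    · right; right
      exact ⟨⟨F, i1, i2, n, hn, hc, ⟨e⟩⟩, (psu_iff hn hc e hH heven).1 hb⟩
  · rintro (⟨⟨F, i1, i2, n, hn, hc, ⟨e⟩⟩, h⟩ | ⟨h1, h⟩ | ⟨⟨F, i1, i2, n, hn, hc, ⟨e⟩⟩, h⟩)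
    · have hch := hchar F i1 i2 n hc
      exact (l2_iff hn hc (e.trans (H64.SLTwoEven.pslEquiv F)) hH heven).2 h
    · exact (sz_iff h1 hH heven).2 h
    · exact (psu_iff hn hc e hH heven).2 h

end Cfsg.Agent.S5735
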