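import Cfsg.Statements.S5748
import Cfsg.Agent.Lib.H2.CI.Simple

set_option autoImplicit false
open Cfsg

namespace Cfsg.Agent.S5748

/-- A finite non-abelian simple group in which commuting is a transitive relation on the non-identity elements (equivalently, every non-identity element has abelian centraliser) is isomorphic to PSL₂ over a field with 2^f elements for some f ≥ 2; conversely these groups have that property. -/
theorem result {G : Type*} [Group G] [Finite G] [IsSimpleGroup G] (hG : ¬ IsMulCommutative G) :
    (∀ a b c : G, a ≠ 1 → b ≠ 1 → c ≠ 1 → Commute a b → Commute b c → Commute a c) ↔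
    ∃ (F : Type) (_ : Field F) (_ : Fintype F) (f : ℕ), 2 ≤ f ∧ Fintype.card F = 2 ^ f ∧ Nonempty (G ≃* Matrix.ProjectiveSpecialLinearGroup (Fin 2) F) := by
  constructor
  · intro h
    obtain ⟨F, _, _, hch, h4, ⟨e⟩⟩ := H2.CI.ct_simple hG h
    obtain ⟨n, -, hn⟩ := FiniteField.card F 2
    refine ⟨F, inferInstance, inferInstance, n, ?_, hn, ⟨e.trans (H2.CI.slEquivPsl F)⟩⟩
    rw [hn] at h4
    by_contra h5
    push Not at h5
    have h6 : (n : ℕ) = 1 := by have := n.pos; omega
    rw [h6] at h4
    norm_num at h4
  · rintro ⟨F, _, _, f, hf, hcard, ⟨e⟩⟩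
    have hch : CharP F 2 := by
      apply H2.CI.charP_two_of_dvd
      rw [hcard]
      exact dvd_pow_self 2 (by omega)
    have e2 := e.trans (H2.CI.slEquivPsl F).symm
    intro a b c ha hb hc hab hbc
    have key := H2.CI.ct_sl2 (e2 a) (e2 b) (e2 c) (by simpa using ha) (by simpa using hb) (by simpa using hc)
      (hab.map e2) (hbc.map e2)
    have h1 : e2 (a * c) = e2 (c * a) := by rw [map_mul, map_mul, key.eq]
    exact e2.injective h1

end Cfsg.Agent.S5748
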