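import Cfsg.Statements.S5823
import Cfsg.Agent.Lib.H61.Sp8d
-- import your own Cfsg.Agent.* helpers here

set_option autoImplicit false
open Cfsg

namespace Cfsg.Agent.S5823

/-- Every maximal subgroup of Sp_8(q) is of one of the listed geometric types or lies in the residual class. Let F be a finite field with q elements, f the standard alternating form on F^8 (coordinates Fin 4 ⊕ Fin 4), and H a maximal subgroup of Sp_8(F) (inside GL_8(F)). Then H is the intersection with Sp_8(F) of one of: the stabiliser of a non-zero totally isotropic subspace; the stabiliser of a non-degenerate 2-space; for q ≥ 3, the stabiliser of a decomposition into four mutually orthogonal non-degenerate 2-spaces; of a decomposition into two orthogonal non-degenerate 4-spaces; for q odd, of a decomposition into two totally isotropic 4-spaces; the normaliser of a degree-2 subfield K, self-adjoint with f(k v, v) = 0; for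 q odd, the normaliser of a degree-2 subfield closed under adjoints but not self-adjoint; for q odd, the stabiliser of a tensor decomposition of f into an alternating form on F^2 and a minus-type symmetric form on F^4; a subfield group (|F| = |F₀|^r, r prime) whose F₀-structure carries a non-zero multiple of f; for q = p an odd prime, the normaliser of an absolutely irreducible extraspecial group 2_-^(1+6) of exponent 4 inside the similarity group of f; for q odd, q ≥ 5, the stabiliser of a tensor decomposition of f as a third tensor power of an alternating form on F^2; for q even, the similarity group of a non-degenerate quadratic form polarising to f — or else H lies in the residual class of the symplectic case. -/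
theorem result {F : Type*} [Field F] [Fintype F] (H : Subgroup (Matrix.GeneralLinearGroup (Fin 4 ⊕ Fin 4) F)) (hH : Cfsg.Geo.IsMaximalIn (Cfsg.spGL 4 F) H) :
    (∃ W : Submodule F (Fin 4 ⊕ Fin 4 → F), W ≠ ⊥ ∧ Cfsg.Geo.IsTotallySingularFor (Cfsg.sympForm 4 F) W ∧ H = Cfsg.Geo.subspaceStabilizer W ⊓ Cfsg.spGL 4 F) ∨
    (∃ W : Submodule F (Fin 4 ⊕ Fin 4 → F), W ≠ ⊥ ∧ Cfsg.Geo.IsNondegenerateOn (Cfsg.sympForm 4 F) W ∧ Module.finrank F W < 4 ∧ H = Cfsg.Geo.subspaceStabilizer W ⊓ Cfsg.spGL 4 F) ∨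
    (3 ≤ Fintype.card F ∧ ∃ D : Fin 4 → Submodule F (Fin 4 ⊕ Fin 4 → F), Cfsg.Geo.IsNondegenerateMDecomposition (Cfsg.sympForm 4 F) 2 D ∧ H = Cfsg.Geo.decompositionStabilizer D ⊓ Cfsg.spGL 4 F) ∨
    (∃ D : Fin 2 → Submodule F (Fin 4 ⊕ Fin 4 → F), Cfsg.Geo.IsNondegenerateMDecomposition (Cfsg.sympForm 4 F) 4 D ∧ H = Cfsg.Geo.decompositionStabilizer D ⊓ Cfsg.spGL 4 F) ∨
    (Odd (Fintype.card F) ∧ ∃ D : Fin 2 → Submodule F (Fin 4 ⊕ Fin 4 → F), Cfsg.Geo.IsMDecomposition 4 D ∧ (∀ i, Cfsg.Geo.IsTotallySingularFor (Cfsg.sympForm 4 F) (D i)) ∧ H = Cfsg.Geo.decompositionStabilizer D ⊓ Cfsg.spGL 4 F) ∨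
    (∃ K : Subalgebra F (Matrix (Fin 4 ⊕ Fin 4) (Fin 4 ⊕ Fin 4) F), Cfsg.Geo.IsFieldSubalgebra 2 K ∧ Cfsg.Geo.IsSelfAdjointFor (Cfsg.sympForm 4 F) K ∧ (∀ k ∈ K, ∀ v : (Fin 4 ⊕ Fin 4 → F), (Cfsg.sympForm 4 F) (Matrix.mulVec k v) v = 0) ∧ H = Cfsg.Geo.subalgebraNormalizer K ⊓ Cfsg.spGL 4 F) ∨
    (Odd (Fintype.card F) ∧ ∃ K : Subalgebra F (Matrix (Fin 4 ⊕ Fin 4) (Fin 4 ⊕ Fin 4) F), Cfsg.Geo.IsFieldSubalgebra 2 K ∧ Cfsg.Geo.IsAdjointClosedFor (Cfsg.sympForm 4 F) K ∧ ¬ Cfsg.Geo.IsSelfAdjointFor (Cfsg.sympForm 4 F) K ∧ H = Cfsg.Geo.subalgebraNormalizer K ⊓ Cfsg.spGL 4 F) ∨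
    (Odd (Fintype.card F) ∧ ∃ (e : (Fin 4 ⊕ Fin 4) ≃ Fin 2 × Fin 4) (P : Matrix.GeneralLinearGroup (Fin 4 ⊕ Fin 4) F) (f₁ : (Fin 2 → F) → (Fin 2 → F) → F) (f₂ : (Fin 4 → F) → (Fin 4 → F) → F), Cfsg.Geo.IsSymplecticForm f₁ ∧ Cfsg.Geo.IsSymmetricForm f₂ ∧ ¬ Cfsg.Geo.IsPlusTypeOn (fun v : Fin 4 → F => f₂ v v) ⊤ ∧ Cfsg.Geo.IsTensorFormStructure id (Cfsg.sympForm 4 F) f₁ f₂ e P ∧ H = Cfsg.Geo.tensorProductSubgroup 2 4 e P ⊓ Cfsg.spGL 4 F) ∨
    (∃ (F₀ : Subfield F) (r : ℕ) (P : Matrix.GeneralLinearGroup (Fin 4 ⊕ Fin 4) F) (ζ : F), r.Prime ∧ Fintype.card F = Nat.card F₀ ^ r ∧ ζ ≠ 0 ∧ Cfsg.Geo.IsFormRationalStructure (Cfsg.sympForm 4 F) F₀ ζ P ∧ H = Cfsg.Geo.subfieldSubgroup F₀ P ⊓ Cfsg.spGL 4 F) ∨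
    (∃ (p : ℕ) (R : Subgroup (Matrix.GeneralLinearGroup (Fin 4 ⊕ Fin 4) F)), p.Prime ∧ Odd p ∧ Fintype.card F = p ∧ Cfsg.Geo.IsSymplecticTypeGroup 2 R ∧ Cfsg.Geo.ActsAbsolutelyIrreducibly (Cfsg.Geo.matrixSet R) ∧ R ≤ Cfsg.Geo.similarityGroup (Cfsg.sympForm 4 F) ∧ Nat.card R = 128 ∧ Nat.card (Subgroup.center R) = 2 ∧ Cfsg.Geo.IsOfMinusType 3 R ∧ H = Cfsg.Geo.subgroupNormalizer R ⊓ Cfsg.spGL 4 F) ∨
    (Odd (Fintype.card F) ∧ 5 ≤ Fintype.card F ∧ ∃ (e : (Fin 4 ⊕ Fin 4) ≃ (Fin 3 → Fin 2)) (P : Matrix.GeneralLinearGroup (Fin 4 ⊕ Fin 4) F) (f₁ : (Fin 2 → F) → (Fin 2 → F) → F), Cfsg.Geo.IsSymplecticForm f₁ ∧ Cfsg.Geo.IsTensorPowerFormStructure id (Cfsg.sympForm 4 F) f₁ e P ∧ H = Cfsg.Geo.tensorWreathSubgroup 2 3 e P ⊓ Cfsg.spGL 4 F) ∨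
    (¬ Odd (Fintype.card F) ∧ ∃ Q : (Fin 4 ⊕ Fin 4 → F) → F, Cfsg.Geo.IsNondegenerateQuadraticForm Q ∧ (∀ u v : (Fin 4 ⊕ Fin 4 → F), QuadraticMap.polar Q u v = (Cfsg.sympForm 4 F) u v) ∧ H = Cfsg.Geo.quadSimilarityGroup Q ⊓ Cfsg.spGL 4 F) ∨
    Cfsg.Geo.InSymplecticResidualClass H := by
  rcases H97.AschSpCases.sp_cases (m := 4) (by norm_num) hH with ⟨W, h1, h2, h3⟩ | ⟨W, h1, h2, h3, h4⟩ |
    ⟨t, k, D, h1, h2, h3, h4, h5, h6⟩ | ⟨ho, D, h1, h2, h3⟩ | ⟨r, K, h1, h2, h3, h4, h5, h6⟩ | ⟨ho, K, h1, h2, h3, h4⟩ |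
    ⟨ho, n₁, n₂, e, P, f₁, f₂, h1, h2, h3, h4, h5, h6, h7, h8⟩ |
    ⟨F₀, r, P, ζ, h1, h2, h3, h4, h5⟩ | ⟨R, p, k, h1, h2, h3, h4, h5, h6, h7, h8, h9, h10, h11⟩ |
    ⟨ho, k, t, e, P, f₁, h1, h2, h3, h4, h5, h6, h7, h8, h9⟩ | ⟨ho, Q, h1, h2, h3⟩ | h
  · exact Or.inl ⟨W, h1, h2, h3⟩
  · right; left
    exact ⟨W, h1, h2, h3, h4⟩
  · have h7 : k ≤ 4 := by nlinarith
    have h8 : (k = 2 ∧ t = 4) ∨ (k = 4 ∧ t = 2) := by
      obtain ⟨c, hc⟩ := h4
      interval_cases k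
      · omega
      · omega
      · omega
    rcases h8 with ⟨rfl, rfl⟩ | ⟨rfl, rfl⟩
    · by_cases hq : 3 ≤ Fintype.card F
      · iterate 2 right
        left
        exact ⟨hq, D, h1, h6⟩
      · have hq1 : 1 < Fintype.card F := Fintype.one_lt_card
        have hq2 : Fintype.card F = 2 := by omega
        obtain ⟨Q, hQ1, hQ2, hQ3⟩ := H97.AschSpElim.planes_quad hq2 (H96.AschSp.sympForm_symplectic 4 F) h1
        iterate 11 right
        left
        refine ⟨by rw [hq2]; decide, Q, hQ1, hQ2, H97.AschCases.eq_of_max hH ?_ (H97.AschNCSp.sp_not_quad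
          (H96.AschSp.two_eq_zero_of_even (by rw [hq2]; decide)) (by norm_num) hQ1 hQ2)⟩
        rw [h6]
        exact inf_le_left.trans hQ3
    · iterate 3 right
      left
      exact ⟨D, h1, h6⟩
  · iterate 4 right
    left
    exact ⟨ho, D, h1, h2, h3⟩
  · iterate 5 right
    left
    have h7 : r = 2 := (Nat.prime_dvd_prime_iff_eq h1 Nat.prime_two).mp (h1.dvd_of_dvd_pow (show r ∣ 2 ^ 2 from h2))
    subst h7
    exact ⟨K, h3, h4, h5, h6⟩
  · iterate 6 right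
    left
    exact ⟨ho, K, h1, h2, h3, h4⟩
  · have h9 : n₁ = 2 ∧ n₂ = 4 := by
      have h10 : n₁ ≤ 2 := by nlinarith
      obtain ⟨c, hc⟩ := h1
      interval_cases n₁
      omega
    obtain ⟨rfl, rfl⟩ := h9
    by_cases hpl : Cfsg.Geo.IsPlusTypeOn (fun v : Fin 4 → F => f₂ v v) ⊤
    · obtain ⟨⟨e', P', f', g1, g2, g3⟩, hthree⟩ := H61.Sp8d.plus_case ho hH.1.le h5 h6 hpl h7 (h8.le.trans inf_le_left)
      by_cases hq : 5 ≤ Fintype.card F
      · iterate 10 right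
        left
        exact ⟨ho, hq, e', P', f', g1, g2, H97.AschCases.eq_of_max hH g3 (H97.AschNCSp.sp_not_wreath (by norm_num) e' P'
          (by norm_num) (by norm_num) (by norm_num))⟩
      · have hq1 : 1 < Fintype.card F := Fintype.one_lt_card
        have hq2 : Fintype.card F = 3 := by
          obtain ⟨c, hc⟩ := ho
          omega
        obtain ⟨R, r1, r2, r3, r4, r5, r6, r7⟩ := hthree hq2
        iterate 9 right
        left
        exact ⟨3, R, by norm_num, by decide, hq2, r1, r2, r3, r4, r5, r6, H97.AschCases.eq_of_max hH r7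
          (H97.AschNCSp.sp_not_type (by norm_num) r1 r2)⟩
    · iterate 7 right
      left
      exact ⟨ho, e, P, f₁, f₂, h5, h6, hpl, h7, h8⟩
  · iterate 8 right
    left
    exact ⟨F₀, r, P, ζ, h1, h2, h3, h4, h5⟩
  · iterate 9 right
    left
    have hk : k = 3 := by
      have e1 : 2 ^ 3 = 2 ^ k := by omega
      exact (Nat.pow_right_injective le_rfl e1).symm
    subst hk
    exact ⟨p, R, h4, h5, h6, h1, h2, h3, by rw [h7]; norm_num, h8, h9, h11⟩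
  · iterate 10 right
    left
    have hk2 : k ≤ 2 := by
      by_contra h10
      have h11 : 3 ^ 3 ≤ k ^ t := (Nat.pow_le_pow_left (by omega) 3).trans (Nat.pow_le_pow_right (by omega) h4)
      omega
    have hk : k = 2 := by omega
    subst hk
    have ht : t = 3 := by
      have e1 : 2 ^ 3 = 2 ^ t := by omega
      exact (Nat.pow_right_injective le_rfl e1).symm
    subst ht
    have hq1 : 1 < Fintype.card F := Fintype.one_lt_card
    have hq3 : Fintype.card F ≠ 3 := fun h0 => h6 ⟨h0, rfl⟩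
    have hq : 5 ≤ Fintype.card F := by
      obtain ⟨c, hc⟩ := ho
      omega
    exact ⟨ho, hq, e, P, f₁, h7, h8, h9⟩
  · iterate 11 right
    left
    exact ⟨ho, Q, h1, h2, h3⟩
  · iterate 12 right
    exact h

end Cfsg.Agent.S5823
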