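import Cfsg.Statements.S5825
import Cfsg.Agent.Lib.H95.O8All

set_option autoImplicit false
open Cfsg

namespace Cfsg.Agent.S5825

/-- Maximal subgroups of Ω_8^-(q) of geometric type (any q). Let F be a finite field with q elements, Q a non-degenerate quadratic form on F^8 (non-degenerate polar form) of minus type (Witt index 3: no totally singular 4-space), and Ω = Ω_8^-(q) the commutator subgroup of the isometry group of Q, inside GL_8(F). Each of the following, intersected with Ω, is a maximal subgroup of Ω: (1) the stabiliser of any non-zero subspace on which Q vanishes identically (totally singular 1-, 2- and 3-spaces); (2) for q odd, the stabiliser of any proper subspace of odd dimension (1, 3, 5 or 7) on which the polar form of Q is non-degenerate; (3) the stabiliser of any non-degenerate 2-space of minus type (containing no non-zero singular vector); (4) for q ≥ 4, the stabiliser of any non-degenerate 2-space of plus type (containing a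 non-zero singular vector); (5) the stabiliser of any non-degenerate 4-space (its orthogonal complement is then a non-degenerate 4-space of the opposite type); (6) for q even, the stabiliser of the 1-space spanned by any non-singular vector v (Q(v) ≠ 0); (7) for q odd, the normaliser of any degree-2 subfield K of the matrix algebra whose elements are self-adjoint for the polar form of Q (Q is then the trace of a quadratic form over K); (8) every subfield group for a subfield F₀ of odd prime index r in F whose F₀-structure carries a non-zero scalar multiple of Q. -/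
theorem result {F : Type*} [Field F] [Fintype F] (Q : (Fin 8 → F) → F) (hQ : Cfsg.Geo.IsNondegenerateQuadraticForm Q) (hminus : ¬ Cfsg.Geo.IsPlusTypeOn Q ⊤) :
    (∀ W : Submodule F (Fin 8 → F), W ≠ ⊥ → Cfsg.Geo.IsTotallySingularQuad Q W → Cfsg.Geo.IsMaximalIn (Cfsg.Geo.omegaGL Q) (Cfsg.Geo.subspaceStabilizer W ⊓ Cfsg.Geo.omegaGL Q)) ∧
    (Odd (Fintype.card F) → ∀ W : Submodule F (Fin 8 → F), W ≠ ⊥ → W ≠ ⊤ → Odd (Module.finrank F W) → Cfsg.Geo.IsNondegenerateOn (QuadraticMap.polar Q) W → Cfsg.Geo.IsMaximalIn (Cfsg.Geo.omegaGL Q) (Cfsg.Geo.subspaceStabilizer W ⊓ Cfsg.Geo.omegaGL Q)) ∧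
    (∀ W : Submodule F (Fin 8 → F), Module.finrank F W = 2 → Cfsg.Geo.IsNondegenerateOn (QuadraticMap.polar Q) W → ¬ Cfsg.Geo.IsPlusTypeOn Q W → Cfsg.Geo.IsMaximalIn (Cfsg.Geo.omegaGL Q) (Cfsg.Geo.subspaceStabilizer W ⊓ Cfsg.Geo.omegaGL Q)) ∧
    (4 ≤ Fintype.card F → ∀ W : Submodule F (Fin 8 → F), Module.finrank F W = 2 → Cfsg.Geo.IsNondegenerateOn (QuadraticMap.polar Q) W → Cfsg.Geo.IsPlusTypeOn Q W → Cfsg.Geo.IsMaximalIn (Cfsg.Geo.omegaGL Q) (Cfsg.Geo.subspaceStabilizer W ⊓ Cfsg.Geo.omegaGL Q)) ∧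
    (∀ W : Submodule F (Fin 8 → F), Module.finrank F W = 4 → Cfsg.Geo.IsNondegenerateOn (QuadraticMap.polar Q) W → Cfsg.Geo.IsMaximalIn (Cfsg.Geo.omegaGL Q) (Cfsg.Geo.subspaceStabilizer W ⊓ Cfsg.Geo.omegaGL Q)) ∧
    (¬ Odd (Fintype.card F) → ∀ v : (Fin 8 → F), Q v ≠ 0 → Cfsg.Geo.IsMaximalIn (Cfsg.Geo.omegaGL Q) (Cfsg.Geo.subspaceStabilizer (Submodule.span F {v}) ⊓ Cfsg.Geo.omegaGL Q)) ∧
    (Odd (Fintype.card F) → ∀ K : Subalgebra F (Matrix (Fin 8) (Fin 8) F), Cfsg.Geo.IsFieldSubalgebra 2 K → Cfsg.Geo.IsSelfAdjointFor (QuadraticMap.polar Q) K → Cfsg.Geo.IsMaximalIn (Cfsg.Geo.omegaGL Q) (Cfsg.Geo.subalgebraNormalizer K ⊓ Cfsg.Geo.omegaGL Q)) ∧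
    (∀ (F₀ : Subfield F) (r : ℕ) (P : Matrix.GeneralLinearGroup (Fin 8) F) (ζ : F), r.Prime → Odd r → Fintype.card F = Nat.card F₀ ^ r → ζ ≠ 0 → Cfsg.Geo.IsQuadFormRationalStructure (fun v : Fin 8 → F => ζ * Q v) F₀ P → Cfsg.Geo.IsMaximalIn (Cfsg.Geo.omegaGL Q) (Cfsg.Geo.subfieldSubgroup F₀ P ⊓ Cfsg.Geo.omegaGL Q)) := by
  have hn : (8 : ℕ) = 8 := rfl
  have hbot : ∀ (W : Submodule F (Fin 8 → F)) (d : ℕ), Module.finrank F W = d → d ≠ 0 → W ≠ ⊥ := by
    rintro W d h1 h2 rfl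
    rw [finrank_bot] at h1
    exact h2 h1.symm
  have htop : ∀ (W : Submodule F (Fin 8 → F)) (d : ℕ), Module.finrank F W = d → d ≠ 8 → W ≠ ⊤ := by
    rintro W d h1 h2 rfl
    rw [finrank_top, Module.finrank_fintype_fun_eq_card, Fintype.card_fin] at h1
    exact h2 h1.symm
  refine ⟨fun W hW0 hW => H95.O8All.sing8 hn Q hQ hminus W hW0 hW, ?_, ?_, ?_, ?_,
    fun _ v hv => H95.O8All.point8 hn Q hQ v hv,
    fun hodd K hK hsa => H95.O8Ext.ext8 hn Q hQ hminus hodd K hK hsa,
    fun F₀ r P ζ hr _ hcard hζ hP => H95.O8All.rat7 (by norm_num) Q hQ F₀ r hr hcard P ζ hζ hP⟩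
  · intro hodd W hW0 hW1 hWo hW
    refine H95.O8Nd.nd8 hn Q hQ hminus W hW0 hW1 hW (fun _ => H95.OBridge.two_ne hodd) ?_
    rintro ⟨_, U, h1, _, _, h2 | ⟨_, h2⟩⟩
    · rw [← h2, h1] at hWo
      exact absurd hWo (by decide)
    · have h3 : Module.finrank F W = 6 := by omega
      rw [h3] at hWo
      exact absurd hWo (by decide)
  · intro W h2 hW hWm
    refine H95.O8Nd.nd8 hn Q hQ hminus W (hbot W 2 h2 (by norm_num)) (htop W 2 h2 (by norm_num)) hW
      (fun h => absurd h (by rw [h2]; decide)) ?_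
    rintro ⟨_, U, h1, _, h4, h3 | ⟨_, h3⟩⟩
    · rw [h3] at h4
      exact hWm h4
    · omega
  · intro hq W h2 hW _
    refine H95.O8Nd.nd8 hn Q hQ hminus W (hbot W 2 h2 (by norm_num)) (htop W 2 h2 (by norm_num)) hW
      (fun h => absurd h (by rw [h2]; decide)) ?_
    rintro ⟨h3, _⟩
    omega
  · intro W h2 hW
    refine H95.O8Nd.nd8 hn Q hQ hminus W (hbot W 4 h2 (by norm_num)) (htop W 4 h2 (by norm_num)) hW
      (fun h => absurd h (by rw [h2]; decide)) ?_
    rintro ⟨_, U, h1, _, h4, h3 | ⟨_, h3⟩⟩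
    · rw [h3] at h1
      omega
    · omega

end Cfsg.Agent.S5825
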