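import Cfsg.Statements.S5870
import Cfsg.Agent.Lib.H95.O12P
import Cfsg.Agent.Lib.H95.O12All
import Cfsg.Agent.Lib.H97.NdGen
import Cfsg.Agent.Lib.H7.Uni12
import Cfsg.Agent.Lib.H96.T12Fr
import Cfsg.Agent.Lib.H96.T12Ten

set_option autoImplicit false
open Cfsg

namespace Cfsg.Agent.S5870

open Module QuadraticMap Cfsg.Geo in
theorem planes' {F : Type*} [Field F] [Fintype F] (Q : (Fin 12 → F) → F) (hQ : IsNondegenerateQuadraticForm Q)
    {t : ℕ} (D : Fin t → Submodule F (Fin 12 → F)) (hD : IsOrthogonalMDecomposition Q 2 D)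
    (hq3 : Fintype.card F ≠ 3) (hplus : (∀ i, IsPlusTypeOn Q (D i)) → 7 ≤ Fintype.card F) :
    IsMaximalIn (omegaGL Q) (decompositionStabilizer D ⊓ omegaGL Q) := by
  obtain ⟨Q', hQ', hnd⟩ := H95.OBridge.exists_quad hQ
  rw [← hQ'] at hD hplus ⊢
  exact H95.O12P.max_planes hnd (by rw [Fintype.card_fin]) hD ⟨hq3, hplus⟩

open Module QuadraticMap Cfsg.Geo in
theorem three {F : Type*} [Field F] [Fintype F] (Q : (Fin 12 → F) → F) (hQ : IsNondegenerateQuadraticForm Q) (hodd : Odd (Fintype.card F))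
    (h5 : 5 ≤ Fintype.card F) {t : ℕ} (D : Fin t → Submodule F (Fin 12 → F)) (hD : IsOrthogonalMDecomposition Q 3 D) :
    IsMaximalIn (omegaGL Q) (decompositionStabilizer D ⊓ omegaGL Q) := by
  obtain ⟨Q', hQ', hnd⟩ := H95.OBridge.exists_quad hQ
  rw [← hQ'] at hD ⊢
  exact H95.OImpB.max_odd3 hnd (H95.OBridge.two_ne hodd) (by rw [Fintype.card_fin]; omega) hD
    (Or.inr ⟨by rw [Nat.card_eq_fintype_card]; exact h5, rfl⟩)

open Module QuadraticMap Cfsg.Geo in
theorem four {F : Type*} [Field F] [Fintype F] (Q : (Fin 12 → F) → F) (hQ : IsNondegenerateQuadraticForm Q)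
    {k : ℕ} (hk4 : 4 ≤ k) {t : ℕ} (D : Fin t → Submodule F (Fin 12 → F)) (hD : IsOrthogonalMDecomposition Q k D)
    (hC : k = 4 → Fintype.card F = 2 → False) :
    IsMaximalIn (omegaGL Q) (decompositionStabilizer D ⊓ omegaGL Q) := by
  obtain ⟨Q', hQ', hnd⟩ := H95.OBridge.exists_quad hQ
  rw [← hQ'] at hD ⊢
  exact H95.O12All.max_imp hnd (by rw [Fintype.card_fin]; omega) hk4 hD fun h1 h2 => (hC h1 h2).elim


/-- Maximal subgroups of Ω_12^+(q) of geometric type (any q). Let F be a finite field with q elements (characteristic p), Q a non-degenerate quadratic form on F^12 (non-degenerate polar form) of plus type (Witt index 6: some totally singular 6-space), and Ω = Ω_12^+(q) the commutator subgroup of the isometry group of Q, inside GL_12(F). Each of the following, intersected with Ω, is a maximal subgroup of Ω: (1) the stabiliser of any non-zero subspace on which Q vanishes identically other than those of dimension 5 (totally singular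 subspaces, dimensions 1, 2, 3, 4 and 6); (2) for q odd, the stabiliser of any subspace of odd dimension on which the polar form of Q is non-degenerate; (3) the stabiliser of any non-degenerate 2-space of minus type (containing no non-zero singular vector); (4) for q ≥ 4, the stabiliser of any non-degenerate 2-space of plus type (containing a non-zero singular vector); (5) the stabiliser of any non-degenerate 4-space (either type); (6) for q even, the stabiliser of the 1-space spanned by any non-singular vector v (Q(v) ≠ 0); (7) for q = p an odd prime, the stabiliser of any decomposition of F^12 into 12 pairwise orthogonal, pairwise Q-isometric non-degenerate 1-spaces; (8) for q ≥ 7, the stabiliser of any decomposition of F^12 into 6 pairwise orthogonal, pairwise Q-isometric non-degenerate 2-spaces of plus type; (9) for q ≠ 3, the stabiliser of any decomposition of F^12 into 6 pairwise orthogonal, pairwise Q-isometric non-degenerate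 2-spaces of minus type; (10) for q odd with q ≥ 5, the stabiliser of any decomposition of F^12 into 4 pairwise orthogonal, pairwise Q-isometric non-degenerate 3-spaces; (11) for q ≥ 3, the stabiliser of any decomposition of F^12 into 3 pairwise orthogonal, pairwise Q-isometric non-degenerate 4-spaces; (12) the stabiliser of any decomposition of F^12 into 2 pairwise orthogonal, pairwise Q-isometric non-degenerate 6-spaces; (13) the stabiliser of any decomposition into two totally singular 6-spaces; (14) for q odd, the normaliser of any degree-2 subfield K of the matrix algebra whose elements are self-adjoint for the polar form of Q (Q is then the trace of a quadratic form over K); (15) for q odd, the normaliser of any degree-3 subfield K of the matrix algebra whose elements are self-adjoint for the polar form of Q (Q is then the trace of a quadratic form over K); (16) the normaliser of any degree-2 subfield K of the matrix algebra,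 closed under adjoints for the polar form but not self-adjoint, whose elements act as similarities of Q (so F^12 becomes a 6-dimensional space over K with a hermitian form, and the subgroup is of the type of the unitary group GU_6(q)); (17) for q ≥ 3, the stabiliser of any tensor decomposition F^12 = F^2 ⊗ F^6 in which the polar form of Q is (alternating form) ⊗ (alternating form) up to a scalar and Q vanishes on all pure tensors; (18) every subfield group for a subfield F₀ with |F| = |F₀|^r, r prime, whose F₀-structure carries a non-zero scalar multiple of Q. -/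
theorem result {F : Type*} [Field F] [Fintype F] (Q : (Fin 12 → F) → F) (hQ : Cfsg.Geo.IsNondegenerateQuadraticForm Q) (hplus : Cfsg.Geo.IsPlusTypeOn Q ⊤) :
    (∀ W : Submodule F (Fin 12 → F), W ≠ ⊥ → Cfsg.Geo.IsTotallySingularQuad Q W → Module.finrank F W ≠ 5 → Cfsg.Geo.IsMaximalIn (Cfsg.Geo.omegaGL Q) (Cfsg.Geo.subspaceStabilizer W ⊓ Cfsg.Geo.omegaGL Q)) ∧
    (Odd (Fintype.card F) → ∀ W : Submodule F (Fin 12 → F), W ≠ ⊥ → W ≠ ⊤ → Odd (Module.finrank F W) → 2 * Module.finrank F W ≠ 12 → Cfsg.Geo.IsNondegenerateOn (QuadraticMap.polar Q) W → Cfsg.Geo.IsMaximalIn (Cfsg.Geo.omegaGL Q) (Cfsg.Geo.subspaceStabilizer W ⊓ Cfsg.Geo.omegaGL Q)) ∧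
    (∀ W : Submodule F (Fin 12 → F), Module.finrank F W = 2 → Cfsg.Geo.IsNondegenerateOn (QuadraticMap.polar Q) W → ¬ Cfsg.Geo.IsPlusTypeOn Q W → Cfsg.Geo.IsMaximalIn (Cfsg.Geo.omegaGL Q) (Cfsg.Geo.subspaceStabilizer W ⊓ Cfsg.Geo.omegaGL Q)) ∧
    (4 ≤ Fintype.card F → ∀ W : Submodule F (Fin 12 → F), Module.finrank F W = 2 → Cfsg.Geo.IsNondegenerateOn (QuadraticMap.polar Q) W → Cfsg.Geo.IsPlusTypeOn Q W → Cfsg.Geo.IsMaximalIn (Cfsg.Geo.omegaGL Q) (Cfsg.Geo.subspaceStabilizer W ⊓ Cfsg.Geo.omegaGL Q)) ∧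
    (∀ W : Submodule F (Fin 12 → F), Module.finrank F W = 4 → Cfsg.Geo.IsNondegenerateOn (QuadraticMap.polar Q) W → Cfsg.Geo.IsMaximalIn (Cfsg.Geo.omegaGL Q) (Cfsg.Geo.subspaceStabilizer W ⊓ Cfsg.Geo.omegaGL Q)) ∧
    (¬ Odd (Fintype.card F) → ∀ v : (Fin 12 → F), Q v ≠ 0 → Cfsg.Geo.IsMaximalIn (Cfsg.Geo.omegaGL Q) (Cfsg.Geo.subspaceStabilizer (Submodule.span F {v}) ⊓ Cfsg.Geo.omegaGL Q)) ∧
    ((∃ p : ℕ, p.Prime ∧ Odd p ∧ Fintype.card F = p) → ∀ D : Fin 12 → Submodule F (Fin 12 → F), Cfsg.Geo.IsOrthogonalMDecomposition Q 1 D → Cfsg.Geo.IsMaximalIn (Cfsg.Geo.omegaGL Q) (Cfsg.Geo.decompositionStabilizer D ⊓ Cfsg.Geo.omegaGL Q)) ∧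
    (7 ≤ Fintype.card F → ∀ D : Fin 6 → Submodule F (Fin 12 → F), Cfsg.Geo.IsOrthogonalMDecomposition Q 2 D → (∀ i, Cfsg.Geo.IsPlusTypeOn Q (D i)) → Cfsg.Geo.IsMaximalIn (Cfsg.Geo.omegaGL Q) (Cfsg.Geo.decompositionStabilizer D ⊓ Cfsg.Geo.omegaGL Q)) ∧
    (Fintype.card F ≠ 3 → ∀ D : Fin 6 → Submodule F (Fin 12 → F), Cfsg.Geo.IsOrthogonalMDecomposition Q 2 D → (∀ i, ¬ Cfsg.Geo.IsPlusTypeOn Q (D i)) → Cfsg.Geo.IsMaximalIn (Cfsg.Geo.omegaGL Q) (Cfsg.Geo.decompositionStabilizer D ⊓ Cfsg.Geo.omegaGL Q)) ∧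
    (Odd (Fintype.card F) ∧ 5 ≤ Fintype.card F → ∀ D : Fin 4 → Submodule F (Fin 12 → F), Cfsg.Geo.IsOrthogonalMDecomposition Q 3 D → Cfsg.Geo.IsMaximalIn (Cfsg.Geo.omegaGL Q) (Cfsg.Geo.decompositionStabilizer D ⊓ Cfsg.Geo.omegaGL Q)) ∧
    (3 ≤ Fintype.card F → ∀ D : Fin 3 → Submodule F (Fin 12 → F), Cfsg.Geo.IsOrthogonalMDecomposition Q 4 D → Cfsg.Geo.IsMaximalIn (Cfsg.Geo.omegaGL Q) (Cfsg.Geo.decompositionStabilizer D ⊓ Cfsg.Geo.omegaGL Q)) ∧
    (∀ D : Fin 2 → Submodule F (Fin 12 → F), Cfsg.Geo.IsOrthogonalMDecomposition Q 6 D → Cfsg.Geo.IsMaximalIn (Cfsg.Geo.omegaGL Q) (Cfsg.Geo.decompositionStabilizer D ⊓ Cfsg.Geo.omegaGL Q)) ∧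
    (∀ D : Fin 2 → Submodule F (Fin 12 → F), Cfsg.Geo.IsMDecomposition 6 D → (∀ i, Cfsg.Geo.IsTotallySingularQuad Q (D i)) → Cfsg.Geo.IsMaximalIn (Cfsg.Geo.omegaGL Q) (Cfsg.Geo.decompositionStabilizer D ⊓ Cfsg.Geo.omegaGL Q)) ∧
    (Odd (Fintype.card F) → ∀ K : Subalgebra F (Matrix (Fin 12) (Fin 12) F), Cfsg.Geo.IsFieldSubalgebra 2 K → Cfsg.Geo.IsSelfAdjointFor (QuadraticMap.polar Q) K → Cfsg.Geo.IsMaximalIn (Cfsg.Geo.omegaGL Q) (Cfsg.Geo.subalgebraNormalizer K ⊓ Cfsg.Geo.omegaGL Q)) ∧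
    (Odd (Fintype.card F) → ∀ K : Subalgebra F (Matrix (Fin 12) (Fin 12) F), Cfsg.Geo.IsFieldSubalgebra 3 K → Cfsg.Geo.IsSelfAdjointFor (QuadraticMap.polar Q) K → Cfsg.Geo.IsMaximalIn (Cfsg.Geo.omegaGL Q) (Cfsg.Geo.subalgebraNormalizer K ⊓ Cfsg.Geo.omegaGL Q)) ∧
    (∀ K : Subalgebra F (Matrix (Fin 12) (Fin 12) F), Cfsg.Geo.IsFieldSubalgebra 2 K → Cfsg.Geo.IsAdjointClosedFor (QuadraticMap.polar Q) K → ¬ Cfsg.Geo.IsSelfAdjointFor (QuadraticMap.polar Q) K → (∀ k ∈ K, ∃ c : F, ∀ v : (Fin 12 → F), Q (Matrix.mulVec k v) = c * Q v) → Cfsg.Geo.IsMaximalIn (Cfsg.Geo.omegaGL Q) (Cfsg.Geo.subalgebraNormalizer K ⊓ Cfsg.Geo.omegaGL Q)) ∧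
    (3 ≤ Fintype.card F → ∀ (e : Fin 12 ≃ Fin 2 × Fin 6) (P : Matrix.GeneralLinearGroup (Fin 12) F) (f₁ : (Fin 2 → F) → (Fin 2 → F) → F) (f₂ : (Fin 6 → F) → (Fin 6 → F) → F), Cfsg.Geo.IsSymplecticForm f₁ → Cfsg.Geo.IsSymplecticForm f₂ → Cfsg.Geo.IsTensorFormStructure id (QuadraticMap.polar Q) f₁ f₂ e P → (∀ (x₁ : Fin 2 → F) (x₂ : Fin 6 → F), Q (Matrix.mulVec (P : Matrix (Fin 12) (Fin 12) F) ((fun a : Fin 2 × Fin 6 => x₁ a.1 * x₂ a.2) ∘ e)) = 0) → Cfsg.Geo.IsMaximalIn (Cfsg.Geo.omegaGL Q) (Cfsg.Geo.tensorProductSubgroup 2 6 e P ⊓ Cfsg.Geo.omegaGL Q)) ∧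
    (∀ (F₀ : Subfield F) (r : ℕ) (P : Matrix.GeneralLinearGroup (Fin 12) F) (ζ : F), r.Prime → Fintype.card F = Nat.card F₀ ^ r → ζ ≠ 0 → Cfsg.Geo.IsQuadFormRationalStructure (fun v : Fin 12 → F => ζ * Q v) F₀ P → Cfsg.Geo.IsMaximalIn (Cfsg.Geo.omegaGL Q) (Cfsg.Geo.subfieldSubgroup F₀ P ⊓ Cfsg.Geo.omegaGL Q)) := by
  have hn : (12 : ℕ) = 12 := rfl
  have hbot : ∀ (W : Submodule F (Fin 12 → F)) (d : ℕ), Module.finrank F W = d → d ≠ 0 → W ≠ ⊥ := by
    rintro W d h1 h2 rfl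
    rw [finrank_bot] at h1
    exact h2 h1.symm
  have htop : ∀ (W : Submodule F (Fin 12 → F)) (d : ℕ), Module.finrank F W = d → d ≠ 12 → W ≠ ⊤ := by
    rintro W d h1 h2 rfl
    rw [finrank_top, Module.finrank_fintype_fun_eq_card, Fintype.card_fin] at h1
    exact h2 h1.symm
  have hc12 : Fintype.card (Fin 12) = 12 := Fintype.card_fin 12
  refine ⟨fun W hW0 hW h5 => H95.O12P.sing12 hn Q hQ W hW0 hW h5, ?_, ?_, ?_, ?_,
    fun hc v hv => H95.O12All.point12 hn Q hQ hc v hv, ?_,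
    fun h7 D hD _ => planes' Q hQ D hD (by omega) (fun _ => h7),
    fun h3 D hD hm => planes' Q hQ D hD h3 (fun h => absurd (h 0) (hm 0)),
    fun h5 D hD => three Q hQ h5.1 h5.2 D hD,
    fun h3 D hD => four Q hQ (by norm_num) D hD (fun _ h => by omega),
    fun D hD => four Q hQ (by norm_num) D hD (fun h _ => by omega),
    fun D hD hts => H95.O12P.pair12 hn Q hQ D hD hts,
    fun hodd K hK hsa => H95.O12Ext.ext12 hn Q hQ hodd 2 (by norm_num) (by norm_num) K hK hsa,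
    fun hodd K hK hsa => H95.O12Ext.ext12 hn Q hQ hodd 3 (by norm_num) (by norm_num) K hK hsa,
    fun K hK hac hnsa hsc => H7.Uni12.uni (by norm_num) Q hQ K hK hac hnsa hsc,
    fun h3 e P f₁ f₂ hf₁ hf₂ hT hpure => H96.T12.tensor12 (by rw [hc12]) le_rfl Q hQ (by norm_num) (by omega) e P f₁ f₂ hf₁ hf₂ hT hpure,
    fun F₀ r P ζ hr hcard hζ hP => H95.O12All.rat12 hn Q hQ F₀ r hr hcard P ζ hζ hP⟩
  · intro _ W hW0 hW1 hWo hne hW
    refine H97.NdGen.nd_ge (by omega) Q hQ W hW0 hW1 (by omega) hW ?_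
    rintro ⟨_, U, h1, _, _, h2 | ⟨_, h2⟩⟩
    · rw [← h2, h1] at hWo
      exact absurd hWo (by decide)
    · have h3 : Module.finrank F W = 10 := by omega
      rw [h3] at hWo
      exact absurd hWo (by decide)
  · intro W h2 hW hWm
    refine H97.NdGen.nd_ge (by omega) Q hQ W (hbot W 2 h2 (by norm_num)) (htop W 2 h2 (by norm_num)) (by omega) hW ?_
    rintro ⟨_, U, h1, _, h4, h3 | ⟨_, h3⟩⟩
    · rw [h3] at h4
      exact hWm h4
    · omega
  · intro hq W h2 hW _
    refine H97.NdGen.nd_ge (by omega) Q hQ W (hbot W 2 h2 (by norm_num)) (htop W 2 h2 (by norm_num)) (by omega) hW ?_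
    rintro ⟨h3, _⟩
    omega
  · intro W h2 hW
    refine H97.NdGen.nd_ge (by omega) Q hQ W (hbot W 4 h2 (by norm_num)) (htop W 4 h2 (by norm_num)) (by omega) hW ?_
    rintro ⟨_, U, h1, _, h4, h3 | ⟨_, h3⟩⟩
    · rw [h3] at h1
      omega
    · omega
  · rintro ⟨p, hp, hpo, hcp⟩ D hD
    exact H96.T12.frame (by omega) Q hQ (by rw [hcp]; exact hp) (by rw [hcp]; exact hpo) D hD

end Cfsg.Agent.S5870
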